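import Mathlib

set_option autoImplicit false

namespace Cfsg.Agent.Lib.Lead

open Matrix Matrix.SpecialLinearGroup
open scoped commutatorElement

section
variable {ι F : Type*} [Field F] [DecidableEq ι] [Fintype ι]

theorem diag2n_decompose_aux {i j : ι} (hij : i ≠ j) (a : F) (ha : a ≠ 0) :
    (diagonal (fun k ↦ if k = i then a else if k = j then a⁻¹ else 1) : Matrix ι ι F) =
      (1 + single i j a) * (1 + single j i (-a⁻¹)) * (1 + single i j a) * (1 + single i j (-1)) *
      (1 + single j i 1) * (1 + single i j (-1)) := by
  have hji : j ≠ i := hij.symm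
  simp only [mul_add, add_mul, mul_one, one_mul, single_mul_single_same,
      single_mul_single_of_ne _ _ _ _ hij, single_mul_single_of_ne _ _ _ _ hij.symm, add_zero]
  ext k l
  simp only [Matrix.add_apply, Matrix.one_apply, Matrix.single_apply, Matrix.diagonal_apply]
  simp only [@eq_comm _ i k, @eq_comm _ j k, @eq_comm _ i l, @eq_comm _ j l]
  by_cases hki : k = i <;> by_cases hkj : k = j <;> by_cases hli : l = i <;> by_cases hlj : l = j <;>
      by_cases hkl : k = l <;> simp_all

/-- `diag(a, a⁻¹)` in positions `i, j` is a product of six transvections. -/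
theorem diag2n_decompose {i j : ι} (hij : i ≠ j) (a : F) (ha : a ≠ 0) :
    (diag2n hij a ha : SpecialLinearGroup ι F) = SpecialLinearGroup.transvection hij a *
      SpecialLinearGroup.transvection hij.symm (- a⁻¹) *
      SpecialLinearGroup.transvection hij a *
      SpecialLinearGroup.transvection hij (-1) *
      SpecialLinearGroup.transvection hij.symm 1 *
      SpecialLinearGroup.transvection hij (-1) :=
  Subtype.ext (diag2n_decompose_aux hij a ha)

/-- Induction principle: `SL ι F` is generated by transvections. -/
theorem SL_transvection_induction [Nontrivial ι] (P : SpecialLinearGroup ι F → Prop)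
    (htransvec : ∀ (i j : ι) (h : i ≠ j) (c : F), P (SpecialLinearGroup.transvection h c))
    (hmul : ∀ A B, P A → P B → P (A * B)) (A : SpecialLinearGroup ι F) : P A := by
  refine diagonal_transvection_induction' P _ (fun i j hij c hc ↦ ?_) htransvec hmul
  rw [diag2n_decompose hij c hc]
  refine hmul _ _ (hmul _ _ (hmul _ _ (hmul _ _ (hmul _ _ ?_ ?_) ?_) ?_) ?_) ?_
  all_goals exact htransvec _ _ _ _

theorem SL_closure_transvections [Nontrivial ι] :
    Subgroup.closure {A : SpecialLinearGroup ι F |
      ∃ (i j : ι) (h : i ≠ j) (c : F), A = SpecialLinearGroup.transvection h c} = ⊤ := by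
  refine le_antisymm le_top (fun A _ ↦ SL_transvection_induction _ ?_ (fun _ _ ↦ mul_mem) A)
  intro i j h c
  exact Subgroup.subset_closure ⟨i, j, h, c, rfl⟩

theorem transvection_comm_aux {i j k : ι} (hij : i ≠ j) (hik : i ≠ k) (hkj : k ≠ j) (a b : F) :
    (1 + single i j (a * b) : Matrix ι ι F) =
      (1 + single i k a) * (1 + single k j b) * (1 + single i k (-a)) * (1 + single k j (-b)) := by
  simp only [mul_add, add_mul, mul_one, one_mul, single_mul_single_same,
      single_mul_single_of_ne _ _ _ _ hij, single_mul_single_of_ne _ _ _ _ hij.symm,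
      single_mul_single_of_ne _ _ _ _ hik, single_mul_single_of_ne _ _ _ _ hik.symm,
      single_mul_single_of_ne _ _ _ _ hkj, single_mul_single_of_ne _ _ _ _ hkj.symm, add_zero,
      zero_add, Matrix.single_zero, mul_zero, zero_mul]
  ext p q
  simp only [Matrix.add_apply, Matrix.one_apply, Matrix.single_apply]
  simp only [@eq_comm _ i p, @eq_comm _ j p, @eq_comm _ k p, @eq_comm _ i q, @eq_comm _ j q,
    @eq_comm _ k q]
  by_cases hpi : p = i <;> by_cases hpk : p = k <;> by_cases hqj : q = j <;> by_cases hqk : q = k <;>
      by_cases hpq : p = q <;> simp_all <;> ring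

/-- Steinberg commutator relation: `T_ij(ab) = [T_ik(a), T_kj(b)]`. -/
theorem transvection_eq_commutator {i j k : ι} (hij : i ≠ j) (hik : i ≠ k) (hkj : k ≠ j) (a b : F) :
    (SpecialLinearGroup.transvection hij (a * b) : SpecialLinearGroup ι F) =
      ⁅SpecialLinearGroup.transvection hik a, SpecialLinearGroup.transvection hkj b⁆ := by
  rw [commutatorElement_def, SpecialLinearGroup.transvection_inv, SpecialLinearGroup.transvection_inv]
  exact Subtype.ext (transvection_comm_aux hij hik hkj a b)

/-- `SL ι F` is perfect when `ι` has at least three elements. -/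
theorem SL_commutator_eq_top (h3 : 3 ≤ Fintype.card ι) :
    commutator (SpecialLinearGroup ι F) = ⊤ := by
  have : Nontrivial ι := Fintype.one_lt_card_iff_nontrivial.mp (by omega)
  refine le_antisymm le_top (fun A _ ↦ SL_transvection_induction _ ?_ (fun _ _ ↦ mul_mem) A)
  intro i j hij c
  obtain ⟨k, hki, hkj⟩ : ∃ k, k ≠ i ∧ k ≠ j := by
    by_contra hcon
    push Not at hcon
    have : (Finset.univ : Finset ι) ⊆ {i, j} := by
      intro x _
      by_cases hx : x = i
      · simp [hx]
      · simp [hcon x hx]
    have := Finset.card_le_card this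
    have h2 : ({i, j} : Finset ι).card ≤ 2 := Finset.card_le_two
    rw [Finset.card_univ] at this
    omega
  have := transvection_eq_commutator hij hki.symm hkj c 1
  rw [mul_one] at this
  rw [this]
  exact Subgroup.commutator_mem_commutator (Subgroup.mem_top _) (Subgroup.mem_top _)

end

end Cfsg.Agent.Lib.Lead
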