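import Mathlib
import Cfsg.Prelude.Def_Classical
import Cfsg.Agent.Lib.Helper16.SpinE3
import Cfsg.Agent.Lib.Helper16.QuadClass
import Cfsg.Agent.Lib.helper6.CartanDieudonne

set_option autoImplicit false

namespace Cfsg.Agent.Lib.Lead.OI

open Cfsg Cfsg.Agent.Lib.Helper16

variable {F : Type*} [Field F] {n : ℕ}

theorem exists_list (h2 : (2 : F) ≠ 0) (Q : QuadraticForm F (Fin n → F))
    (hQ : (QuadraticMap.polarBilin Q).Nondegenerate) (g : ↥(Cfsg.isometryGroup F ⇑Q)) :
    ∃ vs : List (Fin n → F), (∀ v ∈ vs, Q v ≠ 0) ∧ g = (vs.map (reflG' Q)).prod := by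
  have hg : g ∈ Subgroup.closure (Cfsg.Agent.Lib.helper6.CD.Rset Q) := by
    rw [Cfsg.Agent.Lib.helper6.CD.cartan_dieudonne h2 Q hQ]
    trivial
  induction hg using Subgroup.closure_induction with
  | mem x hx =>
    obtain ⟨v, hv, hxv⟩ := hx
    refine ⟨[v], ?_, ?_⟩
    · intro w hw
      rw [List.mem_singleton] at hw
      rw [hw]; exact hv
    · rw [List.map_singleton, List.prod_singleton, reflG'_eq Q v hv]
      apply iso_ext'
      rw [hxv, reflG_coe]
  | one => exact ⟨[], by simp, by simp⟩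
  | mul x y _ _ hx hy =>
    obtain ⟨vs, hvs, rfl⟩ := hx
    obtain ⟨ws, hws, rfl⟩ := hy
    refine ⟨vs ++ ws, ?_, ?_⟩
    · intro v hv
      rcases List.mem_append.mp hv with h | h
      · exact hvs v h
      · exact hws v h
    · rw [List.map_append, List.prod_append]
  | inv x _ hx =>
    obtain ⟨vs, hvs, rfl⟩ := hx
    refine ⟨vs.reverse, ?_, ?_⟩
    · intro v hv
      exact hvs v (List.mem_reverse.mp hv)
    · rw [List.prod_inv_reverse, List.map_reverse, List.map_map]
      congr 1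
      congr 1
      apply List.map_congr_left
      intro v hv
      rw [Function.comp_apply, reflG'_eq Q v (hvs v hv), reflG_inv]

theorem neg_one_units_ne_one (h2 : (2 : F) ≠ 0) : (-1 : Fˣ) ≠ 1 := by
  intro h
  have h3 := congrArg Units.val h
  simp only [Units.val_neg, Units.val_one] at h3
  apply h2
  linear_combination -h3

theorem isoDet_pm (h2 : (2 : F) ≠ 0) (Q : QuadraticForm F (Fin n → F))
    (hQ : (QuadraticMap.polarBilin Q).Nondegenerate) (g : ↥(Cfsg.isometryGroup F ⇑Q)) :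
    isoDet (⇑Q) g = 1 ∨ isoDet (⇑Q) g = -1 := by
  obtain ⟨vs, hvs, rfl⟩ := exists_list h2 Q hQ g
  rw [isoDet_prod Q vs hvs]
  exact neg_one_pow_eq_or Fˣ vs.length

open Classical in
noncomputable def detSign (h2 : (2 : F) ≠ 0) (Q : QuadraticForm F (Fin n → F))
    (hQ : (QuadraticMap.polarBilin Q).Nondegenerate) : ↥(Cfsg.isometryGroup F ⇑Q) →* ℤˣ :=
  MonoidHom.mk' (fun g => if isoDet (⇑Q) g = 1 then 1 else -1) (by
    intro a b
    have hne := neg_one_units_ne_one h2
    rcases isoDet_pm h2 Q hQ a with ha | ha <;> rcases isoDet_pm h2 Q hQ b with hb | hb <;>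
      simp [map_mul, ha, hb, hne])

open Classical in
theorem detSign_apply (h2 : (2 : F) ≠ 0) (Q : QuadraticForm F (Fin n → F))
    (hQ : (QuadraticMap.polarBilin Q).Nondegenerate) (g : ↥(Cfsg.isometryGroup F ⇑Q)) :
    detSign h2 Q hQ g = if isoDet (⇑Q) g = 1 then 1 else -1 := by
  unfold detSign
  rw [MonoidHom.mk'_apply]

theorem detSign_prod (h2 : (2 : F) ≠ 0) (Q : QuadraticForm F (Fin n → F))
    (hQ : (QuadraticMap.polarBilin Q).Nondegenerate) (vs : List (Fin n → F))
    (hvs : ∀ v ∈ vs, Q v ≠ 0) :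
    detSign h2 Q hQ (vs.map (reflG' Q)).prod = (-1) ^ vs.length := by
  classical
  rw [detSign_apply, isoDet_prod Q vs hvs]
  rcases Nat.even_or_odd vs.length with he | ho
  · rw [he.neg_one_pow, he.neg_one_pow, if_pos rfl]
  · rw [ho.neg_one_pow, ho.neg_one_pow, if_neg (neg_one_units_ne_one h2)]

variable [Fintype F]

theorem chi_prod (Q : QuadraticForm F (Fin n → F)) (χ : ↥(Cfsg.isometryGroup F ⇑Q) →* ℤˣ) (κ : ℤˣ)
    (hχ : ∀ (v : Fin n → F) (hv : Q v ≠ 0), χ (reflG Q v hv) = κ * sqSign (Q v))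
    (ws : List (Fin n → F)) (hws : ∀ v ∈ ws, Q v ≠ 0) :
    χ (ws.map (reflG' Q)).prod = κ ^ ws.length * sqSign (ws.map (fun v => Q v)).prod := by
  induction ws with
  | nil => simp [sqSign]
  | cons v ws ih =>
    have hv := hws v List.mem_cons_self
    have hws' : ∀ w ∈ ws, Q w ≠ 0 := fun w hw => hws w (List.mem_cons_of_mem _ hw)
    rw [List.map_cons, List.prod_cons, map_mul, ih hws', reflG'_eq Q v hv, hχ v hv,
      List.map_cons, List.prod_cons, sqSign_mul hv (prod_Q_ne_zero Q ws hws'), List.length_cons,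
      pow_succ]
    rw [mul_mul_mul_comm, mul_comm κ]

theorem exists_value (h2 : (2 : F) ≠ 0) (hn : 2 ≤ n) (Q : QuadraticForm F (Fin n → F))
    (hQ : (QuadraticMap.polarBilin Q).Nondegenerate) (c : F) (hc : c ≠ 0) :
    ∃ v : Fin n → F, Q v = c := by
  have hfr : Module.finrank F (Fin n → F) = (n - 2) + 2 := by
    rw [Module.finrank_fin_fun]; omega
  have h2c : (2 * c) ≠ 0 := mul_ne_zero h2 hc
  have hS : LinearMap.BilinForm.IsSymm ((2 * c)⁻¹ • QuadraticMap.polarBilin Q) := by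
    refine ⟨fun x y => ?_⟩
    simp only [LinearMap.smul_apply]
    rw [(polarBilin_isSymm Q).eq x y]
  have hN : ((2 * c)⁻¹ • QuadraticMap.polarBilin Q).Nondegenerate := by
    have hinv : (2 * c)⁻¹ ≠ 0 := inv_ne_zero h2c
    constructor
    · intro x hx
      apply hQ.1 x
      intro y
      have := hx y
      simp only [LinearMap.smul_apply, smul_eq_mul] at this
      rcases mul_eq_zero.mp this with h | h
      · exact absurd h hinv
      · exact h
    · intro y hy
      apply hQ.2 y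
      intro x
      have := hy x
      simp only [LinearMap.smul_apply, smul_eq_mul] at this
      rcases mul_eq_zero.mp this with h | h
      · exact absurd h hinv
      · exact h
  obtain ⟨x, hx⟩ := exists_unit_vec h2 hfr _ hS hN
  refine ⟨x, ?_⟩
  simp only [LinearMap.smul_apply, smul_eq_mul, QuadraticMap.polarBilin_apply_apply,
    QuadraticMap.polar_self] at hx
  have : (2 : F) * Q x = 2 * c := by
    field_simp at hx
    simpa [two_smul, two_mul] using hx
  exact mul_left_cancel₀ h2 this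

theorem exists_nonsquare (h2 : (2 : F) ≠ 0) : ∃ c : F, c ≠ 0 ∧ ¬ IsSquare c := by
  have hchar : ringChar F ≠ 2 := by
    intro h
    have : CharP F 2 := ringChar.of_eq h
    exact h2 (CharTwo.two_eq_zero)
  obtain ⟨c, hc⟩ := FiniteField.exists_nonsquare hchar
  refine ⟨c, ?_, hc⟩
  rintro rfl
  exact hc IsSquare.zero

theorem omega_eq_ker (h2 : (2 : F) ≠ 0) (Q : QuadraticForm F (Fin n → F))
    (hQ : (QuadraticMap.polarBilin Q).Nondegenerate)
    (χ : ↥(Cfsg.isometryGroup F ⇑Q) →* ℤˣ) (κ : ℤˣ)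
    (hχ : ∀ (v : Fin n → F) (hv : Q v ≠ 0), χ (reflG Q v hv) = κ * sqSign (Q v)) :
    Cfsg.Omega F ⇑Q = ((detSign h2 Q hQ).prod χ).ker := by
  apply le_antisymm
  · exact omega_le_ker (⇑Q) _
  · intro g hg
    rw [MonoidHom.mem_ker, MonoidHom.prod_apply, Prod.mk_eq_one] at hg
    obtain ⟨hd, hc⟩ := hg
    obtain ⟨vs, hvs, rfl⟩ := exists_list h2 Q hQ g
    rw [detSign_prod h2 Q hQ vs hvs] at hd
    have heven : Even vs.length := by
      rcases Nat.even_or_odd vs.length with he | ho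
      · exact he
      · rw [ho.neg_one_pow] at hd
        exact absurd hd (by decide)
    rw [chi_prod Q χ κ hχ vs hvs] at hc
    obtain ⟨m, hm⟩ := heven
    have hκ : κ ^ vs.length = 1 := by
      rw [hm, ← two_mul, pow_mul, pow_two, int_units_sq, one_pow]
    rw [hκ, one_mul] at hc
    apply master_backward h2 Q vs hvs ⟨m, hm⟩
    unfold sqSign at hc
    by_contra hns
    rw [if_neg hns] at hc
    exact absurd hc (by decide)

theorem surj (h2 : (2 : F) ≠ 0) (hn : 2 ≤ n) (Q : QuadraticForm F (Fin n → F))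
    (hQ : (QuadraticMap.polarBilin Q).Nondegenerate)
    (χ : ↥(Cfsg.isometryGroup F ⇑Q) →* ℤˣ) (κ : ℤˣ)
    (hχ : ∀ (v : Fin n → F) (hv : Q v ≠ 0), χ (reflG Q v hv) = κ * sqSign (Q v)) :
    Function.Surjective ((detSign h2 Q hQ).prod χ) := by
  obtain ⟨c, hc0, hc⟩ := exists_nonsquare h2
  obtain ⟨u, hu⟩ := exists_value h2 hn Q hQ 1 one_ne_zero
  obtain ⟨v, hv⟩ := exists_value h2 hn Q hQ c hc0
  have hu0 : Q u ≠ 0 := by rw [hu]; exact one_ne_zero
  have hv0 : Q v ≠ 0 := by rw [hv]; exact hc0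
  have hdu : detSign h2 Q hQ (reflG Q u hu0) = -1 := by
    have := detSign_prod h2 Q hQ [u] (by simpa using hu0)
    simpa [reflG'_eq Q u hu0] using this
  have hdv : detSign h2 Q hQ (reflG Q v hv0) = -1 := by
    have := detSign_prod h2 Q hQ [v] (by simpa using hv0)
    simpa [reflG'_eq Q v hv0] using this
  have hcu : χ (reflG Q u hu0) = κ := by
    rw [hχ u hu0, hu]
    unfold sqSign
    rw [if_pos ⟨1, by ring⟩, mul_one]
  have hcv : χ (reflG Q v hv0) = -κ := by
    rw [hχ v hv0, hv]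
    unfold sqSign
    rw [if_neg hc, mul_neg, mul_one]
  have hκ : κ = 1 ∨ κ = -1 := Int.units_eq_one_or κ
  rintro ⟨a, b⟩
  have ha : a = 1 ∨ a = -1 := Int.units_eq_one_or a
  have hb : b = 1 ∨ b = -1 := Int.units_eq_one_or b
  rcases ha with rfl | rfl
  · rcases hb with rfl | rfl
    · exact ⟨1, map_one _⟩
    · refine ⟨reflG Q u hu0 * reflG Q v hv0, ?_⟩
      rw [map_mul, MonoidHom.prod_apply, MonoidHom.prod_apply, hdu, hdv, hcu, hcv]
      rcases hκ with rfl | rfl <;> rfl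
  · rcases hb with rfl | rfl
    · rcases hκ with rfl | rfl
      · exact ⟨reflG Q u hu0, by rw [MonoidHom.prod_apply, hdu, hcu]⟩
      · exact ⟨reflG Q v hv0, by rw [MonoidHom.prod_apply, hdv, hcv]; rfl⟩
    · rcases hκ with rfl | rfl
      · exact ⟨reflG Q v hv0, by rw [MonoidHom.prod_apply, hdv, hcv]⟩
      · exact ⟨reflG Q u hu0, by rw [MonoidHom.prod_apply, hdu, hcu]⟩

theorem index_omega (h2 : (2 : F) ≠ 0) (hn : 2 ≤ n) (Q : QuadraticForm F (Fin n → F))
    (hQ : (QuadraticMap.polarBilin Q).Nondegenerate) : (Cfsg.Omega F ⇑Q).index = 4 := by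
  obtain ⟨χ, κ, hχ⟩ := spin_char_formula h2 Q
  rw [omega_eq_ker h2 Q hQ χ κ hχ, Subgroup.index_ker,
    MonoidHom.range_eq_top.mpr (surj h2 hn Q hQ χ κ hχ)]
  rw [Nat.card_congr (Subgroup.topEquiv (G := ℤˣ × ℤˣ)).toEquiv, Nat.card_prod]
  simp

end Cfsg.Agent.Lib.Lead.OI
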