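import Mathlib
import Cfsg.Prelude.Def_Classical
import Cfsg.Agent.Lib.Lead.OmegaIdx

set_option autoImplicit false

namespace Cfsg.Agent.Lib.Lead.RI

open Cfsg Matrix

variable {ι κ : Type} [Fintype ι] [DecidableEq ι] [Fintype κ] [DecidableEq κ]
  {F : Type*} [Field F]

/-- reindexing `GL` -/
def glReindex (e : ι ≃ κ) : GL ι F ≃* GL κ F :=
  Units.mapEquiv (Matrix.reindexAlgEquiv F F e).toMulEquiv

theorem glReindex_coe (e : ι ≃ κ) (g : GL ι F) :
    ((glReindex e g : GL κ F) : Matrix κ κ F) = Matrix.reindex e e (g : Matrix ι ι F) := rfl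

theorem reindex_mulVec (e : ι ≃ κ) (M : Matrix ι ι F) (x : κ → F) :
    Matrix.reindex e e M *ᵥ x = (M *ᵥ (x ∘ e)) ∘ e.symm := by
  rw [Matrix.reindex_apply, Matrix.submatrix_mulVec_equiv]
  rfl

theorem mem_iso_iff' (Q : (ι → F) → F) (g : GL ι F) :
    g ∈ Cfsg.isometryGroup F Q ↔ ∀ x, Q ((g : Matrix ι ι F) *ᵥ x) = Q x :=
  ⟨fun h x => h x x, fun h x _ => h x⟩

theorem map_iso (e : ι ≃ κ) (Q : (ι → F) → F) :
    (Cfsg.isometryGroup F Q).map (glReindex (F := F) e).toMonoidHom =
      Cfsg.isometryGroup F (fun x : κ → F => Q (x ∘ e)) := by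
  ext h
  rw [Subgroup.mem_map_equiv, mem_iso_iff', mem_iso_iff']
  have hh : ((h : GL κ F) : Matrix κ κ F) =
      Matrix.reindex e e (((glReindex (F := F) e).symm h : GL ι F) : Matrix ι ι F) := by
    rw [← glReindex_coe, MulEquiv.apply_symm_apply]
  constructor
  · intro H x
    rw [hh, reindex_mulVec]
    have : ((((glReindex (F := F) e).symm h : GL ι F) : Matrix ι ι F) *ᵥ (x ∘ e)) ∘ e.symm ∘ e =
        (((glReindex (F := F) e).symm h : GL ι F) : Matrix ι ι F) *ᵥ (x ∘ e) := by
      funext i; simp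
    rw [Function.comp_assoc, this]
    exact H (x ∘ e)
  · intro H y
    have h1 := H (y ∘ e.symm)
    rw [hh, reindex_mulVec] at h1
    have e1 : (y ∘ e.symm) ∘ e = y := by funext i; simp
    have e2 : ((((glReindex (F := F) e).symm h : GL ι F) : Matrix ι ι F) *ᵥ y) ∘ e.symm ∘ e =
        (((glReindex (F := F) e).symm h : GL ι F) : Matrix ι ι F) *ᵥ y := by
      funext i; simp
    rw [e1, Function.comp_assoc, e2] at h1
    exact h1

/-- the isometry groups of `Q` and of its reindexing are isomorphic -/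
noncomputable def isoReindex (e : ι ≃ κ) (Q : (ι → F) → F) :
    ↥(Cfsg.isometryGroup F Q) ≃* ↥(Cfsg.isometryGroup F (fun x : κ → F => Q (x ∘ e))) :=
  ((glReindex (F := F) e).subgroupMap (Cfsg.isometryGroup F Q)).trans
    (MulEquiv.subgroupCongr (map_iso e Q))

theorem index_commutator_congr {G H : Type*} [Group G] [Group H] (φ : G ≃* H) :
    (commutator G).index = (commutator H).index := by
  have h1 : (commutator G).map (φ : G →* H) = commutator H := by
    rw [commutator_def, commutator_def, Subgroup.map_commutator,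
      Subgroup.map_top_of_surjective _ φ.surjective]
  rw [← h1, Subgroup.index_map_equiv]

theorem index_omega_reindex (e : ι ≃ κ) (Q : (ι → F) → F) :
    (Cfsg.Omega F Q).index = (Cfsg.Omega F (fun x : κ → F => Q (x ∘ e))).index :=
  index_commutator_congr (isoReindex e Q)

/-- the reindexed quadratic form -/
noncomputable def qReindex (e : ι ≃ κ) (Q : QuadraticForm F (ι → F)) : QuadraticForm F (κ → F) :=
  Q.comp (LinearMap.funLeft F F e)

theorem qReindex_coe (e : ι ≃ κ) (Q : QuadraticForm F (ι → F)) :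
    ⇑(qReindex e Q) = fun x : κ → F => Q (x ∘ e) := rfl

theorem qReindex_nondeg (e : ι ≃ κ) (Q : QuadraticForm F (ι → F))
    (hQ : (QuadraticMap.polarBilin Q).Nondegenerate) :
    (QuadraticMap.polarBilin (qReindex e Q)).Nondegenerate := by
  have hp : ∀ x y : κ → F, QuadraticMap.polarBilin (qReindex e Q) x y =
      QuadraticMap.polarBilin Q (x ∘ e) (y ∘ e) := by
    intro x y
    rfl
  have hsurj : ∀ y' : ι → F, ∃ y : κ → F, y ∘ e = y' := fun y' =>
    ⟨y' ∘ e.symm, by funext i; simp⟩
  constructor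
  · intro x hx
    have : x ∘ e = 0 := by
      apply hQ.1
      intro y'
      obtain ⟨y, rfl⟩ := hsurj y'
      rw [← hp]; exact hx y
    funext k
    have := congrFun this (e.symm k)
    simpa using this
  · intro y hy
    have : y ∘ e = 0 := by
      apply hQ.2
      intro x'
      obtain ⟨x, rfl⟩ := hsurj x'
      rw [← hp]; exact hy x
    funext k
    have := congrFun this (e.symm k)
    simpa using this

variable [Fintype F]

/-- `Ω` has index 4 in the isometry group, any index type (odd characteristic) -/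
theorem index_omega_general (h2 : (2 : F) ≠ 0) (hn : 2 ≤ Fintype.card ι)
    (Q : QuadraticForm F (ι → F)) (hQ : (QuadraticMap.polarBilin Q).Nondegenerate) :
    (Cfsg.Omega F ⇑Q).index = 4 := by
  have h := index_omega_reindex (Fintype.equivFin ι) (⇑Q)
  rw [h, ← qReindex_coe]
  exact OI.index_omega h2 hn (qReindex (Fintype.equivFin ι) Q) (qReindex_nondeg _ Q hQ)

end Cfsg.Agent.Lib.Lead.RI
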