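import Mathlib
import Cfsg.Agent.S0001

set_option autoImplicit false
open Pointwise

namespace Cfsg.Agent.Lib.Lead

open Subgroup Cfsg.Agent.S0001
open scoped commutatorElement

section
variable {G : Type*} [Group G]

theorem conj_smul_eq_self_of_mem (A : Subgroup G) {a : G} (ha : a ∈ A) : MulAut.conj a • A = A := by
  ext x
  rw [Subgroup.mem_pointwise_smul_iff_inv_smul_mem]
  simp only [MulAut.smul_def, MulAut.conj_inv_apply]
  constructor
  · intro h
    have : x = a * (a⁻¹ * x * a) * a⁻¹ := by group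
    rw [this]; exact A.mul_mem (A.mul_mem ha h) (A.inv_mem ha)
  · intro h
    exact A.mul_mem (A.mul_mem (A.inv_mem ha) h) ha

theorem hall_conj [Finite G] (A K : Subgroup G)
    (hAK : A ≤ Subgroup.normalizer (K : Set G))
    (hcop : (Nat.card A).Coprime (Nat.card K)) (hsolv : Group.IsSolvable A ∨ Group.IsSolvable K)
    (B : Subgroup G) (hB : B ≤ A ⊔ K) (hcard : Nat.card B = Nat.card A) :
    ∃ k ∈ K, MulAut.conj k • A = B := by
  have hKn : (K.subgroupOf (A ⊔ K)).Normal := normal_subgroupOf_sup_of_le_normalizer hAK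
  have hA' : A ≤ A ⊔ K := le_sup_left
  have hK' : K ≤ A ⊔ K := le_sup_right
  have cK : Nat.card (K.subgroupOf (A ⊔ K)) = Nat.card K := card_subgroupOf_of_le hK'
  have cA : Nat.card (A.subgroupOf (A ⊔ K)) = Nat.card A := card_subgroupOf_of_le hA'
  have cB : Nat.card (B.subgroupOf (A ⊔ K)) = Nat.card A := (card_subgroupOf_of_le hB).trans hcard
  have hcop' : (Nat.card (K.subgroupOf (A ⊔ K))).Coprime (Nat.card (A.subgroupOf (A ⊔ K))) := by
    rw [cK, cA]; exact hcop.symm
  have hcompA : IsComplement' (K.subgroupOf (A ⊔ K)) (A.subgroupOf (A ⊔ K)) := by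
    apply isComplement'_of_disjoint_and_mul_eq_univ
    · exact disjoint_of_coprime_natCard hcop'
    · rw [Set.eq_univ_iff_forall]
      intro γ
      have hγ : (γ : G) ∈ ((K ⊔ A : Subgroup G) : Set G) := by
        rw [sup_comm]; exact γ.2
      rw [coe_mul_of_right_le_normalizer_left K A hAK] at hγ
      obtain ⟨k, hk, a, ha, hka⟩ := hγ
      refine ⟨⟨k, hK' hk⟩, mem_subgroupOf.mpr hk, ⟨a, hA' ha⟩, mem_subgroupOf.mpr ha, ?_⟩
      exact Subtype.ext hka
  have hcompB : IsComplement' (K.subgroupOf (A ⊔ K)) (B.subgroupOf (A ⊔ K)) := by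
    apply isComplement'_of_coprime
    · rw [cB, ← cA]; exact hcompA.card_mul_card
    · rw [cB, ← cA]; exact hcop'
  have hconj : ∃ g : ↥(A ⊔ K), MulAut.conj g • A.subgroupOf (A ⊔ K) = B.subgroupOf (A ⊔ K) := by
    rcases hsolv with h | h
    · have : Group.IsSolvable (A.subgroupOf (A ⊔ K)) := solvable_subgroupOf A _
      exact conj_of_solvable_compl_aux _ _ rfl _ _ _ hcop' hcompA hcompB
    · have : Group.IsSolvable (K.subgroupOf (A ⊔ K)) := solvable_subgroupOf K _
      exact conj_of_solvable_normal_aux _ _ rfl _ _ _ hcop' hcompA hcompB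
  obtain ⟨g, hg, hgAB⟩ := conj_of_subgroupOf A B (A ⊔ K) hA' hB hconj
  have hg' : g ∈ ((K ⊔ A : Subgroup G) : Set G) := by rw [sup_comm]; exact hg
  rw [coe_mul_of_right_le_normalizer_left K A hAK] at hg'
  obtain ⟨k, hk, a, ha, rfl⟩ := hg'
  refine ⟨k, hk, ?_⟩
  rw [← hgAB]
  change MulAut.conj k • A = MulAut.conj (k * a) • A
  rw [map_mul, mul_smul, conj_smul_eq_self_of_mem A ha]

theorem inf_eq_bot_of_coprime' [Finite G] (A D : Subgroup G) (hcop : (Nat.card A).Coprime (Nat.card D))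
    {g : G} (h1 : g ∈ A) (h2 : g ∈ D) : g = 1 :=
  Subgroup.disjoint_def.mp (disjoint_of_coprime_natCard hcop) h1 h2

theorem coset_fixed [Finite G] (A D : Subgroup G) (hAD : A ≤ Subgroup.normalizer (D : Set G))
    (hcop : (Nat.card A).Coprime (Nat.card D)) (hsolv : Group.IsSolvable A ∨ Group.IsSolvable D)
    (x : G) (hx : ∀ a ∈ A, x⁻¹ * (a * x * a⁻¹) ∈ D) :
    ∃ d ∈ D, x * d ∈ Subgroup.centralizer (A : Set G) := by
  have hB : MulAut.conj x⁻¹ • A ≤ A ⊔ D := by
    intro b hb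
    rw [Subgroup.mem_pointwise_smul_iff_inv_smul_mem] at hb
    simp only [MulAut.smul_def, MulAut.conj_inv_apply, inv_inv] at hb
    have e : b = (x⁻¹ * ((x * b * x⁻¹) * x * (x * b * x⁻¹)⁻¹)) * (x * b * x⁻¹) := by group
    rw [e]
    exact Subgroup.mul_mem _ (Subgroup.mem_sup_right (hx _ hb)) (Subgroup.mem_sup_left hb)
  obtain ⟨d, hd, hdA⟩ := hall_conj A D hAD hcop hsolv (MulAut.conj x⁻¹ • A) hB (card_conj A x⁻¹)
  refine ⟨d, hd, ?_⟩
  have hc : MulAut.conj (x * d) • A = A := by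
    rw [map_mul, mul_smul, hdA, ← mul_smul, ← map_mul, mul_inv_cancel, map_one, one_smul]
  rw [Subgroup.mem_centralizer_iff]
  intro a ha
  have h1 : (x * d)⁻¹ * a * (x * d) ∈ A := by
    have : a ∈ MulAut.conj (x * d) • A := by rw [hc]; exact ha
    rw [Subgroup.mem_pointwise_smul_iff_inv_smul_mem] at this
    simp only [MulAut.smul_def, MulAut.conj_inv_apply] at this
    exact this
  have h2 : (x * d)⁻¹ * a * (x * d) * a⁻¹ ∈ A := A.mul_mem h1 (A.inv_mem ha)
  have h3 : (x * d)⁻¹ * a * (x * d) * a⁻¹ ∈ D := by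
    have e : (x * d)⁻¹ * a * (x * d) * a⁻¹ = d⁻¹ * (x⁻¹ * (a * x * a⁻¹)) * (a * d * a⁻¹) := by group
    rw [e]
    have h4 : a * d * a⁻¹ ∈ D := (Subgroup.le_normalizer_iff.mp hAD) a ha d hd
    exact D.mul_mem (D.mul_mem (D.inv_mem hd) (hx a ha)) h4
  have h5 := inf_eq_bot_of_coprime' A D hcop h2 h3
  have : a * (x * d) = (x * d) * ((x * d)⁻¹ * a * (x * d) * a⁻¹) * a := by group
  rw [this, h5, mul_one]

theorem solvable_of_le {H K : Subgroup G} (h : H ≤ K) [Group.IsSolvable K] : Group.IsSolvable H :=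
  Group.isSolvable_of_isSolvable_injective (Subgroup.inclusion_injective h)

theorem solvable_or_of_le {A H K : Subgroup G} (h : H ≤ K)
    (hs : Group.IsSolvable A ∨ Group.IsSolvable K) : Group.IsSolvable A ∨ Group.IsSolvable H := by
  rcases hs with hs | hs
  · exact Or.inl hs
  · exact Or.inr (solvable_of_le h)

theorem coprime_of_le [Finite G] {A H K : Subgroup G} (h : H ≤ K)
    (hcop : (Nat.card A).Coprime (Nat.card K)) : (Nat.card A).Coprime (Nat.card H) :=
  Nat.Coprime.coprime_dvd_right (Subgroup.card_dvd_of_le h) hcop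

theorem left_le_normalizer_commutator (K A : Subgroup G) :
    K ≤ Subgroup.normalizer ((⁅K, A⁆ : Subgroup G) : Set G) := by
  rw [Subgroup.commutator_def, Subgroup.le_normalizer_closure_iff]
  rintro k' hk' g ⟨k, hk, a, ha, rfl⟩
  have e : k' * ⁅k, a⁆ * k'⁻¹ = ⁅k' * k, a⁆ * ⁅k', a⁆⁻¹ := by
    simp only [commutatorElement_def]; group
  rw [e, ← Subgroup.commutator_def]
  exact Subgroup.mul_mem _ (Subgroup.commutator_mem_commutator (K.mul_mem hk' hk) ha)
    (Subgroup.inv_mem _ (Subgroup.commutator_mem_commutator hk' ha))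

theorem right_le_normalizer_commutator (K A : Subgroup G) (hAK : A ≤ Subgroup.normalizer (K : Set G)) :
    A ≤ Subgroup.normalizer ((⁅K, A⁆ : Subgroup G) : Set G) := by
  rw [Subgroup.commutator_def, Subgroup.le_normalizer_closure_iff]
  rintro a' ha' g ⟨k, hk, a, ha, rfl⟩
  have e : a' * ⁅k, a⁆ * a'⁻¹ = ⁅a' * k * a'⁻¹, a' * a * a'⁻¹⁆ := by
    simp only [commutatorElement_def]; group
  rw [e, ← Subgroup.commutator_def]
  exact Subgroup.commutator_mem_commutator ((Subgroup.le_normalizer_iff.mp hAK) a' ha' k hk)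
    (A.mul_mem (A.mul_mem ha' ha) (A.inv_mem ha'))

theorem commutator_le_left_of_le_normalizer (K A : Subgroup G) (hAK : A ≤ Subgroup.normalizer (K : Set G)) :
    ⁅K, A⁆ ≤ K := Subgroup.le_normalizer_iff_commutator_le_left.mp hAK

/-- conjugation by an element of the normalizer, as an automorphism of the subgroup -/
def conjAut (K : Subgroup G) (a : G) (ha : a ∈ Subgroup.normalizer (K : Set G)) : K ≃* K where
  toFun k := ⟨a * k * a⁻¹, (Subgroup.mem_normalizer_iff.mp ha k).mp k.2⟩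
  invFun k := ⟨a⁻¹ * k * a, (Subgroup.mem_normalizer_iff''.mp ha k).mp k.2⟩
  left_inv k := by apply Subtype.ext; simp only; group
  right_inv k := by apply Subtype.ext; simp only; group
  map_mul' k l := by apply Subtype.ext; simp only [Subgroup.coe_mul]; group

theorem conjAut_coe (K : Subgroup G) (a : G) (ha : a ∈ Subgroup.normalizer (K : Set G)) (k : K) :
    ((conjAut K a ha k : K) : G) = a * k * a⁻¹ := rfl

theorem le_normalizer_map_characteristic (K A : Subgroup G) (hAK : A ≤ Subgroup.normalizer (K : Set G))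
    (C : Subgroup K) [hC : C.Characteristic] :
    A ≤ Subgroup.normalizer ((C.map K.subtype : Subgroup G) : Set G) := by
  rw [Subgroup.le_normalizer_iff]
  rintro a ha _ ⟨c, hc, rfl⟩
  refine ⟨conjAut K a (hAK ha) c, ?_, rfl⟩
  have h1 := (Subgroup.characteristic_iff_map_eq.mp hC) (conjAut K a (hAK ha))
  rw [← h1]
  exact Subgroup.mem_map_of_mem _ hc

theorem le_normalizer_commutator (X H₁ H₂ : Subgroup G) (h1 : X ≤ Subgroup.normalizer (H₁ : Set G))
    (h2 : X ≤ Subgroup.normalizer (H₂ : Set G)) :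
    X ≤ Subgroup.normalizer ((⁅H₁, H₂⁆ : Subgroup G) : Set G) := by
  rw [Subgroup.commutator_def, Subgroup.le_normalizer_closure_iff]
  rintro x hx g ⟨k, hk, a, ha, rfl⟩
  have e : x * ⁅k, a⁆ * x⁻¹ = ⁅x * k * x⁻¹, x * a * x⁻¹⁆ := by
    simp only [commutatorElement_def]; group
  rw [e, ← Subgroup.commutator_def]
  exact Subgroup.commutator_mem_commutator ((Subgroup.le_normalizer_iff.mp h1) x hx k hk)
    ((Subgroup.le_normalizer_iff.mp h2) x hx a ha)

theorem card_lt_card_of_lt [Finite G] {H K : Subgroup G} (h : H < K) : Nat.card H < Nat.card K := by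
  have h1 : Nat.card H ≤ Nat.card K := Subgroup.card_le_of_le h.le
  rcases h1.lt_or_eq with h2 | h2
  · exact h2
  · exact absurd (Subgroup.eq_of_le_of_card_ge h.le h2.ge) h.ne

/-- in a nilpotent subgroup `Γ`, a nontrivial subgroup `U ≤ Γ` normalised by `Γ` has `⁅U, Γ⁆ < U`. -/
theorem commutator_lt_of_nilpotent (U Γ : Subgroup G) (hUΓ : U ≤ Γ)
    (hΓU : Γ ≤ Subgroup.normalizer (U : Set G)) (hnil : Group.IsNilpotent Γ) (hU : U ≠ ⊥) :
    ⁅U, Γ⁆ < U := by
  have hle : ⁅U, Γ⁆ ≤ U := Subgroup.le_normalizer_iff_commutator_le_left.mp hΓU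
  refine lt_of_le_of_ne hle ?_
  intro heq
  obtain ⟨n, hn⟩ := (Subgroup.isNilpotent_iff_lowerCentralSeries Γ).mp hnil
  have key : ∀ m, U ≤ Γ.lowerCentralSeries m := by
    intro m
    induction m with
    | zero => simpa using hUΓ
    | succ m ih =>
      rw [Subgroup.lowerCentralSeries_succ]
      calc U = ⁅U, Γ⁆ := heq.symm
        _ ≤ ⁅Γ.lowerCentralSeries m, Γ⁆ := Subgroup.commutator_mono ih le_rfl
  have := key n
  rw [hn, le_bot_iff] at this
  exact hU this

theorem isComplement'_of_sup_eq_top [Finite G] (K A : Subgroup G) [K.Normal] (hsup : A ⊔ K = ⊤)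
    (hcop : (Nat.card A).Coprime (Nat.card K)) : IsComplement' K A := by
  apply isComplement'_of_disjoint_and_mul_eq_univ
  · exact disjoint_of_coprime_natCard hcop.symm
  · rw [← Subgroup.normal_mul, sup_comm, hsup]; rfl

/-- Invariant Sylow subgroup, external form: `K` normal in `Γ`, `A ⊔ K = ⊤`, coprime. -/
theorem exists_invariant_sylow_ext {Γ : Type*} [Group Γ] [Finite Γ] (A K : Subgroup Γ) [K.Normal]
    (hsup : A ⊔ K = ⊤) (hcop : (Nat.card A).Coprime (Nat.card K))
    (hsolv : Group.IsSolvable A ∨ Group.IsSolvable K) (p : ℕ) [Fact p.Prime] :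
    ∃ P : Sylow p K, A ≤ Subgroup.normalizer (((P : Subgroup K).map K.subtype : Subgroup Γ) : Set Γ) := by
  have hcompl : IsComplement' K A := isComplement'_of_sup_eq_top K A hsup hcop
  have hidx : K.index = Nat.card A := hcompl.symm.index_eq_card
  have hAK : A ≤ Subgroup.normalizer (K : Set Γ) := by
    rw [Subgroup.normalizer_eq_top_iff.mpr inferInstance]; exact le_top
  let P₀ : Sylow p K := default
  have hfr : Subgroup.normalizer (((P₀ : Subgroup K).map K.subtype : Subgroup Γ) : Set Γ) ⊔ K = ⊤ :=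
    Sylow.normalizer_sup_eq_top P₀
  set S := Subgroup.normalizer (((P₀ : Subgroup K).map K.subtype : Subgroup Γ) : Set Γ) with hS
  have hidxS : (K.subgroupOf S).index = Nat.card A := by
    change K.relIndex S = _
    rw [← Subgroup.relIndex_sup_right, hfr, Subgroup.relIndex_top_right, hidx]
  have hcopS : (Nat.card (K.subgroupOf S)).Coprime (K.subgroupOf S).index := by
    rw [hidxS]
    exact (Nat.Coprime.coprime_dvd_right (card_subgroupOf_dvd K S) hcop).symm
  obtain ⟨B', hB'⟩ := Subgroup.exists_left_complement'_of_coprime hcopS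
  have hcardB' : Nat.card B' = Nat.card A := by rw [← hidxS]; exact hB'.index_eq_card.symm
  have hcardB : Nat.card (B'.map S.subtype) = Nat.card A := by
    rw [Subgroup.card_map_of_injective S.subtype_injective, hcardB']
  have hBS : B'.map S.subtype ≤ S := by
    rintro _ ⟨b, _, rfl⟩; exact b.2
  obtain ⟨k, hk, hkA⟩ := hall_conj A K hAK hcop hsolv (B'.map S.subtype) (by rw [hsup]; exact le_top) hcardB
  refine ⟨(⟨k⁻¹, K.inv_mem hk⟩ : K) • P₀, ?_⟩
  have e : (((((⟨k⁻¹, K.inv_mem hk⟩ : K) • P₀ : Sylow p K) : Subgroup K).map K.subtype : Subgroup Γ))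
      = MulAut.conj k⁻¹ • ((P₀ : Subgroup K).map K.subtype) := by
    rw [Sylow.smul_def, Sylow.pointwise_smul_def, map_conj_smul]; rfl
  rw [e, Subgroup.le_normalizer_iff]
  intro a ha x hx
  rw [Subgroup.mem_pointwise_smul_iff_inv_smul_mem] at hx ⊢
  simp only [MulAut.smul_def, MulAut.conj_inv_apply, inv_inv] at hx ⊢
  have hka : k * a * k⁻¹ ∈ S := by
    apply hBS
    rw [← hkA, Subgroup.mem_pointwise_smul_iff_inv_smul_mem]
    simp only [MulAut.smul_def, MulAut.conj_inv_apply]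
    have : k⁻¹ * (k * a * k⁻¹) * k = a := by group
    rw [this]; exact ha
  have := (Subgroup.mem_normalizer_iff.mp hka (k * x * k⁻¹)).mp hx
  have e2 : k * (a * x * a⁻¹) * k⁻¹ = k * a * k⁻¹ * (k * x * k⁻¹) * (k * a * k⁻¹)⁻¹ := by group
  rw [e2]; exact this

theorem conj_smul_eq_iff (H : Subgroup G) (x : G) :
    MulAut.conj x • H = H ↔ x ∈ Subgroup.normalizer (H : Set G) := by
  rw [Subgroup.mem_normalizer_iff_map_conj_eq]
  rfl

/-- elements of `K` normalising `A` centralise `A` under coprime action -/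
theorem mem_centralizer_of_normalizes [Finite G] (A K : Subgroup G)
    (hAK : A ≤ Subgroup.normalizer (K : Set G)) (hcop : (Nat.card A).Coprime (Nat.card K))
    (c : G) (hcK : c ∈ K) (hc : MulAut.conj c • A = A) : c ∈ Subgroup.centralizer (A : Set G) := by
  rw [Subgroup.mem_centralizer_iff]
  intro a ha
  have h1 : c⁻¹ * a * c ∈ A := by
    have : a ∈ MulAut.conj c • A := by rw [hc]; exact ha
    rw [Subgroup.mem_pointwise_smul_iff_inv_smul_mem] at this
    simp only [MulAut.smul_def, MulAut.conj_inv_apply] at this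
    exact this
  have h2 : c⁻¹ * a * c * a⁻¹ ∈ A := A.mul_mem h1 (A.inv_mem ha)
  have h3 : c⁻¹ * a * c * a⁻¹ ∈ K := by
    have h4 : a * c * a⁻¹ ∈ K := (Subgroup.le_normalizer_iff.mp hAK) a ha c hcK
    have e : c⁻¹ * a * c * a⁻¹ = c⁻¹ * (a * c * a⁻¹) := by group
    rw [e]; exact K.mul_mem (K.inv_mem hcK) h4
  have h5 := inf_eq_bot_of_coprime' A K hcop h2 h3
  have : a * c = c * (c⁻¹ * a * c * a⁻¹) * a := by group
  rw [this, h5, mul_one]

/-- Transitivity part of Glauberman's lemma for conjugation: if `A` normalises both `X` and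
`conj k • X` (`k ∈ K`), then some `c ∈ C_K(A)` has `conj c • X = conj k • X`. -/
theorem conj_by_centralizer [Finite G] (A K : Subgroup G)
    (hAK : A ≤ Subgroup.normalizer (K : Set G)) (hcop : (Nat.card A).Coprime (Nat.card K))
    (hsolv : Group.IsSolvable A ∨ Group.IsSolvable K) (X : Subgroup G)
    (hX : A ≤ Subgroup.normalizer (X : Set G)) (k : G) (hk : k ∈ K)
    (hkX : A ≤ Subgroup.normalizer ((MulAut.conj k • X : Subgroup G) : Set G)) :
    ∃ c ∈ K ⊓ Subgroup.centralizer (A : Set G), MulAut.conj c • X = MulAut.conj k • X := by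
  have hDK : K ⊓ Subgroup.normalizer (X : Set G) ≤ K := inf_le_left
  have hAD : A ≤ Subgroup.normalizer ((K ⊓ Subgroup.normalizer (X : Set G) : Subgroup G) : Set G) := by
    rw [Subgroup.le_normalizer_iff]
    intro a ha d hd
    refine ⟨(Subgroup.le_normalizer_iff.mp hAK) a ha d hd.1, ?_⟩
    exact Subgroup.mul_mem _ (Subgroup.mul_mem _ (hX ha) hd.2) (Subgroup.inv_mem _ (hX ha))
  have hB : MulAut.conj k⁻¹ • A ≤ A ⊔ (K ⊓ Subgroup.normalizer (X : Set G)) := by
    intro x hx
    rw [Subgroup.mem_pointwise_smul_iff_inv_smul_mem] at hx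
    simp only [MulAut.smul_def, MulAut.conj_inv_apply, inv_inv] at hx
    set a := k * x * k⁻¹ with ha_def
    have hxa : x = k⁻¹ * a * k := by rw [ha_def]; group
    have hyK : a⁻¹ * x ∈ K := by
      have h1 : a⁻¹ * k⁻¹ * a⁻¹⁻¹ ∈ K :=
        (Subgroup.le_normalizer_iff.mp hAK) a⁻¹ (A.inv_mem hx) k⁻¹ (K.inv_mem hk)
      have e : a⁻¹ * x = a⁻¹ * k⁻¹ * a⁻¹⁻¹ * k := by rw [hxa]; group
      rw [e]; exact K.mul_mem h1 hk
    have hxN : x ∈ Subgroup.normalizer (X : Set G) := by
      rw [← conj_smul_eq_iff]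
      have h1 : MulAut.conj a • MulAut.conj k • X = MulAut.conj k • X := (conj_smul_eq_iff _ a).mpr (hkX hx)
      rw [hxa, map_mul, map_mul, mul_smul, mul_smul, h1, ← mul_smul, ← map_mul, inv_mul_cancel,
        map_one, one_smul]
    have hyN : a⁻¹ * x ∈ Subgroup.normalizer (X : Set G) :=
      Subgroup.mul_mem _ (Subgroup.inv_mem _ (hX hx)) hxN
    have e : x = a * (a⁻¹ * x) := by group
    rw [e]
    exact Subgroup.mul_mem _ (Subgroup.mem_sup_left hx) (Subgroup.mem_sup_right ⟨hyK, hyN⟩)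
  obtain ⟨d, hd, hdA⟩ := hall_conj A _ hAD (coprime_of_le hDK hcop) (solvable_or_of_le hDK hsolv)
    (MulAut.conj k⁻¹ • A) hB (card_conj A k⁻¹)
  have hc : MulAut.conj (k * d) • A = A := by
    rw [map_mul, mul_smul, hdA, ← mul_smul, ← map_mul, mul_inv_cancel, map_one, one_smul]
  have hcK : k * d ∈ K := K.mul_mem hk hd.1
  refine ⟨k * d, ⟨hcK, mem_centralizer_of_normalizes A K hAK hcop _ hcK hc⟩, ?_⟩
  rw [map_mul, mul_smul, (conj_smul_eq_iff X d).mpr hd.2]

/-- Normaliser condition, internal form: a proper subgroup `H` of a nilpotent subgroup `Γ` is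
properly contained in its normaliser in `Γ`. -/
theorem exists_mem_normalizer_not_mem (H Γ : Subgroup G) (hlt : H < Γ) (hnil : Group.IsNilpotent Γ) :
    ∃ x ∈ Γ, x ∈ Subgroup.normalizer (H : Set G) ∧ x ∉ H := by
  classical
  obtain ⟨n, hn⟩ := (Subgroup.isNilpotent_iff_lowerCentralSeries Γ).mp hnil
  have hex : ∃ m, Γ.lowerCentralSeries m ≤ H := ⟨n, by rw [hn]; exact bot_le⟩
  have hm := Nat.find_spec hex
  have hm0 : Nat.find hex ≠ 0 := by
    intro h0
    rw [h0, Subgroup.lowerCentralSeries_zero] at hm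
    exact absurd hlt (not_lt_of_ge hm)
  obtain ⟨m, hm1⟩ := Nat.exists_eq_succ_of_ne_zero hm0
  have hnot : ¬ Γ.lowerCentralSeries m ≤ H := Nat.find_min hex (by omega)
  obtain ⟨x, hx, hxH⟩ := SetLike.not_le_iff_exists.mp hnot
  have hxΓ : x ∈ Γ := (Subgroup.lowerCentralSeries_antitone Γ (Nat.zero_le m)) hx
  refine ⟨x, hxΓ, ?_, hxH⟩
  have hcomm : ∀ y ∈ Γ.lowerCentralSeries m, ∀ h ∈ H, ⁅y, h⁆ ∈ H := by
    intro y hy h hh
    apply hm
    rw [hm1, Nat.succ_eq_add_one, Subgroup.lowerCentralSeries_succ]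
    exact Subgroup.commutator_mem_commutator hy (hlt.le hh)
  have hxn : ∀ h ∈ H, x * h * x⁻¹ ∈ H := by
    intro h hh
    have e : x * h * x⁻¹ = ⁅x, h⁆ * h := by simp only [commutatorElement_def]; group
    rw [e]; exact H.mul_mem (hcomm x hx h hh) hh
  have hxn' : ∀ h ∈ H, x⁻¹ * h * x ∈ H := by
    intro h hh
    have e : x⁻¹ * h * x = ⁅x⁻¹, h⁆ * h := by simp only [commutatorElement_def]; group
    rw [e]; exact H.mul_mem (hcomm x⁻¹ (Subgroup.inv_mem _ hx) h hh) hh
  rw [Subgroup.mem_normalizer_iff]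
  intro h
  constructor
  · exact hxn h
  · intro hh
    have := hxn' _ hh
    have e : x⁻¹ * (x * h * x⁻¹) * x = h := by group
    rwa [e] at this

end

end Cfsg.Agent.Lib.Lead
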