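import Mathlib
import Cfsg.Agent.Lib.Helper13.S5955.Defs

set_option autoImplicit false

/-! # Project S5955, row T2 (split): `V = C_V(x) ⟂ ker Φ_r(x)`, both non-degenerate -/

namespace Cfsg.Agent.Lib.Helper13.S5955

open Polynomial Module

/-- an alternating form is skew-symmetric -/
theorem s5955t2_skew {F : Type*} [Field F] {V : Type*} [AddCommGroup V] [Module F V]
    (B : LinearMap.BilinForm F V) (halt : ∀ v, B v v = 0) (u v : V) : B u v = - B v u := by
  have h := halt (u + v)
  simp only [map_add, LinearMap.add_apply, halt u, halt v, zero_add, add_zero] at h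
  exact eq_neg_of_add_eq_zero_right h

/-- powers of an isometry are isometries -/
theorem s5955t2_pres_pow {F : Type*} [Field F] {V : Type*} [AddCommGroup V] [Module F V]
    {r : ℕ} {B : LinearMap.BilinForm F V} {x : Module.End F V} (h : SCtx r B x) (j : ℕ) (u v : V) :
    B ((x ^ j) u) ((x ^ j) v) = B u v := by
  induction j generalizing u v with
  | zero => rw [pow_zero, Module.End.one_apply, Module.End.one_apply]
  | succ j ih => rw [pow_succ, Module.End.mul_apply, Module.End.mul_apply, ih, h.pres]

theorem s5955t2_mem_fixS {F : Type*} [Field F] {V : Type*} [AddCommGroup V] [Module F V]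
    (x : Module.End F V) (v : V) : v ∈ fixS x ↔ x v = v := by
  unfold fixS
  rw [LinearMap.mem_ker, map_sub, aeval_X, map_one, LinearMap.sub_apply, Module.End.one_apply,
    sub_eq_zero]

theorem s5955t2_pow_fix {F : Type*} [Field F] {V : Type*} [AddCommGroup V] [Module F V]
    (x : Module.End F V) (v : V) (hv : x v = v) (j : ℕ) : (x ^ j) v = v := by
  induction j with
  | zero => rw [pow_zero, Module.End.one_apply]
  | succ j ih => rw [pow_succ, Module.End.mul_apply, hv, ih]

theorem split {F : Type*} [Field F] [Fintype F] {p : ℕ} [Fact p.Prime] [CharP F p]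
    {V : Type*} [AddCommGroup V] [Module F V] [FiniteDimensional F V]
    {r : ℕ} [Fact r.Prime] (hrp : r ≠ p) {B : LinearMap.BilinForm F V} {x : Module.End F V}
    (h : SCtx r B x) :
    SOrth B (fixS x) (cycS r x) ∧ IsCompl (fixS x) (cycS r x) ∧ SND B (fixS x) ∧
      SND B (cycS r x) := by
  have hcop : IsCoprime (X - 1 : F[X]) (cyclotomic r F) :=
    Cfsg.Agent.Lib.Helper24.el_cyc_coprime (F := F) (p := p) r hrp
  have hkill : aeval x ((X - 1) * cyclotomic r F) = 0 :=
    Cfsg.Agent.Lib.Helper24.el_cyc_kill r x h.pow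
  have hrF : (r : F) ≠ 0 := Cfsg.Agent.Lib.Helper24.el_cast_ne_zero (F := F) (p := p) r hrp
  have hcompl : IsCompl (fixS x) (cycS r x) := by
    constructor
    · exact disjoint_ker_aeval_of_isCoprime x hcop
    · rw [codisjoint_iff]
      unfold fixS cycS
      rw [sup_ker_aeval_eq_ker_aeval_mul_of_coprime x hcop, hkill, LinearMap.ker_zero]
  have hcyc : ∀ w ∈ cycS r x, ∑ j ∈ Finset.range r, (x ^ j) w = 0 := by
    intro w hw
    unfold cycS at hw
    rw [LinearMap.mem_ker, cyclotomic_prime, map_sum, LinearMap.sum_apply] at hw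
    simp only [map_pow, aeval_X] at hw
    exact hw
  have horth : SOrth B (fixS x) (cycS r x) := by
    intro v hv w hw
    have hv' : x v = v := (s5955t2_mem_fixS x v).mp hv
    have h0 : B v (∑ j ∈ Finset.range r, (x ^ j) w) = 0 := by rw [hcyc w hw, map_zero]
    rw [map_sum] at h0
    have h1 : ∀ j ∈ Finset.range r, B v ((x ^ j) w) = B v w := by
      intro j _
      have := s5955t2_pres_pow h j v w
      rw [s5955t2_pow_fix x v hv' j] at this
      exact this
    rw [Finset.sum_congr rfl h1, Finset.sum_const, Finset.card_range, nsmul_eq_mul] at h0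
    exact (mul_eq_zero.mp h0).resolve_left hrF
  have hdec : ∀ v : V, ∃ a ∈ fixS x, ∃ b ∈ cycS r x, a + b = v := by
    intro v
    have hv : v ∈ fixS x ⊔ cycS r x := by rw [hcompl.sup_eq_top]; trivial
    obtain ⟨a, ha, b, hb, hab⟩ := Submodule.mem_sup.mp hv
    exact ⟨a, ha, b, hb, hab⟩
  refine ⟨horth, hcompl, ?_, ?_⟩
  · intro u hu huv
    apply h.nd u
    intro v
    obtain ⟨a, ha, b, hb, rfl⟩ := hdec v
    rw [map_add, huv a ha, horth u hu b hb, add_zero]
  · intro u hu huv
    apply h.nd u
    intro v
    obtain ⟨a, ha, b, hb, rfl⟩ := hdec v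
    rw [map_add, huv b hb, add_zero, s5955t2_skew B h.alt, horth a ha u hu, neg_zero]

end Cfsg.Agent.Lib.Helper13.S5955
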