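import Mathlib
import Cfsg.Agent.Lib.helper14.BGL.SPDefs
import Cfsg.Agent.Lib.helper14.BGL.SPDefs2
import Cfsg.Agent.Lib.Helper10.BGL.Defs

/-!
# Project BGL, block SP (designer helper14): rows O5 (`spX_spec`), O6 (`spY_spec`), E1 (`spExc_spec`), VERBATIM (lead).
-/

set_option autoImplicit false

namespace Cfsg.Agent.Lib.helper14.BGLSP

open Cfsg.Lie Cfsg.Lie.ChevalleyDatum Cfsg.Agent.Lib.helper8 Cfsg.Agent.Lib.Helper10.BGL Matrix

universe u

variable {K : Type u} [Field K] (D : ChevalleyDatum)

/-- a list sum over `List.range` as a `Finset.range` sum -/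
theorem bglspo5_list_sum_range {M : Type*} [AddCommMonoid M] (f : ℕ → M) (n : ℕ) :
    ((List.range n).map f).sum = ∑ j ∈ Finset.range n, f j := by
  induction n with
  | zero => simp
  | succ n ih =>
    rw [List.range_succ, List.map_append, List.sum_append, ih, Finset.sum_range_succ]
    simp

/-- O5 [S-M] -/
theorem spX_spec {lam xs : List ℕ} {X : List (List ℤ)} {d : ℤ} (h : spXChk D lam xs X d = true) :
    (∀ s ∈ xs, s ∈ lam) ∧ ∀ (w : D.Idx → K) (i : Fin D.rank),
      ∑ j ∈ Finset.range xs.length, (((X.getD i.val []).getD j 0 : ℤ) : K) * alpha D (xs.getD j 0) w =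
        ((d : ℤ) : K) * w (Sum.inl i) := by
  unfold spXChk at h
  rw [Bool.and_eq_true] at h
  obtain ⟨h1, h2⟩ := h
  constructor
  · intro s hs
    rw [List.all_eq_true] at h2
    have := h2 s hs
    simpa using this
  · intro w i
    have hkey : ∀ i' : Fin D.rank,
        ∑ j ∈ Finset.range xs.length, (X.getD i.val []).getD j 0 * D.cartan i'.val (xs.getD j 0) =
          if i.val = i'.val then d else 0 := by
      intro i'
      rw [List.all_eq_true] at h1
      have h3 := h1 i.val (List.mem_range.mpr i.2)
      rw [List.all_eq_true] at h3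
      have h4 := h3 i'.val (List.mem_range.mpr i'.2)
      rw [decide_eq_true_eq, bglspo5_list_sum_range] at h4
      exact h4
    unfold alpha
    simp only [Finset.mul_sum]
    rw [Finset.sum_comm]
    have hstep : ∀ i' : Fin D.rank,
        ∑ j ∈ Finset.range xs.length, (((X.getD i.val []).getD j 0 : ℤ) : K) *
          (((D.cartan i'.val (xs.getD j 0) : ℤ) : K) * w (Sum.inl i')) =
        (((if i.val = i'.val then d else 0 : ℤ)) : K) * w (Sum.inl i') := by
      intro i'
      rw [← hkey i']
      push_cast
      rw [Finset.sum_mul]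
      apply Finset.sum_congr rfl
      intro j _
      ring
    rw [Finset.sum_congr rfl (fun i' _ => hstep i')]
    rw [Finset.sum_eq_single i]
    · simp
    · intro b _ hb
      have : i.val ≠ b.val := fun h => hb (Fin.ext h.symm)
      simp [this]
    · intro h; exact absurd (Finset.mem_univ _) h

/-- O6 [S-M] -/
theorem spY_spec {lam ys : List ℕ} {Y : List (List ℤ)} (h : spYChk D lam ys Y = true) :
    (∀ s ∈ ys, s ∈ lam) ∧ ∀ i : Fin D.rank,
      ∑ j ∈ Finset.range ys.length, (((Y.getD i.val []).getD j 0 : ℤ) : K) • hvec D K (ys.getD j 0) = he D K i.val := by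
  unfold spYChk at h
  rw [Bool.and_eq_true] at h
  obtain ⟨h1, h2⟩ := h
  constructor
  · intro s hs
    rw [List.all_eq_true] at h2
    have := h2 s hs
    simpa using this
  · intro i
    have hkey : ∀ i' : Fin D.rank,
        ∑ j ∈ Finset.range ys.length, (Y.getD i.val []).getD j 0 * cor D (ys.getD j 0) i'.val =
          if i.val = i'.val then 1 else 0 := by
      intro i'
      rw [List.all_eq_true] at h1
      have h3 := h1 i.val (List.mem_range.mpr i.2)
      rw [List.all_eq_true] at h3
      have h4 := h3 i'.val (List.mem_range.mpr i'.2)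
      rw [decide_eq_true_eq, bglspo5_list_sum_range] at h4
      exact h4
    unfold he
    rw [dif_pos i.2]
    funext a
    rw [Finset.sum_apply]
    rcases a with i' | s
    · simp only [Pi.smul_apply, hvec, Sum.elim_inl, smul_eq_mul]
      have := congrArg (fun z : ℤ => (z : K)) (hkey i')
      push_cast at this
      rw [this]
      by_cases hii : i.val = i'.val
      · have : i' = i := Fin.ext hii.symm
        subst this
        simp
      · have hne : (Sum.inl i' : D.Idx) ≠ Sum.inl ⟨i.val, i.2⟩ := by
          intro h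
          have := Sum.inl.inj h
          exact hii (by rw [this])
        rw [if_neg hii, Pi.single_apply, if_neg hne]
    · simp only [Pi.smul_apply, hvec, Sum.elim_inr, smul_zero, Finset.sum_const_zero]
      rw [Pi.single_apply, if_neg (by simp)]

/-- E1 [S] -/
theorem spExc_spec {lam : List ℕ} {p : ℕ} [CharP K p] (h : spExcChk D lam p = true) :
    (∀ s ∈ lam, ∀ r < D.nroots, D.neg r ∉ lam →
      ∑ i : Fin D.rank, ((D.cartan i.val s : ℤ) : K) * ((cor D r i.val : ℤ) : K) = 0) ∧
    (∀ r s u : ℕ, r < D.nroots → s ∉ lam → u ∈ lam → ∀ t : K, cc D r s u t = 0) := by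
  unfold spExcChk at h
  rw [Bool.and_eq_true] at h
  obtain ⟨h1, h2⟩ := h
  constructor
  · intro s hs r hr hneg
    rw [List.all_eq_true] at h1
    have h3 := h1 s hs
    rw [List.all_eq_true] at h3
    have h4 := h3 r (List.mem_range.mpr hr)
    rw [Bool.or_eq_true] at h4
    rcases h4 with h4 | h4
    · exfalso
      apply hneg
      simpa using h4
    · rw [decide_eq_true_eq, bglspo5_list_sum_range] at h4
      have h5 := (CharP.intCast_eq_zero_iff K p _).mpr h4
      push_cast at h5
      rw [← Fin.sum_univ_eq_sum_range (fun i => ((D.cartan i s : ℤ) : K) * ((cor D r i : ℤ) : K)) D.rank] at h5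
      exact h5
  · intro r s u hr hs hu t
    unfold cc
    apply List.sum_eq_zero
    intro x hx
    rw [List.mem_map] at hx
    obtain ⟨km, hkm, rfl⟩ := hx
    unfold chainCoeff at hkm
    rw [List.mem_flatMap] at hkm
    obtain ⟨e, he, hq⟩ := hkm
    rw [List.mem_filter] at he
    obtain ⟨he1, he2⟩ := he
    rw [List.mem_map] at hq
    obtain ⟨q, hq1, rfl⟩ := hq
    rw [List.mem_filter] at hq1
    obtain ⟨hq2, hq3⟩ := hq1
    have hqmem : q.1 ∈ e.2.toList := List.fst_mem_of_mem_zipIdx hq2
    rw [List.all_eq_true] at h2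
    have h3 := h2 r (List.mem_range.mpr hr)
    rw [List.all_eq_true] at h3
    have h4 := h3 e he1
    have he1s : e.1 = s := by simpa using he2
    have hq1u : q.1.1 = u := by simpa using hq3
    rw [Bool.or_eq_true] at h4
    rcases h4 with h4 | h4
    · exfalso
      apply hs
      rw [← he1s]
      simpa using h4
    · rw [List.all_eq_true] at h4
      have h5 := h4 q.1 hqmem
      rw [Bool.or_eq_true] at h5
      rcases h5 with h5 | h5
      · exfalso
        rw [hq1u] at h5
        simp at h5
        exact h5 hu
      · rw [decide_eq_true_eq] at h5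
        have h6 := (CharP.intCast_eq_zero_iff K p _).mpr h5
        show ((q.1.2 : ℤ) : K) * t ^ (q.2 + 1) = 0
        rw [h6, zero_mul]

end Cfsg.Agent.Lib.helper14.BGLSP
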