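import Mathlib
import Cfsg.Agent.Lib.helper7.BD.Defs

/-!
# BD-INDEP : trace functions of pairwise non-isomorphic irreducible representations are linearly independent
(Jacobson density for the semisimple `k[G]`-module `Π i, (ρ i).asModule`).
-/

set_option autoImplicit false
set_option linter.unusedVariables false
set_option linter.unusedSectionVars false
set_option linter.style.haveILetI false

namespace Cfsg.Agent.Lib.helper7.BD

open scoped MonoidAlgebra

universe u v w

section E1
variable {F : Type*} [Field F] {G : Type u} [Group G] [Fintype G]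

/-- a `k[G]`-linear map between the module versions is an `IsHom` -/
theorem bdindep_isHom_of_linear {V W : Type*} [AddCommGroup V] [Module F V] [AddCommGroup W] [Module F W]
    (ρ : Representation F G V) (σ : Representation F G W) (φ : ρ.asModule →ₗ[F[G]] σ.asModule) :
    ∃ f : V →ₗ[F] W, (∀ v, f v = φ v) ∧ IsHom ρ σ f := by
  let f' := (Representation.IntertwiningMap.equivLinearMapAsModule ρ σ).symm φ
  refine ⟨f'.toLinearMap, fun v => rfl, fun g => f'.isIntertwining' g⟩

/-- Schur, off-diagonal -/
theorem bdindep_eq_zero {V W : Type*} [AddCommGroup V] [Module F V] [AddCommGroup W] [Module F W]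
    (ρ : Representation F G V) (σ : Representation F G W) [ρ.IsIrreducible] [σ.IsIrreducible]
    (hne : ¬ IsIso ρ σ) (φ : ρ.asModule →ₗ[F[G]] σ.asModule) : φ = 0 := by
  rcases LinearMap.bijective_or_eq_zero φ with hb | h0
  · exfalso
    apply hne
    obtain ⟨f, hf, hhom⟩ := bdindep_isHom_of_linear ρ σ φ
    have hfb : Function.Bijective f := by
      have : (f : V → W) = φ := funext hf
      rw [this]
      exact hb
    exact ⟨LinearEquiv.ofBijective f hfb, fun g => hhom g⟩
  · exact h0

/-- Schur, diagonal -/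
theorem bdindep_scalar [IsAlgClosed F] {V : Type*} [AddCommGroup V] [Module F V] [FiniteDimensional F V]
    (ρ : Representation F G V) [ρ.IsIrreducible] (φ : ρ.asModule →ₗ[F[G]] ρ.asModule) :
    ∃ c : F, ∀ v : ρ.asModule, φ v = c • v := by
  have hb : Function.Bijective (algebraMap F (Module.End F[G] ρ.asModule)) :=
    IsSimpleModule.algebraMap_end_bijective_of_isAlgClosed F
  obtain ⟨c, hc⟩ := hb.2 φ
  refine ⟨c, fun v => ?_⟩
  rw [← hc, Algebra.algebraMap_eq_smul_one, LinearMap.smul_apply, Module.End.one_apply]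

/-- every `k[G]`-endomorphism of the product acts diagonally by scalars -/
theorem bdindep_diag [IsAlgClosed F] {m : ℕ} (V : Fin m → Type v) [∀ i, AddCommGroup (V i)]
    [∀ i, Module F (V i)] [∀ i, FiniteDimensional F (V i)] (ρ : ∀ i, Representation F G (V i))
    (hirr : ∀ i, (ρ i).IsIrreducible) (hne : ∀ i j, i ≠ j → ¬ IsIso (ρ i) (ρ j))
    (φ : Module.End F[G] (Π i, (ρ i).asModule)) (i : Fin m) :
    ∃ c : F, ∀ v : Π i, (ρ i).asModule, (φ v) i = c • v i := by
  classical
  haveI := hirr
  obtain ⟨c, hc⟩ := bdindep_scalar (ρ i)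
    ((LinearMap.proj i) ∘ₗ φ ∘ₗ (LinearMap.single F[G] (fun i => (ρ i).asModule) i))
  refine ⟨c, fun v => ?_⟩
  have hv : v = ∑ l, Pi.single l (v l) := (Finset.univ_sum_single v).symm
  conv_lhs => rw [hv]
  rw [map_sum, Finset.sum_apply]
  rw [Finset.sum_eq_single i]
  · exact hc (v i)
  · intro l _ hli
    have := bdindep_eq_zero (ρ l) (ρ i) (hne l i hli)
      ((LinearMap.proj i) ∘ₗ φ ∘ₗ (LinearMap.single F[G] (fun i => (ρ i).asModule) l))
    exact LinearMap.congr_fun this (v l)
  · intro h; exact absurd (Finset.mem_univ i) h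

/-- density: every tuple `(0, …, T, …, 0)` is realised by an element of the group algebra -/
theorem bdindep_density [IsAlgClosed F] {m : ℕ} (V : Fin m → Type v) [∀ i, AddCommGroup (V i)]
    [∀ i, Module F (V i)] [∀ i, FiniteDimensional F (V i)] (ρ : ∀ i, Representation F G (V i))
    (hirr : ∀ i, (ρ i).IsIrreducible) (hne : ∀ i j, i ≠ j → ¬ IsIso (ρ i) (ρ j))
    (j : Fin m) (T : V j →ₗ[F] V j) :
    ∃ r : F[G], (ρ j).asAlgebraHom r = T ∧ ∀ i, i ≠ j → (ρ i).asAlgebraHom r = 0 := by
  classical
  haveI := hirr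
  choose c hc using fun φ i => bdindep_diag V ρ hirr hne φ i
  let T' : (ρ j).asModule →ₗ[F] (ρ j).asModule :=
    ((ρ j).asModuleEquiv.symm : V j →ₗ[F] (ρ j).asModule) ∘ₗ T ∘ₗ
      ((ρ j).asModuleEquiv : (ρ j).asModule →ₗ[F] V j)
  have hT' : ∀ w, T' w = (ρ j).asModuleEquiv.symm (T ((ρ j).asModuleEquiv w)) := fun w => rfl
  let f : Module.End (Module.End F[G] (Π i, (ρ i).asModule)) (Π i, (ρ i).asModule) :=
    { toFun := fun v => Pi.single j (T' (v j))
      map_add' := by
        intro v w
        rw [Pi.add_apply, map_add, Pi.single_add]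
      map_smul' := by
        intro φ v
        rw [RingHom.id_apply, Module.End.smul_def, Module.End.smul_def]
        funext i
        rw [hc φ i, hc φ j, map_smul]
        by_cases hij : i = j
        · subst hij
          rw [Pi.single_eq_same, Pi.single_eq_same]
        · rw [Pi.single_eq_of_ne hij, Pi.single_eq_of_ne hij, smul_zero] }
  have hf : ∀ v, f v = Pi.single j (T' (v j)) := fun v => rfl
  let b : ∀ i, Module.Basis (Fin (Module.finrank F (V i))) F (V i) := fun i => Module.finBasis F (V i)
  let e : ∀ i, V i → (Π i, (ρ i).asModule) := fun i w => Pi.single i ((ρ i).asModuleEquiv.symm w)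
  let s : Finset (Π i, (ρ i).asModule) :=
    Finset.univ.image (fun x : Σ i, Fin (Module.finrank F (V i)) => e x.1 (b x.1 x.2))
  obtain ⟨r, hr⟩ := jacobson_density f s
  have key : ∀ i (k : Fin (Module.finrank F (V i))),
      (ρ i).asAlgebraHom r (b i k) = (ρ i).asModuleEquiv ((f (e i (b i k))) i) := by
    intro i k
    have hmem : e i (b i k) ∈ s :=
      Finset.mem_image.mpr ⟨⟨i, k⟩, Finset.mem_univ _, rfl⟩
    have h1 := congrFun (hr _ hmem) i
    rw [h1, Pi.smul_apply]
    show _ = (ρ i).asModuleEquiv (r • (Pi.single i ((ρ i).asModuleEquiv.symm (b i k)) :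
      Π i, (ρ i).asModule) i)
    rw [Pi.single_eq_same, Representation.asModuleEquiv_map_smul, LinearEquiv.apply_symm_apply]
  refine ⟨r, ?_, ?_⟩
  · refine (b j).ext fun k => ?_
    rw [key j k, hf]
    show (ρ j).asModuleEquiv ((Pi.single j (T' ((Pi.single j ((ρ j).asModuleEquiv.symm (b j k)) :
      Π i, (ρ i).asModule) j)) : Π i, (ρ i).asModule) j) = _
    rw [Pi.single_eq_same, Pi.single_eq_same, hT', LinearEquiv.apply_symm_apply,
      LinearEquiv.apply_symm_apply]
  · intro i hij
    refine (b i).ext fun k => ?_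
    rw [key i k, hf]
    show (ρ i).asModuleEquiv ((Pi.single j (T' ((e i (b i k)) j)) : Π i, (ρ i).asModule) i) = _
    rw [Pi.single_eq_of_ne hij, map_zero, LinearMap.zero_apply]

/-- INDEP : trace functions of pairwise non-isomorphic irreducible representations are linearly independent -/
theorem trace_linearIndependent [IsAlgClosed F] {m : ℕ} (V : Fin m → Type v) [∀ i, AddCommGroup (V i)]
    [∀ i, Module F (V i)] [∀ i, FiniteDimensional F (V i)] (ρ : ∀ i, Representation F G (V i))
    (hirr : ∀ i, (ρ i).IsIrreducible) (hne : ∀ i j, i ≠ j → ¬ IsIso (ρ i) (ρ j)) :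
    LinearIndependent F (fun i => (fun g : G => LinearMap.trace F (V i) (ρ i g))) := by
  classical
  rw [Fintype.linearIndependent_iff]
  intro a ha j
  haveI := hirr j
  haveI : Nontrivial (V j) :=
    (IsSimpleModule.nontrivial F[G] (ρ j).asModule : Nontrivial (ρ j).asModule)
  let b := Module.finBasis F (V j)
  have hpos : 0 < Module.finrank F (V j) := Module.finrank_pos
  let k0 : Fin (Module.finrank F (V j)) := ⟨0, hpos⟩
  let T : V j →ₗ[F] V j := (b.coord k0).smulRight (b k0)
  have hT : LinearMap.trace F (V j) T = 1 := by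
    rw [LinearMap.trace_smulRight, Module.Basis.coord_apply, Module.Basis.repr_self,
      Finsupp.single_eq_same]
  obtain ⟨r, hrj, hri⟩ := bdindep_density V ρ hirr hne j T
  have hexp : ∀ i, (ρ i).asAlgebraHom r = ∑ g, r.coeff g • ρ i g := by
    intro i
    rw [Representation.asAlgebraHom_def, MonoidAlgebra.lift_apply]
    exact Finsupp.sum_fintype _ _ (fun g => zero_smul _ _)
  have h0 : ∀ g, ∑ i, a i * LinearMap.trace F (V i) (ρ i g) = 0 := by
    intro g
    have := congrFun ha g
    simpa [Finset.sum_apply, Pi.smul_apply] using this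
  have h1 : ∑ i, a i * LinearMap.trace F (V i) ((ρ i).asAlgebraHom r) = 0 := by
    simp_rw [hexp, map_sum, map_smul, smul_eq_mul, Finset.mul_sum]
    rw [Finset.sum_comm]
    refine Finset.sum_eq_zero fun g _ => ?_
    have h2 : ∑ i, a i * (r.coeff g * LinearMap.trace F (V i) (ρ i g)) =
        r.coeff g * ∑ i, a i * LinearMap.trace F (V i) (ρ i g) := by
      rw [Finset.mul_sum]
      refine Finset.sum_congr rfl fun i _ => ?_
      ring
    rw [h2, h0 g, mul_zero]
  rw [Finset.sum_eq_single j] at h1
  · rw [hrj, hT, mul_one] at h1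
    exact h1
  · intro i _ hij
    rw [hri i hij, map_zero, mul_zero]
  · intro h
    exact absurd (Finset.mem_univ j) h

end E1

end Cfsg.Agent.Lib.helper7.BD
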