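import Mathlib
import Cfsg.Agent.Lib.helper7.BD.Defs

/-!
# BD-LOC : `local_of_generated`
-/

set_option autoImplicit false
set_option linter.unusedVariables false
set_option linter.unusedSectionVars false
set_option linter.style.haveILetI false

namespace Cfsg.Agent.Lib.helper7.BD

universe u v w

section D
variable {F : Type*} [Field F]

/-- an `H`-map into a module on which `x` acts trivially kills `(ρ x - 1)^i y` for `i ≥ 1` -/
theorem bdloc_kill {H : Type u} [Group H] (x : H) {Y : Type v} [AddCommGroup Y] [Module F Y]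
    (ρ : Representation F H Y) {S : Type w} [AddCommGroup S] [Module F S] (σ : Representation F H S)
    (hx : σ x = LinearMap.id) (g : Y →ₗ[F] S) (hg : IsHom ρ σ g) (i : ℕ) (y : Y) :
    g (((ρ x - 1) ^ (i + 1)) y) = 0 := by
  rw [pow_succ', Module.End.mul_apply, LinearMap.sub_apply, Module.End.one_apply, map_sub,
    hg.apply, hx, LinearMap.id_apply, sub_self]

/-- if `g` is nonzero on the `F⟨x⟩`-span of `S₀` it is nonzero on `S₀` -/
theorem bdloc_ne_on {H : Type u} [Group H] (x : H) {Y : Type v} [AddCommGroup Y] [Module F Y]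
    (ρ : Representation F H Y) (S₀ : Submodule F Y) (n : ℕ)
    {S : Type w} [AddCommGroup S] [Module F S] (σ : Representation F H S)
    (hx : σ x = LinearMap.id) (g : Y →ₗ[F] S) (hg : IsHom ρ σ g)
    (h : ∃ y ∈ (⨆ i : Fin (n + 1), S₀.map ((ρ x - 1) ^ (i : ℕ))), g y ≠ 0) :
    ∃ s ∈ S₀, g s ≠ 0 := by
  by_contra hcon
  push Not at hcon
  obtain ⟨y, hy, hgy⟩ := h
  apply hgy
  have hle : (⨆ i : Fin (n + 1), S₀.map ((ρ x - 1) ^ (i : ℕ))) ≤ LinearMap.ker g := by
    refine iSup_le fun i => ?_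
    rintro _ ⟨s, hs, rfl⟩
    rw [LinearMap.mem_ker]
    rcases Nat.eq_zero_or_pos (i : ℕ) with h0 | hpos
    · rw [h0, pow_zero, Module.End.one_apply]
      exact hcon s hs
    · obtain ⟨k, hk⟩ : ∃ k, (i : ℕ) = k + 1 := ⟨(i : ℕ) - 1, by omega⟩
      rw [hk]
      exact bdloc_kill x ρ σ hx g hg k s
  exact LinearMap.mem_ker.mp (hle hy)

/-- `σ h = σ l` when `h = x ^ k * l` and `x` acts trivially -/
theorem bdloc_sigma {H : Type u} [Group H] (x : H) {S : Type w} [AddCommGroup S] [Module F S]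
    (σ : Representation F H S) (hx : σ x = LinearMap.id) (k : ℕ) (l : H) :
    σ (x ^ k * l) = σ l := by
  rw [map_mul, map_pow, hx]
  have : (LinearMap.id : S →ₗ[F] S) = 1 := rfl
  rw [this, one_pow, one_mul]

/-- the restriction of `g` to the atom `S₀` is a linear equivalence onto `S` -/
theorem bdloc_equiv {H : Type u} [Group H] {p : ℕ} (x : H) (L : Subgroup H) (hs : LocalSetup p x L)
    {Y : Type v} [AddCommGroup Y] [Module F Y] (ρ : Representation F H Y)
    (S₀ : Subrepresentation (ρ.comp L.subtype)) (hS₀ : IsAtom S₀)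
    {S : Type w} [AddCommGroup S] [Module F S] (σ : Representation F H S) [σ.IsIrreducible]
    (hx : σ x = LinearMap.id) (g : Y →ₗ[F] S) (hg : IsHom ρ σ g)
    (h : ∃ s ∈ S₀.toSubmodule, g s ≠ 0) :
    ∃ e : S₀.toSubmodule ≃ₗ[F] S, ∀ s : S₀.toSubmodule, e s = g s := by
  obtain ⟨s, hsS, hgs⟩ := h
  -- injectivity
  let K : Subrepresentation (ρ.comp L.subtype) :=
    { toSubmodule := S₀.toSubmodule ⊓ LinearMap.ker g
      apply_mem_toSubmodule := fun l y hy => by
        refine ⟨S₀.apply_mem_toSubmodule l hy.1, ?_⟩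
        have h0 : g (ρ (l : H) y) = 0 := by
          rw [hg.apply, LinearMap.mem_ker.mp hy.2, map_zero]
        exact LinearMap.mem_ker.mpr h0 }
  have hKle : K ≤ S₀ := fun y hy => hy.1
  have hKne : K ≠ S₀ := by
    intro hKS
    apply hgs
    have : s ∈ K := by rw [hKS]; exact hsS
    exact LinearMap.mem_ker.mp this.2
  have hKbot : K = ⊥ := (hS₀.le_iff.mp hKle).resolve_right hKne
  have hinj : ∀ t ∈ S₀.toSubmodule, g t = 0 → t = 0 := by
    intro t ht h0
    have : t ∈ K := ⟨ht, LinearMap.mem_ker.mpr h0⟩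
    rw [hKbot] at this
    exact this
  -- surjectivity
  let R : Subrepresentation σ :=
    { toSubmodule := S₀.toSubmodule.map g
      apply_mem_toSubmodule := fun h w hw => by
        obtain ⟨t, ht, rfl⟩ := hw
        obtain ⟨k, l, hl, rfl⟩ := hs.gen h
        rw [bdloc_sigma x σ hx k l, ← hg.apply]
        exact ⟨ρ l t, S₀.apply_mem_toSubmodule ⟨l, hl⟩ ht, rfl⟩ }
  have hRne : R ≠ ⊥ := by
    intro hR
    apply hgs
    have : g s ∈ R := ⟨s, hsS, rfl⟩
    rw [hR] at this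
    exact this
  have hRtop : R = ⊤ := (eq_bot_or_eq_top R).resolve_left hRne
  have hsurj : ∀ w : S, ∃ t ∈ S₀.toSubmodule, g t = w := by
    intro w
    have : w ∈ R := by rw [hRtop]; trivial
    exact this
  let gr : S₀.toSubmodule →ₗ[F] S := g ∘ₗ S₀.toSubmodule.subtype
  have hbij : Function.Bijective gr := by
    constructor
    · rw [← LinearMap.ker_eq_bot, LinearMap.ker_eq_bot']
      intro t ht
      exact Subtype.ext (hinj t.1 t.2 ht)
    · intro w
      obtain ⟨t, ht, rfl⟩ := hsurj w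
      exact ⟨⟨t, ht⟩, rfl⟩
  exact ⟨LinearEquiv.ofBijective gr hbij, fun t => rfl⟩

/-- LOC -/
theorem local_of_generated {H : Type u} [Group H] {p : ℕ} (x : H) (L : Subgroup H) (hs : LocalSetup p x L)
    {Y : Type v} [AddCommGroup Y] [Module F Y] (ρ : Representation F H Y)
    (S₀ : Subrepresentation (ρ.comp L.subtype)) (hS₀ : IsAtom S₀) (n : ℕ)
    {S' : Type w} [AddCommGroup S'] [Module F S'] {S'' : Type w} [AddCommGroup S''] [Module F S'']
    (σ' : Representation F H S') (σ'' : Representation F H S'') [σ'.IsIrreducible] [σ''.IsIrreducible]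
    (hx' : σ' x = LinearMap.id) (hx'' : σ'' x = LinearMap.id)
    (g' : Y →ₗ[F] S') (g'' : Y →ₗ[F] S'') (hg' : IsHom ρ σ' g') (hg'' : IsHom ρ σ'' g'')
    (h' : ∃ y ∈ (⨆ i : Fin (n + 1), S₀.toSubmodule.map ((ρ x - 1) ^ (i : ℕ))), g' y ≠ 0)
    (h'' : ∃ y ∈ (⨆ i : Fin (n + 1), S₀.toSubmodule.map ((ρ x - 1) ^ (i : ℕ))), g'' y ≠ 0) :
    IsIso σ' σ'' := by
  obtain ⟨e', he'⟩ := bdloc_equiv x L hs ρ S₀ hS₀ σ' hx' g' hg'
    (bdloc_ne_on x ρ S₀.toSubmodule n σ' hx' g' hg' h')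
  obtain ⟨e'', he''⟩ := bdloc_equiv x L hs ρ S₀ hS₀ σ'' hx'' g'' hg''
    (bdloc_ne_on x ρ S₀.toSubmodule n σ'' hx'' g'' hg'' h'')
  refine ⟨e'.symm.trans e'', fun h => LinearMap.ext fun w => ?_⟩
  obtain ⟨t, rfl⟩ := e'.surjective w
  obtain ⟨k, l, hl, rfl⟩ := hs.gen h
  rw [bdloc_sigma x σ' hx' k l, bdloc_sigma x σ'' hx'' k l]
  simp only [LinearMap.comp_apply, LinearEquiv.coe_coe, LinearEquiv.trans_apply,
    LinearEquiv.symm_apply_apply]
  have hmem : ρ l (t : Y) ∈ S₀.toSubmodule := S₀.apply_mem_toSubmodule ⟨l, hl⟩ t.2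
  have h1 : σ' l (e' t) = e' ⟨ρ l (t : Y), hmem⟩ := by
    rw [he', he', ← hg'.apply]
  rw [h1, LinearEquiv.symm_apply_apply, he'', he'', ← hg''.apply]

end D

end Cfsg.Agent.Lib.helper7.BD
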