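import Mathlib

/-!
# Project BD, stage B, wave 2/3, piece COMB0 : `nonconst_row_ineq`

For a non-constant integer vector `x` of length `t` : `t - 1 ≤ t ∑ x_j² - (∑ x_j)²`.
-/

set_option autoImplicit false
set_option linter.unusedVariables false
set_option linter.unusedSectionVars false
set_option linter.style.haveILetI false

namespace Cfsg.Agent.Lib.helper7.BD

theorem bd3comb0_sq_ge_one (z : ℤ) (hz : z ≠ 0) : 1 ≤ z ^ 2 := by
  have : 0 < z ^ 2 := by positivity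
  omega

/-- the sum of all squared differences -/
theorem bd3comb0_double_sum {t : ℕ} (x : Fin t → ℤ) :
    ∑ j, ∑ j', (x j - x j') ^ 2 = 2 * ((t : ℤ) * ∑ j, x j ^ 2 - (∑ j, x j) ^ 2) := by
  have h1 : ∀ j, ∑ j', (x j - x j') ^ 2 = (t : ℤ) * x j ^ 2 - 2 * x j * ∑ j', x j' + ∑ j', x j' ^ 2 := by
    intro j
    simp only [sub_sq, Finset.sum_add_distrib, Finset.sum_sub_distrib, Finset.sum_const,
      Finset.card_univ, Fintype.card_fin, nsmul_eq_mul, ← Finset.mul_sum]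
  simp only [h1, Finset.sum_add_distrib, Finset.sum_sub_distrib, Finset.sum_const,
    Finset.card_univ, Fintype.card_fin, nsmul_eq_mul, ← Finset.mul_sum, ← Finset.sum_mul]
  ring

/-- COMB0 : a non-constant integer vector -/
theorem nonconst_row_ineq {t : ℕ} (x : Fin t → ℤ) (j₀ j₁ : Fin t) (hx : x j₀ ≠ x j₁) :
    (t : ℤ) - 1 ≤ (t : ℤ) * ∑ j, x j ^ 2 - (∑ j, x j) ^ 2 := by
  have hne : j₀ ≠ j₁ := fun h => hx (by rw [h])
  have hf : ∀ j, 1 ≤ (x j - x j₀) ^ 2 + (x j - x j₁) ^ 2 := by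
    intro j
    by_cases h : x j = x j₀
    · have : x j - x j₁ ≠ 0 := by
        rw [h]
        exact sub_ne_zero.mpr hx
      have := bd3comb0_sq_ge_one _ this
      nlinarith [sq_nonneg (x j - x j₀)]
    · have : x j - x j₀ ≠ 0 := sub_ne_zero.mpr h
      have := bd3comb0_sq_ge_one _ this
      nlinarith [sq_nonneg (x j - x j₁)]
  set R : Fin t → ℤ := fun j => ∑ j', (x j - x j') ^ 2 with hR
  have hRf : ∀ j, (x j - x j₀) ^ 2 + (x j - x j₁) ^ 2 ≤ R j := by
    intro j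
    exact Finset.add_le_sum (f := fun j' => (x j - x j') ^ 2) (fun i _ => sq_nonneg _)
      (Finset.mem_univ j₀) (Finset.mem_univ j₁) hne
  have hR1 : ∀ j, 0 ≤ R j - 1 := fun j => by linarith [hRf j, hf j]
  have hsum01 : R j₀ + R j₁ = ∑ j, ((x j - x j₀) ^ 2 + (x j - x j₁) ^ 2) := by
    rw [Finset.sum_add_distrib]
    congr 1
    · exact Finset.sum_congr rfl fun j _ => sub_sq_comm _ _
    · exact Finset.sum_congr rfl fun j _ => sub_sq_comm _ _
  have h01 : (t : ℤ) ≤ R j₀ + R j₁ := by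
    rw [hsum01]
    calc (t : ℤ) = ∑ _j : Fin t, (1 : ℤ) := by simp
      _ ≤ _ := Finset.sum_le_sum fun j _ => hf j
  have h2 : (R j₀ - 1) + (R j₁ - 1) ≤ ∑ j, (R j - 1) :=
    Finset.add_le_sum (f := fun j => R j - 1) (fun i _ => hR1 i)
      (Finset.mem_univ j₀) (Finset.mem_univ j₁) hne
  have h3 : ∑ j, (R j - 1) = ∑ j, R j - (t : ℤ) := by
    rw [Finset.sum_sub_distrib]
    simp
  have h4 := bd3comb0_double_sum x
  have h5 : ∑ j, R j = 2 * ((t : ℤ) * ∑ j, x j ^ 2 - (∑ j, x j) ^ 2) := h4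
  linarith

end Cfsg.Agent.Lib.helper7.BD
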