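import Mathlib
import Cfsg.Agent.Lib.Lead.BD3COMB0

/-!
# Project BD, stage B, wave 2/3, piece COMB : `comb_main`

Integer matrices with Gram matrix `I + e J` (columns), nonzero rows and at least `e + t` rows:
there are exactly `e + t` rows, `e` of them constant `± (1, …, 1)` and `t` of them unit vectors
`± e_j`.
-/

set_option autoImplicit false
set_option linter.unusedVariables false
set_option linter.unusedSectionVars false
set_option linter.style.haveILetI false

namespace Cfsg.Agent.Lib.helper7.BD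

theorem bd3comb_sq_eq_one (z : ℤ) (h : z ^ 2 = 1) : z = 1 ∨ z = -1 := by
  have h1 : (z - 1) * (z + 1) = 0 := by
    have : (z - 1) * (z + 1) = z ^ 2 - 1 := by ring
    rw [this, h, sub_self]
  rcases mul_eq_zero.mp h1 with h2 | h2
  · left
    linarith
  · right
    linarith

/-- a sum of nonnegative integers equal to one has exactly one nonzero term -/
theorem bd3comb_unique {I : Type*} [DecidableEq I] (s : Finset I) (f : I → ℤ)
    (h0 : ∀ i ∈ s, 0 ≤ f i) (h1 : ∑ i ∈ s, f i = 1) :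
    ∃ i ∈ s, f i = 1 ∧ ∀ i' ∈ s, i' ≠ i → f i' = 0 := by
  have hex : ∃ i ∈ s, f i ≠ 0 := by
    by_contra hcon
    push Not at hcon
    rw [Finset.sum_eq_zero hcon] at h1
    exact zero_ne_one h1
  obtain ⟨i, hi, hfi⟩ := hex
  have hpos : 1 ≤ f i := by
    have := h0 i hi
    omega
  have hsplit : f i + ∑ i' ∈ s.erase i, f i' = 1 := by
    rw [Finset.add_sum_erase s f hi, h1]
  have hrest : 0 ≤ ∑ i' ∈ s.erase i, f i' :=
    Finset.sum_nonneg fun i' hi' => h0 i' (Finset.mem_of_mem_erase hi')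
  have hfi1 : f i = 1 := by linarith
  have hrest0 : ∑ i' ∈ s.erase i, f i' = 0 := by linarith
  refine ⟨i, hi, hfi1, fun i' hi' hne => ?_⟩
  exact (Finset.sum_eq_zero_iff_of_nonneg
    (fun k hk => h0 k (Finset.mem_of_mem_erase hk))).mp hrest0 i' (Finset.mem_erase.mpr ⟨hne, hi'⟩)

/-- the sign function used in `comb_main` -/
noncomputable def bd3comb_eps {I : Type*} {t : ℕ} (c : I → Fin t → ℤ) (i : I) : ℤ := by
  classical
  exact if ∃ j, c i j = 1 then 1 else -1

theorem bd3comb_eps_or {I : Type*} {t : ℕ} (c : I → Fin t → ℤ) (i : I) :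
    bd3comb_eps c i = 1 ∨ bd3comb_eps c i = -1 := by
  classical
  unfold bd3comb_eps
  split_ifs
  · left; rfl
  · right; rfl

/-- if an entry of the row is `±1` and all entries are `0` or equal to it, the entry is the sign -/
theorem bd3comb_eps_eq {I : Type*} {t : ℕ} (c : I → Fin t → ℤ) (i : I) (j : Fin t)
    (h1 : c i j ^ 2 = 1) (h2 : ∀ j', c i j' = c i j ∨ c i j' = 0) : c i j = bd3comb_eps c i := by
  classical
  unfold bd3comb_eps
  rcases bd3comb_sq_eq_one _ h1 with h | h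
  · rw [if_pos ⟨j, h⟩, h]
  · rw [if_neg, h]
    rintro ⟨j', hj'⟩
    rcases h2 j' with h3 | h3
    · rw [h3, h] at hj'
      omega
    · rw [h3] at hj'
      omega

section sums

variable {I : Type*} [Fintype I] [DecidableEq I] (e t : ℕ) (c : I → Fin t → ℤ)

theorem bd3comb_sum_sq (hgram : ∀ j j' : Fin t, ∑ i, c i j * c i j' = (if j = j' then 1 else 0) + (e : ℤ)) :
    ∑ i, ∑ j, c i j ^ 2 = (t : ℤ) * (1 + e) := by
  rw [Finset.sum_comm]
  have : ∀ j : Fin t, ∑ i, c i j ^ 2 = 1 + (e : ℤ) := by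
    intro j
    have := hgram j j
    rw [if_pos rfl] at this
    rw [← this]
    exact Finset.sum_congr rfl fun i _ => sq _
  simp only [this, Finset.sum_const, Finset.card_univ, Fintype.card_fin, nsmul_eq_mul]

theorem bd3comb_sum_usq (hgram : ∀ j j' : Fin t, ∑ i, c i j * c i j' = (if j = j' then 1 else 0) + (e : ℤ)) :
    ∑ i, (∑ j, c i j) ^ 2 = (t : ℤ) + (e : ℤ) * (t : ℤ) ^ 2 := by
  have h1 : ∀ i, (∑ j, c i j) ^ 2 = ∑ j, ∑ j', c i j * c i j' := by
    intro i
    rw [sq, Finset.sum_mul_sum]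
  simp only [h1]
  rw [Finset.sum_comm]
  have h2 : ∀ j : Fin t, ∑ i, ∑ j', c i j * c i j' = 1 + (t : ℤ) * (e : ℤ) := by
    intro j
    rw [Finset.sum_comm]
    simp only [hgram, Finset.sum_add_distrib, Finset.sum_ite_eq, Finset.mem_univ, if_true,
      Finset.sum_const, Finset.card_univ, Fintype.card_fin, nsmul_eq_mul]
  simp only [h2, Finset.sum_const, Finset.card_univ, Fintype.card_fin, nsmul_eq_mul]
  ring

end sums

section main

variable {I : Type*} [Fintype I] [DecidableEq I]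

/-- the case `t = 1` -/
theorem bd3comb_one (e : ℕ) (he : 1 ≤ e) (c : I → Fin 1 → ℤ)
    (hgram : ∀ j j' : Fin 1, ∑ i, c i j * c i j' = (if j = j' then 1 else 0) + (e : ℤ))
    (hrow : ∀ i, ∃ j, c i j ≠ 0) (hcard : e + 1 ≤ Fintype.card I) :
    Fintype.card I = e + 1 ∧
    ∃ (X : Finset I) (y : Fin 1 → I) (ε : I → ℤ),
      X.card = e ∧ Function.Injective y ∧ (∀ j, y j ∉ X) ∧ (∀ i, i ∈ X ∨ ∃ j, y j = i) ∧
      (∀ i, ε i = 1 ∨ ε i = -1) ∧ (∀ i ∈ X, ∀ j, c i j = ε i) ∧
      ∀ j j', c (y j) j' = if j = j' then ε (y j) else 0 := by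
  have hnz : ∀ i, c i 0 ≠ 0 := by
    intro i
    obtain ⟨j, hj⟩ := hrow i
    rwa [Subsingleton.elim j 0] at hj
  have hsq : ∀ i, 1 ≤ c i 0 ^ 2 := fun i => bd3comb0_sq_ge_one _ (hnz i)
  have hsum : ∑ i, c i 0 ^ 2 = 1 + (e : ℤ) := by
    have := hgram 0 0
    rw [if_pos rfl] at this
    rw [← this]
    exact Finset.sum_congr rfl fun i _ => sq _
  have hle : (Fintype.card I : ℤ) ≤ 1 + (e : ℤ) := by
    rw [← hsum]
    calc (Fintype.card I : ℤ) = ∑ _i : I, (1 : ℤ) := by simp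
      _ ≤ _ := Finset.sum_le_sum fun i _ => hsq i
  have hcardI : Fintype.card I = e + 1 := by omega
  have hall : ∀ i, c i 0 ^ 2 = 1 := by
    have h0 : ∑ i, (c i 0 ^ 2 - 1) = 0 := by
      rw [Finset.sum_sub_distrib, hsum]
      simp only [Finset.sum_const, Finset.card_univ, nsmul_eq_mul, mul_one, hcardI]
      push_cast
      ring
    intro i
    have := (Finset.sum_eq_zero_iff_of_nonneg (fun k _ => by linarith [hsq k])).mp h0 i
      (Finset.mem_univ i)
    linarith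
  have hne : Nonempty I := by
    rw [← Fintype.card_pos_iff]
    omega
  obtain ⟨i₀⟩ := hne
  have heq : ∀ i (j : Fin 1), c i j = bd3comb_eps c i := by
    intro i j
    rw [Subsingleton.elim j 0]
    exact bd3comb_eps_eq c i 0 (hall i) (fun j' => Or.inl (by rw [Subsingleton.elim j' 0]))
  refine ⟨hcardI, Finset.univ.erase i₀, fun _ => i₀, bd3comb_eps c, ?_, ?_, ?_, ?_, ?_, ?_, ?_⟩
  · rw [Finset.card_erase_of_mem (Finset.mem_univ _), Finset.card_univ, hcardI]
    rfl
  · intro a b _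
    exact Subsingleton.elim a b
  · intro j
    exact Finset.notMem_erase _ _
  · intro i
    by_cases h : i = i₀
    · right
      exact ⟨0, h.symm⟩
    · left
      exact Finset.mem_erase.mpr ⟨h, Finset.mem_univ _⟩
  · exact bd3comb_eps_or c
  · intro i _ j
    exact heq i j
  · intro j j'
    rw [if_pos (Subsingleton.elim j j')]
    exact heq i₀ j'

/-- the case `t ≥ 2` -/
theorem bd3comb_two (e t : ℕ) (he : 1 ≤ e) (ht : 2 ≤ t)
    (c : I → Fin t → ℤ)
    (hgram : ∀ j j' : Fin t, ∑ i, c i j * c i j' = (if j = j' then 1 else 0) + (e : ℤ))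
    (hrow : ∀ i, ∃ j, c i j ≠ 0) (hcard : e + t ≤ Fintype.card I) :
    Fintype.card I = e + t ∧
    ∃ (X : Finset I) (y : Fin t → I) (ε : I → ℤ),
      X.card = e ∧ Function.Injective y ∧ (∀ j, y j ∉ X) ∧ (∀ i, i ∈ X ∨ ∃ j, y j = i) ∧
      (∀ i, ε i = 1 ∨ ε i = -1) ∧ (∀ i ∈ X, ∀ j, c i j = ε i) ∧
      ∀ j j', c (y j) j' = if j = j' then ε (y j) else 0 := by
  classical
  have j0 : Fin t := ⟨0, by omega⟩
  have htZ : (2 : ℤ) ≤ (t : ℤ) := by exact_mod_cast ht
  have heZ : (1 : ℤ) ≤ (e : ℤ) := by exact_mod_cast he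
  -- constant rows
  set Xc : Finset I := Finset.univ.filter (fun i => ∀ j j', c i j = c i j') with hXc
  set NC : Finset I := Finset.univ.filter (fun i => ¬ ∀ j j', c i j = c i j') with hNC
  have hcardsum : Xc.card + NC.card = Fintype.card I := by
    rw [hXc, hNC, Finset.card_filter_add_card_filter_not, Finset.card_univ]
  have hconst : ∀ i ∈ Xc, ∀ j, c i j = c i j0 := fun i hi j => (Finset.mem_filter.mp hi).2 j j0
  have hconst0 : ∀ i ∈ Xc, c i j0 ≠ 0 := by
    intro i hi h0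
    obtain ⟨j, hj⟩ := hrow i
    rw [hconst i hi j] at hj
    exact hj h0
  set D : I → ℤ := fun i => (t : ℤ) * ∑ j, c i j ^ 2 - (∑ j, c i j) ^ 2 with hD
  have hDX : ∀ i ∈ Xc, D i = 0 := by
    intro i hi
    simp only [hD, hconst i hi, Finset.sum_const, Finset.card_univ, Fintype.card_fin, nsmul_eq_mul]
    ring
  have hDN : ∀ i ∈ NC, (t : ℤ) - 1 ≤ D i := by
    intro i hi
    have := (Finset.mem_filter.mp hi).2
    push Not at this
    obtain ⟨j₀, j₁, hne⟩ := this
    exact nonconst_row_ineq (c i) j₀ j₁ hne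
  have hDsum : ∑ i, D i = (t : ℤ) ^ 2 - (t : ℤ) := by
    simp only [hD, Finset.sum_sub_distrib, ← Finset.mul_sum]
    rw [bd3comb_sum_sq e t c hgram, bd3comb_sum_usq e t c hgram]
    ring
  have hsplit : ∀ f : I → ℤ, ∑ i, f i = ∑ i ∈ Xc, f i + ∑ i ∈ NC, f i := by
    intro f
    rw [hXc, hNC, Finset.sum_filter_add_sum_filter_not]
  -- at most `t` non-constant rows
  have hn2 : NC.card ≤ t := by
    have h1 : ∑ i ∈ NC, D i = (t : ℤ) ^ 2 - (t : ℤ) := by
      rw [← hDsum, hsplit D, Finset.sum_eq_zero hDX, zero_add]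
    have h2 : (NC.card : ℤ) * ((t : ℤ) - 1) ≤ ∑ i ∈ NC, D i := by
      calc (NC.card : ℤ) * ((t : ℤ) - 1) = ∑ _i ∈ NC, ((t : ℤ) - 1) := by
            rw [Finset.sum_const, nsmul_eq_mul]
        _ ≤ _ := Finset.sum_le_sum hDN
    rw [h1] at h2
    have h3 : (NC.card : ℤ) * ((t : ℤ) - 1) ≤ (t : ℤ) * ((t : ℤ) - 1) := by
      have : (t : ℤ) ^ 2 - (t : ℤ) = (t : ℤ) * ((t : ℤ) - 1) := by ring
      rwa [this] at h2
    have h4 : (NC.card : ℤ) ≤ (t : ℤ) := le_of_mul_le_mul_right h3 (by linarith)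
    exact_mod_cast h4
  -- the constant rows
  have hUX : ∑ i ∈ Xc, (∑ j, c i j) ^ 2 = (t : ℤ) ^ 2 * ∑ i ∈ Xc, c i j0 ^ 2 := by
    rw [Finset.mul_sum]
    refine Finset.sum_congr rfl fun i hi => ?_
    simp only [hconst i hi, Finset.sum_const, Finset.card_univ, Fintype.card_fin, nsmul_eq_mul]
    ring
  have hUle : ∑ i ∈ Xc, (∑ j, c i j) ^ 2 ≤ (t : ℤ) + (e : ℤ) * (t : ℤ) ^ 2 := by
    rw [← bd3comb_sum_usq e t c hgram, hsplit (fun i => (∑ j, c i j) ^ 2)]
    have : 0 ≤ ∑ i ∈ NC, (∑ j, c i j) ^ 2 := Finset.sum_nonneg fun i _ => sq_nonneg _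
    linarith
  have hAle : ∑ i ∈ Xc, c i j0 ^ 2 ≤ (e : ℤ) := by
    rw [hUX] at hUle
    by_contra hcon
    push Not at hcon
    have h1 : (e : ℤ) + 1 ≤ ∑ i ∈ Xc, c i j0 ^ 2 := hcon
    have h2 : (t : ℤ) ^ 2 * ((e : ℤ) + 1) ≤ (t : ℤ) ^ 2 * ∑ i ∈ Xc, c i j0 ^ 2 :=
      mul_le_mul_of_nonneg_left h1 (sq_nonneg _)
    nlinarith
  have hAge : ∀ i ∈ Xc, 1 ≤ c i j0 ^ 2 := fun i hi => bd3comb0_sq_ge_one _ (hconst0 i hi)
  have hn1' : (Xc.card : ℤ) ≤ ∑ i ∈ Xc, c i j0 ^ 2 := by
    calc (Xc.card : ℤ) = ∑ _i ∈ Xc, (1 : ℤ) := by simp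
      _ ≤ _ := Finset.sum_le_sum hAge
  have hn1 : Xc.card ≤ e := by
    have : (Xc.card : ℤ) ≤ (e : ℤ) := le_trans hn1' hAle
    exact_mod_cast this
  have hXcard : Xc.card = e := by omega
  have hNcard : NC.card = t := by omega
  have hIcard : Fintype.card I = e + t := by omega
  have hA1 : ∀ i ∈ Xc, c i j0 ^ 2 = 1 := by
    have h0 : ∑ i ∈ Xc, (c i j0 ^ 2 - 1) = 0 := by
      rw [Finset.sum_sub_distrib]
      simp only [Finset.sum_const, nsmul_eq_mul, mul_one]
      rw [hXcard] at hn1' ⊢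
      linarith
    intro i hi
    have := (Finset.sum_eq_zero_iff_of_nonneg (fun k hk => by linarith [hAge k hk])).mp h0 i hi
    linarith
  -- the columns of the non-constant rows
  have hcol : ∀ j : Fin t, ∑ i ∈ NC, c i j ^ 2 = 1 := by
    intro j
    have h1 : ∑ i, c i j ^ 2 = 1 + (e : ℤ) := by
      have := hgram j j
      rw [if_pos rfl] at this
      rw [← this]
      exact Finset.sum_congr rfl fun i _ => sq _
    rw [hsplit (fun i => c i j ^ 2)] at h1
    have h2 : ∑ i ∈ Xc, c i j ^ 2 = (e : ℤ) := by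
      rw [← hXcard]
      calc ∑ i ∈ Xc, c i j ^ 2 = ∑ _i ∈ Xc, (1 : ℤ) :=
            Finset.sum_congr rfl fun i hi => by rw [hconst i hi j, hA1 i hi]
        _ = _ := by simp
    linarith
  have hex : ∀ j : Fin t, ∃ i ∈ NC, c i j ^ 2 = 1 ∧ ∀ i' ∈ NC, i' ≠ i → c i' j ^ 2 = 0 :=
    fun j => bd3comb_unique NC (fun i => c i j ^ 2) (fun i _ => sq_nonneg _) (hcol j)
  choose y hyN hy1 hyu using hex
  have hsurj : ∀ i ∈ NC, ∃ j, y j = i := by
    intro i hi
    obtain ⟨j, hj⟩ := hrow i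
    refine ⟨j, ?_⟩
    by_contra hne
    have := hyu j i hi (fun h => hne h.symm)
    exact hj ((pow_eq_zero_iff (two_ne_zero)).mp this)
  have himage : Finset.univ.image y = NC := by
    apply Finset.Subset.antisymm
    · intro i hi
      obtain ⟨j, _, rfl⟩ := Finset.mem_image.mp hi
      exact hyN j
    · intro i hi
      obtain ⟨j, rfl⟩ := hsurj i hi
      exact Finset.mem_image_of_mem _ (Finset.mem_univ _)
  have hinj : Function.Injective y := by
    have h1 : (Finset.univ.image y).card = (Finset.univ : Finset (Fin t)).card := by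
      rw [himage, hNcard, Finset.card_univ, Fintype.card_fin]
    have := Finset.card_image_iff.mp h1
    intro a b hab
    exact this (Finset.mem_coe.mpr (Finset.mem_univ a)) (Finset.mem_coe.mpr (Finset.mem_univ b)) hab
  have hoff : ∀ j j', j ≠ j' → c (y j) j' = 0 := by
    intro j j' hne
    have := hyu j' (y j) (hyN j) (fun h => hne (hinj h))
    exact (pow_eq_zero_iff (two_ne_zero)).mp this
  refine ⟨hIcard, Xc, y, bd3comb_eps c, hXcard, hinj, ?_, ?_, bd3comb_eps_or c, ?_, ?_⟩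
  · intro j hj
    exact (Finset.mem_filter.mp (hyN j)).2 (Finset.mem_filter.mp hj).2
  · intro i
    by_cases hi : ∀ j j', c i j = c i j'
    · left
      exact Finset.mem_filter.mpr ⟨Finset.mem_univ _, hi⟩
    · right
      exact hsurj i (Finset.mem_filter.mpr ⟨Finset.mem_univ _, hi⟩)
  · intro i hi j
    rw [hconst i hi j]
    exact bd3comb_eps_eq c i j0 (hA1 i hi) (fun j' => Or.inl (hconst i hi j'))
  · intro j j'
    by_cases h : j = j'
    · rw [if_pos h, ← h]
      refine bd3comb_eps_eq c (y j) j (hy1 j) (fun j'' => ?_)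
      by_cases h2 : j = j''
      · left
        rw [h2]
      · right
        exact hoff j j'' h2
    · rw [if_neg h]
      exact hoff j j' h

/-- COMB : integer matrices with Gram matrix `I + e J`, nonzero rows and at least `e + t` rows -/
theorem comb_main {I : Type*} [Fintype I] [DecidableEq I] (e t : ℕ) (he : 1 ≤ e) (ht : 1 ≤ t)
    (c : I → Fin t → ℤ)
    (hgram : ∀ j j' : Fin t, ∑ i, c i j * c i j' = (if j = j' then 1 else 0) + (e : ℤ))
    (hrow : ∀ i, ∃ j, c i j ≠ 0) (hcard : e + t ≤ Fintype.card I) :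
    Fintype.card I = e + t ∧
    ∃ (X : Finset I) (y : Fin t → I) (ε : I → ℤ),
      X.card = e ∧ Function.Injective y ∧ (∀ j, y j ∉ X) ∧ (∀ i, i ∈ X ∨ ∃ j, y j = i) ∧
      (∀ i, ε i = 1 ∨ ε i = -1) ∧ (∀ i ∈ X, ∀ j, c i j = ε i) ∧
      ∀ j j', c (y j) j' = if j = j' then ε (y j) else 0 := by
  rcases Nat.lt_or_ge t 2 with h | h
  · obtain rfl : t = 1 := by omega
    exact bd3comb_one e he c hgram hrow hcard
  · exact bd3comb_two e t he h c hgram hrow hcard

end main

end Cfsg.Agent.Lib.helper7.BD
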