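import Mathlib
import Cfsg.Agent.Lib.helper7.BD.Defs
import Cfsg.Agent.Lib.helper7.BD.D1Defs
import Cfsg.Agent.Lib.helper7.R1.Link
import Cfsg.Agent.Lib.helper7.Rob1
import Cfsg.Agent.Lib.Helper10.BDLINKB
import Cfsg.Agent.Lib.Helper1.BD2IDCJ
import Cfsg.Agent.Lib.Helper24.CyclicInertial3
import Cfsg.Agent.Lib.Helper25.BDTSTAB
import Cfsg.Agent.Lib.Helper13.BD2UNIQB

/-!
# Project BD, stage B, piece HISO : `root_twist_iso`

A minimal `C`-stable subspace `X` of the `b`-part of an `N`-module is isomorphic to its twist by an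
element `t₀` of `T` (the stabilizer of `b`): both `X` and its twist are simple `C`-modules on which
the block idempotent of `b` acts as the identity, and `b` has a unique simple module (UNIQB).
-/

set_option autoImplicit false
set_option linter.unusedVariables false
set_option linter.unusedSectionVars false
set_option linter.style.haveILetI false

namespace Cfsg.Agent.Lib.helper7.BD

open Cfsg.Agent.Lib.helper7 Cfsg.Agent.Lib.helper7.Br Cfsg.Agent.Lib.helper7.R1

universe u v w

section abstract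

variable {F : Type*} [Field F] {H : Type*} [Group H] {S : Type*} [AddCommGroup S] [Module F S]

/-- the restriction of `σ ∘ φ` to a stable subspace, as a representation of `K` -/
noncomputable def bd2hiso_res (σ : Representation F H S) {K : Type*} [Group K] (φ : K →* H)
    (X : Submodule F S) (hX : ∀ k : K, ∀ x ∈ X, σ (φ k) x ∈ X) : Representation F K ↥X where
  toFun k := (σ (φ k)).restrict (hX k)
  map_one' := by
    refine LinearMap.ext fun x => Subtype.ext ?_
    simp
  map_mul' a b := by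
    refine LinearMap.ext fun x => Subtype.ext ?_
    simp

theorem bd2hiso_res_apply (σ : Representation F H S) {K : Type*} [Group K] (φ : K →* H)
    (X : Submodule F S) (hX : ∀ k : K, ∀ x ∈ X, σ (φ k) x ∈ X) (k : K) (x : ↥X) :
    ((bd2hiso_res σ φ X hX k x : ↥X) : S) = σ (φ k) (x : S) := rfl

theorem bd2hiso_res_irreducible (σ : Representation F H S) {K : Type*} [Group K] (φ : K →* H)
    (X : Submodule F S) (hX : ∀ k : K, ∀ x ∈ X, σ (φ k) x ∈ X) (hX0 : X ≠ ⊥)
    (hmin : ∀ W' : Submodule F S, W' ≤ X → W' ≠ ⊥ → (∀ k : K, ∀ w ∈ W', σ (φ k) w ∈ W') → W' = X) :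
    (bd2hiso_res σ φ X hX).IsIrreducible := by
  refine { exists_pair_ne := ⟨⊥, ⊤, ?_⟩, eq_bot_or_eq_top := ?_ }
  · intro h
    have h2 := congrArg Subrepresentation.toSubmodule h
    have h3 : (⊥ : Submodule F ↥X) = ⊤ := h2
    apply hX0
    rw [Submodule.eq_bot_iff]
    intro x hx
    have : (⟨x, hx⟩ : ↥X) ∈ (⊥ : Submodule F ↥X) := by
      rw [h3]
      exact Submodule.mem_top
    rw [Submodule.mem_bot] at this
    exact congrArg Subtype.val this
  · intro τ
    by_cases h0 : τ.toSubmodule = ⊥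
    · left
      exact Subrepresentation.toSubmodule_injective h0
    · right
      apply Subrepresentation.toSubmodule_injective
      have hW : (τ.toSubmodule.map X.subtype) = X := by
        apply hmin
        · intro y hy
          obtain ⟨x, _, rfl⟩ := Submodule.mem_map.mp hy
          exact x.2
        · intro hbot
          apply h0
          rw [Submodule.eq_bot_iff]
          intro x hx
          have : (X.subtype x) ∈ τ.toSubmodule.map X.subtype := Submodule.mem_map_of_mem hx
          rw [hbot, Submodule.mem_bot] at this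
          exact Subtype.ext this
        · intro k w hw
          obtain ⟨x, hx, rfl⟩ := Submodule.mem_map.mp hw
          refine Submodule.mem_map.mpr ⟨bd2hiso_res σ φ X hX k x, τ.apply_mem_toSubmodule k hx, rfl⟩
      show τ.toSubmodule = ⊤
      rw [Submodule.eq_top_iff']
      intro x
      have hx : (x : S) ∈ τ.toSubmodule.map X.subtype := by
        rw [hW]
        exact x.2
      obtain ⟨y, hy, hyx⟩ := Submodule.mem_map.mp hx
      have : y = x := Subtype.ext hyx
      rwa [← this]

end abstract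

section subop

variable {F : Type*} [Field F] {G : Type*} [Group G] {S : Type*} [AddCommGroup S] [Module F S]

theorem bd2hiso_subOp_mul {C N : Subgroup G} (hCN : C ≤ N) [Fintype ↥C] (σ : Representation F ↥N S)
    (a a' : GA F ↥C) : subOp hCN σ (a * a') = subOp hCN σ a ∘ₗ subOp hCN σ a' := by
  have h1 : ∀ a : GA F ↥C, subOp hCN σ a = bdlinkb_act (σ.comp (Subgroup.inclusion hCN)) a :=
    fun a => rfl
  rw [h1, h1, h1, bdlinkb_act_mul]
  rfl

end subop

section abs2

variable {F : Type*} [Field F] {G : Type*} [Group G] {S : Type*} [AddCommGroup S] [Module F S]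

/-- abstract form of HISO -/
theorem bd2hiso_abstract {C N : Subgroup G} (hCN : C ≤ N) [Fintype ↥C] (σ : Representation F ↥N S)
    (a : ↥C → F) (t₀ : ↥N) (hnormC : (t₀ : G) ∈ Subgroup.normalizer ((C : Subgroup G) : Set G))
    (ha : ∀ x x' : ↥C, (x' : G) = (t₀ : G) * (x : G) * (t₀ : G)⁻¹ → a x' = a x)
    (hEE : subOp hCN σ a ∘ₗ subOp hCN σ a = subOp hCN σ a)
    (X : Submodule F S) (hXE : X ≤ LinearMap.range (subOp hCN σ a))
    (hX : SimpleUnder σ (C.subgroupOf N) X)
    (huniq : ∀ (ρ ρ' : Representation F ↥C ↥X), ρ.IsIrreducible → ρ'.IsIrreducible →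
      ∑ c : ↥C, a c • ρ c = LinearMap.id → ∑ c : ↥C, a c • ρ' c = LinearMap.id → IsIso ρ ρ') :
    ∃ A : S →ₗ[F] S, (∀ x ∈ X, A x ∈ X) ∧ (∀ x ∈ X, A x = 0 → x = 0) ∧
      ∀ c ∈ C.subgroupOf N, ∀ x ∈ X, A (σ c x) = σ (t₀⁻¹ * c * t₀) (A x) := by
  classical
  obtain ⟨hX0, hXst, hXmin⟩ := hX
  -- conjugation by `t₀⁻¹` and by `t₀` preserve `C.subgroupOf N`
  have hconj : ∀ c : ↥N, c ∈ C.subgroupOf N → t₀⁻¹ * c * t₀ ∈ C.subgroupOf N := by
    intro c hc
    rw [Subgroup.mem_subgroupOf] at hc ⊢
    have := (Subgroup.mem_normalizer_iff.mp (Subgroup.inv_mem _ hnormC) (c : G)).mp hc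
    simpa using this
  have hconj' : ∀ c : ↥N, c ∈ C.subgroupOf N → t₀ * c * t₀⁻¹ ∈ C.subgroupOf N := by
    intro c hc
    rw [Subgroup.mem_subgroupOf] at hc ⊢
    have := (Subgroup.mem_normalizer_iff.mp hnormC (c : G)).mp hc
    simpa using this
  -- the idempotent acts as the identity on `X`
  have hEX : ∀ x ∈ X, subOp hCN σ a x = x := by
    intro x hx
    obtain ⟨y, rfl⟩ := hXE hx
    exact LinearMap.congr_fun hEE y
  -- the two representations of `C` on `X`
  let φ₁ : ↥C →* ↥N := Subgroup.inclusion hCN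
  let φ₂ : ↥C →* ↥N := ((MulAut.conj t₀⁻¹ : MulAut ↥N).toMonoidHom).comp (Subgroup.inclusion hCN)
  have hφ₂ : ∀ c : ↥C, φ₂ c = t₀⁻¹ * Subgroup.inclusion hCN c * t₀ := by
    intro c
    simp [φ₂]
  have hmemC : ∀ c : ↥C, Subgroup.inclusion hCN c ∈ C.subgroupOf N := by
    intro c
    rw [Subgroup.mem_subgroupOf]
    exact c.2
  have hst₁ : ∀ k : ↥C, ∀ x ∈ X, σ (φ₁ k) x ∈ X := fun k x hx => hXst _ (hmemC k) x hx
  have hst₂ : ∀ k : ↥C, ∀ x ∈ X, σ (φ₂ k) x ∈ X := by
    intro k x hx
    rw [hφ₂]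
    exact hXst _ (hconj _ (hmemC k)) x hx
  have irr₁ : (bd2hiso_res σ φ₁ X hst₁).IsIrreducible := by
    apply bd2hiso_res_irreducible σ φ₁ X hst₁ hX0
    intro W' hW' hW'0 hW'st
    apply hXmin W' hW' hW'0
    intro k hk w hw
    have := hW'st ⟨(k : G), Subgroup.mem_subgroupOf.mp hk⟩ w hw
    exact this
  have irr₂ : (bd2hiso_res σ φ₂ X hst₂).IsIrreducible := by
    apply bd2hiso_res_irreducible σ φ₂ X hst₂ hX0
    intro W' hW' hW'0 hW'st
    apply hXmin W' hW' hW'0
    intro k hk w hw
    have hk' := hconj' k hk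
    have := hW'st ⟨((t₀ * k * t₀⁻¹ : ↥N) : G), Subgroup.mem_subgroupOf.mp hk'⟩ w hw
    rw [hφ₂] at this
    have h3 : t₀⁻¹ * Subgroup.inclusion hCN ⟨((t₀ * k * t₀⁻¹ : ↥N) : G),
        Subgroup.mem_subgroupOf.mp hk'⟩ * t₀ = k := by
      apply Subtype.ext
      simp [mul_assoc]
    rwa [h3] at this
  have h1 : ∑ c : ↥C, a c • bd2hiso_res σ φ₁ X hst₁ c = LinearMap.id := by
    refine LinearMap.ext fun x => Subtype.ext ?_
    rw [LinearMap.id_apply, LinearMap.sum_apply, Submodule.coe_sum]
    simp only [LinearMap.smul_apply, Submodule.coe_smul, bd2hiso_res_apply]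
    have := hEX x x.2
    rw [subOp_apply, LinearMap.sum_apply] at this
    simpa only [LinearMap.smul_apply] using this
  have h2 : ∑ c : ↥C, a c • bd2hiso_res σ φ₂ X hst₂ c = LinearMap.id := by
    refine LinearMap.ext fun x => Subtype.ext ?_
    rw [LinearMap.id_apply, LinearMap.sum_apply, Submodule.coe_sum]
    simp only [LinearMap.smul_apply, Submodule.coe_smul, bd2hiso_res_apply]
    have := hEX x x.2
    rw [subOp_apply, LinearMap.sum_apply] at this
    simp only [LinearMap.smul_apply] at this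
    conv_rhs => rw [← this]
    -- reindex by conjugation
    let κ : ↥C ≃ ↥C :=
      { toFun := fun c => ⟨(t₀ : G)⁻¹ * (c : G) * (t₀ : G), by
          have := hconj _ (hmemC c)
          rw [Subgroup.mem_subgroupOf] at this
          simpa using this⟩
        invFun := fun c => ⟨(t₀ : G) * (c : G) * (t₀ : G)⁻¹, by
          have := hconj' _ (hmemC c)
          rw [Subgroup.mem_subgroupOf] at this
          simpa using this⟩
        left_inv := fun c => by
          apply Subtype.ext
          simp [mul_assoc]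
        right_inv := fun c => by
          apply Subtype.ext
          simp [mul_assoc] }
    refine Fintype.sum_equiv κ _ _ fun c => ?_
    have e1 : a (κ c) = a c := by
      have := ha (κ c) c (by
        show (c : G) = (t₀ : G) * ((t₀ : G)⁻¹ * (c : G) * (t₀ : G)) * (t₀ : G)⁻¹
        simp [mul_assoc])
      exact this.symm
    have e2 : φ₂ c = Subgroup.inclusion hCN (κ c) := by
      rw [hφ₂]
      apply Subtype.ext
      simp [κ]
    rw [e1, e2]
  obtain ⟨e, he⟩ := huniq (bd2hiso_res σ φ₁ X hst₁) (bd2hiso_res σ φ₂ X hst₂) irr₁ irr₂ h1 h2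
  -- extend `e` to `S`
  obtain ⟨pr, hpr⟩ := LinearMap.exists_leftInverse_of_injective X.subtype
    (LinearMap.ker_eq_bot.mpr X.injective_subtype)
  have hprx : ∀ x : ↥X, pr (x : S) = x := fun x => LinearMap.congr_fun hpr x
  refine ⟨X.subtype ∘ₗ (e : ↥X →ₗ[F] ↥X) ∘ₗ pr, ?_, ?_, ?_⟩
  · intro x hx
    simp only [LinearMap.comp_apply, Submodule.subtype_apply]
    exact Submodule.coe_mem _
  · intro x hx h0
    simp only [LinearMap.comp_apply, Submodule.subtype_apply, LinearEquiv.coe_coe] at h0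
    have h3 := hprx ⟨x, hx⟩
    simp only at h3
    rw [h3] at h0
    have h4 : e ⟨x, hx⟩ = 0 := Subtype.ext h0
    have h5 : (⟨x, hx⟩ : ↥X) = 0 := by
      rwa [LinearEquiv.map_eq_zero_iff] at h4
    exact congrArg Subtype.val h5
  · intro c hc x hx
    simp only [LinearMap.comp_apply, Submodule.subtype_apply, LinearEquiv.coe_coe]
    have hcc : Subgroup.inclusion hCN (⟨(c : G), Subgroup.mem_subgroupOf.mp hc⟩ : ↥C) = c :=
      Subtype.ext rfl
    have h3 := hprx ⟨x, hx⟩
    simp only at h3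
    have h4 := hprx (bd2hiso_res σ φ₁ X hst₁ ⟨(c : G), Subgroup.mem_subgroupOf.mp hc⟩ ⟨x, hx⟩)
    rw [bd2hiso_res_apply] at h4
    have h5 : φ₁ ⟨(c : G), Subgroup.mem_subgroupOf.mp hc⟩ = c := hcc
    rw [h5] at h4
    simp only at h4
    rw [h3, h4]
    have h6 := LinearMap.congr_fun (he ⟨(c : G), Subgroup.mem_subgroupOf.mp hc⟩) ⟨x, hx⟩
    simp only [LinearMap.comp_apply, LinearEquiv.coe_coe] at h6
    rw [h6, bd2hiso_res_apply, hφ₂, hcc]

end abs2

section root

variable {G : Type u} [Group G] [Fintype G] {M : Ideal Cfsg.AlgInt} {p : ℕ} [Fact p.Prime]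
  {P : Sylow p G} {B : Set (Cfsg.IrrCharacter G)}
  {b : Set (Cfsg.IrrCharacter (Subgroup.centralizer ((P : Subgroup G) : Set G)))}
  {θ : Cfsg.IrrCharacter (Subgroup.centralizer ((P : Subgroup G) : Set G))} {T : Subgroup G}

variable [Fintype ↥(Subgroup.centralizer ((P : Subgroup G) : Set G))]
  [Fintype ↥(Subgroup.normalizer ((P : Subgroup G) : Set G))]

/-- the block idempotent of `b` is invariant under conjugation by elements of `T` -/
theorem bd2hiso_eBar_conj (h : RootHyp p M P B b θ T) (hMp : M.IsPrime) (t : G) (ht : t ∈ T)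
    (htN : t ∈ Subgroup.normalizer ((P : Subgroup G) : Set G))
    (x x' : ↥(Subgroup.centralizer ((P : Subgroup G) : Set G)))
    (hx : (x' : G) = t * (x : G) * t⁻¹) : eBar hMp b x' = eBar hMp b x := by
  have hst := (root_stab h t htN).mp ht
  have := eBar_cjSet hMp (Subgroup.centralizer ((P : Subgroup G) : Set G))
    (Cfsg.Agent.Lib.Helper24.ci_normalizer_le (P : Subgroup G) htN) b x x' hx
  rwa [hst] at this

/-- M7 = HISO : a minimal `C`-stable subspace of the `b`-part of an `N`-module is isomorphic to its twist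
by an element of `T` -/
theorem root_twist_iso (h : RootHyp p M P B b θ T) (hMp : M.IsPrime) {S : Type v} [AddCommGroup S]
    [Module (h7_resRing M hMp) S] [FiniteDimensional (h7_resRing M hMp) S]
    (σ : Representation (h7_resRing M hMp) ↥(Subgroup.normalizer ((P : Subgroup G) : Set G)) S)
    (t₀ : ↥(Subgroup.normalizer ((P : Subgroup G) : Set G))) (ht₀ : (t₀ : G) ∈ T)
    (X : Submodule (h7_resRing M hMp) S)
    (hXE : X ≤ LinearMap.range
      (subOp (Subgroup.centralizer_le_normalizer ((P : Subgroup G) : Set G)) σ (eBar hMp b)))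
    (hX : SimpleUnder σ ((Subgroup.centralizer ((P : Subgroup G) : Set G)).subgroupOf
      (Subgroup.normalizer ((P : Subgroup G) : Set G))) X) :
    ∃ A : S →ₗ[h7_resRing M hMp] S, (∀ x ∈ X, A x ∈ X) ∧ (∀ x ∈ X, A x = 0 → x = 0) ∧
      ∀ c ∈ (Subgroup.centralizer ((P : Subgroup G) : Set G)).subgroupOf
        (Subgroup.normalizer ((P : Subgroup G) : Set G)), ∀ x ∈ X,
        A (σ c x) = σ (t₀⁻¹ * c * t₀) (A x) := by
  have hb : Cfsg.IsPBlock M b := h.hind.1
  refine bd2hiso_abstract (Subgroup.centralizer_le_normalizer ((P : Subgroup G) : Set G)) σ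
    (eBar hMp b) t₀ (Cfsg.Agent.Lib.Helper24.ci_normalizer_le (P : Subgroup G) t₀.2)
    (fun x x' hx => bd2hiso_eBar_conj h hMp (t₀ : G) ht₀ t₀.2 x x' hx) ?_ X hXE hX ?_
  · rw [← bd2hiso_subOp_mul, (eBar_idem hMp b hb).eq]
  · intro ρ ρ' hρ hρ' h1 h2
    haveI := hρ
    haveI := hρ'
    exact root_simple_unique h hMp ρ ρ' h1 h2

end root

end Cfsg.Agent.Lib.helper7.BD
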