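import Mathlib
import Cfsg.Agent.Lib.helper7.BD.Defs
import Cfsg.Agent.Lib.helper7.BD.D1Defs
import Cfsg.Agent.Lib.Helper29.BDNAGAO

/-!
# Project BD stage B, piece NAGAO2 : `classfn_acts_general`
-/

set_option autoImplicit false
set_option linter.unusedVariables false
set_option linter.unusedSectionVars false
set_option linter.style.haveILetI false

namespace Cfsg.Agent.Lib.helper7.BD

universe u v w

/-- M1 = NAGAO2 : a class function acts on a simple `G`-module `V` with a non-projective `N`-map to `S`
by the scalar by which its restriction to `C_G(P)` acts on `S` -/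
theorem classfn_acts_general {F : Type*} [Field F] [IsAlgClosed F] {G : Type u} [Group G] [Fintype G]
    {p : ℕ} [Fact p.Prime] [CharP F p] {P N : Subgroup G} (h : TISetup p P N)
    (hCN : Subgroup.centralizer (P : Set G) ≤ N) [Fintype ↥N]
    [Fintype ↥(Subgroup.centralizer (P : Set G))]
    {V : Type v} [AddCommGroup V] [Module F V] [FiniteDimensional F V]
    (ρ : Representation F G V) [ρ.IsIrreducible] {S : Type w} [AddCommGroup S] [Module F S]
    (σ : Representation F ↥N S) (f : V →ₗ[F] S) (hf : IsHom (ρ.comp N.subtype) σ f)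
    (hnp : ¬ IsProjHom (ρ.comp N.subtype) σ f)
    (z : G → F) (hz : ∀ g k : G, z (k * g * k⁻¹) = z g) (c₀ : F)
    (hc : subOp hCN σ (fun c => z (c : G)) = c₀ • LinearMap.id) :
    ∑ g : G, z g • ρ g = c₀ • LinearMap.id := by
  classical
  -- the class sum is a scalar
  have hZ : IsHom ρ ρ (∑ g : G, z g • ρ g) := by
    rw [isHom_iff]
    intro k v
    rw [LinearMap.sum_apply, LinearMap.sum_apply, map_sum]
    rw [← bdnagao_sum_conj k]
    refine Finset.sum_congr rfl fun g _ => ?_
    rw [hz, LinearMap.smul_apply, LinearMap.smul_apply, map_smul]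
    congr 1
    rw [← Module.End.mul_apply, ← Module.End.mul_apply, ← map_mul, ← map_mul]
    congr 2
    group
  obtain ⟨c, hcs⟩ := schur_scalar ρ _ hZ
  -- the subgroup `P` inside `N`
  set P' : Subgroup ↥N := P.subgroupOf N with hP'
  haveI : Fintype ↥P' := Fintype.ofFinite _
  set j : ↥P' →* G := N.subtype.comp P'.subtype with hj
  have hjP : ∀ x : ↥P', j x ∈ P := fun x => Subgroup.mem_subgroupOf.mp x.2
  -- conjugation by `P` preserves the centralizer
  have hconj1 : ∀ a ∈ P, ∀ g ∈ Subgroup.centralizer (P : Set G),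
      a * g * a⁻¹ ∈ Subgroup.centralizer (P : Set G) := by
    intro a ha g hg
    rw [Subgroup.mem_centralizer_iff] at hg ⊢
    intro y hy
    have hy' : a⁻¹ * y * a ∈ P := P.mul_mem (P.mul_mem (P.inv_mem ha) hy) ha
    have e1 : y * (a * g * a⁻¹) = a * ((a⁻¹ * y * a) * g) * a⁻¹ := by group
    have e2 : a * g * a⁻¹ * y = a * (g * (a⁻¹ * y * a)) * a⁻¹ := by group
    rw [e1, e2, hg _ hy']
  have hconjC : ∀ (x : ↥P') (g : G), (j x * g * (j x)⁻¹ ∈ Subgroup.centralizer (P : Set G) ↔
      g ∈ Subgroup.centralizer (P : Set G)) := by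
    intro x g
    constructor
    · intro hh
      have := hconj1 (j x)⁻¹ (P.inv_mem (hjP x)) _ hh
      have e : (j x)⁻¹ * (j x * g * (j x)⁻¹) * (j x)⁻¹⁻¹ = g := by group
      rwa [e] at this
    · intro hg
      exact hconj1 (j x) (hjP x) g hg
  set z' : G → F := fun g => if g ∈ Subgroup.centralizer (P : Set G) then 0 else z g with hz'def
  set zC : G → F := fun g => if g ∈ Subgroup.centralizer (P : Set G) then z g else 0 with hzCdef
  have hzz : ∀ g, z g = zC g + z' g := by
    intro g
    by_cases hg : g ∈ Subgroup.centralizer (P : Set G)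
    · simp [hz'def, hzCdef, hg]
    · simp [hz'def, hzCdef, hg]
  have hz'inv : ∀ (x : ↥P') (g : G), z' (j x * g * (j x)⁻¹) = z' g := by
    intro x g
    by_cases hg : g ∈ Subgroup.centralizer (P : Set G)
    · have := (hconjC x g).mpr hg
      simp [hz'def, hg, this]
    · have : ¬ (j x * g * (j x)⁻¹ ∈ Subgroup.centralizer (P : Set G)) := fun hh => hg ((hconjC x g).mp hh)
      simp only [hz'def, if_neg hg, if_neg this]
      exact hz g (j x)
  -- freeness
  have hfree : ∀ g : G, z' g ≠ 0 → ∀ x : ↥P', j x * g * (j x)⁻¹ = g → x = 1 := by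
    intro g hg x hx
    have hgC : g ∉ Subgroup.centralizer (P : Set G) := by
      intro hh
      apply hg
      simp only [hz'def, if_pos hh]
    by_contra hne
    apply hgC
    have hx1 : (⟨j x, hjP x⟩ : ↥P) ≠ 1 := by
      intro h1
      apply hne
      have h2 : j x = 1 := congrArg Subtype.val h1
      apply Subtype.ext
      apply Subtype.ext
      exact h2
    have hcomm : Commute (j x) g := by
      show j x * g = g * j x
      calc j x * g = j x * g * (j x)⁻¹ * j x := by group
        _ = g * j x := by rw [hx]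
    rw [Subgroup.mem_centralizer_iff]
    intro y hy
    have hmem := mem_zpowers_of_prime_card (G := ↥P) h.card_P hx1 (g' := ⟨y, hy⟩)
    obtain ⟨k, hk⟩ := Subgroup.mem_zpowers_iff.mp hmem
    have hk' : (j x) ^ k = y := by
      have := congrArg Subtype.val hk
      simpa using this
    rw [← hk']
    exact (hcomm.zpow_left k).eq
  obtain ⟨w, hw⟩ := bdnagao_exists_w (F := F) j
  have hw' : ∀ g, z' g ≠ 0 → ∑ x : ↥P', w (j x * g * (j x)⁻¹) = 1 := fun g hg => hw g (hfree g hg)
  have hf' : IsHom (ρ.comp j) (σ.comp P'.subtype) f := fun x => hf (x : ↥N)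
  have hproj := bdnagao_proj j ρ (σ.comp P'.subtype) f hf' z' hz'inv w hw'
  have hidx : ((P'.index : ℕ) : F) ≠ 0 := by
    intro h0
    exact h.idxN ((CharP.cast_eq_zero_iff F p _).mp h0)
  -- the part over the centralizer acts by `c₀`
  have h3 : f ∘ₗ ∑ g : G, zC g • ρ g = c₀ • f := by
    refine LinearMap.ext fun v => ?_
    rw [LinearMap.comp_apply, LinearMap.sum_apply, map_sum]
    have e1 : ∀ g : G, f ((zC g • ρ g) v) =
        if g ∈ Subgroup.centralizer (P : Set G) then z g • f (ρ g v) else 0 := by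
      intro g
      rw [LinearMap.smul_apply, map_smul]
      by_cases hg : g ∈ Subgroup.centralizer (P : Set G)
      · simp only [hzCdef, if_pos hg]
      · simp only [hzCdef, if_neg hg, zero_smul]
    rw [Finset.sum_congr rfl (fun g _ => e1 g), ← Finset.sum_filter]
    rw [Finset.sum_subtype (Finset.univ.filter (· ∈ Subgroup.centralizer (P : Set G)))
      (p := (· ∈ Subgroup.centralizer (P : Set G))) (fun x => by simp)
      (fun g => z g • f (ρ g v))]
    have e2 := LinearMap.congr_fun hc (f v)
    rw [subOp_apply, LinearMap.sum_apply, LinearMap.smul_apply, LinearMap.id_apply] at e2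
    rw [LinearMap.smul_apply, ← e2]
    refine Finset.sum_congr rfl fun c _ => ?_
    rw [LinearMap.smul_apply]
    congr 1
    exact hf.apply (Subgroup.inclusion hCN c) v
  have hfR : f ∘ₗ ∑ g : G, z' g • ρ g = (c - c₀) • f := by
    have h1 : f ∘ₗ ∑ g : G, z g • ρ g = c • f := by
      rw [hcs, LinearMap.comp_smul, LinearMap.comp_id]
    have h2 : ∑ g : G, z g • ρ g = ∑ g : G, zC g • ρ g + ∑ g : G, z' g • ρ g := by
      rw [← Finset.sum_add_distrib]
      refine Finset.sum_congr rfl fun g _ => ?_
      rw [hzz g, add_smul]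
    rw [h2, LinearMap.comp_add, h3] at h1
    have h4 : (c - c₀) • f = c • f - c₀ • f := sub_smul _ _ _
    rw [h4, ← h1, add_sub_cancel_left]
  have hcC : c = c₀ := by
    by_contra hne
    have hne' : c - c₀ ≠ 0 := sub_ne_zero.mpr hne
    apply hnp
    have hhom : IsHom (ρ.comp N.subtype) σ (f ∘ₗ ∑ g : G, z' g • ρ g) := by
      rw [hfR]
      exact hf.smul _
    have h5 : IsProjHom (ρ.comp N.subtype) σ (f ∘ₗ ∑ g : G, z' g • ρ g) :=
      projHom_of_index (N := P') hidx (ρ.comp N.subtype) σ _ hhom hproj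
    rw [hfR] at h5
    have h6 := h5.smul (c - c₀)⁻¹
    rwa [smul_smul, inv_mul_cancel₀ hne', one_smul] at h6
  rw [hcs, hcC]

end Cfsg.Agent.Lib.helper7.BD
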