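import Mathlib

set_option autoImplicit false

namespace Cfsg.Agent.Lib.Lead

open Finset

section norm
variable {F : Type*} [Field F] [Fintype F] [DecidableEq F] {q : ℕ}

omit [DecidableEq F] in
/-- `q` is a power of the characteristic when `|F| = q^2`; hence `x ↦ x^q` is subtractive. -/
theorem sub_pow_q (hF : Fintype.card F = q ^ 2) (x y : F) : (x - y) ^ q = x ^ q - y ^ q := by
  obtain ⟨p, hchar, n, hp, hcard⟩ := FiniteField.card' F
  have := hchar
  have : Fact p.Prime := ⟨hp⟩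
  rw [hF] at hcard
  have hdvd : q ∣ p ^ (n : ℕ) := ⟨q, by rw [← hcard]; ring⟩
  obtain ⟨j, -, rfl⟩ := (Nat.dvd_prime_pow hp).mp hdvd
  exact sub_pow_char_pow ..

omit [DecidableEq F] in
theorem two_le_q (hF : Fintype.card F = q ^ 2) : 2 ≤ q := by
  have h1 : 1 < Fintype.card F := Fintype.one_lt_card
  rw [hF] at h1
  by_contra h
  have : q = 0 ∨ q = 1 := by omega
  rcases this with rfl | rfl <;> simp at h1

omit [DecidableEq F] in
theorem norm_pow_q (hF : Fintype.card F = q ^ 2) (t : F) : (t ^ (q + 1)) ^ q = t ^ (q + 1) := by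
  have h := FiniteField.pow_card t
  rw [hF] at h
  calc (t ^ (q + 1)) ^ q = t ^ (q ^ 2) * t ^ q := by ring
    _ = t ^ (q + 1) := by rw [h]; ring

/-- The norm map `t ↦ t^(q+1)` has fibres of size `q+1` over nonzero elements of the subfield. -/
theorem card_norm_fiber (hF : Fintype.card F = q ^ 2) (c : F) (hc0 : c ≠ 0) (hc : c ^ q = c) :
    (univ.filter (fun t : F => t ^ (q + 1) = c)).card = q + 1 := by
  have hq := two_le_q hF
  have hcardU : Nat.card Fˣ = q ^ 2 - 1 := by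
    rw [Nat.card_units, Nat.card_eq_fintype_card, hF]
  have hfac : q ^ 2 - 1 = (q - 1) * (q + 1) := by
    obtain ⟨r, rfl⟩ : ∃ r, q = r + 1 := ⟨q - 1, by omega⟩
    simp only [Nat.add_sub_cancel]
    have : (r + 1) ^ 2 = r * (r + 1 + 1) + 1 := by ring
    omega
  -- the unit version of c
  let cu : Fˣ := Units.mk0 c hc0
  let φ : Fˣ →* Fˣ := powMonoidHom (q + 1)
  let K : Subgroup Fˣ := (powMonoidHom (q - 1) : Fˣ →* Fˣ).ker
  have hK : Nat.card K = q - 1 := by
    rw [IsCyclic.card_powMonoidHom_ker, hcardU, hfac]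
    exact Nat.gcd_mul_right_left _ _
  have hker : Nat.card φ.ker = q + 1 := by
    rw [IsCyclic.card_powMonoidHom_ker, hcardU, hfac]
    exact Nat.gcd_mul_left_left _ _
  have hrange : Nat.card φ.range = q - 1 := by
    rw [IsCyclic.card_powMonoidHom_range, hcardU, hfac, Nat.gcd_mul_left_left]
    exact Nat.mul_div_cancel _ (by omega)
  have hle : φ.range ≤ K := by
    rintro _ ⟨t, rfl⟩
    rw [MonoidHom.mem_ker, powMonoidHom_apply, powMonoidHom_apply, ← pow_mul, mul_comm, ← hfac,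
      ← hcardU]
    exact pow_card_eq_one'
  have heq : φ.range = K := Subgroup.eq_of_le_of_card_ge hle (by rw [hK, hrange])
  have hcu : cu ∈ φ.range := by
    rw [heq, MonoidHom.mem_ker, powMonoidHom_apply]
    apply Units.ext
    simp only [Units.val_pow_eq_pow_val, Units.val_mk0, Units.val_one, cu]
    have h1 : c ^ (q - 1) * c = c := by
      rw [← pow_succ, Nat.sub_add_cancel (by omega)]; exact hc
    exact mul_right_cancel₀ hc0 (by rw [h1, one_mul])
  -- count on units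
  have hU : (univ.filter (fun t : Fˣ => φ t = cu)).card = q + 1 := by
    rw [MonoidHom.card_fiber_eq_of_mem_range φ (MonoidHom.mem_range.mp hcu) ⟨1, map_one φ⟩, ← hker, Nat.card_eq_fintype_card,
      Fintype.card_subtype]
    congr 1
    ext x
    simp [MonoidHom.mem_ker]
  refine Eq.trans (Eq.symm ?_) hU
  refine Finset.card_bij (fun t _ => (t : F)) ?_ ?_ ?_
  · intro t ht
    simp only [Finset.mem_filter, Finset.mem_univ, true_and] at ht ⊢
    have := congrArg Units.val ht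
    simpa [φ, cu] using this
  · intro t _ t' _ h
    exact Units.ext h
  · intro t ht
    simp only [Finset.mem_filter, Finset.mem_univ, true_and] at ht
    have ht0 : t ≠ 0 := by
      rintro rfl
      rw [zero_pow (by omega)] at ht
      exact hc0 ht.symm
    refine ⟨Units.mk0 t ht0, ?_, rfl⟩
    simp only [Finset.mem_filter, Finset.mem_univ, true_and]
    apply Units.ext
    simpa [φ, cu] using ht

theorem card_norm_fiber_zero (hq : 1 ≤ q) :
    (univ.filter (fun t : F => t ^ (q + 1) = 0)).card = 1 := by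
  rw [Finset.card_eq_one]
  refine ⟨0, ?_⟩
  ext t
  simp only [Finset.mem_filter, Finset.mem_univ, true_and, Finset.mem_singleton]
  constructor
  · intro h; exact pow_eq_zero_iff (by omega) |>.mp h
  · rintro rfl; exact zero_pow (by omega)

end norm

/-- Counts of isotropic vectors and of norm-one vectors, by recursion. -/
def hermAB (q : ℕ) : ℕ → ℕ × ℕ
  | 0 => (1, 0)
  | n + 1 => ((hermAB q n).1 + (q ^ 2 - 1) * (hermAB q n).2,
      (q + 1) * (hermAB q n).1 + (q ^ 2 - (q + 1)) * (hermAB q n).2)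

section count
variable {F : Type*} [Field F] [Fintype F] [DecidableEq F] {q : ℕ}

theorem card_herm_succ (n : ℕ) (c : F) :
    (univ.filter (fun v : Fin (n + 1) → F => ∑ i, v i * v i ^ q = c)).card =
      ∑ t : F, (univ.filter (fun w : Fin n → F => ∑ i, w i * w i ^ q = c - t ^ (q + 1))).card := by
  rw [Finset.card_eq_sum_card_fiberwise (f := fun v : Fin (n + 1) → F => v 0) (t := univ)
    (fun a _ => Finset.mem_univ _)]
  refine Finset.sum_congr rfl (fun t _ => ?_)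
  refine Finset.card_bij (fun v _ => Fin.tail v) ?_ ?_ ?_
  · intro v hv
    simp only [Finset.mem_filter, Finset.mem_univ, true_and] at hv ⊢
    obtain ⟨h1, h2⟩ := hv
    rw [Fin.sum_univ_succ, h2] at h1
    rw [← h1]
    simp only [Fin.tail]
    ring
  · intro v hv v' hv' h
    simp only [Finset.mem_filter, Finset.mem_univ, true_and] at hv hv'
    funext i
    refine Fin.cases ?_ (fun j => ?_) i
    · rw [hv.2, hv'.2]
    · exact congrFun h j
  · intro w hw
    simp only [Finset.mem_filter, Finset.mem_univ, true_and] at hw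
    refine ⟨Fin.cons t w, ?_, ?_⟩
    · simp only [Finset.mem_filter, Finset.mem_univ, true_and]
      refine ⟨?_, by simp⟩
      rw [Fin.sum_univ_succ]
      simp only [Fin.cons_zero, Fin.cons_succ]
      rw [hw]
      ring
    · simp

/-- Main counting theorem for the Hermitian form. -/
theorem card_herm (hF : Fintype.card F = q ^ 2) (n : ℕ) :
    ∀ c : F, c ^ q = c →
      (univ.filter (fun v : Fin n → F => ∑ i, v i * v i ^ q = c)).card =
        if c = 0 then (hermAB q n).1 else (hermAB q n).2 := by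
  have hq := two_le_q hF
  induction n with
  | zero =>
    intro c _
    simp only [Finset.univ_eq_empty, Finset.sum_empty, hermAB]
    by_cases hc : c = 0
    · subst hc; simp
    · have : ¬ (0 : F) = c := fun h => hc h.symm
      simp [hc, this]
  | succ n ih =>
    intro c hc
    rw [card_herm_succ]
    have hstep : ∀ t : F, (univ.filter (fun w : Fin n → F =>
        ∑ i, w i * w i ^ q = c - t ^ (q + 1))).card =
        if t ^ (q + 1) = c then (hermAB q n).1 else (hermAB q n).2 := by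
      intro t
      rw [ih (c - t ^ (q + 1)) (by rw [sub_pow_q hF, hc, norm_pow_q hF])]
      have : (c - t ^ (q + 1) = 0) ↔ (t ^ (q + 1) = c) := by
        rw [sub_eq_zero]; exact eq_comm
      simp only [this]
    rw [Finset.sum_congr rfl (fun t _ => hstep t), Finset.sum_ite, Finset.sum_const,
      Finset.sum_const, smul_eq_mul, smul_eq_mul]
    have hcompl : (univ.filter (fun t : F => ¬ t ^ (q + 1) = c)).card =
        q ^ 2 - (univ.filter (fun t : F => t ^ (q + 1) = c)).card := by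
      have := Finset.card_filter_add_card_filter_not (s := (univ : Finset F))
        (fun t : F => t ^ (q + 1) = c)
      rw [Finset.card_univ, hF] at this
      omega
    rw [hcompl]
    by_cases hc0 : c = 0
    · subst hc0
      rw [card_norm_fiber_zero (by omega)]
      simp [hermAB]
    · rw [card_norm_fiber hF c hc0 hc]
      simp [hermAB, hc0]

end count

/-- Closed forms (times `q`, over `ℤ`). -/
theorem hermAB_closed (q : ℕ) (hq : 2 ≤ q) (n : ℕ) :
    ((q : ℤ) * ((hermAB q n).1 : ℤ) = (q : ℤ) ^ (2 * n) + (-1) ^ n * ((q : ℤ) ^ (n + 1) - (q : ℤ) ^ n)) ∧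
    ((q : ℤ) * ((hermAB q n).2 : ℤ) = (q : ℤ) ^ (2 * n) - (-1) ^ n * (q : ℤ) ^ n) := by
  have h1 : 1 ≤ q ^ 2 := Nat.one_le_pow _ _ (by omega)
  have h2 : q + 1 ≤ q ^ 2 := by nlinarith
  induction n with
  | zero => simp [hermAB]
  | succ n ih =>
    obtain ⟨ihA, ihB⟩ := ih
    simp only [hermAB]
    push_cast [Nat.cast_sub h1, Nat.cast_sub h2]
    constructor
    · have : (q : ℤ) * (((hermAB q n).1 : ℤ) + ((q : ℤ) ^ 2 - 1) * ((hermAB q n).2 : ℤ)) =
          (q : ℤ) * (hermAB q n).1 + ((q : ℤ) ^ 2 - 1) * ((q : ℤ) * (hermAB q n).2) := by ring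
      rw [this, ihA, ihB]
      ring
    · have : (q : ℤ) * (((q : ℤ) + 1) * ((hermAB q n).1 : ℤ) +
          ((q : ℤ) ^ 2 - ((q : ℤ) + 1)) * ((hermAB q n).2 : ℤ)) =
          ((q : ℤ) + 1) * ((q : ℤ) * (hermAB q n).1) +
          ((q : ℤ) ^ 2 - ((q : ℤ) + 1)) * ((q : ℤ) * (hermAB q n).2) := by ring
      rw [this, ihA, ihB]
      ring

/-- Solving the two convolution equations for the norm-one count of a complement. -/
theorem solve_b (q n k : ℕ) (hq : 2 ≤ q) (hk : k ≤ n) (a b cA cB : ℕ)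
    (hcA : (hermAB q k).1 + cA = q ^ (2 * k)) (hcB : (hermAB q k).2 + cB = q ^ (2 * k))
    (e1 : (hermAB q n).1 = (hermAB q k).1 * a + cA * b)
    (e2 : (hermAB q n).2 = (hermAB q k).2 * a + cB * b) :
    b = (hermAB q (n - k)).2 := by
  obtain ⟨H1, H2⟩ := hermAB_closed q hq k
  obtain ⟨H3, H4⟩ := hermAB_closed q hq n
  obtain ⟨-, H5⟩ := hermAB_closed q hq (n - k)
  obtain ⟨m, rfl⟩ : ∃ m, n = k + m := ⟨n - k, by omega⟩
  rw [Nat.add_sub_cancel_left] at H5 ⊢
  have hcA' : ((hermAB q k).1 : ℤ) + (cA : ℤ) = (q : ℤ) ^ (2 * k) := by exact_mod_cast hcA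
  have hcB' : ((hermAB q k).2 : ℤ) + (cB : ℤ) = (q : ℤ) ^ (2 * k) := by exact_mod_cast hcB
  have e1' : ((hermAB q (k + m)).1 : ℤ) = ((hermAB q k).1 : ℤ) * a + cA * b := by exact_mod_cast e1
  have e2' : ((hermAB q (k + m)).2 : ℤ) = ((hermAB q k).2 : ℤ) * a + cB * b := by exact_mod_cast e2
  suffices hgoal : (b : ℤ) = ((hermAB q m).2 : ℤ) by exact_mod_cast hgoal
  generalize ((hermAB q k).1 : ℤ) = Ak at *
  generalize ((hermAB q k).2 : ℤ) = Bk at *
  generalize ((hermAB q (k + m)).1 : ℤ) = An at *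
  generalize ((hermAB q (k + m)).2 : ℤ) = Bn at *
  generalize ((hermAB q m).2 : ℤ) = Bm at *
  set X : ℤ := (q : ℤ) ^ k with hX
  set Y : ℤ := (q : ℤ) ^ m with hY
  have hX2 : (q : ℤ) ^ (2 * k) = X ^ 2 := by rw [hX, ← pow_mul, mul_comm]
  have hY2 : (q : ℤ) ^ (2 * m) = Y ^ 2 := by rw [hY, ← pow_mul, mul_comm]
  have hXY : (q : ℤ) ^ (k + m) = X * Y := pow_add _ _ _
  have hXY2 : (q : ℤ) ^ (2 * (k + m)) = X ^ 2 * Y ^ 2 := by
    rw [hX, hY, ← pow_mul, ← pow_mul, ← pow_add]; congr 1; ring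
  have hXq : (q : ℤ) ^ (k + 1) = q * X := by rw [pow_succ, mul_comm]
  have hYq : (q : ℤ) ^ (m + 1) = q * Y := by rw [pow_succ, mul_comm]
  have hXYq : (q : ℤ) ^ (k + m + 1) = q * (X * Y) := by rw [pow_succ, hXY, mul_comm]
  have hst : (-1 : ℤ) ^ (k + m) = (-1) ^ k * (-1) ^ m := pow_add _ _ _
  rw [hX2, hXq] at H1
  rw [hX2] at H2 hcA' hcB'
  rw [hXY2, hXYq, hXY, hst] at H3
  rw [hXY2, hXY, hst] at H4
  rw [hY2] at H5
  have hq0 : (q : ℤ) ≠ 0 := by exact_mod_cast (by omega : q ≠ 0)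
  have hX0 : X ≠ 0 := pow_ne_zero _ hq0
  have key : (q : ℤ) ^ 2 * X ^ 3 * (b : ℤ) = (q : ℤ) ^ 2 * X ^ 3 * Bm := by
    rcases neg_one_pow_eq_or ℤ k with hs | hs <;> rcases neg_one_pow_eq_or ℤ m with ht | ht
    · rw [hs] at H1 H2 H3 H4; rw [ht] at H3 H4 H5
      linear_combination ((q:ℤ)*X) * H3 - ((1)*(q:ℤ)*X*Y) * H1 - ((q:ℤ)*X^3) * H5 + ((q:ℤ)*Ak*(1)) * ((q:ℤ) * (e1' - e2' + (b:ℤ) * (hcA' - hcB')) - (H3 - H4) + ((a:ℤ) - b) * (H1 - H2)) - ((q:ℤ)^2*X) * e1' - ((q:ℤ)^2*X*b) * hcA'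
    · rw [hs] at H1 H2 H3 H4; rw [ht] at H3 H4 H5
      linear_combination ((q:ℤ)*X) * H3 - ((-1)*(q:ℤ)*X*Y) * H1 - ((q:ℤ)*X^3) * H5 + ((q:ℤ)*Ak*(1)) * ((q:ℤ) * (e1' - e2' + (b:ℤ) * (hcA' - hcB')) - (H3 - H4) + ((a:ℤ) - b) * (H1 - H2)) - ((q:ℤ)^2*X) * e1' - ((q:ℤ)^2*X*b) * hcA'
    · rw [hs] at H1 H2 H3 H4; rw [ht] at H3 H4 H5
      linear_combination ((q:ℤ)*X) * H3 - ((1)*(q:ℤ)*X*Y) * H1 - ((q:ℤ)*X^3) * H5 + ((q:ℤ)*Ak*(-1)) * ((q:ℤ) * (e1' - e2' + (b:ℤ) * (hcA' - hcB')) - (H3 - H4) + ((a:ℤ) - b) * (H1 - H2)) - ((q:ℤ)^2*X) * e1' - ((q:ℤ)^2*X*b) * hcA'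
    · rw [hs] at H1 H2 H3 H4; rw [ht] at H3 H4 H5
      linear_combination ((q:ℤ)*X) * H3 - ((-1)*(q:ℤ)*X*Y) * H1 - ((q:ℤ)*X^3) * H5 + ((q:ℤ)*Ak*(-1)) * ((q:ℤ) * (e1' - e2' + (b:ℤ) * (hcA' - hcB')) - (H3 - H4) + ((a:ℤ) - b) * (H1 - H2)) - ((q:ℤ)^2*X) * e1' - ((q:ℤ)^2*X*b) * hcA'
  exact mul_left_cancel₀ (mul_ne_zero (pow_ne_zero 2 hq0) (pow_ne_zero 3 hX0)) key

end Cfsg.Agent.Lib.Lead
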