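import Mathlib
import Cfsg.Prelude.Def_LieClassical
import Cfsg.Agent.Lib.Lead.HermCount

set_option autoImplicit false

namespace Cfsg.Agent.Lib.Lead

open Finset Matrix

section frob
variable {F : Type*} [Field F] [Fintype F] {q : ℕ}

/-- When `|F| = q^2`, the map `x ↦ x^q` is a ring endomorphism. -/
theorem exists_frob (hF : Fintype.card F = q ^ 2) : ∃ σ : F →+* F, ∀ x, σ x = x ^ q := by
  obtain ⟨p, hchar, n, hp, hcard⟩ := FiniteField.card' F
  have := hchar
  have : Fact p.Prime := ⟨hp⟩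
  rw [hF] at hcard
  have hdvd : q ∣ p ^ (n : ℕ) := ⟨q, by rw [← hcard]; ring⟩
  obtain ⟨j, -, rfl⟩ := (Nat.dvd_prime_pow hp).mp hdvd
  exact ⟨iterateFrobenius F p j, fun x => iterateFrobenius_def ..⟩

theorem frob_frob (hF : Fintype.card F = q ^ 2) (σ : F →+* F) (hσ : ∀ x, σ x = x ^ q) (x : F) :
    σ (σ x) = x := by
  rw [hσ, hσ, ← pow_mul, ← sq, ← hF, FiniteField.pow_card]

end frob

section herm
variable {F : Type*} [Field F] {q : ℕ} {n : ℕ}

theorem hermForm_eq_dot (σ : F →+* F) (hσ : ∀ x, σ x = x ^ q) (u v : Fin n → F) :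
    Cfsg.hermForm n F q u v = u ⬝ᵥ (σ ∘ v) := by
  simp only [Cfsg.hermForm, dotProduct, Function.comp, hσ]

/-- A matrix preserves the Hermitian form iff `Mᵀ * σ(M) = 1`. -/
theorem preserves_iff (σ : F →+* F) (hσ : ∀ x, σ x = x ^ q) (M : Matrix (Fin n) (Fin n) F) :
    (∀ u v, Cfsg.hermForm n F q (M *ᵥ u) (M *ᵥ v) = Cfsg.hermForm n F q u v) ↔
      Mᵀ * M.map σ = 1 := by
  have key : ∀ u v : Fin n → F, Cfsg.hermForm n F q (M *ᵥ u) (M *ᵥ v) =
      u ⬝ᵥ ((Mᵀ * M.map σ) *ᵥ (σ ∘ v)) := by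
    intro u v
    rw [hermForm_eq_dot σ hσ]
    have h1 : σ ∘ (M *ᵥ v) = M.map σ *ᵥ (σ ∘ v) := by
      funext i
      exact RingHom.map_mulVec σ M v i
    rw [h1, ← Matrix.mulVec_mulVec, Matrix.dotProduct_mulVec u Mᵀ, Matrix.vecMul_transpose]
  constructor
  · intro h
    ext a b
    have := h (Pi.single a 1) (Pi.single b 1)
    rw [key, hermForm_eq_dot σ hσ] at this
    have hb : σ ∘ (Pi.single b (1 : F) : Fin n → F) = Pi.single b 1 := by
      funext i
      by_cases hi : i = b
      · subst hi; simp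
      · simp [Pi.single_eq_of_ne hi]
    rw [hb] at this
    simpa [Matrix.one_apply, Pi.single_apply, eq_comm] using this
  · intro h u v
    rw [key, h, Matrix.one_mulVec, hermForm_eq_dot σ hσ]

/-- Orthonormal `k`-frames in `F^n` for the Hermitian form. -/
abbrev ONFrame (F : Type*) [Field F] (q k n : ℕ) : Type _ :=
  {f : Fin k → (Fin n → F) // ∀ a b, Cfsg.hermForm n F q (f a) (f b) = if a = b then 1 else 0}

/-- `GU_n` is in bijection with orthonormal `n`-frames (the columns). -/
noncomputable def guEquivFrames (σ : F →+* F) (hσ : ∀ x, σ x = x ^ q) :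
    Cfsg.GU n F q ≃ ONFrame F q n n where
  toFun g := ⟨fun a i => (g.1 : Matrix (Fin n) (Fin n) F) i a, by
    intro a b
    have h := (preserves_iff σ hσ (g.1 : Matrix (Fin n) (Fin n) F)).mp g.2
    have h2 := congrFun (congrFun h a) b
    rw [Matrix.one_apply] at h2
    rw [← h2]
    simp only [Cfsg.hermForm, Matrix.mul_apply, Matrix.transpose_apply, Matrix.map_apply, hσ]⟩
  invFun f :=
    let M : Matrix (Fin n) (Fin n) F := Matrix.of (fun i a => f.1 a i)
    have hM : Mᵀ * M.map σ = 1 := by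
      ext a b
      rw [Matrix.one_apply, ← f.2 a b]
      simp only [Cfsg.hermForm, Matrix.mul_apply, Matrix.transpose_apply, Matrix.map_apply, hσ,
        Matrix.of_apply, M]
    have hM' : M.map σ * Mᵀ = 1 := mul_eq_one_comm.mp hM
    ⟨⟨M, (M.map σ)ᵀ, by
        have := congrArg Matrix.transpose hM'
        rwa [Matrix.transpose_mul, Matrix.transpose_transpose, Matrix.transpose_one] at this, by
        have := congrArg Matrix.transpose hM
        rwa [Matrix.transpose_mul, Matrix.transpose_transpose, Matrix.transpose_one] at this⟩,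
      (preserves_iff σ hσ M).mpr hM⟩
  left_inv g := by
    apply Subtype.ext
    apply Units.ext
    rfl
  right_inv f := by
    apply Subtype.ext
    rfl

end herm

section fiber
variable {F : Type*} [Field F] [Fintype F] [DecidableEq F] {q n k : ℕ}

/-- The matrix whose columns are the vectors of a frame. -/
def frameMat (f : Fin k → (Fin n → F)) : Matrix (Fin n) (Fin k) F := Matrix.of (fun i a => f a i)

/-- Coefficients `H(v, f a)` of `v` against the frame. -/
def coef (σ : F →+* F) (f : Fin k → (Fin n → F)) (v : Fin n → F) : Fin k → F :=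
  v ᵥ* (frameMat f).map σ

omit [Fintype F] [DecidableEq F] in
theorem coef_apply (σ : F →+* F) (hσ : ∀ x, σ x = x ^ q) (f : Fin k → (Fin n → F))
    (v : Fin n → F) (a : Fin k) : coef σ f v a = Cfsg.hermForm n F q v (f a) := by
  simp only [coef, Matrix.vecMul, dotProduct, Matrix.map_apply, frameMat, Matrix.of_apply,
    Cfsg.hermForm, hσ]

omit [Fintype F] [DecidableEq F] in
theorem frameMat_orth (σ : F →+* F) (hσ : ∀ x, σ x = x ^ q) (f : Fin k → (Fin n → F))
    (hf : ∀ a b, Cfsg.hermForm n F q (f a) (f b) = if a = b then 1 else 0) :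
    (frameMat f)ᵀ * (frameMat f).map σ = 1 := by
  ext a b
  rw [Matrix.one_apply, ← hf a b]
  simp only [Cfsg.hermForm, Matrix.mul_apply, Matrix.transpose_apply, Matrix.map_apply, hσ,
    Matrix.of_apply, frameMat]

omit [Fintype F] [DecidableEq F] in
theorem coef_mulVec (σ : F →+* F) (hσ : ∀ x, σ x = x ^ q) (f : Fin k → (Fin n → F))
    (hf : ∀ a b, Cfsg.hermForm n F q (f a) (f b) = if a = b then 1 else 0) (x : Fin k → F) :
    coef σ f (frameMat f *ᵥ x) = x := by
  rw [coef, ← Matrix.vecMul_transpose, Matrix.vecMul_vecMul, frameMat_orth σ hσ f hf,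
    Matrix.vecMul_one]

omit [Fintype F] [DecidableEq F] in
theorem coef_sub (σ : F →+* F) (f : Fin k → (Fin n → F)) (v w : Fin n → F) :
    coef σ f (v - w) = coef σ f v - coef σ f w := by
  simp only [coef, Matrix.sub_vecMul]

omit [Fintype F] [DecidableEq F] in
theorem coef_add (σ : F →+* F) (f : Fin k → (Fin n → F)) (v w : Fin n → F) :
    coef σ f (v + w) = coef σ f v + coef σ f w := by
  simp only [coef, Matrix.add_vecMul]

omit [Fintype F] [DecidableEq F] in
/-- Pythagoras: for `w` orthogonal to the frame, `H(w + Mx, w + Mx) = H(w,w) + H(x,x)`. -/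
theorem herm_add_mulVec (σ : F →+* F) (hσ : ∀ x, σ x = x ^ q) (hσσ : ∀ x, σ (σ x) = x)
    (f : Fin k → (Fin n → F))
    (hf : ∀ a b, Cfsg.hermForm n F q (f a) (f b) = if a = b then 1 else 0)
    (w : Fin n → F) (hw : coef σ f w = 0) (x : Fin k → F) :
    Cfsg.hermForm n F q (w + frameMat f *ᵥ x) (w + frameMat f *ᵥ x) =
      Cfsg.hermForm n F q w w + Cfsg.hermForm k F q x x := by
  rw [hermForm_eq_dot σ hσ, hermForm_eq_dot σ hσ, hermForm_eq_dot σ hσ]
  have h1 : σ ∘ (w + frameMat f *ᵥ x) = σ ∘ w + (frameMat f).map σ *ᵥ (σ ∘ x) := by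
    funext i
    simp only [Function.comp, Pi.add_apply, map_add]
    congr 1
    exact RingHom.map_mulVec σ (frameMat f) x i
  rw [h1, add_dotProduct, dotProduct_add, dotProduct_add]
  -- the four terms
  have t1 : w ⬝ᵥ ((frameMat f).map σ *ᵥ (σ ∘ x)) = 0 := by
    rw [Matrix.dotProduct_mulVec]
    have : w ᵥ* (frameMat f).map σ = 0 := hw
    rw [this, zero_dotProduct]
  have t2 : (frameMat f *ᵥ x) ⬝ᵥ ((frameMat f).map σ *ᵥ (σ ∘ x)) = x ⬝ᵥ (σ ∘ x) := by
    rw [Matrix.dotProduct_mulVec]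
    have := coef_mulVec σ hσ f hf x
    rw [coef] at this
    rw [this]
  have t3 : (frameMat f *ᵥ x) ⬝ᵥ (σ ∘ w) = 0 := by
    have h2 : (frameMat f *ᵥ x) ⬝ᵥ (σ ∘ w) = σ ((σ ∘ (frameMat f *ᵥ x)) ⬝ᵥ w) := by
      rw [RingHom.map_dotProduct]
      congr 1
      funext i
      simp [Function.comp, hσσ]
    rw [h2]
    have h3 : σ ∘ (frameMat f *ᵥ x) = (frameMat f).map σ *ᵥ (σ ∘ x) := by
      funext i
      exact RingHom.map_mulVec σ (frameMat f) x i
    rw [h3, dotProduct_comm, t1, map_zero]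
  rw [t1, t2, t3]
  ring

/-- Number of vectors orthogonal to the frame with given norm. -/
def NW (q : ℕ) (σ : F →+* F) (f : Fin k → (Fin n → F)) (c : F) : ℕ :=
  (univ.filter (fun w : Fin n → F => coef σ f w = 0 ∧ Cfsg.hermForm n F q w w = c)).card

theorem card_norm_eq_sum (σ : F →+* F) (hσ : ∀ x, σ x = x ^ q) (hσσ : ∀ x, σ (σ x) = x)
    (f : Fin k → (Fin n → F))
    (hf : ∀ a b, Cfsg.hermForm n F q (f a) (f b) = if a = b then 1 else 0) (c : F) :
    (univ.filter (fun v : Fin n → F => Cfsg.hermForm n F q v v = c)).card =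
      ∑ x : Fin k → F, NW q σ f (c - Cfsg.hermForm k F q x x) := by
  rw [Finset.card_eq_sum_card_fiberwise (f := coef σ f) (t := univ)
    (fun a _ => Finset.mem_univ _)]
  refine Finset.sum_congr rfl (fun x _ => ?_)
  rw [NW]
  refine Finset.card_bij (fun v _ => v - frameMat f *ᵥ x) ?_ ?_ ?_
  · intro v hv
    simp only [Finset.mem_filter, Finset.mem_univ, true_and] at hv ⊢
    obtain ⟨h1, h2⟩ := hv
    have hw : coef σ f (v - frameMat f *ᵥ x) = 0 := by
      rw [coef_sub, coef_mulVec σ hσ f hf, h2, sub_self]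
    refine ⟨hw, ?_⟩
    have := herm_add_mulVec σ hσ hσσ f hf _ hw x
    rw [sub_add_cancel, h1] at this
    rw [this]; ring
  · intro v _ v' _ h
    exact sub_left_injective h
  · intro w hw
    simp only [Finset.mem_filter, Finset.mem_univ, true_and] at hw
    obtain ⟨h1, h2⟩ := hw
    refine ⟨w + frameMat f *ᵥ x, ?_, by simp⟩
    simp only [Finset.mem_filter, Finset.mem_univ, true_and]
    refine ⟨?_, ?_⟩
    · rw [herm_add_mulVec σ hσ hσσ f hf _ h1 x, h2]; ring
    · rw [coef_add, h1, coef_mulVec σ hσ f hf, zero_add]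

omit [Fintype F] [DecidableEq F] in
theorem hermForm_smul (a : F) (u v : Fin n → F) :
    Cfsg.hermForm n F q (a • u) (a • v) = a ^ (q + 1) * Cfsg.hermForm n F q u v := by
  simp only [Cfsg.hermForm, Pi.smul_apply, smul_eq_mul, mul_pow, Finset.mul_sum]
  refine Finset.sum_congr rfl (fun i _ => ?_)
  ring

/-- `NW c = NW 1` for nonzero `c` in the fixed field. -/
theorem NW_eq_one (hF : Fintype.card F = q ^ 2) (σ : F →+* F) (f : Fin k → (Fin n → F)) (c : F)
    (hc0 : c ≠ 0) (hc : c ^ q = c) : NW q σ f c = NW q σ f 1 := by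
  have hpos : 0 < (univ.filter (fun t : F => t ^ (q + 1) = c)).card := by
    rw [card_norm_fiber hF c hc0 hc]; omega
  obtain ⟨l, hl⟩ := Finset.card_pos.mp hpos
  simp only [Finset.mem_filter, Finset.mem_univ, true_and] at hl
  have hl0 : l ≠ 0 := by
    rintro rfl
    rw [zero_pow (by omega)] at hl
    exact hc0 hl.symm
  symm
  rw [NW, NW]
  refine Finset.card_bij (fun w _ => l • w) ?_ ?_ ?_
  · intro w hw
    simp only [Finset.mem_filter, Finset.mem_univ, true_and] at hw ⊢
    refine ⟨?_, ?_⟩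
    · rw [coef, Matrix.smul_vecMul]
      have : w ᵥ* (frameMat f).map σ = 0 := hw.1
      rw [this, smul_zero]
    · rw [hermForm_smul, hw.2, hl, mul_one]
  · intro w _ w' _ h
    exact smul_right_injective _ hl0 h
  · intro w hw
    simp only [Finset.mem_filter, Finset.mem_univ, true_and] at hw
    refine ⟨l⁻¹ • w, ?_, by rw [smul_smul, mul_inv_cancel₀ hl0, one_smul]⟩
    simp only [Finset.mem_filter, Finset.mem_univ, true_and]
    refine ⟨?_, ?_⟩
    · rw [coef, Matrix.smul_vecMul]
      have : w ᵥ* (frameMat f).map σ = 0 := hw.1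
      rw [this, smul_zero]
    · rw [hermForm_smul, hw.2, inv_pow, hl, inv_mul_cancel₀ hc0]

omit [DecidableEq F] in
theorem herm_self_fixed (hF : Fintype.card F = q ^ 2) (m : ℕ) (x : Fin m → F) :
    (Cfsg.hermForm m F q x x) ^ q = Cfsg.hermForm m F q x x := by
  obtain ⟨σ, hσ⟩ := exists_frob hF
  have hσσ := frob_frob hF σ hσ
  rw [← hσ]
  simp only [Cfsg.hermForm, map_sum, map_mul, ← hσ, hσσ]
  exact Finset.sum_congr rfl (fun i _ => mul_comm _ _)

theorem sum_NW (hF : Fintype.card F = q ^ 2) (σ : F →+* F) (f : Fin k → (Fin n → F))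
    (c : F) (hc : c ^ q = c) :
    ∑ x : Fin k → F, NW q σ f (c - Cfsg.hermForm k F q x x) =
      (univ.filter (fun x : Fin k → F => Cfsg.hermForm k F q x x = c)).card * NW q σ f 0 +
      (univ.filter (fun x : Fin k → F => ¬ Cfsg.hermForm k F q x x = c)).card * NW q σ f 1 := by
  have hstep : ∀ x : Fin k → F, NW q σ f (c - Cfsg.hermForm k F q x x) =
      if Cfsg.hermForm k F q x x = c then NW q σ f 0 else NW q σ f 1 := by
    intro x
    split_ifs with h
    · rw [h, sub_self]
    · apply NW_eq_one hF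
      · rw [sub_ne_zero]; exact fun h' => h h'.symm
      · rw [sub_pow_q hF, hc, herm_self_fixed hF]
  rw [Finset.sum_congr rfl (fun x _ => hstep x), Finset.sum_ite, Finset.sum_const,
    Finset.sum_const, smul_eq_mul, smul_eq_mul]

/-- The number of norm-one vectors orthogonal to an orthonormal `k`-frame in `F^n`. -/
theorem NW_one_eq (hF : Fintype.card F = q ^ 2) (σ : F →+* F) (hσ : ∀ x, σ x = x ^ q)
    (hk : k ≤ n) (f : Fin k → (Fin n → F))
    (hf : ∀ a b, Cfsg.hermForm n F q (f a) (f b) = if a = b then 1 else 0) :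
    NW q σ f 1 = (hermAB q (n - k)).2 := by
  have hq := two_le_q hF
  have hσσ := frob_frob hF σ hσ
  have hcompl : ∀ c : F, (univ.filter (fun x : Fin k → F => Cfsg.hermForm k F q x x = c)).card +
      (univ.filter (fun x : Fin k → F => ¬ Cfsg.hermForm k F q x x = c)).card = q ^ (2 * k) := by
    intro c
    rw [Finset.card_filter_add_card_filter_not, Finset.card_univ, Fintype.card_fun, hF,
      Fintype.card_fin, ← pow_mul]
  have h0 := card_norm_eq_sum σ hσ hσσ f hf 0
  have h1 := card_norm_eq_sum σ hσ hσσ f hf 1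
  rw [sum_NW hF σ f 0 (zero_pow (by omega))] at h0
  rw [sum_NW hF σ f 1 (one_pow q)] at h1
  have hn0 := card_herm hF n (0 : F) (zero_pow (by omega))
  have hn1 := card_herm hF n (1 : F) (one_pow q)
  have hk0 := card_herm hF k (0 : F) (zero_pow (by omega))
  have hk1 := card_herm hF k (1 : F) (one_pow q)
  rw [if_pos rfl] at hn0 hk0
  rw [if_neg one_ne_zero] at hn1 hk1
  have e0 : (univ.filter (fun v : Fin n → F => Cfsg.hermForm n F q v v = 0)).card =
      (hermAB q n).1 := hn0
  have e1 : (univ.filter (fun v : Fin n → F => Cfsg.hermForm n F q v v = 1)).card =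
      (hermAB q n).2 := hn1
  have e2 : (univ.filter (fun x : Fin k → F => Cfsg.hermForm k F q x x = 0)).card =
      (hermAB q k).1 := hk0
  have e3 : (univ.filter (fun x : Fin k → F => Cfsg.hermForm k F q x x = 1)).card =
      (hermAB q k).2 := hk1
  rw [e0, e2] at h0
  rw [e1, e3] at h1
  have c0 := hcompl 0
  have c1 := hcompl 1
  rw [e2] at c0
  rw [e3] at c1
  exact solve_b q n k hq hk _ _ _ _ c0 c1 h0 h1

end fiber

section frames
variable {F : Type*} [Field F] [Fintype F] [DecidableEq F] {q n k : ℕ}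

omit [Fintype F] [DecidableEq F] in
theorem herm_symm (σ : F →+* F) (hσ : ∀ x, σ x = x ^ q) (hσσ : ∀ x, σ (σ x) = x)
    (u v : Fin n → F) : Cfsg.hermForm n F q u v = σ (Cfsg.hermForm n F q v u) := by
  simp only [Cfsg.hermForm, map_sum, map_mul, ← hσ, hσσ]
  exact Finset.sum_congr rfl (fun i _ => mul_comm _ _)

/-- Extending a frame by one vector. -/
noncomputable def frameSuccEquiv (σ : F →+* F) (hσ : ∀ x, σ x = x ^ q)
    (hσσ : ∀ x, σ (σ x) = x) :
    ONFrame F q (k + 1) n ≃
      Σ f : ONFrame F q k n, {v : Fin n → F // coef σ f.1 v = 0 ∧ Cfsg.hermForm n F q v v = 1} where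
  toFun g := ⟨⟨Fin.tail g.1, fun a b => by
      have := g.2 a.succ b.succ
      simpa [Fin.tail] using this⟩, ⟨g.1 0, by
      refine ⟨?_, ?_⟩
      · funext a
        rw [coef_apply σ hσ]
        have := g.2 0 a.succ
        simpa [Fin.tail, (Fin.succ_ne_zero a).symm] using this
      · simpa using g.2 0 0⟩⟩
  invFun p := ⟨Fin.cons p.2.1 p.1.1, by
    obtain ⟨⟨f, hf⟩, ⟨v, hv1, hv2⟩⟩ := p
    have hv0 : ∀ a, Cfsg.hermForm n F q v (f a) = 0 := by
      intro a
      rw [← coef_apply σ hσ, hv1]; rfl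
    intro a b
    refine Fin.cases ?_ (fun a' => ?_) a <;> refine Fin.cases ?_ (fun b' => ?_) b
    · simpa using hv2
    · simp only [Fin.cons_zero, Fin.cons_succ]
      rw [hv0, if_neg (Fin.succ_ne_zero b').symm]
    · simp only [Fin.cons_zero, Fin.cons_succ]
      rw [herm_symm σ hσ hσσ, hv0, map_zero, if_neg (Fin.succ_ne_zero a')]
    · simp only [Fin.cons_succ, Fin.succ_inj]
      exact hf a' b'⟩
  left_inv g := by
    apply Subtype.ext
    simp
  right_inv p := by
    obtain ⟨⟨f, hf⟩, ⟨v, hv1, hv2⟩⟩ := p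
    simp only [Fin.cons_zero]
    have hfst : (⟨Fin.tail (Fin.cons v f : Fin (k + 1) → Fin n → F), by
        simpa [Fin.tail_cons] using hf⟩ : ONFrame F q k n) = ⟨f, hf⟩ :=
      Subtype.ext (by funext a; simp [Fin.tail])
    refine Sigma.ext hfst ?_
    refine (Subtype.heq_iff_coe_eq ?_).mpr rfl
    intro x
    simp only [Fin.tail_cons]

theorem card_frames_succ (hF : Fintype.card F = q ^ 2) (hk : k ≤ n) :
    Nat.card (ONFrame F q (k + 1) n) = Nat.card (ONFrame F q k n) * (hermAB q (n - k)).2 := by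
  classical
  obtain ⟨σ, hσ⟩ := exists_frob hF
  have hσσ := frob_frob hF σ hσ
  rw [Nat.card_congr (frameSuccEquiv σ hσ hσσ), Nat.card_sigma]
  have : ∀ f : ONFrame F q k n,
      Nat.card {v : Fin n → F // coef σ f.1 v = 0 ∧ Cfsg.hermForm n F q v v = 1} =
        (hermAB q (n - k)).2 := by
    intro f
    rw [← NW_one_eq hF σ hσ hk f.1 f.2, NW, Nat.card_eq_fintype_card, Fintype.card_subtype]
  rw [Finset.sum_congr rfl (fun f _ => this f), Finset.sum_const, Finset.card_univ, smul_eq_mul,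
    Nat.card_eq_fintype_card]

theorem card_frames (hF : Fintype.card F = q ^ 2) (hk : k ≤ n) :
    Nat.card (ONFrame F q k n) = ∏ j ∈ Finset.range k, (hermAB q (n - j)).2 := by
  induction k with
  | zero =>
    simp only [Finset.range_zero, Finset.prod_empty]
    rw [Nat.card_eq_one_iff_unique]
    refine ⟨⟨fun f g => Subtype.ext (funext fun a => a.elim0)⟩, ⟨⟨fun a => a.elim0, fun a => a.elim0⟩⟩⟩
  | succ k ih =>
    rw [card_frames_succ hF (by omega), ih (by omega), Finset.prod_range_succ]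

/-- `|GU_n(q)| = ∏_{j<n} B_{n-j}`. -/
theorem card_GU_eq_prod (hF : Fintype.card F = q ^ 2) :
    Nat.card (Cfsg.GU n F q) = ∏ j ∈ Finset.range n, (hermAB q (n - j)).2 := by
  obtain ⟨σ, hσ⟩ := exists_frob hF
  rw [Nat.card_congr (guEquivFrames σ hσ), card_frames hF (le_refl n)]

end frames

end Cfsg.Agent.Lib.Lead
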