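import Mathlib

set_option autoImplicit false

namespace Cfsg.Agent.Lib.Lead

open Finset

/-- All fibres of a surjective additive homomorphism between finite groups have the same size. -/
theorem card_fiber_mul_card {A B : Type*} [AddGroup A] [Fintype A] [AddGroup B] [Fintype B]
    [DecidableEq B] (f : A →+ B) (hf : Function.Surjective f) (c : B) :
    (univ.filter (fun a => f a = c)).card * Fintype.card B = Fintype.card A := by
  classical
  have h1 : Fintype.card A = ∑ b : B, (univ.filter (fun a => f a = b)).card := by
    rw [← Finset.card_univ]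
    exact Finset.card_eq_sum_card_fiberwise (fun a _ => Finset.mem_univ (f a))
  rw [h1]
  have h2 : ∀ b : B, (univ.filter (fun a => f a = b)).card = (univ.filter (fun a => f a = c)).card :=
    fun b => AddMonoidHom.card_fiber_eq_of_mem_range f (hf b) (hf c)
  rw [Finset.sum_congr rfl (fun b _ => h2 b)]
  simp [mul_comm]

section dot
variable {F : Type*} [Field F] [Fintype F] [DecidableEq F] {ι : Type*} [Fintype ι] [DecidableEq ι]

/-- The dot product with a fixed vector as an additive homomorphism. -/
def dotHom (x : ι → F) : (ι → F) →+ F where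
  toFun y := ∑ i, x i * y i
  map_zero' := by simp
  map_add' y z := by simp [mul_add, Finset.sum_add_distrib]

omit [Fintype F] in
theorem dotHom_surjective (x : ι → F) (hx : x ≠ 0) : Function.Surjective (dotHom x) := by
  obtain ⟨i, hi⟩ : ∃ i, x i ≠ 0 := by
    by_contra hcon
    push Not at hcon
    exact hx (funext hcon)
  intro c
  refine ⟨Pi.single i (c / x i), ?_⟩
  show ∑ j, x j * (Pi.single i (c / x i) : ι → F) j = c
  rw [Finset.sum_eq_single i]
  · rw [Pi.single_eq_same]; field_simp
  · intro j _ hj; rw [Pi.single_eq_of_ne hj, mul_zero]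
  · intro h; exact absurd (Finset.mem_univ i) h

/-- A nonzero vector has `q^(n-1)` vectors with given dot product. -/
theorem card_dot_eq (x : ι → F) (hx : x ≠ 0) (c : F) :
    (univ.filter (fun y : ι → F => ∑ i, x i * y i = c)).card =
      Fintype.card F ^ (Fintype.card ι - 1) := by
  have h := card_fiber_mul_card (dotHom x) (dotHom_surjective x hx) c
  have hι : 0 < Fintype.card ι := by
    obtain ⟨i, -⟩ : ∃ i, x i ≠ 0 := by
      by_contra hcon
      push Not at hcon
      exact hx (funext hcon)
    exact Fintype.card_pos_iff.mpr ⟨i⟩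
  rw [Fintype.card_fun] at h
  have hq : 0 < Fintype.card F := Fintype.card_pos
  have : Fintype.card F ^ Fintype.card ι = Fintype.card F ^ (Fintype.card ι - 1) * Fintype.card F := by
    rw [← pow_succ]; congr 1; omega
  rw [this] at h
  exact Nat.eq_of_mul_eq_mul_right hq h

/-- The zero vector: all `y` have dot product `0`. -/
theorem card_dot_zero (c : F) :
    (univ.filter (fun y : ι → F => ∑ i, (0 : ι → F) i * y i = c)).card =
      if c = 0 then Fintype.card F ^ Fintype.card ι else 0 := by
  simp only [Pi.zero_apply, zero_mul, Finset.sum_const_zero]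
  split_ifs with hc
  · subst hc
    simp [Fintype.card_fun]
  · have : ¬ (0 : F) = c := fun h => hc h.symm
    simp [this]

/-- Number of pairs `(x, y)` with `x ⬝ y = c`. -/
theorem card_pairs_dot (c : F) :
    (univ.filter (fun p : (ι → F) × (ι → F) => ∑ i, p.1 i * p.2 i = c)).card =
      (if c = 0 then Fintype.card F ^ Fintype.card ι else 0) +
        (Fintype.card F ^ Fintype.card ι - 1) * Fintype.card F ^ (Fintype.card ι - 1) := by
  classical
  have h1 : (univ.filter (fun p : (ι → F) × (ι → F) => ∑ i, p.1 i * p.2 i = c)).card =
      ∑ x : ι → F, (univ.filter (fun y : ι → F => ∑ i, x i * y i = c)).card := by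
    rw [Finset.card_eq_sum_card_fiberwise (f := Prod.fst) (t := univ)
      (fun a _ => Finset.mem_univ _)]
    refine Finset.sum_congr rfl (fun x _ => ?_)
    refine Finset.card_bij (fun p _ => p.2) ?_ ?_ ?_
    · intro p hp
      simp only [Finset.mem_filter, Finset.mem_univ, true_and] at hp ⊢
      rw [← hp.2]; exact hp.1
    · intro p hp p' hp' h
      simp only [Finset.mem_filter, Finset.mem_univ, true_and] at hp hp'
      exact Prod.ext (hp.2.trans hp'.2.symm) h
    · intro y hy
      simp only [Finset.mem_filter, Finset.mem_univ, true_and] at hy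
      exact ⟨(x, y), by simp [hy], rfl⟩
  rw [h1, ← Finset.add_sum_erase univ _ (Finset.mem_univ (0 : ι → F)), card_dot_zero]
  congr 1
  rw [Finset.sum_congr rfl (fun x hx => card_dot_eq x (Finset.ne_of_mem_erase hx) c)]
  rw [Finset.sum_const, Finset.card_erase_of_mem (Finset.mem_univ _), Finset.card_univ,
    Fintype.card_fun, smul_eq_mul]

end dot

end Cfsg.Agent.Lib.Lead
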