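import Mathlib

set_option autoImplicit false

/-! Counting subspaces with a property through counting their ordered bases. -/

namespace Cfsg.Agent.Lib.Lead.SC

open Module Submodule

section
variable {K V : Type*} [Field K] [Fintype K] [AddCommGroup V] [Module K V] [Finite V]

omit [Fintype K] in
theorem span_coe_eq {W : Submodule K V} {k : ℕ} (t : Fin k → W) (ht : LinearIndependent K t)
    (hW : finrank K W = k) : span K (Set.range fun i => (t i : V)) = W := by
  have h1 : span K (Set.range t) = ⊤ :=
    ht.span_eq_top_of_card_eq_finrank' (by rw [Fintype.card_fin, hW])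
  have h2 : (span K (Set.range t)).map W.subtype = span K (Set.range fun i => (t i : V)) := by
    rw [Submodule.map_span, ← Set.range_comp]; rfl
  rw [← h2, h1, Submodule.map_subtype_top]

omit [Fintype K] in
/-- Ordered bases of `W`, as tuples in `V` or in `W`. -/
noncomputable def fiberEquiv (k : ℕ) (W : Submodule K V) (hW : finrank K W = k) :
    {s : Fin k → V // LinearIndependent K s ∧ span K (Set.range s) = W} ≃
      {t : Fin k → W // LinearIndependent K t} where
  toFun s := ⟨fun i => ⟨s.1 i, by
      have h := subset_span (R := K) (Set.mem_range_self (f := s.1) i)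
      rwa [s.2.2] at h⟩,
    LinearIndependent.of_comp W.subtype s.2.1⟩
  invFun t := ⟨fun i => (t.1 i : V), t.2.map' W.subtype (ker_subtype W), span_coe_eq t.1 t.2 hW⟩
  left_inv s := rfl
  right_inv t := rfl

instance : Finite (Submodule K V) :=
  Finite.of_injective (fun W : Submodule K V => (W : Set V)) SetLike.coe_injective

/-- The number of linearly independent `k`-tuples whose span has property `P` is the number of
`k`-dimensional subspaces with `P` times the number of ordered bases of a `k`-space. -/
theorem card_li_span (k : ℕ) (P : Submodule K V → Prop) :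
    Nat.card {s : Fin k → V // LinearIndependent K s ∧ P (span K (Set.range s))} =
      Nat.card {W : Submodule K V // finrank K W = k ∧ P W} *
        ∏ i : Fin k, (Fintype.card K ^ k - Fintype.card K ^ (i : ℕ)) := by
  classical
  let f : {s : Fin k → V // LinearIndependent K s ∧ P (span K (Set.range s))} →
      {W : Submodule K V // finrank K W = k ∧ P W} :=
    fun s => ⟨span K (Set.range s.1), by rw [finrank_span_eq_card s.2.1, Fintype.card_fin], s.2.2⟩
  let _ : Fintype {W : Submodule K V // finrank K W = k ∧ P W} := Fintype.ofFinite _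
  rw [← Nat.card_congr (Equiv.sigmaFiberEquiv f), Nat.card_sigma]
  have hfib : ∀ W : {W : Submodule K V // finrank K W = k ∧ P W},
      Nat.card {x : {s : Fin k → V // LinearIndependent K s ∧ P (span K (Set.range s))} //
        f x = W} = ∏ i : Fin k, (Fintype.card K ^ k - Fintype.card K ^ (i : ℕ)) := by
    intro W
    have e1 : {x : {s : Fin k → V // LinearIndependent K s ∧ P (span K (Set.range s))} //
        f x = W} ≃ {s : Fin k → V // LinearIndependent K s ∧ span K (Set.range s) = W.1} :=
      { toFun := fun x => ⟨x.1.1, x.1.2.1, congrArg Subtype.val x.2⟩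
        invFun := fun s => ⟨⟨s.1, s.2.1, by rw [s.2.2]; exact W.2.2⟩, Subtype.ext s.2.2⟩
        left_inv := fun x => rfl
        right_inv := fun s => rfl }
    rw [Nat.card_congr e1, Nat.card_congr (fiberEquiv k W.1 W.2.1),
      card_linearIndependent (by rw [W.2.1]), W.2.1]
  rw [Finset.sum_congr rfl (fun W _ => hfib W), Finset.sum_const, Finset.card_univ, smul_eq_mul,
    Nat.card_eq_fintype_card]

/-- The number of vectors of a plane `W` independent of a given nonzero `v ∈ W`. -/
theorem card_indep_in_plane (W : Submodule K V) (hW : finrank K W = 2) (v : W) (hv : v ≠ 0) :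
    Nat.card {w : W // LinearIndependent K ![v, w]} =
      Fintype.card K ^ 2 - Fintype.card K := by
  classical
  let _ : Fintype W := Fintype.ofFinite _
  have hcardW : Fintype.card W = Fintype.card K ^ 2 := by
    rw [Module.card_eq_pow_finrank (K := K) (V := W), hW]
  rw [Nat.card_eq_fintype_card, Fintype.card_subtype]
  have : (Finset.univ.filter (fun w : W => LinearIndependent K ![v, w])) =
      (Finset.univ.image (fun a : K => a • v))ᶜ := by
    ext w
    simp only [Finset.mem_filter, Finset.mem_univ, true_and, Finset.mem_compl, Finset.mem_image,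
      not_exists]
    rw [LinearIndependent.pair_iff' hv]
  rw [this, Finset.card_compl, hcardW, Finset.card_image_of_injective _ (smul_left_injective K hv),
    Finset.card_univ]

/-- Planes with property `P` through a fixed nonzero vector. -/
theorem card_li_span_through (P : Submodule K V → Prop) (v : V) (hv : v ≠ 0) :
    Nat.card {w : V // LinearIndependent K ![v, w] ∧ P (span K {v, w})} =
      Nat.card {W : Submodule K V // finrank K W = 2 ∧ v ∈ W ∧ P W} *
        (Fintype.card K ^ 2 - Fintype.card K) := by
  classical
  have hrange : ∀ w : V, Set.range ![v, w] = {v, w} := by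
    intro w
    ext x
    simp only [Set.mem_range, Set.mem_insert_iff, Set.mem_singleton_iff]
    constructor
    · rintro ⟨i, rfl⟩
      fin_cases i
      · left; rfl
      · right; rfl
    · rintro (rfl | rfl)
      · exact ⟨0, rfl⟩
      · exact ⟨1, rfl⟩
  let f : {w : V // LinearIndependent K ![v, w] ∧ P (span K {v, w})} →
      {W : Submodule K V // finrank K W = 2 ∧ v ∈ W ∧ P W} :=
    fun w => ⟨span K {v, w.1}, by
      rw [← hrange, finrank_span_eq_card w.2.1, Fintype.card_fin],
      subset_span (Set.mem_insert _ _), w.2.2⟩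
  let _ : Fintype {W : Submodule K V // finrank K W = 2 ∧ v ∈ W ∧ P W} := Fintype.ofFinite _
  rw [← Nat.card_congr (Equiv.sigmaFiberEquiv f), Nat.card_sigma]
  have hfib : ∀ W : {W : Submodule K V // finrank K W = 2 ∧ v ∈ W ∧ P W},
      Nat.card {x : {w : V // LinearIndependent K ![v, w] ∧ P (span K {v, w})} // f x = W} =
        Fintype.card K ^ 2 - Fintype.card K := by
    intro W
    have hv' : (⟨v, W.2.2.1⟩ : W.1) ≠ 0 := fun h => hv (congrArg Subtype.val h)
    rw [← card_indep_in_plane W.1 W.2.1 ⟨v, W.2.2.1⟩ hv']
    have hfun : ∀ w : W.1, (W.1.subtype ∘ ![(⟨v, W.2.2.1⟩ : W.1), w]) = ![v, (w : V)] := by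
      intro w
      ext i
      fin_cases i <;> rfl
    have hfun' : ∀ w : W.1, (fun i => ((![(⟨v, W.2.2.1⟩ : W.1), w] i : W.1) : V)) = ![v, (w : V)] :=
      hfun
    have hspan : ∀ w : W.1, LinearIndependent K ![(⟨v, W.2.2.1⟩ : W.1), w] →
        span K {v, (w : V)} = W.1 := by
      intro w hw
      have h1 := span_coe_eq (W := W.1) ![⟨v, W.2.2.1⟩, w] hw W.2.1
      rw [hfun' w, hrange] at h1
      exact h1
    refine Nat.card_congr
      { toFun := fun x => ⟨⟨x.1.1, ?_⟩, ?_⟩
        invFun := fun w => ⟨⟨w.1.1, ?_, ?_⟩, ?_⟩
        left_inv := fun x => rfl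
        right_inv := fun w => rfl }
    · have h1 := subset_span (R := K) (s := {v, x.1.1}) (Set.mem_insert_of_mem _ rfl)
      have h2 : span K {v, x.1.1} = W.1 := congrArg Subtype.val x.2
      rwa [h2] at h1
    · apply LinearIndependent.of_comp W.1.subtype
      rw [hfun]
      exact x.1.2.1
    · have := w.2.map' W.1.subtype (ker_subtype W.1)
      rwa [hfun] at this
    · rw [hspan w.1 w.2]; exact W.2.2.2
    · exact Subtype.ext (hspan w.1 w.2)
  rw [Finset.sum_congr rfl (fun W _ => hfib W), Finset.sum_const, Finset.card_univ, smul_eq_mul,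
    Nat.card_eq_fintype_card]

end

section vanish
variable {K V : Type*} [Field K] [AddCommGroup V] [Module K V]

/-- A biadditive, "semi-homogeneous" form vanishing on a set vanishes on its span. -/
theorem vanish_span (B : V → V → K)
    (hal : ∀ x y z, B (x + y) z = B x z + B y z) (har : ∀ x y z, B x (y + z) = B x y + B x z)
    (hsl : ∀ (c : K) x y, B x y = 0 → B (c • x) y = 0)
    (hsr : ∀ (c : K) x y, B x y = 0 → B x (c • y) = 0)
    (S : Set V) (h : ∀ x ∈ S, ∀ y ∈ S, B x y = 0) :
    ∀ x ∈ span K S, ∀ y ∈ span K S, B x y = 0 := by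
  have hzl : ∀ y, B 0 y = 0 := by
    intro y
    have := hal 0 0 y
    rw [add_zero] at this
    exact left_eq_add.mp this
  have hzr : ∀ x, B x 0 = 0 := by
    intro x
    have := har x 0 0
    rw [add_zero] at this
    exact left_eq_add.mp this
  intro x hx y hy
  induction hx, hy using Submodule.span_induction₂ with
  | mem_mem x y hx hy => exact h x hx y hy
  | zero_left y _ => exact hzl y
  | zero_right x _ => exact hzr x
  | add_left x y z _ _ _ h1 h2 => rw [hal, h1, h2, add_zero]
  | add_right x y z _ _ _ h1 h2 => rw [har, h1, h2, add_zero]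
  | smul_left r x y _ _ h => exact hsl r x y h
  | smul_right r x y _ _ h => exact hsr r x y h

end vanish

end Cfsg.Agent.Lib.Lead.SC
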