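import Mathlib
import Cfsg.Prelude.Def_Classical
import Cfsg.Agent.Lib.Lead.Unitary
import Cfsg.Agent.Lib.Lead.QuadCount
import Cfsg.Agent.Lib.Lead.SubspaceCount

set_option autoImplicit false

/-! Isotropic vectors orthogonal to an isotropic vector in a unitary space. -/

namespace Cfsg.Agent.Lib.Lead.HI

open Finset Polynomial Cfsg.Agent.Lib.Lead

section field
variable {F : Type*} [Field F] [Fintype F] {q : ℕ}

theorem exists_not_fixed (hF : Fintype.card F = q ^ 2) : ∃ δ : F, δ ^ q ≠ δ := by
  classical
  by_contra hcon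
  push Not at hcon
  have hq := two_le_q hF
  have hne := FiniteField.X_pow_card_sub_X_ne_zero F (p := q) (by omega)
  have hdeg := FiniteField.X_pow_card_sub_X_natDegree_eq F (p := q) (by omega)
  have h1 : Fintype.card F ≤ q := by
    calc Fintype.card F = (Finset.univ : Finset F).card := Finset.card_univ.symm
      _ ≤ (roots (X ^ q - X : F[X])).toFinset.card := by
        apply Finset.card_le_card
        intro x _
        rw [Multiset.mem_toFinset, mem_roots hne, IsRoot.def, eval_sub, eval_pow, eval_X, hcon x,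
          sub_self]
      _ ≤ Multiset.card (roots (X ^ q - X : F[X])) := Multiset.toFinset_card_le _
      _ ≤ (X ^ q - X : F[X]).natDegree := card_roots' _
      _ = q := hdeg
  rw [hF] at h1
  nlinarith

theorem exists_theta (hF : Fintype.card F = q ^ 2) : ∃ θ : F, θ + θ ^ q = 1 := by
  obtain ⟨δ, hδ⟩ := exists_not_fixed hF
  have hd : δ - δ ^ q ≠ 0 := sub_ne_zero.mpr (Ne.symm hδ)
  have hqq : (δ ^ q) ^ q = δ := by
    rw [← pow_mul, ← sq, ← hF, FiniteField.pow_card]
  refine ⟨δ / (δ - δ ^ q), ?_⟩
  rw [div_pow, sub_pow_q hF, hqq]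
  have hd' : δ ^ q - δ ≠ 0 := sub_ne_zero.mpr hδ
  field_simp
  ring

theorem trace_surj (hF : Fintype.card F = q ^ 2) (s : F) (hs : s ^ q = s) :
    ∃ c : F, c + c ^ q = s := by
  obtain ⟨θ, hθ⟩ := exists_theta hF
  refine ⟨s * θ, ?_⟩
  rw [mul_pow, hs, ← mul_add, hθ, mul_one]

theorem card_fixed [DecidableEq F] (hF : Fintype.card F = q ^ 2) :
    (univ.filter (fun s : F => s ^ q = s)).card = q := by
  have hq := two_le_q hF
  have hmaps : ∀ t ∈ univ.filter (fun t : F => t ≠ 0),
      t ^ (q + 1) ∈ (univ.filter (fun s : F => s ^ q = s)).erase 0 := by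
    intro t ht
    simp only [Finset.mem_filter, Finset.mem_univ, true_and] at ht
    rw [Finset.mem_erase]
    refine ⟨pow_ne_zero _ ht, ?_⟩
    simp only [Finset.mem_filter, Finset.mem_univ, true_and]
    exact norm_pow_q hF t
  have h1 := Finset.card_eq_sum_card_fiberwise hmaps
  have h2 : ∀ c ∈ (univ.filter (fun s : F => s ^ q = s)).erase 0,
      ((univ.filter (fun t : F => t ≠ 0)).filter (fun t => t ^ (q + 1) = c)).card = q + 1 := by
    intro c hc
    rw [Finset.mem_erase] at hc
    simp only [Finset.mem_filter, Finset.mem_univ, true_and] at hc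
    refine Eq.trans ?_ (card_norm_fiber hF c hc.1 hc.2)
    congr 1
    ext t
    simp only [Finset.mem_filter, Finset.mem_univ, true_and, and_iff_right_iff_imp]
    rintro rfl h0
    apply hc.1
    rw [h0, zero_pow (by omega)]
  rw [Finset.sum_congr rfl h2, Finset.sum_const, smul_eq_mul] at h1
  have h3 : (univ.filter (fun t : F => t ≠ 0)).card = q ^ 2 - 1 := by
    rw [Finset.filter_ne' univ (0 : F), Finset.card_erase_of_mem (Finset.mem_univ _),
      Finset.card_univ, hF]
  rw [h3] at h1
  have h0mem : (0 : F) ∈ univ.filter (fun s : F => s ^ q = s) := by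
    simp only [Finset.mem_filter, Finset.mem_univ, true_and]
    exact zero_pow (by omega)
  rw [Finset.card_erase_of_mem h0mem] at h1
  have hpos : 0 < (univ.filter (fun s : F => s ^ q = s)).card := Finset.card_pos.mpr ⟨0, h0mem⟩
  obtain ⟨r, rfl⟩ : ∃ r, q = r + 1 := ⟨q - 1, by omega⟩
  have h4 : (r + 1) ^ 2 - 1 = r * (r + 1 + 1) := by
    have : (r + 1) ^ 2 = r * (r + 1 + 1) + 1 := by ring
    rw [this, Nat.add_sub_cancel]
  rw [h4] at h1
  have := Nat.eq_of_mul_eq_mul_right (by omega : 0 < r + 1 + 1) h1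
  omega

end field

section form
variable {F : Type*} [Field F] {q n : ℕ}

local notation "H" => Cfsg.hermForm n F q

theorem herm_add_left (u u' v : Fin n → F) : H (u + u') v = H u v + H u' v := by
  simp only [Cfsg.hermForm, Pi.add_apply, add_mul, Finset.sum_add_distrib]

theorem herm_smul_left (c : F) (u v : Fin n → F) : H (c • u) v = c * H u v := by
  simp only [Cfsg.hermForm, Pi.smul_apply, smul_eq_mul, Finset.mul_sum, mul_assoc]

theorem herm_smul_right (c : F) (u v : Fin n → F) : H u (c • v) = c ^ q * H u v := by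
  simp only [Cfsg.hermForm, Pi.smul_apply, smul_eq_mul, Finset.mul_sum, mul_pow]
  exact Finset.sum_congr rfl (fun i _ => by ring)

theorem herm_add_right (σ : F →+* F) (hσ : ∀ x, σ x = x ^ q) (u v v' : Fin n → F) :
    H u (v + v') = H u v + H u v' := by
  simp only [Cfsg.hermForm, Pi.add_apply, ← hσ, map_add, mul_add, Finset.sum_add_distrib]

theorem herm_zero_right (u : Fin n → F) (hq : 0 < q) : H u 0 = 0 := by
  simp [Cfsg.hermForm, zero_pow hq.ne']

end form


section count
variable {F : Type*} [Field F] [Fintype F] [DecidableEq F] {q n : ℕ}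

local notation "H" => Cfsg.hermForm n F q

/-- The additive map `w ↦ H u w`. -/
def Hhom (σ : F →+* F) (u : Fin n → F) : (Fin n → F) →+ F where
  toFun w := ∑ i, u i * σ (w i)
  map_zero' := by simp
  map_add' w w' := by simp [mul_add, Finset.sum_add_distrib]

omit [Fintype F] [DecidableEq F] in
theorem Hhom_apply (σ : F →+* F) (hσ : ∀ x, σ x = x ^ q) (u w : Fin n → F) :
    Hhom σ u w = H u w := by
  simp only [Hhom, Cfsg.hermForm, hσ]
  rfl

omit [Fintype F] in
theorem Hhom_surj (σ : F →+* F) (hσσ : ∀ x, σ (σ x) = x) (u : Fin n → F) (hu : u ≠ 0) :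
    Function.Surjective (Hhom σ u) := by
  obtain ⟨i, hi⟩ : ∃ i, u i ≠ 0 := by
    by_contra hcon
    push Not at hcon
    exact hu (funext hcon)
  intro c
  refine ⟨Pi.single i (σ (c / u i)), ?_⟩
  show ∑ j, u j * σ ((Pi.single i (σ (c / u i)) : Fin n → F) j) = c
  rw [Finset.sum_eq_single i]
  · rw [Pi.single_eq_same, hσσ]; field_simp
  · intro j _ hj; rw [Pi.single_eq_of_ne hj, map_zero, mul_zero]
  · intro h; exact absurd (Finset.mem_univ i) h

/-- Hyperplane count, multiplicative form. -/
theorem card_hyp (hF : Fintype.card F = q ^ 2) (u : Fin n → F) (hu : u ≠ 0) (c : F) :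
    (univ.filter (fun w : Fin n → F => H u w = c)).card * q ^ 2 = q ^ (2 * n) := by
  obtain ⟨σ, hσ⟩ := exists_frob hF
  have hσσ := frob_frob hF σ hσ
  have h := card_fiber_mul_card (Hhom σ u) (Hhom_surj σ hσσ u hu) c
  rw [Fintype.card_fun, Fintype.card_fin, hF, ← pow_mul] at h
  rw [← h]
  congr 2
  ext w
  simp only [Finset.mem_filter, Finset.mem_univ, true_and, Hhom_apply σ hσ]

omit [DecidableEq F] in
theorem herm_shift (hF : Fintype.card F = q ^ 2) (u w : Fin n → F) (huu : H u u = 0)
    (huw : H u w = 1) (c : F) :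
    H u (w + c • u) = 1 ∧ H (w + c • u) (w + c • u) = H w w + (c + c ^ q) := by
  obtain ⟨σ, hσ⟩ := exists_frob hF
  have hσσ := frob_frob hF σ hσ
  have hwu : H w u = 1 := by
    rw [herm_symm σ hσ hσσ, huw, map_one]
  constructor
  · rw [herm_add_right σ hσ, herm_smul_right, huu, huw, mul_zero, add_zero]
  · rw [herm_add_right σ hσ, herm_add_left, herm_add_left, herm_smul_right, herm_smul_right,
      herm_smul_left, herm_smul_left, huu, huw, hwu]
    ring

/-- Isotropic partners at value one: `M * q = |A|`. -/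
theorem card_M_mul (hF : Fintype.card F = q ^ 2) (u : Fin n → F) (huu : H u u = 0) :
    (univ.filter (fun w : Fin n → F => H u w = 1 ∧ H w w = 0)).card * q =
      (univ.filter (fun w : Fin n → F => H u w = 1)).card := by
  obtain ⟨σ, hσ⟩ := exists_frob hF
  have hmaps : ∀ w ∈ univ.filter (fun w : Fin n → F => H u w = 1),
      H w w ∈ univ.filter (fun s : F => s ^ q = s) := by
    intro w _
    simp only [Finset.mem_filter, Finset.mem_univ, true_and]
    exact herm_self_fixed hF n w
  rw [Finset.card_eq_sum_card_fiberwise hmaps]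
  have hfib : ∀ s ∈ univ.filter (fun s : F => s ^ q = s),
      ((univ.filter (fun w : Fin n → F => H u w = 1)).filter (fun w => H w w = s)).card =
        (univ.filter (fun w : Fin n → F => H u w = 1 ∧ H w w = 0)).card := by
    intro s hs
    simp only [Finset.mem_filter, Finset.mem_univ, true_and] at hs
    obtain ⟨c, hc⟩ := trace_surj hF s hs
    symm
    refine Finset.card_nbij' (fun w => w + c • u) (fun w => w + (-c) • u) ?_ ?_ ?_ ?_
    · intro w hw
      have hw' := (Finset.mem_filter.mp (Finset.mem_coe.mp hw)).2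
      have := herm_shift hF u w huu hw'.1 c
      refine Finset.mem_coe.mpr (Finset.mem_filter.mpr ⟨?_, ?_⟩)
      · exact Finset.mem_filter.mpr ⟨Finset.mem_univ _, this.1⟩
      · rw [this.2, hw'.2, zero_add, hc]
    · intro w hw
      have hw' := Finset.mem_filter.mp (Finset.mem_coe.mp hw)
      have hw1 := (Finset.mem_filter.mp hw'.1).2
      have := herm_shift hF u w huu hw1 (-c)
      refine Finset.mem_coe.mpr (Finset.mem_filter.mpr ⟨Finset.mem_univ _, this.1, ?_⟩)
      rw [this.2, hw'.2, ← hσ, map_neg, hσ, ← hc]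
      ring
    · intro w _
      simp only [neg_smul]
      abel
    · intro w _
      simp only [neg_smul]
      abel
  rw [Finset.sum_congr rfl hfib, Finset.sum_const, smul_eq_mul, card_fixed hF, mul_comm]

theorem card_M (hF : Fintype.card F = q ^ 2) (hn : 2 ≤ n) (u : Fin n → F) (hu : u ≠ 0)
    (huu : H u u = 0) :
    (univ.filter (fun w : Fin n → F => H u w = 1 ∧ H w w = 0)).card = q ^ (2 * n - 3) := by
  have hq := two_le_q hF
  have h1 := card_M_mul hF u huu
  have h2 := card_hyp hF u hu 1
  rw [← h1] at h2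
  have e : q ^ (2 * n) = q ^ (2 * n - 3) * q * q ^ 2 := by
    rw [← pow_succ, ← pow_add]; congr 1; omega
  rw [e] at h2
  have hpos : 0 < q ^ 2 := by positivity
  have h3 := Nat.eq_of_mul_eq_mul_right hpos h2
  exact Nat.eq_of_mul_eq_mul_right (by omega) h3

/-- isotropic vectors orthogonal to `u`, additive form -/
theorem card_Z (hF : Fintype.card F = q ^ 2) (hn : 2 ≤ n) (u : Fin n → F) (hu : u ≠ 0)
    (huu : H u u = 0) :
    (univ.filter (fun w : Fin n → F => H u w = 0 ∧ H w w = 0)).card +
      (q ^ 2 - 1) * q ^ (2 * n - 3) = (hermAB q n).1 := by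
  obtain ⟨σ, hσ⟩ := exists_frob hF
  have hσσ := frob_frob hF σ hσ
  have hq := two_le_q hF
  have hA := card_herm hF n (0 : F) (zero_pow (by omega))
  rw [if_pos rfl] at hA
  rw [← hA]
  have hsplit : (univ.filter (fun v : Fin n → F => ∑ i, v i * v i ^ q = 0)).card =
      ∑ t : F, (univ.filter (fun w : Fin n → F => H u w = t ∧ H w w = 0)).card := by
    rw [Finset.card_eq_sum_card_fiberwise (f := fun w => H u w) (t := univ)
      (fun _ _ => Finset.mem_univ _)]
    refine Finset.sum_congr rfl (fun t _ => ?_)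
    rw [Finset.filter_filter]
    refine congrArg Finset.card (Finset.filter_congr (fun w _ => ?_))
    show (∑ i, w i * w i ^ q = 0 ∧ H u w = t) ↔ (H u w = t ∧ H w w = 0)
    exact and_comm
  rw [hsplit]
  have hfib : ∀ t : F, t ≠ 0 →
      (univ.filter (fun w : Fin n → F => H u w = t ∧ H w w = 0)).card = q ^ (2 * n - 3) := by
    intro t ht
    rw [← card_M hF hn u hu huu]
    symm
    have hst : σ t ≠ 0 := by
      intro h0
      apply ht
      rw [← hσσ t, h0, map_zero]
    refine Finset.card_nbij' (fun w => (σ t) • w) (fun w => (σ t)⁻¹ • w) ?_ ?_ ?_ ?_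
    · intro w hw
      have hw' := (Finset.mem_filter.mp (Finset.mem_coe.mp hw)).2
      refine Finset.mem_coe.mpr (Finset.mem_filter.mpr ⟨Finset.mem_univ _, ?_, ?_⟩)
      · rw [herm_smul_right, hw'.1, mul_one, ← hσ, hσσ]
      · rw [hermForm_smul, hw'.2, mul_zero]
    · intro w hw
      have hw' := (Finset.mem_filter.mp (Finset.mem_coe.mp hw)).2
      refine Finset.mem_coe.mpr (Finset.mem_filter.mpr ⟨Finset.mem_univ _, ?_, ?_⟩)
      · rw [herm_smul_right, hw'.1, ← hσ, map_inv₀, hσσ, inv_mul_cancel₀ ht]
      · rw [hermForm_smul, hw'.2, mul_zero]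
    · intro w _
      simp only [smul_smul, inv_mul_cancel₀ hst, one_smul]
    · intro w _
      simp only [smul_smul, mul_inv_cancel₀ hst, one_smul]
  rw [← Finset.add_sum_erase univ _ (Finset.mem_univ (0 : F))]
  congr 1
  rw [Finset.sum_congr rfl (fun t ht => hfib t (Finset.ne_of_mem_erase ht)), Finset.sum_const,
    smul_eq_mul, Finset.card_erase_of_mem (Finset.mem_univ _), Finset.card_univ, hF]

end count

section planes
variable {F : Type*} [Field F] [Fintype F] {q n : ℕ}

local notation "H" => Cfsg.hermForm n F q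

/-- Totally isotropic subspaces. -/
def TIso (q n : ℕ) (W : Submodule F (Fin n → F)) : Prop :=
  ∀ u ∈ W, ∀ v ∈ W, Cfsg.hermForm n F q u v = 0

theorem tiso_span_pair (hF : Fintype.card F = q ^ 2) (u w : Fin n → F) :
    TIso q n (Submodule.span F {u, w}) ↔ H u u = 0 ∧ H u w = 0 ∧ H w w = 0 := by
  obtain ⟨σ, hσ⟩ := exists_frob hF
  have hσσ := frob_frob hF σ hσ
  constructor
  · intro h
    have hu : u ∈ Submodule.span F {u, w} := Submodule.subset_span (by simp)
    have hw : w ∈ Submodule.span F {u, w} := Submodule.subset_span (by simp)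
    exact ⟨h u hu u hu, h u hu w hw, h w hw w hw⟩
  · rintro ⟨h1, h2, h3⟩
    have h2' : H w u = 0 := by rw [herm_symm σ hσ hσσ, h2, map_zero]
    exact SC.vanish_span (K := F) (fun x y : Fin n → F => H x y)
      (fun x y z => herm_add_left x y z) (fun x y z => herm_add_right σ hσ x y z)
      (fun c x y hxy => by simp only [herm_smul_left, hxy, mul_zero])
      (fun c x y hxy => by simp only [herm_smul_right, hxy, mul_zero])
      {u, w} (by
        intro x hx y hy
        simp only [Set.mem_insert_iff, Set.mem_singleton_iff] at hx hy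
        rcases hx with rfl | rfl <;> rcases hy with rfl | rfl
        · exact h1
        · exact h2
        · exact h2'
        · exact h3)

/-- Partner count for an isotropic vector. -/
theorem card_partner (hF : Fintype.card F = q ^ 2) (hn : 2 ≤ n) (u : Fin n → F) (hu : u ≠ 0)
    (huu : H u u = 0) (Z : ℕ) (hZ : Z + (q ^ 2 - 1) * q ^ (2 * n - 3) = (hermAB q n).1) :
    Nat.card {w : Fin n → F // LinearIndependent F ![u, w] ∧
      TIso q n (Submodule.span F {u, w})} = Z - q ^ 2 := by
  classical
  have hq := two_le_q hF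
  have hZ' := card_Z hF hn u hu huu
  have hZeq : (univ.filter (fun w : Fin n → F => H u w = 0 ∧ H w w = 0)).card = Z := by omega
  rw [Nat.card_eq_fintype_card, Fintype.card_subtype]
  have : (Finset.univ.filter (fun w : Fin n → F => LinearIndependent F ![u, w] ∧
      TIso q n (Submodule.span F {u, w}))) =
      (Finset.univ.filter (fun w : Fin n → F => H u w = 0 ∧ H w w = 0)) \
        (Finset.univ.image (fun a : F => a • u)) := by
    ext w
    simp only [Finset.mem_filter, Finset.mem_univ, true_and, Finset.mem_sdiff, Finset.mem_image,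
      not_exists]
    rw [LinearIndependent.pair_iff' hu, tiso_span_pair hF]
    tauto
  rw [this, Finset.card_sdiff_of_subset, hZeq,
    Finset.card_image_of_injective _ (smul_left_injective F hu), Finset.card_univ, hF]
  intro w hw
  obtain ⟨a, -, rfl⟩ := Finset.mem_image.mp hw
  simp only [Finset.mem_filter, Finset.mem_univ, true_and]
  rw [herm_smul_right, huu, mul_zero, hermForm_smul, huu, mul_zero]
  exact ⟨rfl, rfl⟩

theorem card_partner_aniso (hF : Fintype.card F = q ^ 2) (u : Fin n → F)
    (huu : H u u ≠ 0) :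
    Nat.card {w : Fin n → F // LinearIndependent F ![u, w] ∧
      TIso q n (Submodule.span F {u, w})} = 0 := by
  rw [Nat.card_eq_zero]
  left
  refine ⟨fun w => huu ?_⟩
  exact ((tiso_span_pair hF u w.1).mp w.2.2).1

/-- The number of totally isotropic planes, multiplicative form. -/
theorem card_planes (hF : Fintype.card F = q ^ 2) (hn : 2 ≤ n) (Z : ℕ)
    (hZ : Z + (q ^ 2 - 1) * q ^ (2 * n - 3) = (hermAB q n).1) :
    Nat.card {W : Submodule F (Fin n → F) // Module.finrank F W = 2 ∧ TIso q n W} *
      (((q ^ 2) ^ 2 - 1) * ((q ^ 2) ^ 2 - q ^ 2)) = ((hermAB q n).1 - 1) * (Z - q ^ 2) := by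
  classical
  have hq := two_le_q hF
  have h1 := SC.card_li_span (K := F) (V := Fin n → F) 2 (TIso q n)
  rw [Fin.prod_univ_two, hF] at h1
  simp only [Fin.val_zero, Fin.val_one, pow_zero, pow_one] at h1
  rw [← h1]
  have hrange : ∀ s : Fin 2 → (Fin n → F), Set.range s = {s 0, s 1} := by
    intro s
    ext x
    simp only [Set.mem_range, Set.mem_insert_iff, Set.mem_singleton_iff]
    constructor
    · rintro ⟨i, rfl⟩
      fin_cases i
      · left; rfl
      · right; rfl
    · rintro (rfl | rfl)
      · exact ⟨0, rfl⟩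
      · exact ⟨1, rfl⟩
  have heta : ∀ s : Fin 2 → (Fin n → F), ![s 0, s 1] = s := by
    intro s
    ext i
    fin_cases i <;> rfl
  let e : {s : Fin 2 → (Fin n → F) // LinearIndependent F s ∧
      TIso q n (Submodule.span F (Set.range s))} ≃
      Σ u : {u : Fin n → F // u ≠ 0}, {w : Fin n → F // LinearIndependent F ![u.1, w] ∧
        TIso q n (Submodule.span F {u.1, w})} :=
    { toFun := fun s => ⟨⟨s.1 0, s.2.1.ne_zero 0⟩, ⟨s.1 1, by rw [heta]; exact s.2.1, by
        rw [← hrange]; exact s.2.2⟩⟩
      invFun := fun x => ⟨![x.1.1, x.2.1], x.2.2.1, by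
        rw [hrange]; exact x.2.2.2⟩
      left_inv := fun s => Subtype.ext (heta s.1)
      right_inv := fun x => rfl }
  rw [Nat.card_congr e, Nat.card_sigma]
  have hterm : ∀ u : {u : Fin n → F // u ≠ 0},
      Nat.card {w : Fin n → F // LinearIndependent F ![u.1, w] ∧
        TIso q n (Submodule.span F {u.1, w})} = if H u.1 u.1 = 0 then Z - q ^ 2 else 0 := by
    intro u
    split_ifs with h
    · exact card_partner hF hn u.1 u.2 h Z hZ
    · exact card_partner_aniso hF u.1 h
  rw [Finset.sum_congr rfl (fun u _ => hterm u), ← Finset.sum_filter, Finset.sum_const,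
    smul_eq_mul]
  congr 1
  have hA := card_herm hF n (0 : F) (zero_pow (by omega))
  rw [if_pos rfl] at hA
  rw [← hA]
  have : (univ.filter (fun v : Fin n → F => ∑ i, v i * v i ^ q = 0)) =
      insert 0 ((univ.filter (fun u : {u : Fin n → F // u ≠ 0} => H u.1 u.1 = 0)).map
        (Function.Embedding.subtype _)) := by
    ext v
    rw [Finset.mem_insert, Finset.mem_map, Finset.mem_filter]
    constructor
    · intro h
      by_cases hv : v = 0
      · left; exact hv
      · right
        exact ⟨⟨v, hv⟩, Finset.mem_filter.mpr ⟨Finset.mem_univ _, h.2⟩, rfl⟩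
    · rintro (rfl | ⟨x, hx, rfl⟩)
      · exact ⟨Finset.mem_univ _, by simp [zero_pow (by omega : q ≠ 0)]⟩
      · exact ⟨Finset.mem_univ _, (Finset.mem_filter.mp hx).2⟩
  rw [this, Finset.card_insert_of_notMem, Finset.card_map, Nat.add_sub_cancel]
  rw [Finset.mem_map]
  rintro ⟨x, -, hx⟩
  exact x.2 hx

end planes

end Cfsg.Agent.Lib.Lead.HI
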