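import Mathlib
import Cfsg.Agent.Lib.Helper1.O9L.Defs

set_option autoImplicit false
set_option linter.unusedVariables false

/-!
# Project O9L (designer helper1), row ARITH (lead): six lcm identities for odd `q ≥ 3`.
-/

namespace Cfsg.Agent.Lib.Helper1.O9L

/-- `2 * lcm a b = a * b` when `gcd a b = 2`. -/
theorem o9larith_two_lcm (a b : ℕ) (h : Nat.gcd a b = 2) : 2 * Nat.lcm a b = a * b := by
  rw [← h]; exact Nat.gcd_mul_lcm a b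

/-- If `2 ∣ a`, `2 ∣ b` and some integer combination of `a`, `b` equals `2` then `gcd a b = 2`. -/
theorem o9larith_gcd_two (a b : ℕ) (ha : 2 ∣ a) (hb : 2 ∣ b) (x y : ℤ)
    (h : (a : ℤ) * x + (b : ℤ) * y = 2) : Nat.gcd a b = 2 := by
  apply Nat.dvd_antisymm
  · have h1 : ((Nat.gcd a b : ℕ) : ℤ) ∣ (a : ℤ) := by exact_mod_cast Nat.gcd_dvd_left a b
    have h2 : ((Nat.gcd a b : ℕ) : ℤ) ∣ (b : ℤ) := by exact_mod_cast Nat.gcd_dvd_right a b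
    have h3 : ((Nat.gcd a b : ℕ) : ℤ) ∣ 2 := by
      rw [← h]; exact dvd_add (Dvd.dvd.mul_right h1 x) (Dvd.dvd.mul_right h2 y)
    exact_mod_cast h3
  · exact Nat.dvd_gcd ha hb

theorem o9l_arith (q : ℕ) (hq : Odd q) (hq3 : 3 ≤ q) :
    2 * Nat.lcm (q ^ 2 + 1) (q ^ 2 - 1) = q ^ 4 - 1 ∧
    2 * Nat.lcm (q ^ 3 - 1) (q + 1) = (q ^ 3 - 1) * (q + 1) ∧
    2 * Nat.lcm (q ^ 3 + 1) (q - 1) = (q ^ 3 + 1) * (q - 1) ∧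
    2 * Nat.lcm (q ^ 2 + 1) (q - 1) = (q ^ 2 + 1) * (q - 1) ∧
    2 * Nat.lcm (q ^ 2 + 1) (q + 1) = (q ^ 2 + 1) * (q + 1) ∧
    Nat.lcm (q ^ 2 - 1) (q - 1) = q ^ 2 - 1 := by
  obtain ⟨k, rfl⟩ := hq
  have hk : 1 ≤ k := by omega
  have e1 : 1 ≤ 2 * k + 1 := by omega
  have e2 : 1 ≤ (2 * k + 1) ^ 2 := Nat.one_le_pow _ _ (by omega)
  have e3 : 1 ≤ (2 * k + 1) ^ 3 := Nat.one_le_pow _ _ (by omega)
  have e4 : 1 ≤ (2 * k + 1) ^ 4 := Nat.one_le_pow _ _ (by omega)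
  -- parities
  have p2p : 2 ∣ (2 * k + 1) ^ 2 + 1 := ⟨2 * k ^ 2 + 2 * k + 1, by ring⟩
  have p2m : 2 ∣ (2 * k + 1) ^ 2 - 1 := ⟨2 * k ^ 2 + 2 * k, by
    have : (2 * k + 1) ^ 2 = 2 * (2 * k ^ 2 + 2 * k) + 1 := by ring
    omega⟩
  have p3p : 2 ∣ (2 * k + 1) ^ 3 + 1 := ⟨4 * k ^ 3 + 6 * k ^ 2 + 3 * k + 1, by ring⟩
  have p3m : 2 ∣ (2 * k + 1) ^ 3 - 1 := ⟨4 * k ^ 3 + 6 * k ^ 2 + 3 * k, by
    have : (2 * k + 1) ^ 3 = 2 * (4 * k ^ 3 + 6 * k ^ 2 + 3 * k) + 1 := by ring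
    omega⟩
  have p1p : 2 ∣ (2 * k + 1) + 1 := ⟨k + 1, by ring⟩
  have p1m : 2 ∣ (2 * k + 1) - 1 := ⟨k, by omega⟩
  refine ⟨?_, ?_, ?_, ?_, ?_, ?_⟩
  · rw [o9larith_two_lcm _ _ (o9larith_gcd_two _ _ p2p p2m 1 (-1) (by push_cast [Nat.cast_sub e2]; ring))]
    zify [e2, e4]; ring
  · rw [o9larith_two_lcm _ _ (o9larith_gcd_two _ _ p3m p1p (-1)
      ((2 * (k : ℤ) + 1) ^ 2 - (2 * k + 1) + 1) (by push_cast [Nat.cast_sub e3]; ring))]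
  · rw [o9larith_two_lcm _ _ (o9larith_gcd_two _ _ p3p p1m 1
      (-((2 * (k : ℤ) + 1) ^ 2 + (2 * k + 1) + 1)) (by push_cast [Nat.cast_sub e1]; ring))]
  · rw [o9larith_two_lcm _ _ (o9larith_gcd_two _ _ p2p p1m 1
      (-((2 * (k : ℤ) + 1) + 1)) (by push_cast [Nat.cast_sub e1]; ring))]
  · rw [o9larith_two_lcm _ _ (o9larith_gcd_two _ _ p2p p1p 1
      (-((2 * (k : ℤ) + 1) - 1)) (by push_cast; ring))]
  · apply Nat.lcm_eq_left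
    refine ⟨2 * k + 1 + 1, ?_⟩
    zify [e1, e2]; ring

end Cfsg.Agent.Lib.Helper1.O9L
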