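import Mathlib
import Cfsg.Agent.Lib.Helper18.ONE.Defs

set_option autoImplicit false
set_option linter.unusedVariables false
set_option linter.unusedSectionVars false

/-!
# Project ONE (designer helper18), row TYUNIQ (written by lead)
-/

namespace Cfsg.Agent.Lib.Helper18.ONE

open Polynomial Module Cfsg.Agent.Lib.Helper13.S5955 Cfsg.Agent.Lib.helper15.S5972

theorem ty_uniq {F : Type*} [Field F] [Fintype F] {V : Type*} [AddCommGroup V] [Module F V]
    (B : LinearMap.BilinForm F V) (W : Submodule F V) (h1 : OTy B W 1) (h2 : OTy B W (-1)) :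
    False :=
  Cfsg.Agent.Lib.Helper16.OSemi.isType_unique _ _ h1 h2

end Cfsg.Agent.Lib.Helper18.ONE
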