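import Mathlib
import Cfsg.Agent.Lib.Helper1.O9L.Defs

set_option autoImplicit false
set_option linter.unusedVariables false

/-!
# Project O9L (designer helper1), row SIGNFREE (lead): a permutation all of whose cycles have the same
even length `N`, with an odd number of cycles, is odd.
-/

namespace Cfsg.Agent.Lib.Helper1.O9L

/-- every cycle length of a "free" permutation of exponent `N` equals `N` -/
theorem o9lsignfree_mem {S : Type*} [Fintype S] [DecidableEq S] (σ : Equiv.Perm S) (N : ℕ)
    (hpow : σ ^ N = 1) (hfree : ∀ k : ℕ, ¬ N ∣ k → ∀ x : S, (σ ^ k) x ≠ x)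
    (n : ℕ) (hn : n ∈ σ.cycleType) : n = N := by
  have h1 : n ∣ N := (Equiv.Perm.dvd_of_mem_cycleType hn).trans (orderOf_dvd_of_pow_eq_one hpow)
  obtain ⟨c, τ, hστ, hdisj, hc, hcard⟩ := Equiv.Perm.mem_cycleType_iff.mp hn
  obtain ⟨x, hx⟩ := hc.nonempty_support
  have hcx : c x ≠ x := Equiv.Perm.mem_support.mp hx
  have hτx : τ x = x := by
    rcases hdisj x with h | h
    · exact absurd h hcx
    · exact h
  have hcn : c ^ n = 1 := by
    rw [← hcard, ← hc.orderOf]; exact pow_orderOf_eq_one c
  have hfix : (σ ^ n) x = x := by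
    rw [hστ, hdisj.commute.mul_pow, Equiv.Perm.mul_apply, hcn, Equiv.Perm.one_apply]
    exact (Equiv.Perm.pow_apply_eq_self_of_apply_eq_self hτx n)
  have h2 : N ∣ n := by
    by_contra h
    exact hfree n h x hfix
  exact Nat.dvd_antisymm h1 h2

theorem sign_free {S : Type*} [Fintype S] [DecidableEq S] (σ : Equiv.Perm S) (N m : ℕ) (hN : Even N) (hN0 : 0 < N)
    (hpow : σ ^ N = 1) (hfree : ∀ k : ℕ, ¬ N ∣ k → ∀ x : S, (σ ^ k) x ≠ x)
    (hcard : Fintype.card S = N * m) (hm : Odd m) : Equiv.Perm.sign σ = -1 := by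
  have hN2 : ¬ N ∣ 1 := by
    intro h
    have : N = 1 := Nat.dvd_one.mp h
    rw [this] at hN
    exact absurd hN (by decide)
  have hrep : σ.cycleType = Multiset.replicate (Multiset.card σ.cycleType) N :=
    Multiset.eq_replicate_card.mpr (fun n hn => o9lsignfree_mem σ N hpow hfree n hn)
  have hsupp : σ.support = Finset.univ := by
    ext x
    simp only [Equiv.Perm.mem_support, Finset.mem_univ, iff_true]
    have := hfree 1 hN2 x
    simpa using this
  have hsum : σ.cycleType.sum = N * m := by
    rw [Equiv.Perm.sum_cycleType, hsupp, Finset.card_univ, hcard]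
  have hk : Multiset.card σ.cycleType = m := by
    have h1 : σ.cycleType.sum = Multiset.card σ.cycleType * N := by
      conv_lhs => rw [hrep]
      rw [Multiset.sum_replicate, smul_eq_mul]
    rw [hsum] at h1
    have : N * m = N * Multiset.card σ.cycleType := by rw [h1, Nat.mul_comm]
    exact (Nat.eq_of_mul_eq_mul_left hN0 this).symm
  rw [Equiv.Perm.sign_of_cycleType, hsum, hk]
  have hodd : Odd (N * m + m) := by
    have : Even (N * m) := hN.mul_right m
    exact this.add_odd hm
  exact hodd.neg_one_pow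

end Cfsg.Agent.Lib.Helper1.O9L
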