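import Mathlib
import Cfsg.Agent.Lib.Lead.QuadCount

set_option autoImplicit false

/-! Anisotropic binary quadratic forms `x² + a x y + b y²` over finite fields. -/

namespace Cfsg.Agent.Lib.Lead.Bin

open Finset Cfsg.Agent.Lib.Lead

variable {F : Type*} [Field F] {a b : F}

/-- The binary form. -/
def bq (a b x y : F) : F := x ^ 2 + a * x * y + b * y ^ 2

/-- Anisotropy, in the form used by the statements. -/
def Aniso (a b : F) : Prop :=
  ∀ z₁ z₂ : F, z₁ ^ 2 + a * z₁ * z₂ + b * z₂ ^ 2 = 0 → z₁ = 0 ∧ z₂ = 0

theorem bq_ne_zero (h : Aniso a b) {x y : F} (hxy : x ≠ 0 ∨ y ≠ 0) : bq a b x y ≠ 0 := by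
  intro h0
  obtain ⟨h1, h2⟩ := h x y h0
  rcases hxy with h' | h'
  · exact h' h1
  · exact h' h2

theorem bq_mul (s t x y : F) :
    bq a b (s * x - b * t * y) (t * x + (s + a * t) * y) = bq a b s t * bq a b x y := by
  unfold bq; ring

theorem exists_sqrt_char_two [Finite F] (h2 : (2 : F) = 0) (c : F) : ∃ s : F, s ^ 2 = c := by
  haveI : CharP F 2 := CharTwo.of_one_ne_zero_of_two_eq_zero one_ne_zero h2
  exact (Finite.injective_iff_surjective.mp (CharTwo.sq_injective (R := F))) c

/-- The discriminant of an anisotropic binary form over a finite field is nonzero. -/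
theorem disc_ne_zero [Finite F] (h : Aniso a b) : a ^ 2 - 4 * b ≠ 0 := by
  intro hd
  by_cases h2 : (2 : F) = 0
  · have h4 : (4 : F) = 0 := by
      have : (4 : F) = 2 * 2 := by norm_num
      rw [this, h2, mul_zero]
    rw [h4, zero_mul, sub_zero] at hd
    have ha : a = 0 := pow_eq_zero_iff (two_ne_zero) |>.mp hd
    obtain ⟨s, hs⟩ := exists_sqrt_char_two h2 b
    have := h s 1 (by
      rw [ha, hs]
      have : b + 0 * s * 1 + b * 1 ^ 2 = 2 * b := by ring
      rw [this, h2, zero_mul])
    exact one_ne_zero this.2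
  · have := h a (-2) (by linear_combination -hd)
    exact h2 (by
      have h3 := this.2
      linear_combination -h3)

theorem two_or_a_ne_zero [Finite F] (h : Aniso a b) : (2 : F) ≠ 0 ∨ a ≠ 0 := by
  by_contra hcon
  push Not at hcon
  apply disc_ne_zero h
  have h4 : (4 : F) = 0 := by
    have : (4 : F) = 2 * 2 := by norm_num
    rw [this, hcon.1, mul_zero]
  rw [hcon.2, h4]; ring

section count
variable [Fintype F] [DecidableEq F]

/-- The affine line `2u + av = 1` has `q` points. -/
theorem card_line (h : Aniso a b) :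
    (univ.filter (fun p : F × F => 2 * p.1 + a * p.2 = 1)).card = Fintype.card F := by
  let f : F × F →+ F :=
    { toFun := fun p => 2 * p.1 + a * p.2
      map_zero' := by simp
      map_add' := fun p p' => by simp only [Prod.fst_add, Prod.snd_add]; ring }
  have hsurj : Function.Surjective f := by
    intro c
    rcases two_or_a_ne_zero h with h2 | ha
    · refine ⟨(c / 2, 0), ?_⟩
      show 2 * (c / 2) + a * 0 = c
      field_simp
      ring
    · refine ⟨(0, c / a), ?_⟩
      show 2 * 0 + a * (c / a) = c
      field_simp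
      ring
  have := card_fiber_mul_card f hsurj 1
  rw [Fintype.card_prod] at this
  have hq : 0 < Fintype.card F := Fintype.card_pos
  exact Nat.eq_of_mul_eq_mul_right hq this

theorem conic_fwd (u v N : F) (hN : N ≠ 0) (hNdef : u ^ 2 + a * u * v + b * v ^ 2 = N)
    (huv : 2 * u + a * v = 1) : bq a b (1 - u / N) (-v / N) = 1 := by
  unfold bq
  field_simp
  linear_combination (-N) * huv + hNdef

theorem conic_lam (x y : F) (h1 : bq a b x y = 1) :
    2 * (x - 1) + a * y = -bq a b (x - 1) y := by
  unfold bq at h1 ⊢; linear_combination h1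

/-- The conic `x² + a x y + b y² = 1` has `q + 1` points. -/
theorem card_conic (h : Aniso a b) :
    (univ.filter (fun p : F × F => bq a b p.1 p.2 = 1)).card = Fintype.card F + 1 := by
  have hP0 : ((1 : F), (0 : F)) ∈ univ.filter (fun p : F × F => bq a b p.1 p.2 = 1) := by
    rw [Finset.mem_filter]
    exact ⟨Finset.mem_univ _, by unfold bq; ring⟩
  rw [← Finset.card_erase_add_one hP0, ← card_line h]
  congr 1
  symm
  refine Finset.card_nbij'
    (fun p => (1 - p.1 / bq a b p.1 p.2, -p.2 / bq a b p.1 p.2))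
    (fun p => ((p.1 - 1) / (2 * (p.1 - 1) + a * p.2), p.2 / (2 * (p.1 - 1) + a * p.2)))
    ?_ ?_ ?_ ?_
  · rintro ⟨u, v⟩ huv
    simp only [Finset.coe_filter, Finset.mem_univ, true_and, Set.mem_setOf_eq] at huv
    have hne : u ≠ 0 ∨ v ≠ 0 := by
      by_contra hcon
      push Not at hcon
      rw [hcon.1, hcon.2] at huv
      simp at huv
    have hN := bq_ne_zero h hne
    simp only [Finset.coe_erase, Finset.coe_filter, Finset.mem_univ, true_and, Set.mem_diff,
      Set.mem_setOf_eq, Set.mem_singleton_iff, Prod.mk.injEq, not_and]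
    refine ⟨conic_fwd u v _ hN rfl huv, ?_⟩
    intro h1 h2
    have hu : u = 0 := by
      have : u / bq a b u v = 0 := by linear_combination -h1
      rcases div_eq_zero_iff.mp this with h' | h'
      · exact h'
      · exact absurd h' hN
    have hv : v = 0 := by
      rcases div_eq_zero_iff.mp h2 with h' | h'
      · exact neg_eq_zero.mp h'
      · exact absurd h' hN
    rcases hne with h' | h'
    · exact h' hu
    · exact h' hv
  · rintro ⟨x, y⟩ hxy
    simp only [Finset.coe_erase, Finset.coe_filter, Finset.mem_univ, true_and, Set.mem_diff,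
      Set.mem_setOf_eq, Set.mem_singleton_iff, Prod.mk.injEq, not_and] at hxy
    obtain ⟨h1, h2⟩ := hxy
    have hne : x - 1 ≠ 0 ∨ y ≠ 0 := by
      by_contra hcon
      push Not at hcon
      exact h2 (sub_eq_zero.mp hcon.1) hcon.2
    have hN := bq_ne_zero h hne
    have hlam := conic_lam x y h1
    have hl0 : 2 * (x - 1) + a * y ≠ 0 := by rw [hlam]; exact neg_ne_zero.mpr hN
    simp only [Finset.coe_filter, Finset.mem_univ, true_and, Set.mem_setOf_eq]
    field_simp
  · rintro ⟨u, v⟩ huv
    simp only [Finset.coe_filter, Finset.mem_univ, true_and, Set.mem_setOf_eq] at huv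
    have hne : u ≠ 0 ∨ v ≠ 0 := by
      by_contra hcon
      push Not at hcon
      rw [hcon.1, hcon.2] at huv
      simp at huv
    have hN := bq_ne_zero h hne
    obtain ⟨N, hNdef⟩ : ∃ N, N = bq a b u v := ⟨_, rfl⟩
    rw [← hNdef] at hN
    have hl : 2 * (1 - u / N - 1) + a * (-v / N) = -1 / N := by
      have : 2 * (1 - u / N - 1) + a * (-v / N) = -(2 * u + a * v) / N := by field_simp; ring
      rw [this, huv]
    simp only
    rw [← hNdef, hl]
    refine Prod.ext ?_ ?_
    · simp only; field_simp; ring
    · simp only; field_simp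
  · rintro ⟨x, y⟩ hxy
    simp only [Finset.coe_erase, Finset.coe_filter, Finset.mem_univ, true_and, Set.mem_diff,
      Set.mem_setOf_eq, Set.mem_singleton_iff, Prod.mk.injEq, not_and] at hxy
    obtain ⟨h1, h2⟩ := hxy
    have hne : x - 1 ≠ 0 ∨ y ≠ 0 := by
      by_contra hcon
      push Not at hcon
      exact h2 (sub_eq_zero.mp hcon.1) hcon.2
    have hN := bq_ne_zero h hne
    have hlam := conic_lam x y h1
    have hl0 : 2 * (x - 1) + a * y ≠ 0 := by rw [hlam]; exact neg_ne_zero.mpr hN
    obtain ⟨lam, hlamdef⟩ : ∃ lam, lam = 2 * (x - 1) + a * y := ⟨_, rfl⟩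
    rw [← hlamdef] at hlam hl0
    have hbq : bq a b ((x - 1) / lam) (y / lam) = -1 / lam := by
      have e1 : bq a b ((x - 1) / lam) (y / lam) = bq a b (x - 1) y / lam ^ 2 := by
        unfold bq; field_simp
      have e2 : bq a b (x - 1) y = -lam := by rw [hlam]; ring
      rw [e1, e2]
      field_simp
    simp only
    rw [← hlamdef, hbq]
    refine Prod.ext ?_ ?_
    · simp only; field_simp; ring
    · simp only; field_simp

end count

end Cfsg.Agent.Lib.Lead.Bin
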