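import Mathlib
import Cfsg.Agent.Lib.Lead.QuadCount

set_option autoImplicit false

namespace Cfsg.Agent.Lib.Lead

open Finset LinearMap

section
variable {F : Type*} [Field F] {ι : Type*} [Fintype ι] [DecidableEq ι] {j : ℕ}

/-- A hyperbolic/symplectic partial frame: `B (e a) (e b) = 0`, `B (h a) (h b) = 0`,
`B (e a) (h b) = κ δ_ab`. -/
structure IsHFrame (B : LinearMap.BilinForm F (ι → F)) (κ : F)
    (e h : Fin j → (ι → F)) : Prop where
  ee : ∀ a b, B (e a) (e b) = 0
  hh : ∀ a b, B (h a) (h b) = 0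
  eh : ∀ a b, B (e a) (h b) = if a = b then κ else 0

/-- The map `v ↦ (B v (e a), B v (h a))`. -/
def bmap (B : LinearMap.BilinForm F (ι → F)) (e h : Fin j → (ι → F)) :
    (ι → F) →ₗ[F] (Fin j → F) × (Fin j → F) :=
  (LinearMap.pi (fun a => B.flip (e a))).prod (LinearMap.pi (fun a => B.flip (h a)))

omit [DecidableEq ι] [Fintype ι] in
theorem bmap_apply (B : LinearMap.BilinForm F (ι → F)) (e h : Fin j → (ι → F)) (v : ι → F) :
    bmap B e h v = (fun a => B v (e a), fun a => B v (h a)) := rfl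

omit [DecidableEq ι] in
theorem bmap_eq_zero_iff (B : LinearMap.BilinForm F (ι → F)) (e h : Fin j → (ι → F)) (v : ι → F) :
    bmap B e h v = 0 ↔ (∀ a, B v (e a) = 0) ∧ (∀ a, B v (h a) = 0) := by
  rw [bmap_apply, Prod.mk_eq_zero]
  constructor
  · rintro ⟨h1, h2⟩
    exact ⟨fun a => congrFun h1 a, fun a => congrFun h2 a⟩
  · rintro ⟨h1, h2⟩
    exact ⟨funext h1, funext h2⟩

/-- The linear combination `Σ α_a e_a + β_a h_a`. -/
def comb (e h : Fin j → (ι → F)) (α β : Fin j → F) : ι → F :=
  ∑ a, (α a • e a + β a • h a)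

omit [DecidableEq ι] [Fintype ι] in
theorem B_comb (B : LinearMap.BilinForm F (ι → F)) (e h : Fin j → (ι → F)) (α β : Fin j → F)
    (z : ι → F) : B (comb e h α β) z = ∑ a, (α a * B (e a) z + β a * B (h a) z) := by
  simp only [comb, map_sum, LinearMap.sum_apply, map_add, map_smul, LinearMap.add_apply,
    LinearMap.smul_apply, smul_eq_mul]

omit [DecidableEq ι] [Fintype ι] in
theorem B_comb_right (B : LinearMap.BilinForm F (ι → F)) (e h : Fin j → (ι → F)) (α β : Fin j → F)
    (z : ι → F) : B z (comb e h α β) = ∑ a, (α a * B z (e a) + β a * B z (h a)) := by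
  simp only [comb, map_sum, map_add, map_smul, smul_eq_mul]

omit [DecidableEq ι] in
theorem bmap_comb (B : LinearMap.BilinForm F (ι → F)) (ε κ : F)
    (hε : ∀ x y, B y x = ε * B x y) (e h : Fin j → (ι → F)) (hf : IsHFrame B κ e h)
    (α β : Fin j → F) :
    bmap B e h (comb e h α β) = (fun b => β b * (ε * κ), fun b => α b * κ) := by
  rw [bmap_apply]
  refine Prod.ext (funext fun b => ?_) (funext fun b => ?_)
  · simp only [B_comb, hf.ee, mul_zero, zero_add]
    rw [Finset.sum_eq_single b]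
    · rw [hε (e b) (h b), hf.eh, if_pos rfl]
    · intro a _ hab
      rw [hε (e b) (h a), hf.eh, if_neg (Ne.symm hab), mul_zero, mul_zero]
    · intro hb; exact absurd (Finset.mem_univ b) hb
  · simp only [B_comb, hf.hh, mul_zero, add_zero]
    rw [Finset.sum_eq_single b]
    · rw [hf.eh, if_pos rfl]
    · intro a _ hab
      rw [hf.eh, if_neg hab, mul_zero]
    · intro hb; exact absurd (Finset.mem_univ b) hb

omit [DecidableEq ι] in
theorem bmap_surjective (B : LinearMap.BilinForm F (ι → F)) (ε κ : F) (hε0 : ε ≠ 0) (hκ : κ ≠ 0)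
    (hε : ∀ x y, B y x = ε * B x y) (e h : Fin j → (ι → F)) (hf : IsHFrame B κ e h) :
    Function.Surjective (bmap B e h) := by
  rintro ⟨x, y⟩
  refine ⟨comb e h (fun b => y b / κ) (fun b => x b / (ε * κ)), ?_⟩
  rw [bmap_comb B ε κ hε e h hf]
  refine Prod.ext (funext fun b => ?_) (funext fun b => ?_)
  · simp only; field_simp
  · simp only; field_simp

end

section count
variable {F : Type*} [Field F] [Fintype F] [DecidableEq F] {ι : Type*} [Fintype ι] [DecidableEq ι]
  {j : ℕ}

/-- The orthogonal complement of a frame has `q^(N-2j)` elements. -/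
theorem card_perp (B : LinearMap.BilinForm F (ι → F)) (ε κ : F) (hε0 : ε ≠ 0) (hκ : κ ≠ 0)
    (hε : ∀ x y, B y x = ε * B x y) (e h : Fin j → (ι → F)) (hf : IsHFrame B κ e h) :
    (univ.filter (fun v : ι → F => bmap B e h v = 0)).card * Fintype.card F ^ (2 * j) =
      Fintype.card F ^ Fintype.card ι := by
  have := card_fiber_mul_card (bmap B e h).toAddMonoidHom
    (bmap_surjective B ε κ hε0 hκ hε e h hf) 0
  rw [Fintype.card_prod, Fintype.card_fun, Fintype.card_fun, Fintype.card_fin, ← pow_add,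
    ← two_mul] at this
  exact this

/-- In the complement of a frame, the vectors `w` with `B u w = t` (for fixed `u ≠ 0` in the
complement) number `q^(N-2j-1)`. -/
theorem card_perp_pair (B : LinearMap.BilinForm F (ι → F)) (ε κ : F) (hε0 : ε ≠ 0) (hκ : κ ≠ 0)
    (hε : ∀ x y, B y x = ε * B x y) (hnd : ∀ x, x ≠ 0 → ∃ y, B x y ≠ 0)
    (e h : Fin j → (ι → F)) (hf : IsHFrame B κ e h)
    (u : ι → F) (hu : bmap B e h u = 0) (hu0 : u ≠ 0) (t : F) :
    (univ.filter (fun w : ι → F => bmap B e h w = 0 ∧ B u w = t)).card *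
      (Fintype.card F ^ (2 * j) * Fintype.card F) = Fintype.card F ^ Fintype.card ι := by
  let Φ : (ι → F) →ₗ[F] ((Fin j → F) × (Fin j → F)) × F := (bmap B e h).prod (B u)
  have hu' := (bmap_eq_zero_iff B e h u).mp hu
  -- B u vanishes on combinations of the frame
  have hucomb : ∀ α β, B u (comb e h α β) = 0 := by
    intro α β
    rw [B_comb_right]
    simp [hu'.1, hu'.2]
  -- a vector of the complement pairing to 1 with u
  obtain ⟨y, hy⟩ := hnd u hu0
  obtain ⟨c, hc⟩ := bmap_surjective B ε κ hε0 hκ hε e h hf (bmap B e h y)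
  obtain ⟨α, β, hαβ⟩ : ∃ α β, bmap B e h (comb e h α β) = bmap B e h y := by
    obtain ⟨x1, x2⟩ := bmap B e h y
    refine ⟨fun b => x2 b / κ, fun b => x1 b / (ε * κ), ?_⟩
    rw [bmap_comb B ε κ hε e h hf]
    refine Prod.ext (funext fun b => ?_) (funext fun b => ?_)
    · simp only; field_simp
    · simp only; field_simp
  set w0 : ι → F := (B u y)⁻¹ • (y - comb e h α β) with hw0
  have hw0perp : bmap B e h w0 = 0 := by
    rw [hw0, map_smul, map_sub, hαβ, sub_self, smul_zero]
  have hw0u : B u w0 = 1 := by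
    rw [hw0, map_smul, map_sub, hucomb, sub_zero, smul_eq_mul, inv_mul_cancel₀ hy]
  have hsurj : Function.Surjective Φ := by
    rintro ⟨x, s⟩
    obtain ⟨v1, hv1⟩ := bmap_surjective B ε κ hε0 hκ hε e h hf x
    refine ⟨v1 + (s - B u v1) • w0, ?_⟩
    show ((bmap B e h) (v1 + (s - B u v1) • w0), B u (v1 + (s - B u v1) • w0)) = (x, s)
    rw [map_add, map_smul, hw0perp, smul_zero, add_zero, hv1, map_add, map_smul, hw0u]
    simp
  have := card_fiber_mul_card Φ.toAddMonoidHom hsurj ((0 : (Fin j → F) × (Fin j → F)), t)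
  rw [Fintype.card_prod, Fintype.card_prod, Fintype.card_fun, Fintype.card_fun, Fintype.card_fin,
    ← pow_add, ← two_mul] at this
  rw [← this]
  congr 2
  ext w
  simp only [Finset.mem_filter, Finset.mem_univ, true_and]
  show _ ↔ ((bmap B e h) w, B u w) = (0, t)
  constructor
  · rintro ⟨h1, h2⟩
    rw [h1, h2]
  · intro h1
    exact ⟨congrArg Prod.fst h1, congrArg Prod.snd h1⟩

end count

end Cfsg.Agent.Lib.Lead
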