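import Mathlib
import Cfsg.Prelude.Def_Classical
import Cfsg.Agent.Lib.Lead.FrameCount

set_option autoImplicit false

/-! Generic counting of hyperbolic frames for a quadratic map `Q` with polar form `B`. -/

namespace Cfsg.Agent.Lib.Lead.OG

open Finset Matrix Cfsg.Agent.Lib.Lead

section
variable {F : Type*} [Field F] {κ : Type*} [Fintype κ] [DecidableEq κ] {j : ℕ}

/-- `Q` is a quadratic map with nondegenerate symmetric polar form `B`. -/
structure IsQP (Q : (κ → F) → F) (B : LinearMap.BilinForm F (κ → F)) : Prop where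
  add : ∀ x y, Q (x + y) = Q x + Q y + B x y
  smul : ∀ (c : F) x, Q (c • x) = c * c * Q x
  symm : ∀ x y, B y x = 1 * B x y
  nondeg : ∀ x, x ≠ 0 → ∃ y, B x y ≠ 0

variable {Q : (κ → F) → F} {B : LinearMap.BilinForm F (κ → F)}

omit [Fintype κ] [DecidableEq κ] in
theorem IsQP.zero (hQ : IsQP Q B) : Q 0 = 0 := by
  have := hQ.smul 0 0
  simpa using this

omit [Fintype κ] [DecidableEq κ] in
theorem IsQP.self (hQ : IsQP Q B) (x : κ → F) : B x x = Q x + Q x := by
  have h1 := hQ.add x x
  have h2 := hQ.smul (1 + 1) x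
  have h3 : (1 + 1 : F) • x = x + x := by rw [add_smul, one_smul]
  rw [h3] at h2
  linear_combination h2 - h1

omit [Fintype κ] [DecidableEq κ] in
theorem IsQP.polar_eq_sub (hQ : IsQP Q B) (x y : κ → F) : B x y = Q (x + y) - Q x - Q y := by
  rw [hQ.add]; ring

omit [Fintype κ] [DecidableEq κ] in
/-- A sum of pairwise orthogonal vectors has `Q`-value the sum of the `Q`-values. -/
theorem Q_sum_orth (hQ : IsQP Q B) {τ : Type*} (s : Finset τ) (z : τ → (κ → F))
    (horth : ∀ a b, a ≠ b → B (z a) (z b) = 0) :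
    Q (∑ a ∈ s, z a) = ∑ a ∈ s, Q (z a) := by
  classical
  induction s using Finset.induction_on with
  | empty => simp [hQ.zero]
  | insert a s ha ih =>
    rw [Finset.sum_insert ha, Finset.sum_insert ha, hQ.add, ih, map_sum]
    have : ∑ b ∈ s, B (z a) (z b) = 0 := by
      apply Finset.sum_eq_zero
      intro b hb
      exact horth a b (fun h => ha (h ▸ hb))
    rw [this, add_zero]

omit [Fintype κ] [DecidableEq κ] in
/-- `Q` of a combination of a hyperbolic frame. -/
theorem Q_comb (hQ : IsQP Q B) (e h : Fin j → (κ → F)) (hf : IsHFrame B 1 e h)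
    (he : ∀ a, Q (e a) = 0) (hh : ∀ a, Q (h a) = 0)
    (α β : Fin j → F) : Q (comb e h α β) = ∑ a, α a * β a := by
  rw [comb, Q_sum_orth hQ]
  · refine Finset.sum_congr rfl (fun a _ => ?_)
    rw [hQ.add, hQ.smul, hQ.smul, he, hh, map_smul, map_smul, LinearMap.smul_apply,
      hf.eh, if_pos rfl]
    simp [mul_comm]
  · intro a b hab
    simp only [map_add, map_smul, LinearMap.add_apply, LinearMap.smul_apply, smul_eq_mul,
      hf.ee, hf.hh, hf.eh, if_neg hab, hQ.symm (e b) (h a), if_neg (Ne.symm hab)]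
    ring

end

section dist
variable {F : Type*} [Field F] [Fintype F] [DecidableEq F] {κ : Type*} [Fintype κ] [DecidableEq κ]
  {j : ℕ}
variable {Q : (κ → F) → F} {B : LinearMap.BilinForm F (κ → F)}

/-- Number of vectors in the complement of a frame with `Q`-value `c`. -/
noncomputable def NW (Q : (κ → F) → F) (B : LinearMap.BilinForm F (κ → F))
    (e h : Fin j → (κ → F)) (c : F) : ℕ :=
  (univ.filter (fun w : κ → F => bmap B e h w = 0 ∧ Q w = c)).card

omit [Fintype F] [DecidableEq F] [DecidableEq κ] in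
theorem Q_add_comb (hQ : IsQP Q B) (e h : Fin j → (κ → F)) (hf : IsHFrame B 1 e h)
    (he : ∀ a, Q (e a) = 0) (hh : ∀ a, Q (h a) = 0)
    (w : κ → F) (hw : bmap B e h w = 0) (α β : Fin j → F) :
    Q (w + comb e h α β) = Q w + ∑ a, α a * β a := by
  rw [hQ.add, Q_comb hQ e h hf he hh, B_comb_right]
  rw [bmap_eq_zero_iff] at hw
  simp [hw.1, hw.2]

theorem card_Q_eq_sum (hQ : IsQP Q B) (e h : Fin j → (κ → F))
    (hf : IsHFrame B 1 e h)
    (he : ∀ a, Q (e a) = 0) (hh : ∀ a, Q (h a) = 0)
    (c : F) :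
    (univ.filter (fun v : κ → F => Q v = c)).card =
      ∑ x : (Fin j → F) × (Fin j → F), NW Q B e h (c - ∑ a, x.1 a * x.2 a) := by
  rw [Finset.card_eq_sum_card_fiberwise (f := bmap B e h) (t := univ)
    (fun a _ => Finset.mem_univ _)]
  refine Finset.sum_congr rfl (fun x _ => ?_)
  rw [NW]
  have hb : bmap B e h (comb e h x.2 x.1) = x := by
    rw [bmap_comb B 1 1 hQ.symm e h hf]
    simp
  refine Finset.card_bij (fun v _ => v - comb e h x.2 x.1) ?_ ?_ ?_
  · intro v hv
    simp only [Finset.mem_filter, Finset.mem_univ, true_and] at hv ⊢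
    obtain ⟨h1, h2⟩ := hv
    have hw : bmap B e h (v - comb e h x.2 x.1) = 0 := by
      rw [map_sub, hb, h2, sub_self]
    refine ⟨hw, ?_⟩
    have := Q_add_comb hQ e h hf he hh _ hw x.2 x.1
    rw [sub_add_cancel, h1] at this
    rw [this]
    have : ∑ a, x.2 a * x.1 a = ∑ a, x.1 a * x.2 a :=
      Finset.sum_congr rfl (fun a _ => mul_comm _ _)
    rw [this]; ring
  · intro v _ v' _ h
    exact sub_left_injective h
  · intro w hw
    simp only [Finset.mem_filter, Finset.mem_univ, true_and] at hw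
    obtain ⟨h1, h2⟩ := hw
    refine ⟨w + comb e h x.2 x.1, ?_, by simp⟩
    simp only [Finset.mem_filter, Finset.mem_univ, true_and]
    refine ⟨?_, ?_⟩
    · rw [Q_add_comb hQ e h hf he hh _ h1, h2]
      have : ∑ a, x.2 a * x.1 a = ∑ a, x.1 a * x.2 a :=
        Finset.sum_congr rfl (fun a _ => mul_comm _ _)
      rw [this]; ring
    · rw [map_add, h1, hb, zero_add]

/-- The convolution identity: `N_V(c) = q^j N_W(c) + (q^j - 1) q^(j-1) |W|`. -/
theorem card_Q_conv (hQ : IsQP Q B) (e h : Fin j → (κ → F))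
    (hf : IsHFrame B 1 e h)
    (he : ∀ a, Q (e a) = 0) (hh : ∀ a, Q (h a) = 0)
    (c : F) :
    (univ.filter (fun v : κ → F => Q v = c)).card =
      Fintype.card F ^ j * NW Q B e h c +
        (Fintype.card F ^ j - 1) * Fintype.card F ^ (j - 1) *
          (univ.filter (fun v : κ → F => bmap B e h v = 0)).card := by
  rw [card_Q_eq_sum hQ e h hf he hh c]
  rw [← Finset.sum_fiberwise' (s := univ) (g := fun x : (Fin j → F) × (Fin j → F) =>
    ∑ a, x.1 a * x.2 a) (f := fun d => NW Q B e h (c - d))]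
  have hP : ∀ d : F, ∑ _x ∈ univ.filter (fun x : (Fin j → F) × (Fin j → F) =>
      ∑ a, x.1 a * x.2 a = d), NW Q B e h (c - d) =
      ((if d = 0 then Fintype.card F ^ j else 0) +
        (Fintype.card F ^ j - 1) * Fintype.card F ^ (j - 1)) * NW Q B e h (c - d) := by
    intro d
    rw [Finset.sum_const, smul_eq_mul]
    have := card_pairs_dot (F := F) (ι := Fin j) d
    rw [Fintype.card_fin] at this
    rw [this]
  rw [Finset.sum_congr rfl (fun d _ => hP d)]
  simp only [add_mul, Finset.sum_add_distrib, ite_mul, zero_mul]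
  rw [Finset.sum_ite_eq' univ (0 : F), if_pos (Finset.mem_univ _), sub_zero, ← Finset.mul_sum]
  congr 2
  rw [show (∑ d : F, NW Q B e h (c - d)) = ∑ d : F, NW Q B e h d from
    Equiv.sum_comp (Equiv.subLeft c) (fun d => NW Q B e h d)]
  rw [Finset.card_eq_sum_card_fiberwise (f := fun v => Q v) (t := univ)
    (fun a _ => Finset.mem_univ _)]
  refine Finset.sum_congr rfl (fun d _ => ?_)
  rw [NW, Finset.filter_filter]

/-- For a nonzero singular `u` in the complement, the number of singular `w` in the complement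
with `B u w = 1`, in multiplicative form. -/
theorem card_hyp_partner (hQ : IsQP Q B) (e h : Fin j → (κ → F))
    (hf : IsHFrame B 1 e h)
    (u : κ → F) (hu : bmap B e h u = 0) (hu0 : u ≠ 0)
    (hQu : Q u = 0) :
    (univ.filter (fun w : κ → F => bmap B e h w = 0 ∧
      B u w = 1 ∧ Q w = 0)).card * (Fintype.card F * (Fintype.card F ^ (2 * j) * Fintype.card F)) =
      Fintype.card F ^ Fintype.card κ := by
  set q := Fintype.card F with hq
  have h2 := card_perp_pair B 1 1 one_ne_zero one_ne_zero hQ.symm hQ.nondeg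
    e h hf u hu hu0 1
  have hsplit : (univ.filter (fun w : κ → F => bmap B e h w = 0 ∧
      B u w = 1)).card = q * (univ.filter (fun w : κ → F =>
        bmap B e h w = 0 ∧ B u w = 1 ∧ Q w = 0)).card := by
    rw [Finset.card_eq_sum_card_fiberwise (f := fun w => Q w) (t := univ)
      (fun a _ => Finset.mem_univ _)]
    have : ∀ c : F, (Finset.filter (fun w => Q w = c)
        (univ.filter (fun w : κ → F => bmap B e h w = 0 ∧
          B u w = 1))).card = (univ.filter (fun w : κ → F =>
        bmap B e h w = 0 ∧ B u w = 1 ∧ Q w = 0)).card := by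
      intro c
      symm
      have huu : B u u = 0 := by rw [hQ.self, hQu, add_zero]
      refine Finset.card_bij (fun w _ => w + c • u) ?_ ?_ ?_
      · intro w hw
        simp only [Finset.mem_filter, Finset.mem_univ, true_and] at hw ⊢
        obtain ⟨h1, h3, h4⟩ := hw
        refine ⟨⟨?_, ?_⟩, ?_⟩
        · rw [map_add, map_smul, h1, hu, smul_zero, add_zero]
        · rw [map_add, map_smul, h3, huu, smul_eq_mul, mul_zero, add_zero]
        · rw [hQ.add, hQ.smul, h4, hQu, map_smul, hQ.symm, h3]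
          simp
      · intro w _ w' _ hww
        exact add_right_cancel hww
      · intro w hw
        simp only [Finset.mem_filter, Finset.mem_univ, true_and] at hw
        obtain ⟨⟨h1, h3⟩, h4⟩ := hw
        refine ⟨w - c • u, ?_, by simp⟩
        simp only [Finset.mem_filter, Finset.mem_univ, true_and]
        refine ⟨?_, ?_, ?_⟩
        · rw [map_sub, map_smul, h1, hu, smul_zero, sub_zero]
        · rw [map_sub, map_smul, h3, huu, smul_eq_mul, mul_zero, sub_zero]
        · have : w - c • u = w + (-c) • u := by rw [neg_smul, sub_eq_add_neg]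
          rw [this, hQ.add, hQ.smul, h4, hQu, map_smul, hQ.symm, h3]
          simp
    rw [Finset.sum_congr rfl (fun c _ => this c), Finset.sum_const, Finset.card_univ, smul_eq_mul]
  rw [hsplit] at h2
  rw [← h2]; ring

end dist

section oframes
variable {F : Type*} [Field F] {κ : Type*} [Fintype κ] [DecidableEq κ] {j : ℕ}
variable {Q : (κ → F) → F} {B : LinearMap.BilinForm F (κ → F)}

/-- Hyperbolic `j`-frames of singular vectors for `Q`. -/
abbrev OFrame (Q : (κ → F) → F) (B : LinearMap.BilinForm F (κ → F)) (j : ℕ) : Type _ :=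
  {p : (Fin j → (κ → F)) × (Fin j → (κ → F)) //
    IsHFrame B 1 p.1 p.2 ∧ (∀ a, Q (p.1 a) = 0) ∧
      (∀ a, Q (p.2 a) = 0)}

/-- Extending a hyperbolic frame by one hyperbolic pair. -/
noncomputable def oframeSuccEquiv (hQ : IsQP Q B) :
    OFrame Q B (j + 1) ≃ Σ f : OFrame Q B j,
      {p : (κ → F) × (κ → F) //
        (bmap B f.1.1 f.1.2 p.1 = 0 ∧ Q p.1 = 0) ∧
        (bmap B f.1.1 f.1.2 p.2 = 0 ∧ B p.1 p.2 = 1 ∧
          Q p.2 = 0)} where
  toFun g := ⟨⟨(Fin.tail g.1.1, Fin.tail g.1.2),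
      ⟨⟨fun a b => g.2.1.ee a.succ b.succ, fun a b => g.2.1.hh a.succ b.succ, fun a b => by
        have := g.2.1.eh a.succ b.succ
        simpa [Fin.tail] using this⟩, fun a => g.2.2.1 a.succ, fun a => g.2.2.2 a.succ⟩⟩,
    ⟨(g.1.1 0, g.1.2 0), by
      refine ⟨⟨?_, g.2.2.1 0⟩, ?_, ?_, g.2.2.2 0⟩
      · rw [bmap_eq_zero_iff]
        refine ⟨fun a => g.2.1.ee 0 a.succ, fun a => ?_⟩
        have := g.2.1.eh 0 a.succ
        simpa [Fin.tail, (Fin.succ_ne_zero a).symm] using this
      · rw [bmap_eq_zero_iff]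
        refine ⟨fun a => ?_, fun a => g.2.1.hh 0 a.succ⟩
        show B (g.1.2 0) (g.1.1 a.succ) = 0
        rw [hQ.symm, g.2.1.eh a.succ 0, if_neg (Fin.succ_ne_zero a), mul_zero]
      · have := g.2.1.eh 0 0
        simpa using this⟩⟩
  invFun x := ⟨(Fin.cons x.2.1.1 x.1.1.1, Fin.cons x.2.1.2 x.1.1.2), by
    obtain ⟨⟨⟨e, h⟩, hf, he, hh⟩, ⟨⟨u, w⟩, ⟨hu, hQu⟩, hw, huw, hQw⟩⟩ := x
    rw [bmap_eq_zero_iff] at hu hw
    simp only at hu hw huw hf he hh hQu hQw ⊢
    have huu : B u u = 0 := by rw [hQ.self, hQu, add_zero]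
    have hww : B w w = 0 := by rw [hQ.self, hQw, add_zero]
    refine ⟨⟨fun a b => ?_, fun a b => ?_, fun a b => ?_⟩, fun a => ?_, fun a => ?_⟩
    · refine Fin.cases ?_ (fun a' => ?_) a <;> refine Fin.cases ?_ (fun b' => ?_) b
      · simp only [Fin.cons_zero]; exact huu
      · simp only [Fin.cons_zero, Fin.cons_succ]; exact hu.1 b'
      · simp only [Fin.cons_zero, Fin.cons_succ]
        rw [hQ.symm, hu.1 a', mul_zero]
      · simp only [Fin.cons_succ]; exact hf.ee a' b'
    · refine Fin.cases ?_ (fun a' => ?_) a <;> refine Fin.cases ?_ (fun b' => ?_) b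
      · simp only [Fin.cons_zero]; exact hww
      · simp only [Fin.cons_zero, Fin.cons_succ]; exact hw.2 b'
      · simp only [Fin.cons_zero, Fin.cons_succ]
        rw [hQ.symm, hw.2 a', mul_zero]
      · simp only [Fin.cons_succ]; exact hf.hh a' b'
    · refine Fin.cases ?_ (fun a' => ?_) a <;> refine Fin.cases ?_ (fun b' => ?_) b
      · simp only [Fin.cons_zero]; simpa using huw
      · simp only [Fin.cons_zero, Fin.cons_succ]
        rw [hu.2 b', if_neg (Fin.succ_ne_zero b').symm]
      · simp only [Fin.cons_zero, Fin.cons_succ]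
        rw [hQ.symm, hw.1 a', mul_zero, if_neg (Fin.succ_ne_zero a')]
      · simp only [Fin.cons_succ, Fin.succ_inj]; exact hf.eh a' b'
    · refine Fin.cases ?_ (fun a' => ?_) a
      · simpa using hQu
      · simpa using he a'
    · refine Fin.cases ?_ (fun a' => ?_) a
      · simpa using hQw
      · simpa using hh a'⟩
  left_inv g := by
    apply Subtype.ext
    simp
  right_inv x := by
    obtain ⟨⟨⟨e, h⟩, hf⟩, ⟨⟨u, w⟩, hu, hw⟩⟩ := x
    simp only [Fin.cons_zero]
    have hfst : (⟨(Fin.tail (Fin.cons u e : Fin (j + 1) → κ → F),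
        Fin.tail (Fin.cons w h : Fin (j + 1) → κ → F)), by
          simpa [Fin.tail_cons] using hf⟩ : OFrame Q B j) = ⟨(e, h), hf⟩ :=
      Subtype.ext (by
        refine Prod.ext ?_ ?_
        · funext a; simp [Fin.tail]
        · funext a; simp [Fin.tail])
    refine Sigma.ext hfst ?_
    refine (Subtype.heq_iff_coe_eq ?_).mpr rfl
    intro x
    simp only [Fin.tail_cons]

end oframes

section ocount
variable {F : Type*} [Field F] [Fintype F] [DecidableEq F] {κ : Type*} [Fintype κ] [DecidableEq κ]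
  {j : ℕ}
variable {Q : (κ → F) → F} {B : LinearMap.BilinForm F (κ → F)}

/-- Number of ways to extend a frame, given the number `N0` of singular vectors in the complement
and the partner count `P`. -/
theorem card_oext (hQ : IsQP Q B) (f : OFrame Q B j) (N0 P : ℕ)
    (hN0 : NW Q B f.1.1 f.1.2 0 = N0)
    (hP : ∀ u : κ → F, bmap B f.1.1 f.1.2 u = 0 → u ≠ 0 → Q u = 0 →
      (univ.filter (fun w : κ → F => bmap B f.1.1 f.1.2 w = 0 ∧ B u w = 1 ∧ Q w = 0)).card = P) :
    Nat.card {p : (κ → F) × (κ → F) //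
        (bmap B f.1.1 f.1.2 p.1 = 0 ∧ Q p.1 = 0) ∧
        (bmap B f.1.1 f.1.2 p.2 = 0 ∧ B p.1 p.2 = 1 ∧
          Q p.2 = 0)} = (N0 - 1) * P := by
  classical
  obtain ⟨⟨e, h⟩, hf, he, hh⟩ := f
  simp only at hN0 hP ⊢
  rw [Nat.card_eq_fintype_card, Fintype.card_subtype]
  rw [Finset.card_eq_sum_card_fiberwise (f := Prod.fst) (t := univ) (fun a _ => Finset.mem_univ _)]
  have hfib : ∀ u : κ → F,
      (Finset.filter (fun p : (κ → F) × (κ → F) => p.1 = u)
        (univ.filter (fun p : (κ → F) × (κ → F) =>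
          (bmap B e h p.1 = 0 ∧ Q p.1 = 0) ∧
          (bmap B e h p.2 = 0 ∧ B p.1 p.2 = 1 ∧
            Q p.2 = 0)))).card =
      if (bmap B e h u = 0 ∧ Q u = 0) ∧ u ≠ 0
        then P else 0 := by
    intro u
    split_ifs with hc
    · rw [← hP u hc.1.1 hc.2 hc.1.2]
      refine Finset.card_bij (fun p _ => p.2) ?_ ?_ ?_
      · intro p hp
        simp only [Finset.mem_filter, Finset.mem_univ, true_and] at hp ⊢
        obtain ⟨⟨-, h2⟩, h4⟩ := hp
        rw [← h4]; exact h2
      · intro p hp p' hp' hpp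
        simp only [Finset.mem_filter, Finset.mem_univ, true_and] at hp hp'
        exact Prod.ext (hp.2.trans hp'.2.symm) hpp
      · intro w hw
        simp only [Finset.mem_filter, Finset.mem_univ, true_and] at hw
        exact ⟨(u, w), by simp [hw.1, hw.2.1, hw.2.2, hc.1.1, hc.1.2], rfl⟩
    · rw [Finset.card_eq_zero, Finset.filter_eq_empty_iff]
      intro p hp hpu
      simp only [Finset.mem_filter, Finset.mem_univ, true_and] at hp
      apply hc
      rw [← hpu]
      refine ⟨hp.1, ?_⟩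
      intro h0
      have := hp.2.2.1
      rw [h0, map_zero, LinearMap.zero_apply] at this
      exact zero_ne_one this
  rw [Finset.sum_congr rfl (fun u _ => hfib u), ← Finset.sum_filter, Finset.sum_const, smul_eq_mul]
  congr 1
  have : (univ.filter (fun u : κ → F =>
      (bmap B e h u = 0 ∧ Q u = 0) ∧ u ≠ 0)) =
      (univ.filter (fun v : κ → F =>
        bmap B e h v = 0 ∧ Q v = 0)).erase 0 := by
    ext u
    simp only [Finset.mem_filter, Finset.mem_univ, true_and, Finset.mem_erase]
    tauto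
  rw [this, Finset.card_erase_of_mem (by
    simp only [Finset.mem_filter, Finset.mem_univ, true_and, map_zero]
    simp [hQ.zero])]
  rw [NW] at hN0
  rw [hN0]

theorem card_oframes_succ (hQ : IsQP Q B) (N0 P : ℕ)
    (hN0 : ∀ f : OFrame Q B j, NW Q B f.1.1 f.1.2 0 = N0)
    (hP : ∀ f : OFrame Q B j, ∀ u : κ → F, bmap B f.1.1 f.1.2 u = 0 → u ≠ 0 → Q u = 0 →
      (univ.filter (fun w : κ → F => bmap B f.1.1 f.1.2 w = 0 ∧ B u w = 1 ∧ Q w = 0)).card = P) :
    Nat.card (OFrame Q B (j + 1)) = Nat.card (OFrame Q B j) * ((N0 - 1) * P) := by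
  classical
  rw [Nat.card_congr (oframeSuccEquiv hQ), Nat.card_sigma,
    Finset.sum_congr rfl (fun f _ => card_oext hQ f N0 P (hN0 f) (hP f)), Finset.sum_const,
    Finset.card_univ, smul_eq_mul, Nat.card_eq_fintype_card]

omit [Fintype F] [DecidableEq F] [Fintype κ] [DecidableEq κ] in
theorem card_oframes_zero : Nat.card (OFrame Q B 0) = 1 := by
  rw [Nat.card_eq_one_iff_unique]
  exact ⟨⟨fun f g => Subtype.ext (Prod.ext (funext fun a => a.elim0) (funext fun a => a.elim0))⟩,
    ⟨⟨(fun a => a.elim0, fun a => a.elim0),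
      ⟨fun a => a.elim0, fun a => a.elim0, fun a => a.elim0⟩, fun a => a.elim0,
        fun a => a.elim0⟩⟩⟩

end ocount

end Cfsg.Agent.Lib.Lead.OG
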