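import Mathlib
import Cfsg.Prelude.Def_Classical
import Cfsg.Agent.Lib.Lead.OrthGen
import Cfsg.Agent.S0289

set_option autoImplicit false

/-! The order of `GO_{2m+1}(q)`, `q` odd, by counting frames. -/

namespace Cfsg.Agent.Lib.Lead.OG

open Finset Matrix Cfsg.Agent.Lib.Lead

section iso
variable {F : Type*} [Field F] {κ : Type} [Fintype κ] [DecidableEq κ]
variable {Q : (κ → F) → F} {B : LinearMap.BilinForm F (κ → F)}

theorem mem_isometryGroup_iff (g : GL κ F) :
    g ∈ Cfsg.isometryGroup F Q ↔ ∀ u, Q ((g : Matrix κ κ F) *ᵥ u) = Q u :=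
  ⟨fun h u => h u u, fun h u _ => h u⟩

theorem B_preserved (hQ : IsQP Q B) (M : Matrix κ κ F) (hM : ∀ x, Q (M *ᵥ x) = Q x)
    (x y : κ → F) : B (M *ᵥ x) (M *ᵥ y) = B x y := by
  rw [hQ.polar_eq_sub, ← Matrix.mulVec_add, hM, hM, hM, ← hQ.polar_eq_sub]

theorem isUnit_of_preserves (hQ : IsQP Q B) (M : Matrix κ κ F) (hM : ∀ x, Q (M *ᵥ x) = Q x) :
    IsUnit M := by
  rw [← Matrix.mulVec_injective_iff_isUnit]
  intro x y hxy
  by_contra hne
  have hne' : x - y ≠ 0 := sub_ne_zero.mpr hne
  obtain ⟨z, hz⟩ := hQ.nondeg _ hne'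
  apply hz
  rw [← B_preserved hQ M hM, Matrix.mulVec_sub, hxy, sub_self, map_zero, LinearMap.zero_apply]

/-- The isometry group as the set of `Q`-preserving matrices. -/
noncomputable def isoEquivPres (hQ : IsQP Q B) :
    Cfsg.isometryGroup F Q ≃ {M : Matrix κ κ F // ∀ x, Q (M *ᵥ x) = Q x} where
  toFun g := ⟨(g.1 : Matrix κ κ F), (mem_isometryGroup_iff g.1).mp g.2⟩
  invFun M := ⟨(isUnit_of_preserves hQ M.1 M.2).unit,
    (mem_isometryGroup_iff _).mpr (by simpa using M.2)⟩
  left_inv g := Subtype.ext (Units.ext rfl)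
  right_inv M := Subtype.ext rfl

end iso

section oddform
variable {F : Type*} [Field F] {m : ℕ}

/-- Index type of the odd-dimensional space. -/
abbrev OI (m : ℕ) : Type := Unit ⊕ (Fin m ⊕ Fin m)

/-- Gram matrix of the polar form of `quadFormOdd`. -/
def SO (F : Type*) [Field F] (m : ℕ) : Matrix (OI m) (OI m) F :=
  Matrix.fromBlocks (Matrix.of fun _ _ => (2 : F)) 0 0 (Matrix.fromBlocks 0 1 1 0)

/-- The polar form of `quadFormOdd`. -/
noncomputable def polarO (F : Type*) [Field F] (m : ℕ) : LinearMap.BilinForm F (OI m → F) :=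
  Matrix.toBilin' (SO F m)

theorem polarO_apply (x y : OI m → F) :
    polarO F m x y = 2 * x (.inl ()) * y (.inl ()) +
      ∑ i : Fin m, (x (.inr (.inl i)) * y (.inr (.inr i)) + x (.inr (.inr i)) * y (.inr (.inl i))) := by
  rw [polarO, Matrix.toBilin'_apply']
  simp only [SO, dotProduct, Matrix.mulVec, Fintype.sum_sum_type, Matrix.fromBlocks_apply₁₁,
    Matrix.fromBlocks_apply₁₂, Matrix.fromBlocks_apply₂₁, Matrix.fromBlocks_apply₂₂,
    Matrix.zero_apply, zero_mul, Finset.sum_const_zero, zero_add, add_zero,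
    Matrix.one_apply, ite_mul, one_mul, Finset.sum_ite_eq, Finset.mem_univ, if_true,
    Matrix.of_apply, Finset.univ_unique, Finset.sum_singleton]
  rw [← Finset.sum_add_distrib]
  congr 1
  ring

theorem quadO_eq (x : OI m → F) :
    Cfsg.quadFormOdd m F x = x (.inl ()) ^ 2 + ∑ i : Fin m, x (.inr (.inl i)) * x (.inr (.inr i)) :=
  rfl

theorem isQP_odd (h2 : (2 : F) ≠ 0) : IsQP (Cfsg.quadFormOdd m F) (polarO F m) where
  add x y := by
    rw [polarO_apply, quadO_eq, quadO_eq, quadO_eq]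
    simp only [Pi.add_apply]
    have : ∑ i : Fin m, (x (.inr (.inl i)) + y (.inr (.inl i))) * (x (.inr (.inr i)) + y (.inr (.inr i))) =
        ∑ i : Fin m, x (.inr (.inl i)) * x (.inr (.inr i)) +
          ∑ i : Fin m, y (.inr (.inl i)) * y (.inr (.inr i)) +
          ∑ i : Fin m, (x (.inr (.inl i)) * y (.inr (.inr i)) + x (.inr (.inr i)) * y (.inr (.inl i))) := by
      rw [← Finset.sum_add_distrib, ← Finset.sum_add_distrib]
      exact Finset.sum_congr rfl (fun i _ => by ring)
    rw [this]; ring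
  smul c x := by
    rw [quadO_eq, quadO_eq]
    simp only [Pi.smul_apply, smul_eq_mul]
    rw [mul_add, Finset.mul_sum]
    congr 1
    · ring
    · exact Finset.sum_congr rfl (fun i _ => by ring)
  symm x y := by
    rw [polarO_apply, polarO_apply, one_mul]
    congr 1
    · ring
    · exact Finset.sum_congr rfl (fun i _ => by ring)
  nondeg x hx := by
    obtain ⟨k, hk⟩ : ∃ k, x k ≠ 0 := by
      by_contra hcon
      push Not at hcon
      exact hx (funext hcon)
    rcases k with ⟨⟩ | i | i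
    · refine ⟨Pi.single (.inl ()) 1, ?_⟩
      rw [polarO_apply]
      simp only [Pi.single_apply, reduceCtorEq, if_false, mul_zero, add_zero,
        Finset.sum_const_zero, if_true, mul_one]
      exact mul_ne_zero h2 hk
    · refine ⟨Pi.single (.inr (.inr i)) 1, ?_⟩
      rw [polarO_apply]
      simp only [Pi.single_apply, Sum.inr.injEq, reduceCtorEq, if_false, mul_zero, add_zero,
        mul_ite, mul_one, Finset.sum_ite_eq, Finset.mem_univ, if_true, zero_add]
      simpa [eq_comm] using hk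
    · refine ⟨Pi.single (.inr (.inl i)) 1, ?_⟩
      rw [polarO_apply]
      simp only [Pi.single_apply, Sum.inr.injEq, Sum.inl.injEq, reduceCtorEq, if_false, mul_zero,
        zero_add, mul_ite, mul_one, Finset.sum_ite_eq, Finset.mem_univ, if_true]
      simpa [eq_comm] using hk

end oddform

section count
variable {F : Type*} [Field F] [Fintype F] [DecidableEq F] {m j : ℕ}

theorem card_quadFormOdd (c : F) :
    (univ.filter (fun v : OI m → F => Cfsg.quadFormOdd m F v = c)).card =
      (univ.filter (fun t : F => t ^ 2 = c)).card * Fintype.card F ^ m +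
        Fintype.card F * ((Fintype.card F ^ m - 1) * Fintype.card F ^ (m - 1)) := by
  let E : (OI m → F) ≃ F × (Fin m ⊕ Fin m → F) :=
    (Equiv.sumArrowEquivProdArrow Unit (Fin m ⊕ Fin m) F).trans
      ((Equiv.funUnique Unit F).prodCongr (Equiv.refl _))
  have h1 : (univ.filter (fun v : OI m → F => Cfsg.quadFormOdd m F v = c)).card =
      (univ.filter (fun p : F × (Fin m ⊕ Fin m → F) =>
        p.1 ^ 2 + Cfsg.quadFormPlus m F p.2 = c)).card := by
    refine Finset.card_equiv E (fun v => ?_)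
    simp only [Finset.mem_filter, Finset.mem_univ, true_and]
    simp [E, Cfsg.quadFormOdd, Cfsg.quadFormPlus, Equiv.sumArrowEquivProdArrow]
  rw [h1, Finset.card_eq_sum_card_fiberwise (f := Prod.fst) (t := univ) (fun _ _ => mem_univ _)]
  have hfib : ∀ t : F, (Finset.filter (fun p : F × (Fin m ⊕ Fin m → F) => p.1 = t)
      (univ.filter (fun p : F × (Fin m ⊕ Fin m → F) =>
        p.1 ^ 2 + Cfsg.quadFormPlus m F p.2 = c))).card =
      (if t ^ 2 = c then Fintype.card F ^ m else 0) +
        (Fintype.card F ^ m - 1) * Fintype.card F ^ (m - 1) := by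
    intro t
    have := Cfsg.Agent.S0289.card_quadFormPlus (F := F) m (c - t ^ 2)
    rw [Nat.card_eq_fintype_card, Fintype.card_subtype] at this
    have hc : (c - t ^ 2 = 0) ↔ (t ^ 2 = c) := by rw [sub_eq_zero, eq_comm]
    simp only [hc] at this
    rw [← this]
    refine Finset.card_bij (fun p _ => p.2) ?_ ?_ ?_
    · intro p hp
      simp only [Finset.mem_filter, Finset.mem_univ, true_and] at hp ⊢
      rw [← hp.1, ← hp.2]; ring
    · intro p hp p' hp' hpp
      simp only [Finset.mem_filter, Finset.mem_univ, true_and] at hp hp'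
      exact Prod.ext (hp.2.trans hp'.2.symm) hpp
    · intro u hu
      simp only [Finset.mem_filter, Finset.mem_univ, true_and] at hu
      refine ⟨(t, u), ?_, rfl⟩
      simp only [Finset.mem_filter, Finset.mem_univ, true_and, and_true]
      rw [hu]; ring
  rw [Finset.sum_congr rfl (fun t _ => hfib t), Finset.sum_add_distrib, Finset.sum_const,
    Finset.card_univ, smul_eq_mul, ← Finset.sum_filter, Finset.sum_const, smul_eq_mul]

omit [Fintype F] [DecidableEq F] in
theorem q_mul_T (q j : ℕ) : q * ((q ^ j - 1) * q ^ (j - 1)) = (q ^ j - 1) * q ^ j := by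
  rcases Nat.eq_zero_or_pos j with rfl | hj
  · simp
  · obtain ⟨i, rfl⟩ : ∃ i, j = i + 1 := ⟨j - 1, by omega⟩
    rw [Nat.add_sub_cancel, pow_succ q i]; ring

theorem card_sq_zero : (univ.filter (fun t : F => t ^ 2 = 0)).card = 1 := by
  rw [Finset.card_eq_one]
  refine ⟨0, ?_⟩
  ext t
  simp

theorem card_sq_one (h2 : (2 : F) ≠ 0) : (univ.filter (fun t : F => t ^ 2 = 1)).card = 2 := by
  rw [Finset.card_eq_two]
  refine ⟨1, -1, ?_, ?_⟩
  · intro h
    apply h2
    have : (1 : F) + 1 = 0 := by nth_rewrite 2 [h]; ring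
    rw [← this]; norm_num
  · ext t
    simp only [Finset.mem_filter, Finset.mem_univ, true_and, Finset.mem_insert,
      Finset.mem_singleton]
    constructor
    · intro h
      have : (t - 1) * (t + 1) = 0 := by
        have : (t - 1) * (t + 1) = t ^ 2 - 1 := by ring
        rw [this, h, sub_self]
      rcases mul_eq_zero.mp this with h' | h'
      · left; exact sub_eq_zero.mp h'
      · right; exact eq_neg_of_add_eq_zero_left h'
    · rintro (rfl | rfl) <;> ring

theorem card_OI : Fintype.card (OI m) = 2 * m + 1 := by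
  rw [Fintype.card_sum, Fintype.card_sum, Fintype.card_fin, Fintype.card_unit]; ring

/-- number of vectors with `Q = 0`: `q^(2m)`, in the form used below. -/
theorem NV_zero :
    (univ.filter (fun v : OI m → F => Cfsg.quadFormOdd m F v = 0)).card =
      Fintype.card F ^ m +
        Fintype.card F * ((Fintype.card F ^ m - 1) * Fintype.card F ^ (m - 1)) := by
  rw [card_quadFormOdd, card_sq_zero, one_mul]

theorem NV_one (h2 : (2 : F) ≠ 0) :
    (univ.filter (fun v : OI m → F => Cfsg.quadFormOdd m F v = 1)).card =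
      2 * Fintype.card F ^ m +
        Fintype.card F * ((Fintype.card F ^ m - 1) * Fintype.card F ^ (m - 1)) := by
  rw [card_quadFormOdd, card_sq_one h2]

theorem card_W (h2 : (2 : F) ≠ 0) (e h : Fin j → (OI m → F))
    (hf : IsHFrame (polarO F m) 1 e h) (hj : j ≤ m) :
    (univ.filter (fun v : OI m → F => bmap (polarO F m) e h v = 0)).card =
      Fintype.card F ^ (2 * (m - j) + 1) := by
  have hqpos : 0 < Fintype.card F := Fintype.card_pos
  have h1 := card_perp (polarO F m) 1 1 one_ne_zero one_ne_zero (isQP_odd h2).symm e h hf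
  rw [card_OI] at h1
  have e' : Fintype.card F ^ (2 * m + 1) =
      Fintype.card F ^ (2 * (m - j) + 1) * Fintype.card F ^ (2 * j) := by
    rw [← pow_add]; congr 1; omega
  rw [e'] at h1
  exact Nat.eq_of_mul_eq_mul_right (pow_pos hqpos _) h1

/-- The number of singular vectors in the complement of a `j`-frame. -/
theorem NWo_zero (h2 : (2 : F) ≠ 0) (e h : Fin j → (OI m → F))
    (hf : IsHFrame (polarO F m) 1 e h)
    (he : ∀ a, Cfsg.quadFormOdd m F (e a) = 0) (hh : ∀ a, Cfsg.quadFormOdd m F (h a) = 0)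
    (hj : j ≤ m) :
    NW (Cfsg.quadFormOdd m F) (polarO F m) e h 0 = Fintype.card F ^ (2 * (m - j)) := by
  set q := Fintype.card F with hq
  have hqpos : 0 < q := Fintype.card_pos
  have hc := card_Q_conv (isQP_odd h2) e h hf he hh 0
  rw [card_W h2 e h hf hj, NV_zero] at hc
  obtain ⟨k, rfl⟩ : ∃ k, m = j + k := ⟨m - j, by omega⟩
  rw [Nat.add_sub_cancel_left] at hc ⊢
  have key : (q : ℤ) ^ j * (NW (Cfsg.quadFormOdd (j + k) F) (polarO F (j + k)) e h 0 : ℤ) =
      (q : ℤ) ^ j * ((q ^ (2 * k) : ℕ) : ℤ) := by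
    have hT1 := q_mul_T q j
    have hT3 := q_mul_T q (j + k)
    have e1 : 1 ≤ q ^ j := Nat.one_le_pow _ _ hqpos
    have e3 : 1 ≤ q ^ (j + k) := Nat.one_le_pow _ _ hqpos
    have hc' := congrArg (fun n : ℕ => (n : ℤ)) hc
    have hT1' : (q : ℤ) * (((q ^ j - 1) * q ^ (j - 1) : ℕ) : ℤ) = ((q : ℤ) ^ j - 1) * (q : ℤ) ^ j := by
      have := congrArg (fun n : ℕ => (n : ℤ)) hT1
      push_cast [Nat.cast_sub e1] at this ⊢
      linarith
    have hT3' : (q : ℤ) * (((q ^ (j + k) - 1) * q ^ (j + k - 1) : ℕ) : ℤ) =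
        ((q : ℤ) ^ (j + k) - 1) * (q : ℤ) ^ (j + k) := by
      have := congrArg (fun n : ℕ => (n : ℤ)) hT3
      push_cast [Nat.cast_sub e3] at this ⊢
      linarith
    push_cast at hc' hT1' hT3' ⊢
    generalize (((q ^ j - 1 : ℕ) : ℤ) * (q : ℤ) ^ (j - 1)) = T1 at *
    generalize (((q ^ (j + k) - 1 : ℕ) : ℤ) * (q : ℤ) ^ (j + k - 1)) = T3 at *
    have hp : (q : ℤ) ^ (j + k) = (q : ℤ) ^ j * (q : ℤ) ^ k := pow_add _ _ _
    have hp2 : (q : ℤ) ^ (2 * k + 1) = (q : ℤ) * ((q : ℤ) ^ k * (q : ℤ) ^ k) := by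
      rw [pow_succ, two_mul, pow_add]; ring
    have hp3 : (q : ℤ) ^ (2 * k) = (q : ℤ) ^ k * (q : ℤ) ^ k := by rw [two_mul, pow_add]
    rw [hp] at hc' hT3'
    rw [hp2] at hc'
    rw [hp3]
    linear_combination (-1 : ℤ) * hc' + hT3' - ((q : ℤ) ^ k * (q : ℤ) ^ k) * hT1'
  have hq0 : (q : ℤ) ^ j ≠ 0 := pow_ne_zero _ (by exact_mod_cast hqpos.ne')
  exact_mod_cast mul_left_cancel₀ hq0 key

/-- The number of vectors with `Q = 1` in the complement of an `m`-frame. -/
theorem NWo_one (h2 : (2 : F) ≠ 0) (e h : Fin m → (OI m → F))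
    (hf : IsHFrame (polarO F m) 1 e h)
    (he : ∀ a, Cfsg.quadFormOdd m F (e a) = 0) (hh : ∀ a, Cfsg.quadFormOdd m F (h a) = 0) :
    NW (Cfsg.quadFormOdd m F) (polarO F m) e h 1 = 2 := by
  set q := Fintype.card F with hq
  have hqpos : 0 < q := Fintype.card_pos
  have hc := card_Q_conv (isQP_odd h2) e h hf he hh 1
  rw [card_W h2 e h hf le_rfl, NV_one h2, Nat.sub_self, mul_zero, zero_add, pow_one] at hc
  have : q ^ m * 2 = q ^ m * NW (Cfsg.quadFormOdd m F) (polarO F m) e h 1 := by
    have e1 : q * ((q ^ m - 1) * q ^ (m - 1)) = (q ^ m - 1) * q ^ (m - 1) * q := by ring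
    rw [e1] at hc
    linarith
  exact (Nat.eq_of_mul_eq_mul_left (pow_pos hqpos _) this).symm

/-- Partner count. -/
theorem card_partner_odd (h2 : (2 : F) ≠ 0) (e h : Fin j → (OI m → F))
    (hf : IsHFrame (polarO F m) 1 e h) (hj : j < m)
    (u : OI m → F) (hu : bmap (polarO F m) e h u = 0) (hu0 : u ≠ 0)
    (hQu : Cfsg.quadFormOdd m F u = 0) :
    (univ.filter (fun w : OI m → F => bmap (polarO F m) e h w = 0 ∧
      polarO F m u w = 1 ∧ Cfsg.quadFormOdd m F w = 0)).card =
      Fintype.card F ^ (2 * (m - j) - 1) := by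
  set q := Fintype.card F with hq
  have hqpos : 0 < q := Fintype.card_pos
  have h1 := card_hyp_partner (isQP_odd h2) e h hf u hu hu0 hQu
  rw [card_OI, ← hq] at h1
  have e' : q ^ (2 * m + 1) = q ^ (2 * (m - j) - 1) * (q * (q ^ (2 * j) * q)) := by
    rw [show q * (q ^ (2 * j) * q) = q ^ (2 * j + 2) by ring, ← pow_add]; congr 1; omega
  rw [e'] at h1
  exact Nat.eq_of_mul_eq_mul_right (by positivity) h1

end count

section final
variable {F : Type*} [Field F] {m j : ℕ}

/-- Full frames: a hyperbolic `m`-frame together with a vector `w` orthogonal to it with `Q w = 1`. -/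
abbrev FullFrame (F : Type*) [Field F] (m : ℕ) : Type _ :=
  Σ f : OFrame (Cfsg.quadFormOdd m F) (polarO F m) m,
    {w : OI m → F // bmap (polarO F m) f.1.1 f.1.2 w = 0 ∧ Cfsg.quadFormOdd m F w = 1}

theorem quadO_single_inl : Cfsg.quadFormOdd m F (Pi.single (.inl ()) (1 : F)) = 1 := by
  simp [Cfsg.quadFormOdd, Pi.single_apply]

theorem quadO_single_inr (k : Fin m ⊕ Fin m) :
    Cfsg.quadFormOdd m F (Pi.single (.inr k) (1 : F)) = 0 := by
  simp only [Cfsg.quadFormOdd, Pi.single_apply, reduceCtorEq, if_false, ne_eq, OfNat.ofNat_ne_zero,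
    not_false_eq_true, zero_pow, zero_add]
  apply Finset.sum_eq_zero
  intro i _
  rcases k with a | a
  · simp
  · simp

/-- The frame matrix applied to a vector. -/
theorem fullMat_mulVec (e h : Fin m → (OI m → F)) (w : OI m → F) (x : OI m → F) :
    (Matrix.of (fun i k => Sum.elim (fun _ => w i)
      (Sum.elim (fun a => e a i) (fun a => h a i)) k) : Matrix (OI m) (OI m) F) *ᵥ x =
      x (.inl ()) • w + comb e h (fun a => x (.inr (.inl a))) (fun a => x (.inr (.inr a))) := by
  funext i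
  simp only [Matrix.mulVec, dotProduct, Matrix.of_apply, Fintype.sum_sum_type, Sum.elim_inl,
    Sum.elim_inr, comb, Finset.sum_apply, Pi.add_apply, Pi.smul_apply, smul_eq_mul,
    Finset.sum_add_distrib, Finset.univ_unique, Finset.sum_singleton]
  congr 1
  · exact mul_comm _ _
  · congr 1 <;> exact Finset.sum_congr rfl (fun a _ => mul_comm _ _)

/-- `Q`-preserving matrices are in bijection with full frames (the columns). -/
noncomputable def presEquivFull (h2 : (2 : F) ≠ 0) :
    {M : Matrix (OI m) (OI m) F // ∀ x, Cfsg.quadFormOdd m F (M *ᵥ x) = Cfsg.quadFormOdd m F x} ≃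
      FullFrame F m where
  toFun M :=
    have hcol : ∀ k, (fun i => M.1 i k) = M.1 *ᵥ Pi.single k 1 := by
      intro k
      funext i
      simp [Matrix.mulVec_single_one]
    have hB : ∀ k l, polarO F m (fun i => M.1 i k) (fun i => M.1 i l) = SO F m k l := by
      intro k l
      rw [hcol, hcol, B_preserved (isQP_odd h2) M.1 M.2, polarO, Matrix.toBilin'_single]
    ⟨⟨(fun a i => M.1 i (.inr (.inl a)), fun a i => M.1 i (.inr (.inr a))), by
      refine ⟨⟨fun a b => ?_, fun a b => ?_, fun a b => ?_⟩, fun a => ?_, fun a => ?_⟩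
      · rw [hB]; simp [SO]
      · rw [hB]; simp [SO]
      · rw [hB]; simp [SO, Matrix.one_apply]
      · show Cfsg.quadFormOdd m F (fun i => M.1 i (.inr (.inl a))) = 0
        rw [hcol, M.2, quadO_single_inr]
      · show Cfsg.quadFormOdd m F (fun i => M.1 i (.inr (.inr a))) = 0
        rw [hcol, M.2, quadO_single_inr]⟩,
    ⟨fun i => M.1 i (.inl ()), by
      refine ⟨?_, ?_⟩
      · rw [bmap_eq_zero_iff]
        refine ⟨fun a => ?_, fun a => ?_⟩
        · rw [hB]; simp [SO]
        · rw [hB]; simp [SO]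
      · rw [hcol, M.2, quadO_single_inl]⟩⟩
  invFun x := ⟨Matrix.of (fun i k => Sum.elim (fun _ => x.2.1 i)
      (Sum.elim (fun a => x.1.1.1 a i) (fun a => x.1.1.2 a i)) k), by
    intro u
    have hQ := isQP_odd (F := F) (m := m) h2
    obtain ⟨⟨⟨e, h⟩, hf, he, hh⟩, ⟨w, hw, hQw⟩⟩ := x
    simp only at hf he hh hw hQw ⊢
    rw [fullMat_mulVec, hQ.add, hQ.smul, hQw, Q_comb hQ e h hf he hh, map_smul,
      LinearMap.smul_apply, B_comb_right]
    rw [bmap_eq_zero_iff] at hw
    simp only [hw.1, hw.2, mul_zero, add_zero, Finset.sum_const_zero, smul_zero, quadO_eq]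
    ring⟩
  left_inv M := by
    apply Subtype.ext
    ext i k
    rcases k with ⟨⟩ | a | a <;> rfl
  right_inv x := by
    obtain ⟨⟨⟨e, h⟩, hf⟩, ⟨w, hw⟩⟩ := x
    rfl

end final

section finalcount
variable {F : Type*} [Field F] [Fintype F] [DecidableEq F] {m j : ℕ}

theorem card_oframes_odd (h2 : (2 : F) ≠ 0) (hj : j ≤ m) :
    Nat.card (OFrame (Cfsg.quadFormOdd m F) (polarO F m) j) =
      ∏ i ∈ Finset.range j,
        ((Fintype.card F ^ (2 * (m - i)) - 1) * Fintype.card F ^ (2 * (m - i) - 1)) := by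
  induction j with
  | zero => simp [card_oframes_zero]
  | succ k ih =>
    rw [card_oframes_succ (isQP_odd h2) (Fintype.card F ^ (2 * (m - k)))
      (Fintype.card F ^ (2 * (m - k) - 1))
      (fun f => NWo_zero h2 f.1.1 f.1.2 f.2.1 f.2.2.1 f.2.2.2 (by omega))
      (fun f u hu hu0 hQu => card_partner_odd h2 f.1.1 f.1.2 f.2.1 (by omega) u hu hu0 hQu),
      ih (by omega), Finset.prod_range_succ]

theorem card_fullFrame (h2 : (2 : F) ≠ 0) :
    Nat.card (FullFrame F m) =
      (∏ i ∈ Finset.range m,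
        ((Fintype.card F ^ (2 * (m - i)) - 1) * Fintype.card F ^ (2 * (m - i) - 1))) * 2 := by
  classical
  rw [FullFrame, Nat.card_sigma]
  have : ∀ f : OFrame (Cfsg.quadFormOdd m F) (polarO F m) m,
      Nat.card {w : OI m → F // bmap (polarO F m) f.1.1 f.1.2 w = 0 ∧
        Cfsg.quadFormOdd m F w = 1} = 2 := by
    intro f
    rw [Nat.card_eq_fintype_card, Fintype.card_subtype]
    exact NWo_one h2 f.1.1 f.1.2 f.2.1 f.2.2.1 f.2.2.2
  rw [Finset.sum_congr rfl (fun f _ => this f), Finset.sum_const, Finset.card_univ, smul_eq_mul,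
    ← Nat.card_eq_fintype_card, card_oframes_odd h2 le_rfl]

/-- `|GO_{2m+1}(F)|` as a product. -/
theorem card_GOodd_eq_prod (h2 : (2 : F) ≠ 0) :
    Nat.card (Cfsg.isometryGroup F (Cfsg.quadFormOdd m F)) =
      (∏ i ∈ Finset.range m,
        ((Fintype.card F ^ (2 * (m - i)) - 1) * Fintype.card F ^ (2 * (m - i) - 1))) * 2 := by
  rw [Nat.card_congr (isoEquivPres (isQP_odd h2)), Nat.card_congr (presEquivFull h2),
    card_fullFrame h2]

end finalcount

end Cfsg.Agent.Lib.Lead.OG
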