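import Mathlib
import Cfsg.Prelude.Def_Classical
import Cfsg.Agent.Lib.Lead.OrthGen
import Cfsg.Agent.Lib.Lead.OrthOdd
import Cfsg.Agent.Lib.Lead.Binary
import Cfsg.Agent.S0289

set_option autoImplicit false
set_option linter.unusedSimpArgs false

/-! The order of `GO^-_{2m}(q)` by counting frames. -/

namespace Cfsg.Agent.Lib.Lead.OG

open Finset Matrix Cfsg.Agent.Lib.Lead Cfsg.Agent.Lib.Lead.Bin

section pair
variable {F : Type*} [Field F] [Fintype F] [DecidableEq F] {κ : Type*} [Fintype κ] [DecidableEq κ]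
  {j : ℕ}
variable {Q : (κ → F) → F} {B : LinearMap.BilinForm F (κ → F)}

/-- The number of irreducible constants of `t² + a t + c` is at most `q / 2`. -/
theorem two_mul_card_irr (a : F) :
    2 * (univ.filter (fun c : F => ∀ r : F, r ^ 2 + a * r + c ≠ 0)).card ≤ Fintype.card F := by
  have hsplit := Finset.card_filter_add_card_filter_not (s := (univ : Finset F))
    (fun c : F => ∀ r : F, r ^ 2 + a * r + c ≠ 0)
  rw [Finset.card_univ] at hsplit
  have hred : (univ.filter (fun c : F => ¬ ∀ r : F, r ^ 2 + a * r + c ≠ 0)) =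
      (univ : Finset F).image (fun r => -(r ^ 2 + a * r)) := by
    ext c
    simp only [Finset.mem_filter, Finset.mem_univ, true_and, Finset.mem_image, not_forall,
      not_not]
    constructor
    · rintro ⟨r, hr⟩
      exact ⟨r, by linear_combination -hr⟩
    · rintro ⟨r, hr⟩
      exact ⟨r, by linear_combination -hr⟩
  have hfib : ∀ c ∈ (univ : Finset F).image (fun r => -(r ^ 2 + a * r)),
      ((univ : Finset F).filter (fun x => -(x ^ 2 + a * x) = c)).card ≤ 2 := by
    intro c hc
    obtain ⟨r0, -, hr0⟩ := Finset.mem_image.mp hc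
    have : (univ : Finset F).filter (fun x => -(x ^ 2 + a * x) = c) ⊆ {r0, -a - r0} := by
      intro x hx
      simp only [Finset.mem_filter, Finset.mem_univ, true_and] at hx
      simp only [Finset.mem_insert, Finset.mem_singleton]
      have : (x - r0) * (x + r0 + a) = 0 := by linear_combination -hx + hr0
      rcases mul_eq_zero.mp this with h | h
      · left; exact sub_eq_zero.mp h
      · right; linear_combination h
    exact (Finset.card_le_card this).trans Finset.card_le_two
  have h1 := Finset.card_le_mul_card_image (univ : Finset F) 2 hfib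
  rw [Finset.card_univ, ← hred] at h1
  omega

variable (hQ : IsQP Q B) (e h : Fin j → (κ → F)) (hf : IsHFrame B 1 e h)

include hQ hf in
theorem card_line_W (hdim : Fintype.card κ = 2 * j + 2)
    (w1 : κ → F) (hw1 : bmap B e h w1 = 0) (hw10 : w1 ≠ 0) (t : F) :
    (univ.filter (fun w : κ → F => bmap B e h w = 0 ∧ B w1 w = t)).card = Fintype.card F := by
  have h1 := card_perp_pair B 1 1 one_ne_zero one_ne_zero hQ.symm hQ.nondeg e h hf w1 hw1 hw10 t
  rw [hdim] at h1
  have hq : 0 < Fintype.card F := Fintype.card_pos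
  have e' : Fintype.card F ^ (2 * j + 2) =
      Fintype.card F * (Fintype.card F ^ (2 * j) * Fintype.card F) := by ring
  rw [e'] at h1
  exact Nat.eq_of_mul_eq_mul_right (by positivity) h1

include hQ hf in
/-- Fibres of `Q` on the affine line `B w1 w = a` of the anisotropic plane have at most two
elements. -/
theorem card_fiber_le_two (hdim : Fintype.card κ = 2 * j + 2)
    (haniso : ∀ w, bmap B e h w = 0 → Q w = 0 → w = 0)
    (w1 : κ → F) (hw1 : bmap B e h w1 = 0) (hw10 : w1 ≠ 0) (a c : F) :
    (univ.filter (fun w : κ → F => bmap B e h w = 0 ∧ B w1 w = a ∧ Q w = c)).card ≤ 2 := by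
  have hq2 : 1 < Fintype.card F := Fintype.one_lt_card
  -- a nonzero direction vector
  have hK := card_line_W hQ e h hf hdim w1 hw1 hw10 0
  obtain ⟨d0, hd0mem, hd0⟩ := Finset.exists_mem_ne (by rw [hK]; exact hq2) (0 : κ → F)
  simp only [Finset.mem_filter, Finset.mem_univ, true_and] at hd0mem
  have hQd0 : Q d0 ≠ 0 := fun h0 => hd0 (haniso d0 hd0mem.1 h0)
  -- the direction space is the line through d0
  have hKline : ∀ d : κ → F, bmap B e h d = 0 → B w1 d = 0 → ∃ l : F, d = l • d0 := by
    have himg : (univ : Finset F).image (fun l : F => l • d0) =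
        univ.filter (fun w : κ → F => bmap B e h w = 0 ∧ B w1 w = 0) := by
      apply Finset.eq_of_subset_of_card_le
      · intro d hd
        obtain ⟨l, -, rfl⟩ := Finset.mem_image.mp hd
        simp only [Finset.mem_filter, Finset.mem_univ, true_and]
        refine ⟨by rw [map_smul, hd0mem.1, smul_zero], by rw [map_smul, hd0mem.2, smul_zero]⟩
      · rw [hK, Finset.card_image_of_injective _ (fun l l' hll => by
          simpa [hd0] using (smul_left_injective F hd0) hll), Finset.card_univ]
    intro d hd1 hd2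
    have : d ∈ (univ : Finset F).image (fun l : F => l • d0) := by
      rw [himg]; simp [hd1, hd2]
    obtain ⟨l, -, hl⟩ := Finset.mem_image.mp this
    exact ⟨l, hl.symm⟩
  by_cases hne : (univ.filter (fun w : κ → F => bmap B e h w = 0 ∧ B w1 w = a ∧ Q w = c)).Nonempty
  · obtain ⟨w, hw⟩ := hne
    simp only [Finset.mem_filter, Finset.mem_univ, true_and] at hw
    have hsub : (univ.filter (fun w : κ → F => bmap B e h w = 0 ∧ B w1 w = a ∧ Q w = c)) ⊆
        {w, w + (-(B w d0) / Q d0) • d0} := by
      intro w' hw'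
      simp only [Finset.mem_filter, Finset.mem_univ, true_and] at hw'
      simp only [Finset.mem_insert, Finset.mem_singleton]
      obtain ⟨l, hl⟩ := hKline (w' - w) (by rw [map_sub, hw'.1, hw.1, sub_zero])
        (by rw [map_sub, hw'.2.1, hw.2.1, sub_self])
      have hw'eq : w' = w + l • d0 := by rw [← hl]; abel
      have hQw' : Q w' = Q w + l * l * Q d0 + l * B w d0 := by
        rw [hw'eq, hQ.add, hQ.smul, map_smul, smul_eq_mul]
      rw [hw'.2.2, hw.2.2] at hQw'
      have : l * (l * Q d0 + B w d0) = 0 := by linear_combination -hQw'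
      rcases mul_eq_zero.mp this with h0 | h0
      · left; rw [hw'eq, h0, zero_smul, add_zero]
      · right
        rw [hw'eq]
        congr 2
        field_simp
        linear_combination h0
    exact (Finset.card_le_card hsub).trans Finset.card_le_two
  · rw [Finset.not_nonempty_iff_eq_empty.mp hne]; simp

include hQ hf in
/-- In the anisotropic plane, a vector `w1` with `Q w1 = 1` has exactly two partners `w2` with
`B w1 w2 = a` and `Q w2 = b`. -/
theorem card_pair_partner (hdim : Fintype.card κ = 2 * j + 2)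
    (haniso : ∀ w, bmap B e h w = 0 → Q w = 0 → w = 0)
    {a b : F} (hab : Aniso a b)
    (w1 : κ → F) (hw1 : bmap B e h w1 = 0) (hQw1 : Q w1 = 1) :
    (univ.filter (fun w : κ → F => bmap B e h w = 0 ∧ B w1 w = a ∧ Q w = b)).card = 2 := by
  have hw10 : w1 ≠ 0 := by
    rintro rfl
    rw [hQ.zero] at hQw1
    exact zero_ne_one hQw1
  have hB11 : B w1 w1 = 2 := by rw [hQ.self, hQw1]; norm_num
  have hle := card_fiber_le_two hQ e h hf hdim haniso w1 hw1 hw10 a b
  -- nonemptiness
  have hne : (univ.filter (fun w : κ → F => bmap B e h w = 0 ∧ B w1 w = a ∧ Q w = b)).Nonempty := by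
    by_contra hempty
    rw [Finset.not_nonempty_iff_eq_empty] at hempty
    have hL := card_line_W hQ e h hf hdim w1 hw1 hw10 a
    have hsplit := Finset.card_filter_add_card_filter_not
      (s := univ.filter (fun w : κ → F => bmap B e h w = 0 ∧ B w1 w = a))
      (fun w : κ → F => ∀ r : F, r ^ 2 + a * r + Q w ≠ 0)
    rw [hL] at hsplit
    -- the reducible part has at most one element
    have hred : ((univ.filter (fun w : κ → F => bmap B e h w = 0 ∧ B w1 w = a)).filter
        (fun w : κ → F => ¬ ∀ r : F, r ^ 2 + a * r + Q w ≠ 0)).card ≤ 1 := by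
      rw [Finset.card_le_one]
      have hform : ∀ w : κ → F, bmap B e h w = 0 → B w1 w = a →
          (¬ ∀ r : F, r ^ 2 + a * r + Q w ≠ 0) → ∃ ρ : F, w = ρ • w1 ∧ 2 * ρ = a := by
        intro w hw hBw hr
        push Not at hr
        obtain ⟨r, hr⟩ := hr
        have h0 : r • w1 + w = 0 := by
          apply haniso
          · rw [map_add, map_smul, hw1, hw, smul_zero, add_zero]
          · rw [hQ.add, hQ.smul, hQw1, map_smul, LinearMap.smul_apply, hBw, smul_eq_mul]
            linear_combination hr
        have hw' : w = (-r) • w1 := by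
          rw [neg_smul]; exact eq_neg_of_add_eq_zero_right h0
        refine ⟨-r, hw', ?_⟩
        rw [hw', map_smul, smul_eq_mul, hB11] at hBw
        linear_combination hBw
      intro w hw w' hw'
      simp only [Finset.mem_filter, Finset.mem_univ, true_and] at hw hw'
      obtain ⟨ρ, hρ, hρ2⟩ := hform w hw.1.1 hw.1.2 hw.2
      obtain ⟨ρ', hρ', hρ2'⟩ := hform w' hw'.1.1 hw'.1.2 hw'.2
      by_cases h2 : (2 : F) = 0
      · exfalso
        rcases two_or_a_ne_zero hab with h2' | ha
        · exact h2' h2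
        · apply ha
          rw [← hρ2, h2, zero_mul]
      · have : ρ = ρ' := by
          have : 2 * (ρ - ρ') = 0 := by linear_combination hρ2 - hρ2'
          rcases mul_eq_zero.mp this with h' | h'
          · exact absurd h' h2
          · exact sub_eq_zero.mp h'
        rw [hρ, hρ', this]
    -- b is an irreducible constant
    have hbirr : ∀ r : F, r ^ 2 + a * r + b ≠ 0 := by
      intro r hr
      have := hab r 1 (by linear_combination hr)
      exact one_ne_zero this.2
    have hI := two_mul_card_irr a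
    have hbI : b ∈ univ.filter (fun c : F => ∀ r : F, r ^ 2 + a * r + c ≠ 0) := by
      simp only [Finset.mem_filter, Finset.mem_univ, true_and]; exact hbirr
    have hcardE := Finset.card_erase_of_mem hbI
    have hpos : 1 ≤ (univ.filter (fun c : F => ∀ r : F, r ^ 2 + a * r + c ≠ 0)).card :=
      Finset.card_pos.mpr ⟨b, hbI⟩
    have hmaps : ∀ w ∈ (univ.filter (fun w : κ → F => bmap B e h w = 0 ∧ B w1 w = a)).filter
        (fun w : κ → F => ∀ r : F, r ^ 2 + a * r + Q w ≠ 0),
        Q w ∈ (univ.filter (fun c : F => ∀ r : F, r ^ 2 + a * r + c ≠ 0)).erase b := by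
      intro w hw
      simp only [Finset.mem_filter, Finset.mem_univ, true_and] at hw
      rw [Finset.mem_erase]
      refine ⟨?_, by simp only [Finset.mem_filter, Finset.mem_univ, true_and]; exact hw.2⟩
      intro hQw
      have : w ∈ (∅ : Finset (κ → F)) := by
        rw [← hempty]
        simp only [Finset.mem_filter, Finset.mem_univ, true_and]
        exact ⟨hw.1.1, hw.1.2, hQw⟩
      simp at this
    have hfib : ∀ c ∈ (univ.filter (fun c : F => ∀ r : F, r ^ 2 + a * r + c ≠ 0)).erase b,
        (((univ.filter (fun w : κ → F => bmap B e h w = 0 ∧ B w1 w = a)).filter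
        (fun w : κ → F => ∀ r : F, r ^ 2 + a * r + Q w ≠ 0)).filter
          (fun w => Q w = c)).card ≤ 2 := by
      intro c _
      refine (Finset.card_le_card ?_).trans
        (card_fiber_le_two hQ e h hf hdim haniso w1 hw1 hw10 a c)
      intro w hw
      simp only [Finset.mem_filter, Finset.mem_univ, true_and] at hw ⊢
      exact ⟨hw.1.1.1, hw.1.1.2, hw.2⟩
    have h1 := Finset.card_le_mul_card_image_of_maps_to hmaps 2 hfib
    omega
  obtain ⟨w2, hw2⟩ := hne
  have hw2' := hw2
  simp only [Finset.mem_filter, Finset.mem_univ, true_and] at hw2'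
  obtain ⟨hw2a, hw2b, hw2c⟩ := hw2'
  have hQneg : Q (a • w1 + (-1 : F) • w2) = b := by
    rw [hQ.add, hQ.smul, hQ.smul, hQw1, hw2c, map_smul, map_smul, LinearMap.smul_apply, hw2b]
    simp only [smul_eq_mul]
    ring
  have hmem : a • w1 + (-1 : F) • w2 ∈
      univ.filter (fun w : κ → F => bmap B e h w = 0 ∧ B w1 w = a ∧ Q w = b) := by
    simp only [Finset.mem_filter, Finset.mem_univ, true_and]
    refine ⟨by rw [map_add, map_smul, map_smul, hw1, hw2a, smul_zero, smul_zero, add_zero], ?_,
      hQneg⟩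
    rw [map_add, map_smul, map_smul, hB11, hw2b]
    simp only [smul_eq_mul]
    ring
  have hne2 : w2 ≠ a • w1 + (-1 : F) • w2 := by
    intro heq
    have h2w : a • w1 = w2 + w2 := by
      have : a • w1 = (a • w1 + (-1 : F) • w2) + w2 := by
        rw [neg_one_smul]; abel
      rw [this, ← heq]
    have hQ1 : Q (a • w1) = a * a := by rw [hQ.smul, hQw1, mul_one]
    have hQ2 : Q (w2 + w2) = 4 * b := by
      rw [hQ.add, hQ.self, hw2c]; ring
    rw [h2w, hQ2] at hQ1
    exact disc_ne_zero hab (by linear_combination -hQ1)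
  have hsub : ({w2, a • w1 + (-1 : F) • w2} : Finset (κ → F)) ⊆
      univ.filter (fun w : κ → F => bmap B e h w = 0 ∧ B w1 w = a ∧ Q w = b) := by
    intro x hx
    simp only [Finset.mem_insert, Finset.mem_singleton] at hx
    rcases hx with rfl | rfl
    · exact hw2
    · exact hmem
  have h2 := Finset.card_le_card hsub
  rw [Finset.card_pair hne2] at h2
  omega

end pair


section minusform
variable {F : Type*} [Field F] {k : ℕ} {a b : F}

/-- Index type of the minus-type space. -/
abbrev MI (k : ℕ) : Type := (Fin k ⊕ Fin k) ⊕ Fin 2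

/-- Gram matrix of the polar form of `quadFormMinus`. -/
def SM (a b : F) (k : ℕ) : Matrix (MI k) (MI k) F :=
  Matrix.fromBlocks (Matrix.fromBlocks 0 1 1 0) 0 0 !![2, a; a, 2 * b]

/-- The polar form of `quadFormMinus`. -/
noncomputable def polarM (a b : F) (k : ℕ) : LinearMap.BilinForm F (MI k → F) :=
  Matrix.toBilin' (SM a b k)

theorem polarM_apply (x y : MI k → F) :
    polarM a b k x y =
      ∑ i : Fin k, (x (.inl (.inl i)) * y (.inl (.inr i)) + x (.inl (.inr i)) * y (.inl (.inl i))) +
      (2 * x (.inr 0) * y (.inr 0) + a * (x (.inr 0) * y (.inr 1) + x (.inr 1) * y (.inr 0)) +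
        2 * b * x (.inr 1) * y (.inr 1)) := by
  rw [polarM, Matrix.toBilin'_apply']
  simp only [SM, dotProduct, Matrix.mulVec, Fintype.sum_sum_type, Matrix.fromBlocks_apply₁₁,
    Matrix.fromBlocks_apply₁₂, Matrix.fromBlocks_apply₂₁, Matrix.fromBlocks_apply₂₂,
    Matrix.zero_apply, zero_mul, Finset.sum_const_zero, zero_add, add_zero,
    Matrix.one_apply, ite_mul, one_mul, Finset.sum_ite_eq, Finset.mem_univ, if_true,
    Fin.sum_univ_two, Matrix.of_apply, Matrix.cons_val', Matrix.cons_val_zero,
    Matrix.cons_val_one, Matrix.cons_val_fin_one]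
  rw [← Finset.sum_add_distrib]
  congr 1
  ring

theorem quadM_eq (x : MI k → F) :
    Cfsg.quadFormMinus k F a b x = ∑ i : Fin k, x (.inl (.inl i)) * x (.inl (.inr i)) +
      (x (.inr 0) ^ 2 + a * x (.inr 0) * x (.inr 1) + b * x (.inr 1) ^ 2) :=
  rfl

theorem isQP_minus [Finite F] (hab : Aniso a b) :
    IsQP (Cfsg.quadFormMinus k F a b) (polarM a b k) where
  add x y := by
    rw [polarM_apply, quadM_eq, quadM_eq, quadM_eq]
    simp only [Pi.add_apply]
    have : ∑ i : Fin k, (x (.inl (.inl i)) + y (.inl (.inl i))) * (x (.inl (.inr i)) + y (.inl (.inr i))) =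
        ∑ i : Fin k, x (.inl (.inl i)) * x (.inl (.inr i)) +
          ∑ i : Fin k, y (.inl (.inl i)) * y (.inl (.inr i)) +
          ∑ i : Fin k, (x (.inl (.inl i)) * y (.inl (.inr i)) + x (.inl (.inr i)) * y (.inl (.inl i))) := by
      rw [← Finset.sum_add_distrib, ← Finset.sum_add_distrib]
      exact Finset.sum_congr rfl (fun i _ => by ring)
    rw [this]; ring
  smul c x := by
    rw [quadM_eq, quadM_eq]
    simp only [Pi.smul_apply, smul_eq_mul]
    rw [mul_add, Finset.mul_sum]
    congr 1
    · exact Finset.sum_congr rfl (fun i _ => by ring)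
    · ring
  symm x y := by
    rw [polarM_apply, polarM_apply, one_mul]
    congr 1
    · exact Finset.sum_congr rfl (fun i _ => by ring)
    · ring
  nondeg x hx := by
    by_contra hcon
    push Not at hcon
    apply hx
    have hsingle : ∀ t : MI k, polarM a b k x (Pi.single t 1) = 0 := fun t => hcon _
    have h0 := hsingle (.inr 0)
    have h1 := hsingle (.inr 1)
    rw [polarM_apply] at h0 h1
    simp only [Pi.single_apply, Sum.inr.injEq, reduceCtorEq, if_false, mul_zero, add_zero,
      Finset.sum_const_zero, if_true, mul_one, zero_add, Fin.isValue, one_ne_zero,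
      zero_ne_one] at h0 h1
    have hd := disc_ne_zero hab
    have hx1 : x (.inr 1) = 0 := by
      have : (a ^ 2 - 4 * b) * x (.inr 1) = 0 := by linear_combination a * h0 - 2 * h1
      rcases mul_eq_zero.mp this with h' | h'
      · exact absurd h' hd
      · exact h'
    have hx0 : x (.inr 0) = 0 := by
      have : (a ^ 2 - 4 * b) * x (.inr 0) = 0 := by linear_combination a * h1 - 2 * b * h0
      rcases mul_eq_zero.mp this with h' | h'
      · exact absurd h' hd
      · exact h'
    funext t
    rcases t with (i | i) | t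
    · have := hsingle (.inl (.inr i))
      rw [polarM_apply] at this
      simp only [Pi.single_apply, Sum.inl.injEq, Sum.inr.injEq, reduceCtorEq, if_false, mul_zero,
        add_zero, mul_ite, mul_one, Finset.sum_ite_eq, Finset.mem_univ, if_true, zero_add] at this
      simpa [eq_comm] using this
    · have := hsingle (.inl (.inl i))
      rw [polarM_apply] at this
      simp only [Pi.single_apply, Sum.inl.injEq, Sum.inr.injEq, reduceCtorEq, if_false, mul_zero,
        add_zero, mul_ite, mul_one, Finset.sum_ite_eq, Finset.mem_univ, if_true, zero_add] at this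
      simpa [eq_comm] using this
    · fin_cases t
      · exact hx0
      · exact hx1

end minusform


section mcount
variable {F : Type*} [Field F] [Fintype F] [DecidableEq F] {k j : ℕ} {a b : F}

/-- number of representations of `c` by the binary form -/
noncomputable def nβ (a b c : F) : ℕ := (univ.filter (fun p : F × F => bq a b p.1 p.2 = c)).card

theorem nβ_zero (hab : Aniso a b) : nβ a b 0 = 1 := by
  rw [nβ, Finset.card_eq_one]
  refine ⟨(0, 0), ?_⟩
  ext p
  simp only [Finset.mem_filter, Finset.mem_univ, true_and, Finset.mem_singleton]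
  constructor
  · intro h
    have := hab p.1 p.2 h
    exact Prod.ext this.1 this.2
  · rintro rfl
    simp [bq]

theorem nβ_one (hab : Aniso a b) : nβ a b 1 = Fintype.card F + 1 := card_conic hab

theorem card_quadFormMinus (c : F) :
    (univ.filter (fun v : MI k → F => Cfsg.quadFormMinus k F a b v = c)).card =
      nβ a b c * Fintype.card F ^ k +
        Fintype.card F * (Fintype.card F * ((Fintype.card F ^ k - 1) * Fintype.card F ^ (k - 1))) := by
  let E : (MI k → F) ≃ (Fin k ⊕ Fin k → F) × (F × F) :=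
    (Equiv.sumArrowEquivProdArrow (Fin k ⊕ Fin k) (Fin 2) F).trans
      ((Equiv.refl _).prodCongr (finTwoArrowEquiv F))
  have h1 : (univ.filter (fun v : MI k → F => Cfsg.quadFormMinus k F a b v = c)).card =
      (univ.filter (fun p : (Fin k ⊕ Fin k → F) × (F × F) =>
        Cfsg.quadFormPlus k F p.1 + bq a b p.2.1 p.2.2 = c)).card := by
    refine Finset.card_equiv E (fun v => ?_)
    simp only [Finset.mem_filter, Finset.mem_univ, true_and]
    simp [E, Cfsg.quadFormMinus, Cfsg.quadFormPlus, Equiv.sumArrowEquivProdArrow, bq,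
      finTwoArrowEquiv]
  rw [h1, Finset.card_eq_sum_card_fiberwise (f := Prod.snd) (t := univ) (fun _ _ => mem_univ _)]
  have hfib : ∀ z : F × F, (Finset.filter (fun p : (Fin k ⊕ Fin k → F) × (F × F) => p.2 = z)
      (univ.filter (fun p : (Fin k ⊕ Fin k → F) × (F × F) =>
        Cfsg.quadFormPlus k F p.1 + bq a b p.2.1 p.2.2 = c))).card =
      (if bq a b z.1 z.2 = c then Fintype.card F ^ k else 0) +
        (Fintype.card F ^ k - 1) * Fintype.card F ^ (k - 1) := by
    intro z
    have := Cfsg.Agent.S0289.card_quadFormPlus (F := F) k (c - bq a b z.1 z.2)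
    rw [Nat.card_eq_fintype_card, Fintype.card_subtype] at this
    have hc : (c - bq a b z.1 z.2 = 0) ↔ (bq a b z.1 z.2 = c) := by rw [sub_eq_zero, eq_comm]
    simp only [hc] at this
    rw [← this]
    refine Finset.card_bij (fun p _ => p.1) ?_ ?_ ?_
    · intro p hp
      simp only [Finset.mem_filter, Finset.mem_univ, true_and] at hp ⊢
      rw [← hp.2, ← hp.1]; ring
    · intro p hp p' hp' hpp
      simp only [Finset.mem_filter, Finset.mem_univ, true_and] at hp hp'
      exact Prod.ext hpp (hp.2.trans hp'.2.symm)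
    · intro u hu
      simp only [Finset.mem_filter, Finset.mem_univ, true_and] at hu
      refine ⟨(u, z), ?_, rfl⟩
      simp only [Finset.mem_filter, Finset.mem_univ, true_and, and_true]
      rw [hu]; ring
  rw [Finset.sum_congr rfl (fun z _ => hfib z), Finset.sum_add_distrib, Finset.sum_const,
    Finset.card_univ, smul_eq_mul, ← Finset.sum_filter, Finset.sum_const, smul_eq_mul,
    Fintype.card_prod, nβ]
  ring

theorem card_MI : Fintype.card (MI k) = 2 * k + 2 := by
  rw [Fintype.card_sum, Fintype.card_sum, Fintype.card_fin, Fintype.card_fin]; ring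

theorem card_Wm (hab : Aniso a b) (e h : Fin j → (MI k → F))
    (hf : IsHFrame (polarM a b k) 1 e h) (hj : j ≤ k) :
    (univ.filter (fun v : MI k → F => bmap (polarM a b k) e h v = 0)).card =
      Fintype.card F ^ (2 * (k - j) + 2) := by
  have hqpos : 0 < Fintype.card F := Fintype.card_pos
  have h1 := card_perp (polarM a b k) 1 1 one_ne_zero one_ne_zero (isQP_minus hab).symm e h hf
  rw [card_MI] at h1
  have e' : Fintype.card F ^ (2 * k + 2) =
      Fintype.card F ^ (2 * (k - j) + 2) * Fintype.card F ^ (2 * j) := by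
    rw [← pow_add]; congr 1; omega
  rw [e'] at h1
  exact Nat.eq_of_mul_eq_mul_right (pow_pos hqpos _) h1

/-- The number of vectors of given `Q`-value in the complement of a `j`-frame. -/
theorem NWm (hab : Aniso a b) (e h : Fin j → (MI k → F))
    (hf : IsHFrame (polarM a b k) 1 e h)
    (he : ∀ i, Cfsg.quadFormMinus k F a b (e i) = 0)
    (hh : ∀ i, Cfsg.quadFormMinus k F a b (h i) = 0)
    (hj : j ≤ k) (c : F) :
    NW (Cfsg.quadFormMinus k F a b) (polarM a b k) e h c +
        Fintype.card F * Fintype.card F ^ (k - j) =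
      nβ a b c * Fintype.card F ^ (k - j) +
        Fintype.card F * (Fintype.card F ^ (k - j) * Fintype.card F ^ (k - j)) := by
  set q := Fintype.card F with hq
  have hqpos : 0 < q := Fintype.card_pos
  have hc := card_Q_conv (isQP_minus hab) e h hf he hh c
  rw [card_Wm hab e h hf hj, card_quadFormMinus] at hc
  obtain ⟨r, rfl⟩ : ∃ r, k = j + r := ⟨k - j, by omega⟩
  rw [Nat.add_sub_cancel_left] at hc ⊢
  have key : (q : ℤ) ^ j * ((NW (Cfsg.quadFormMinus (j + r) F a b) (polarM a b (j + r)) e h c : ℤ) +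
        (q : ℤ) * (q : ℤ) ^ r) =
      (q : ℤ) ^ j * ((nβ a b c : ℤ) * (q : ℤ) ^ r + (q : ℤ) * ((q : ℤ) ^ r * (q : ℤ) ^ r)) := by
    have hT1 := q_mul_T q j
    have hT3 := q_mul_T q (j + r)
    have e1 : 1 ≤ q ^ j := Nat.one_le_pow _ _ hqpos
    have e3 : 1 ≤ q ^ (j + r) := Nat.one_le_pow _ _ hqpos
    have hc' := congrArg (fun n : ℕ => (n : ℤ)) hc
    have hT1' : (q : ℤ) * (((q ^ j - 1) * q ^ (j - 1) : ℕ) : ℤ) = ((q : ℤ) ^ j - 1) * (q : ℤ) ^ j := by
      have := congrArg (fun n : ℕ => (n : ℤ)) hT1
      push_cast [Nat.cast_sub e1] at this ⊢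
      linarith
    have hT3' : (q : ℤ) * (((q ^ (j + r) - 1) * q ^ (j + r - 1) : ℕ) : ℤ) =
        ((q : ℤ) ^ (j + r) - 1) * (q : ℤ) ^ (j + r) := by
      have := congrArg (fun n : ℕ => (n : ℤ)) hT3
      push_cast [Nat.cast_sub e3] at this ⊢
      linarith
    push_cast at hc' hT1' hT3' ⊢
    generalize (((q ^ j - 1 : ℕ) : ℤ) * (q : ℤ) ^ (j - 1)) = T1 at *
    generalize (((q ^ (j + r) - 1 : ℕ) : ℤ) * (q : ℤ) ^ (j + r - 1)) = T3 at *
    have hp : (q : ℤ) ^ (j + r) = (q : ℤ) ^ j * (q : ℤ) ^ r := pow_add _ _ _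
    have hp2 : (q : ℤ) ^ (2 * r + 2) = (q : ℤ) * ((q : ℤ) * ((q : ℤ) ^ r * (q : ℤ) ^ r)) := by
      rw [pow_succ, pow_succ, two_mul, pow_add]; ring
    rw [hp] at hc' hT3'
    rw [hp2] at hc'
    linear_combination (-1 : ℤ) * hc' + (q : ℤ) * hT3' - ((q : ℤ) * ((q : ℤ) ^ r * (q : ℤ) ^ r)) * hT1'
  have hq0 : (q : ℤ) ^ j ≠ 0 := pow_ne_zero _ (by exact_mod_cast hqpos.ne')
  exact_mod_cast mul_left_cancel₀ hq0 key


/-- singular vectors in the complement of a `j`-frame -/
theorem NWm_zero (hab : Aniso a b) (e h : Fin j → (MI k → F))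
    (hf : IsHFrame (polarM a b k) 1 e h)
    (he : ∀ i, Cfsg.quadFormMinus k F a b (e i) = 0)
    (hh : ∀ i, Cfsg.quadFormMinus k F a b (h i) = 0)
    (hj : j ≤ k) :
    NW (Cfsg.quadFormMinus k F a b) (polarM a b k) e h 0 =
      (Fintype.card F ^ (k - j + 1) + 1) * (Fintype.card F ^ (k - j) - 1) + 1 := by
  have h1 := NWm hab e h hf he hh hj 0
  rw [nβ_zero hab, one_mul] at h1
  set q := Fintype.card F with hq
  have hqpos : 0 < q := Fintype.card_pos
  have hR : 1 ≤ q ^ (k - j) := Nat.one_le_pow _ _ hqpos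
  obtain ⟨R', hR'⟩ : ∃ R', q ^ (k - j) = R' + 1 := ⟨q ^ (k - j) - 1, by omega⟩
  rw [hR'] at h1
  rw [pow_succ, hR', Nat.add_sub_cancel]
  have : NW (Cfsg.quadFormMinus k F a b) (polarM a b k) e h 0 + q * (R' + 1) =
      (((R' + 1) * q + 1) * R' + 1) + q * (R' + 1) := by
    rw [h1]; ring
  exact Nat.add_right_cancel this

/-- the complement of a `k`-frame: value distribution of the binary form -/
theorem NWm_top (hab : Aniso a b) (e h : Fin k → (MI k → F))
    (hf : IsHFrame (polarM a b k) 1 e h)
    (he : ∀ i, Cfsg.quadFormMinus k F a b (e i) = 0)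
    (hh : ∀ i, Cfsg.quadFormMinus k F a b (h i) = 0) (c : F) :
    NW (Cfsg.quadFormMinus k F a b) (polarM a b k) e h c = nβ a b c := by
  have h1 := NWm hab e h hf he hh le_rfl c
  rw [Nat.sub_self, pow_zero, mul_one, mul_one, mul_one, mul_one] at h1
  exact Nat.add_right_cancel h1

theorem card_partner_minus (hab : Aniso a b) (e h : Fin j → (MI k → F))
    (hf : IsHFrame (polarM a b k) 1 e h) (hj : j ≤ k)
    (u : MI k → F) (hu : bmap (polarM a b k) e h u = 0) (hu0 : u ≠ 0)
    (hQu : Cfsg.quadFormMinus k F a b u = 0) :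
    (univ.filter (fun w : MI k → F => bmap (polarM a b k) e h w = 0 ∧
      polarM a b k u w = 1 ∧ Cfsg.quadFormMinus k F a b w = 0)).card =
      Fintype.card F ^ (2 * (k - j)) := by
  set q := Fintype.card F with hq
  have hqpos : 0 < q := Fintype.card_pos
  have h1 := card_hyp_partner (isQP_minus hab) e h hf u hu hu0 hQu
  rw [card_MI, ← hq] at h1
  have e' : q ^ (2 * k + 2) = q ^ (2 * (k - j)) * (q * (q ^ (2 * j) * q)) := by
    rw [show q * (q ^ (2 * j) * q) = q ^ (2 * j + 2) by ring, ← pow_add]; congr 1; omega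
  rw [e'] at h1
  exact Nat.eq_of_mul_eq_mul_right (by positivity) h1

theorem card_oframes_minus (hab : Aniso a b) (hj : j ≤ k) :
    Nat.card (OFrame (Cfsg.quadFormMinus k F a b) (polarM a b k) j) =
      ∏ i ∈ Finset.range j,
        ((Fintype.card F ^ (k - i + 1) + 1) * (Fintype.card F ^ (k - i) - 1) *
          Fintype.card F ^ (2 * (k - i))) := by
  induction j with
  | zero => simp [card_oframes_zero]
  | succ l ih =>
    rw [card_oframes_succ (isQP_minus hab)
      ((Fintype.card F ^ (k - l + 1) + 1) * (Fintype.card F ^ (k - l) - 1) + 1)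
      (Fintype.card F ^ (2 * (k - l)))
      (fun f => NWm_zero hab f.1.1 f.1.2 f.2.1 f.2.2.1 f.2.2.2 (by omega))
      (fun f u hu hu0 hQu => card_partner_minus hab f.1.1 f.1.2 f.2.1 (by omega) u hu hu0 hQu),
      ih (by omega), Finset.prod_range_succ, Nat.add_sub_cancel]

end mcount

section mfinal
variable {F : Type*} [Field F] {k : ℕ} {a b : F}

/-- Full frames: a hyperbolic `k`-frame together with a pair `(w1, w2)` in its complement with
Gram data `Q w1 = 1`, `B w1 w2 = a`, `Q w2 = b`. -/
abbrev MFull (a b : F) (k : ℕ) : Type _ :=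
  Σ f : OFrame (Cfsg.quadFormMinus k F a b) (polarM a b k) k,
    {p : (MI k → F) × (MI k → F) //
      (bmap (polarM a b k) f.1.1 f.1.2 p.1 = 0 ∧ Cfsg.quadFormMinus k F a b p.1 = 1) ∧
      (bmap (polarM a b k) f.1.1 f.1.2 p.2 = 0 ∧ polarM a b k p.1 p.2 = a ∧
        Cfsg.quadFormMinus k F a b p.2 = b)}

theorem quadM_single_inl (t : Fin k ⊕ Fin k) :
    Cfsg.quadFormMinus k F a b (Pi.single (.inl t) (1 : F)) = 0 := by
  simp only [Cfsg.quadFormMinus, Pi.single_apply, reduceCtorEq, if_false, ne_eq,
    OfNat.ofNat_ne_zero, not_false_eq_true, zero_pow, mul_zero, add_zero]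
  apply Finset.sum_eq_zero
  intro i _
  rcases t with c | c
  · simp
  · simp

theorem quadM_single_inr0 :
    Cfsg.quadFormMinus k F a b (Pi.single (.inr 0) (1 : F)) = 1 := by
  simp [Cfsg.quadFormMinus, Pi.single_apply]

theorem quadM_single_inr1 :
    Cfsg.quadFormMinus k F a b (Pi.single (.inr 1) (1 : F)) = b := by
  simp [Cfsg.quadFormMinus, Pi.single_apply]

/-- The frame matrix applied to a vector. -/
theorem mfullMat_mulVec (e h : Fin k → (MI k → F)) (w1 w2 : MI k → F) (x : MI k → F) :
    (Matrix.of (fun i t => Sum.elim (Sum.elim (fun c => e c i) (fun c => h c i))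
      (fun s => ![w1 i, w2 i] s) t) : Matrix (MI k) (MI k) F) *ᵥ x =
      (x (.inr 0) • w1 + x (.inr 1) • w2) +
        comb e h (fun c => x (.inl (.inl c))) (fun c => x (.inl (.inr c))) := by
  funext i
  simp only [Matrix.mulVec, dotProduct, Matrix.of_apply, Fintype.sum_sum_type, Sum.elim_inl,
    Sum.elim_inr, comb, Finset.sum_apply, Pi.add_apply, Pi.smul_apply, smul_eq_mul,
    Finset.sum_add_distrib, Fin.sum_univ_two, Matrix.cons_val_zero, Matrix.cons_val_one,
    Matrix.cons_val_fin_one]
  rw [add_comm]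
  congr 1
  · congr 1 <;> exact mul_comm _ _
  · congr 1 <;> exact Finset.sum_congr rfl (fun c _ => mul_comm _ _)

/-- `Q`-preserving matrices are in bijection with full frames (the columns). -/
noncomputable def presEquivMFull [Finite F] (hab : Aniso a b) :
    {M : Matrix (MI k) (MI k) F //
      ∀ x, Cfsg.quadFormMinus k F a b (M *ᵥ x) = Cfsg.quadFormMinus k F a b x} ≃
      MFull a b k where
  toFun M :=
    have hcol : ∀ t, (fun i => M.1 i t) = M.1 *ᵥ Pi.single t 1 := by
      intro t
      funext i
      simp [Matrix.mulVec_single_one]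
    have hB : ∀ t l, polarM a b k (fun i => M.1 i t) (fun i => M.1 i l) = SM a b k t l := by
      intro t l
      rw [hcol, hcol, B_preserved (isQP_minus hab) M.1 M.2, polarM, Matrix.toBilin'_single]
    ⟨⟨(fun c i => M.1 i (.inl (.inl c)), fun c i => M.1 i (.inl (.inr c))), by
      refine ⟨⟨fun c d => ?_, fun c d => ?_, fun c d => ?_⟩, fun c => ?_, fun c => ?_⟩
      · rw [hB]; simp [SM]
      · rw [hB]; simp [SM]
      · rw [hB]; simp [SM, Matrix.one_apply]
      · show Cfsg.quadFormMinus k F a b (fun i => M.1 i (.inl (.inl c))) = 0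
        rw [hcol, M.2, quadM_single_inl]
      · show Cfsg.quadFormMinus k F a b (fun i => M.1 i (.inl (.inr c))) = 0
        rw [hcol, M.2, quadM_single_inl]⟩,
    ⟨(fun i => M.1 i (.inr 0), fun i => M.1 i (.inr 1)), by
      refine ⟨⟨?_, ?_⟩, ?_, ?_, ?_⟩
      · rw [bmap_eq_zero_iff]
        refine ⟨fun c => ?_, fun c => ?_⟩
        · rw [hB]; simp [SM]
        · rw [hB]; simp [SM]
      · show Cfsg.quadFormMinus k F a b (fun i => M.1 i (.inr 0)) = 1
        rw [hcol, M.2, quadM_single_inr0]
      · rw [bmap_eq_zero_iff]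
        refine ⟨fun c => ?_, fun c => ?_⟩
        · rw [hB]; simp [SM]
        · rw [hB]; simp [SM]
      · show polarM a b k (fun i => M.1 i (.inr 0)) (fun i => M.1 i (.inr 1)) = a
        rw [hB]; simp [SM]
      · show Cfsg.quadFormMinus k F a b (fun i => M.1 i (.inr 1)) = b
        rw [hcol, M.2, quadM_single_inr1]⟩⟩
  invFun x := ⟨Matrix.of (fun i t => Sum.elim (Sum.elim (fun c => x.1.1.1 c i)
      (fun c => x.1.1.2 c i)) (fun s => ![x.2.1.1 i, x.2.1.2 i] s) t), by
    intro u
    have hQ := isQP_minus (F := F) (k := k) hab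
    obtain ⟨⟨⟨e, h⟩, hf, he, hh⟩, ⟨⟨w1, w2⟩, ⟨hw1, hQw1⟩, hw2, hB12, hQw2⟩⟩ := x
    simp only at hf he hh hw1 hQw1 hw2 hB12 hQw2 ⊢
    rw [mfullMat_mulVec, Q_add_comb hQ e h hf he hh _ (by
      rw [map_add, map_smul, map_smul, hw1, hw2, smul_zero, smul_zero, add_zero]),
      hQ.add, hQ.smul, hQ.smul, hQw1, hQw2, map_smul, map_smul, LinearMap.smul_apply, hB12,
      quadM_eq]
    simp only [smul_eq_mul]
    ring⟩
  left_inv M := by
    apply Subtype.ext
    ext i t
    rcases t with (c | c) | t
    · rfl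
    · rfl
    · fin_cases t <;> rfl
  right_inv x := by
    obtain ⟨⟨⟨e, h⟩, hf⟩, ⟨⟨w1, w2⟩, hw⟩⟩ := x
    rfl

end mfinal

section mfinalcount
variable {F : Type*} [Field F] [Fintype F] [DecidableEq F] {k : ℕ} {a b : F}

theorem card_mfull (hab : Aniso a b) :
    Nat.card (MFull a b k) =
      (∏ i ∈ Finset.range k,
        ((Fintype.card F ^ (k - i + 1) + 1) * (Fintype.card F ^ (k - i) - 1) *
          Fintype.card F ^ (2 * (k - i)))) * ((Fintype.card F + 1) * 2) := by
  classical
  rw [MFull, Nat.card_sigma]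
  have : ∀ f : OFrame (Cfsg.quadFormMinus k F a b) (polarM a b k) k,
      Nat.card {p : (MI k → F) × (MI k → F) //
      (bmap (polarM a b k) f.1.1 f.1.2 p.1 = 0 ∧ Cfsg.quadFormMinus k F a b p.1 = 1) ∧
      (bmap (polarM a b k) f.1.1 f.1.2 p.2 = 0 ∧ polarM a b k p.1 p.2 = a ∧
        Cfsg.quadFormMinus k F a b p.2 = b)} = (Fintype.card F + 1) * 2 := by
    intro f
    obtain ⟨⟨e, h⟩, hf, he, hh⟩ := f
    simp only
    have hQ := isQP_minus (F := F) (k := k) hab
    have haniso : ∀ w, bmap (polarM a b k) e h w = 0 → Cfsg.quadFormMinus k F a b w = 0 →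
        w = 0 := by
      intro w hw hQw
      have h0 := NWm_top hab e h hf he hh 0
      rw [nβ_zero hab, NW, Finset.card_eq_one] at h0
      obtain ⟨w0, hw0⟩ := h0
      have hmem : w ∈ univ.filter (fun w : MI k → F => bmap (polarM a b k) e h w = 0 ∧
          Cfsg.quadFormMinus k F a b w = 0) := by
        simp only [Finset.mem_filter, Finset.mem_univ, true_and]; exact ⟨hw, hQw⟩
      have hmem0 : (0 : MI k → F) ∈ univ.filter (fun w : MI k → F =>
          bmap (polarM a b k) e h w = 0 ∧ Cfsg.quadFormMinus k F a b w = 0) := by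
        rw [Finset.mem_filter]
        exact ⟨Finset.mem_univ _, map_zero _, hQ.zero⟩
      rw [hw0, Finset.mem_singleton] at hmem hmem0
      rw [hmem, hmem0]
    rw [Nat.card_eq_fintype_card, Fintype.card_subtype]
    rw [Finset.card_eq_sum_card_fiberwise (f := Prod.fst) (t := univ)
      (fun _ _ => Finset.mem_univ _)]
    have hfib : ∀ w1 : MI k → F,
        (Finset.filter (fun p : (MI k → F) × (MI k → F) => p.1 = w1)
          (univ.filter (fun p : (MI k → F) × (MI k → F) =>
            (bmap (polarM a b k) e h p.1 = 0 ∧ Cfsg.quadFormMinus k F a b p.1 = 1) ∧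
            (bmap (polarM a b k) e h p.2 = 0 ∧ polarM a b k p.1 p.2 = a ∧
              Cfsg.quadFormMinus k F a b p.2 = b)))).card =
        if bmap (polarM a b k) e h w1 = 0 ∧ Cfsg.quadFormMinus k F a b w1 = 1 then 2 else 0 := by
      intro w1
      split_ifs with hc
      · refine Eq.trans ?_ (card_pair_partner hQ e h hf card_MI haniso hab w1 hc.1 hc.2)
        refine Finset.card_bij (fun p _ => p.2) ?_ ?_ ?_
        · intro p hp
          simp only [Finset.mem_filter, Finset.mem_univ, true_and] at hp ⊢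
          obtain ⟨⟨-, h2⟩, h4⟩ := hp
          rw [← h4]; exact h2
        · intro p hp p' hp' hpp
          simp only [Finset.mem_filter, Finset.mem_univ, true_and] at hp hp'
          exact Prod.ext (hp.2.trans hp'.2.symm) hpp
        · intro w hw
          simp only [Finset.mem_filter, Finset.mem_univ, true_and] at hw
          exact ⟨(w1, w), by simp [hw.1, hw.2.1, hw.2.2, hc.1, hc.2], rfl⟩
      · rw [Finset.card_eq_zero, Finset.filter_eq_empty_iff]
        intro p hp hpu
        simp only [Finset.mem_filter, Finset.mem_univ, true_and] at hp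
        apply hc
        rw [← hpu]
        exact hp.1
    rw [Finset.sum_congr rfl (fun u _ => hfib u), ← Finset.sum_filter, Finset.sum_const,
      smul_eq_mul]
    congr 1
    have h1 := NWm_top hab e h hf he hh 1
    rw [nβ_one hab, NW] at h1
    exact h1
  rw [Finset.sum_congr rfl (fun f _ => this f), Finset.sum_const, Finset.card_univ, smul_eq_mul,
    ← Nat.card_eq_fintype_card, card_oframes_minus hab le_rfl]

/-- `|GO^-_{2k+2}(F)|` as a product. -/
theorem card_GOminus_eq_prod (hab : Aniso a b) :
    Nat.card (Cfsg.isometryGroup F (Cfsg.quadFormMinus k F a b)) =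
      (∏ i ∈ Finset.range k,
        ((Fintype.card F ^ (k - i + 1) + 1) * (Fintype.card F ^ (k - i) - 1) *
          Fintype.card F ^ (2 * (k - i)))) * ((Fintype.card F + 1) * 2) := by
  rw [Nat.card_congr (isoEquivPres (isQP_minus hab)), Nat.card_congr (presEquivMFull hab),
    card_mfull hab]

end mfinalcount

end Cfsg.Agent.Lib.Lead.OG
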