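import Mathlib
import Cfsg.Prelude.Def_Classical
import Cfsg.Agent.Lib.Lead.FrameCount
import Cfsg.Agent.S0289

set_option autoImplicit false

namespace Cfsg.Agent.Lib.Lead

open Finset Matrix

section
variable {F : Type*} [Field F] {m j : ℕ}

/-- The Gram matrix of the polar form of the hyperbolic quadratic form. -/
def swapS (F : Type*) [Field F] (m : ℕ) : Matrix (Fin m ⊕ Fin m) (Fin m ⊕ Fin m) F :=
  Matrix.fromBlocks 0 1 1 0

/-- The polar form of `quadFormPlus`. -/
noncomputable def polarP (F : Type*) [Field F] (m : ℕ) :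
    LinearMap.BilinForm F (Fin m ⊕ Fin m → F) :=
  Matrix.toBilin' (swapS F m)

theorem polarP_apply (x y : Fin m ⊕ Fin m → F) :
    polarP F m x y = ∑ i : Fin m, (x (.inl i) * y (.inr i) + x (.inr i) * y (.inl i)) := by
  rw [polarP, Matrix.toBilin'_apply']
  simp only [swapS, dotProduct, Matrix.mulVec, Fintype.sum_sum_type, Matrix.fromBlocks_apply₁₁,
    Matrix.fromBlocks_apply₁₂, Matrix.fromBlocks_apply₂₁, Matrix.fromBlocks_apply₂₂,
    Matrix.zero_apply, zero_mul, Finset.sum_const_zero, zero_add, add_zero,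
    Matrix.one_apply, ite_mul, one_mul, Finset.sum_ite_eq, Finset.mem_univ, if_true]
  rw [← Finset.sum_add_distrib]

theorem polarP_symm (x y : Fin m ⊕ Fin m → F) : polarP F m y x = 1 * polarP F m x y := by
  rw [polarP_apply, polarP_apply, one_mul]
  refine Finset.sum_congr rfl (fun i _ => ?_)
  ring

theorem quadP_add (x y : Fin m ⊕ Fin m → F) :
    Cfsg.quadFormPlus m F (x + y) =
      Cfsg.quadFormPlus m F x + Cfsg.quadFormPlus m F y + polarP F m x y := by
  rw [polarP_apply]
  simp only [Cfsg.quadFormPlus, Pi.add_apply, ← Finset.sum_add_distrib]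
  refine Finset.sum_congr rfl (fun i _ => ?_)
  ring

theorem quadP_smul (c : F) (x : Fin m ⊕ Fin m → F) :
    Cfsg.quadFormPlus m F (c • x) = c * c * Cfsg.quadFormPlus m F x := by
  simp only [Cfsg.quadFormPlus, Pi.smul_apply, smul_eq_mul, Finset.mul_sum]
  refine Finset.sum_congr rfl (fun i _ => ?_)
  ring

theorem polarP_self (x : Fin m ⊕ Fin m → F) :
    polarP F m x x = Cfsg.quadFormPlus m F x + Cfsg.quadFormPlus m F x := by
  rw [polarP_apply]
  simp only [Cfsg.quadFormPlus, ← Finset.sum_add_distrib]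
  refine Finset.sum_congr rfl (fun i _ => ?_)
  ring

theorem polarP_nondeg (x : Fin m ⊕ Fin m → F) (hx : x ≠ 0) : ∃ y, polarP F m x y ≠ 0 := by
  obtain ⟨k, hk⟩ : ∃ k, x k ≠ 0 := by
    by_contra hcon
    push Not at hcon
    exact hx (funext hcon)
  rcases k with i | i
  · refine ⟨Pi.single (.inr i) 1, ?_⟩
    rw [polarP_apply]
    simp only [Pi.single_apply, Sum.inr.injEq, reduceCtorEq, if_false, mul_zero, add_zero,
      mul_ite, mul_one, Finset.sum_ite_eq, Finset.mem_univ, if_true]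
    simpa [eq_comm] using hk
  · refine ⟨Pi.single (.inl i) 1, ?_⟩
    rw [polarP_apply]
    simp only [Pi.single_apply, Sum.inl.injEq, reduceCtorEq, if_false, mul_zero, zero_add,
      mul_ite, mul_one, Finset.sum_ite_eq, Finset.mem_univ, if_true]
    simpa [eq_comm] using hk

/-- A sum of pairwise orthogonal vectors has `Q`-value the sum of the `Q`-values. -/
theorem quadP_sum_orth {κ : Type*} (s : Finset κ) (z : κ → (Fin m ⊕ Fin m → F))
    (horth : ∀ a b, a ≠ b → polarP F m (z a) (z b) = 0) :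
    Cfsg.quadFormPlus m F (∑ a ∈ s, z a) = ∑ a ∈ s, Cfsg.quadFormPlus m F (z a) := by
  classical
  induction s using Finset.induction_on with
  | empty => simp [Cfsg.quadFormPlus]
  | insert a s ha ih =>
    rw [Finset.sum_insert ha, Finset.sum_insert ha, quadP_add, ih, map_sum]
    have : ∑ b ∈ s, polarP F m (z a) (z b) = 0 := by
      apply Finset.sum_eq_zero
      intro b hb
      exact horth a b (fun h => ha (h ▸ hb))
    rw [this, add_zero]

/-- `Q` of a combination of a hyperbolic frame. -/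
theorem quadP_comb (e h : Fin j → (Fin m ⊕ Fin m → F)) (hf : IsHFrame (polarP F m) 1 e h)
    (he : ∀ a, Cfsg.quadFormPlus m F (e a) = 0) (hh : ∀ a, Cfsg.quadFormPlus m F (h a) = 0)
    (α β : Fin j → F) : Cfsg.quadFormPlus m F (comb e h α β) = ∑ a, α a * β a := by
  rw [comb, quadP_sum_orth]
  · refine Finset.sum_congr rfl (fun a _ => ?_)
    rw [quadP_add, quadP_smul, quadP_smul, he, hh, map_smul, map_smul, LinearMap.smul_apply,
      hf.eh, if_pos rfl]
    simp [mul_comm]
  · intro a b hab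
    simp only [map_add, map_smul, LinearMap.add_apply, LinearMap.smul_apply, smul_eq_mul,
      hf.ee, hf.hh, hf.eh, if_neg hab, polarP_symm (e b) (h a), if_neg (Ne.symm hab)]
    ring

end

section dist
variable {F : Type*} [Field F] [Fintype F] [DecidableEq F] {m j : ℕ}

/-- Number of vectors in the complement of a frame with `Q`-value `c`. -/
noncomputable def NWp (e h : Fin j → (Fin m ⊕ Fin m → F)) (c : F) : ℕ :=
  (univ.filter (fun w : Fin m ⊕ Fin m → F =>
    bmap (polarP F m) e h w = 0 ∧ Cfsg.quadFormPlus m F w = c)).card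

theorem quadP_add_comb (e h : Fin j → (Fin m ⊕ Fin m → F)) (hf : IsHFrame (polarP F m) 1 e h)
    (he : ∀ a, Cfsg.quadFormPlus m F (e a) = 0) (hh : ∀ a, Cfsg.quadFormPlus m F (h a) = 0)
    (w : Fin m ⊕ Fin m → F) (hw : bmap (polarP F m) e h w = 0) (α β : Fin j → F) :
    Cfsg.quadFormPlus m F (w + comb e h α β) = Cfsg.quadFormPlus m F w + ∑ a, α a * β a := by
  rw [quadP_add, quadP_comb e h hf he hh, B_comb_right]
  rw [bmap_eq_zero_iff] at hw
  simp [hw.1, hw.2]

theorem card_quadP_eq_sum (e h : Fin j → (Fin m ⊕ Fin m → F))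
    (hf : IsHFrame (polarP F m) 1 e h)
    (he : ∀ a, Cfsg.quadFormPlus m F (e a) = 0) (hh : ∀ a, Cfsg.quadFormPlus m F (h a) = 0)
    (c : F) :
    (univ.filter (fun v : Fin m ⊕ Fin m → F => Cfsg.quadFormPlus m F v = c)).card =
      ∑ x : (Fin j → F) × (Fin j → F), NWp e h (c - ∑ a, x.1 a * x.2 a) := by
  rw [Finset.card_eq_sum_card_fiberwise (f := bmap (polarP F m) e h) (t := univ)
    (fun a _ => Finset.mem_univ _)]
  refine Finset.sum_congr rfl (fun x _ => ?_)
  rw [NWp]
  have hb : bmap (polarP F m) e h (comb e h x.2 x.1) = x := by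
    rw [bmap_comb (polarP F m) 1 1 polarP_symm e h hf]
    simp
  refine Finset.card_bij (fun v _ => v - comb e h x.2 x.1) ?_ ?_ ?_
  · intro v hv
    simp only [Finset.mem_filter, Finset.mem_univ, true_and] at hv ⊢
    obtain ⟨h1, h2⟩ := hv
    have hw : bmap (polarP F m) e h (v - comb e h x.2 x.1) = 0 := by
      rw [map_sub, hb, h2, sub_self]
    refine ⟨hw, ?_⟩
    have := quadP_add_comb e h hf he hh _ hw x.2 x.1
    rw [sub_add_cancel, h1] at this
    rw [this]
    have : ∑ a, x.2 a * x.1 a = ∑ a, x.1 a * x.2 a :=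
      Finset.sum_congr rfl (fun a _ => mul_comm _ _)
    rw [this]; ring
  · intro v _ v' _ h
    exact sub_left_injective h
  · intro w hw
    simp only [Finset.mem_filter, Finset.mem_univ, true_and] at hw
    obtain ⟨h1, h2⟩ := hw
    refine ⟨w + comb e h x.2 x.1, ?_, by simp⟩
    simp only [Finset.mem_filter, Finset.mem_univ, true_and]
    refine ⟨?_, ?_⟩
    · rw [quadP_add_comb e h hf he hh _ h1, h2]
      have : ∑ a, x.2 a * x.1 a = ∑ a, x.1 a * x.2 a :=
        Finset.sum_congr rfl (fun a _ => mul_comm _ _)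
      rw [this]; ring
    · rw [map_add, h1, hb, zero_add]

/-- The convolution identity: `N_V(c) = q^j N_W(c) + (q^j - 1) q^(j-1) |W|`. -/
theorem card_quadP_conv (e h : Fin j → (Fin m ⊕ Fin m → F))
    (hf : IsHFrame (polarP F m) 1 e h)
    (he : ∀ a, Cfsg.quadFormPlus m F (e a) = 0) (hh : ∀ a, Cfsg.quadFormPlus m F (h a) = 0)
    (c : F) :
    (univ.filter (fun v : Fin m ⊕ Fin m → F => Cfsg.quadFormPlus m F v = c)).card =
      Fintype.card F ^ j * NWp e h c +
        (Fintype.card F ^ j - 1) * Fintype.card F ^ (j - 1) *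
          (univ.filter (fun v : Fin m ⊕ Fin m → F => bmap (polarP F m) e h v = 0)).card := by
  rw [card_quadP_eq_sum e h hf he hh c]
  rw [← Finset.sum_fiberwise' (s := univ) (g := fun x : (Fin j → F) × (Fin j → F) =>
    ∑ a, x.1 a * x.2 a) (f := fun d => NWp e h (c - d))]
  have hP : ∀ d : F, ∑ _x ∈ univ.filter (fun x : (Fin j → F) × (Fin j → F) =>
      ∑ a, x.1 a * x.2 a = d), NWp e h (c - d) =
      ((if d = 0 then Fintype.card F ^ j else 0) +
        (Fintype.card F ^ j - 1) * Fintype.card F ^ (j - 1)) * NWp e h (c - d) := by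
    intro d
    rw [Finset.sum_const, smul_eq_mul]
    have := card_pairs_dot (F := F) (ι := Fin j) d
    rw [Fintype.card_fin] at this
    rw [this]
  rw [Finset.sum_congr rfl (fun d _ => hP d)]
  simp only [add_mul, Finset.sum_add_distrib, ite_mul, zero_mul]
  rw [Finset.sum_ite_eq' univ (0 : F), if_pos (Finset.mem_univ _), sub_zero, ← Finset.mul_sum]
  congr 2
  -- Σ_d NWp (c - d) = |W|
  rw [show (∑ d : F, NWp e h (c - d)) = ∑ d : F, NWp e h d from
    Equiv.sum_comp (Equiv.subLeft c) (fun d => NWp e h d)]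
  rw [Finset.card_eq_sum_card_fiberwise (f := fun v => Cfsg.quadFormPlus m F v) (t := univ)
    (fun a _ => Finset.mem_univ _)]
  refine Finset.sum_congr rfl (fun d _ => ?_)
  rw [NWp, Finset.filter_filter]

theorem q_mul_T (q j : ℕ) : q * ((q ^ j - 1) * q ^ (j - 1)) = (q ^ j - 1) * q ^ j := by
  rcases Nat.eq_zero_or_pos j with rfl | hj
  · simp
  · obtain ⟨i, rfl⟩ : ∃ i, j = i + 1 := ⟨j - 1, by omega⟩
    rw [Nat.add_sub_cancel, pow_succ q i]; ring

/-- The number of singular vectors in the complement of a `j`-frame. -/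
theorem NWp_zero (e h : Fin j → (Fin m ⊕ Fin m → F))
    (hf : IsHFrame (polarP F m) 1 e h)
    (he : ∀ a, Cfsg.quadFormPlus m F (e a) = 0) (hh : ∀ a, Cfsg.quadFormPlus m F (h a) = 0)
    (hj : j ≤ m) :
    NWp e h 0 = Fintype.card F ^ (m - j) +
      (Fintype.card F ^ (m - j) - 1) * Fintype.card F ^ (m - j - 1) := by
  set q := Fintype.card F with hq
  have hqpos : 0 < q := Fintype.card_pos
  have hN : Fintype.card (Fin m ⊕ Fin m) = 2 * m := by
    rw [Fintype.card_sum, Fintype.card_fin]; ring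
  have h1 := card_perp (polarP F m) 1 1 one_ne_zero one_ne_zero polarP_symm e h hf
  rw [hN] at h1
  have hW : (univ.filter (fun v : Fin m ⊕ Fin m → F => bmap (polarP F m) e h v = 0)).card =
      q ^ (2 * (m - j)) := by
    have e' : q ^ (2 * m) = q ^ (2 * (m - j)) * q ^ (2 * j) := by
      rw [← pow_add]; congr 1; omega
    rw [e'] at h1
    exact Nat.eq_of_mul_eq_mul_right (pow_pos hqpos _) h1
  have h2 := card_quadP_conv e h hf he hh 0
  rw [hW] at h2
  have h3 := Cfsg.Agent.S0289.card_quadFormPlus (F := F) m 0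
  rw [if_pos rfl, Nat.card_eq_fintype_card, Fintype.card_subtype] at h3
  rw [h3] at h2
  obtain ⟨k, rfl⟩ : ∃ k, m = j + k := ⟨m - j, by omega⟩
  rw [Nat.add_sub_cancel_left] at h2 ⊢
  -- multiply by q and compare over ℤ
  have key : (q : ℤ) ^ (j + 1) * (NWp e h 0 : ℤ) =
      (q : ℤ) ^ (j + 1) * ((q ^ k + (q ^ k - 1) * q ^ (k - 1) : ℕ) : ℤ) := by
    have hT1 := q_mul_T q j
    have hT2 := q_mul_T q k
    have hT3 := q_mul_T q (j + k)
    have e1 : 1 ≤ q ^ j := Nat.one_le_pow _ _ hqpos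
    have e2 : 1 ≤ q ^ k := Nat.one_le_pow _ _ hqpos
    have e3 : 1 ≤ q ^ (j + k) := Nat.one_le_pow _ _ hqpos
    have h2' : ((q ^ (j + k) + (q ^ (j + k) - 1) * q ^ (j + k - 1) : ℕ) : ℤ) =
        ((q ^ j * NWp e h 0 + (q ^ j - 1) * q ^ (j - 1) * q ^ (2 * k) : ℕ) : ℤ) := by
      rw [h2]
    have hT1' : (q : ℤ) * (((q ^ j - 1) * q ^ (j - 1) : ℕ) : ℤ) = ((q : ℤ) ^ j - 1) * (q : ℤ) ^ j := by
      have := congrArg (fun n : ℕ => (n : ℤ)) hT1
      push_cast [Nat.cast_sub e1] at this ⊢
      linarith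
    have hT2' : (q : ℤ) * (((q ^ k - 1) * q ^ (k - 1) : ℕ) : ℤ) = ((q : ℤ) ^ k - 1) * (q : ℤ) ^ k := by
      have := congrArg (fun n : ℕ => (n : ℤ)) hT2
      push_cast [Nat.cast_sub e2] at this ⊢
      linarith
    have hT3' : (q : ℤ) * (((q ^ (j + k) - 1) * q ^ (j + k - 1) : ℕ) : ℤ) =
        ((q : ℤ) ^ (j + k) - 1) * (q : ℤ) ^ (j + k) := by
      have := congrArg (fun n : ℕ => (n : ℤ)) hT3
      push_cast [Nat.cast_sub e3] at this ⊢
      linarith
    push_cast at h2' hT1' hT2' hT3' ⊢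
    generalize (((q ^ j - 1 : ℕ) : ℤ) * (q : ℤ) ^ (j - 1)) = T1 at *
    generalize (((q ^ k - 1 : ℕ) : ℤ) * (q : ℤ) ^ (k - 1)) = T2 at *
    generalize (((q ^ (j + k) - 1 : ℕ) : ℤ) * (q : ℤ) ^ (j + k - 1)) = T3 at *
    have hp : (q : ℤ) ^ (j + k) = (q : ℤ) ^ j * (q : ℤ) ^ k := pow_add _ _ _
    have hp2 : (q : ℤ) ^ (2 * k) = (q : ℤ) ^ k * (q : ℤ) ^ k := by rw [two_mul, pow_add]
    rw [hp] at h2' hT3'
    rw [hp2] at h2'
    rw [pow_succ]
    linear_combination (-(q : ℤ)) * h2' + hT3' - ((q : ℤ) ^ k * (q : ℤ) ^ k) * hT1' -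
      ((q : ℤ) ^ j) * hT2'
  have hq0 : (q : ℤ) ^ (j + 1) ≠ 0 := pow_ne_zero _ (by exact_mod_cast hqpos.ne')
  exact_mod_cast mul_left_cancel₀ hq0 key

/-- For a nonzero singular `u` in the complement, the number of singular `w` in the complement
with `B u w = 1`. -/
theorem card_hyp_partner (e h : Fin j → (Fin m ⊕ Fin m → F))
    (hf : IsHFrame (polarP F m) 1 e h) (hj : j < m)
    (u : Fin m ⊕ Fin m → F) (hu : bmap (polarP F m) e h u = 0) (hu0 : u ≠ 0)
    (hQu : Cfsg.quadFormPlus m F u = 0) :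
    (univ.filter (fun w : Fin m ⊕ Fin m → F => bmap (polarP F m) e h w = 0 ∧
      polarP F m u w = 1 ∧ Cfsg.quadFormPlus m F w = 0)).card =
      Fintype.card F ^ (2 * (m - j) - 2) := by
  set q := Fintype.card F with hq
  have hqpos : 0 < q := Fintype.card_pos
  have hN : Fintype.card (Fin m ⊕ Fin m) = 2 * m := by
    rw [Fintype.card_sum, Fintype.card_fin]; ring
  have h2 := card_perp_pair (polarP F m) 1 1 one_ne_zero one_ne_zero polarP_symm polarP_nondeg
    e h hf u hu hu0 1
  rw [hN] at h2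
  -- split by Q-value
  have hsplit : (univ.filter (fun w : Fin m ⊕ Fin m → F => bmap (polarP F m) e h w = 0 ∧
      polarP F m u w = 1)).card = q * (univ.filter (fun w : Fin m ⊕ Fin m → F =>
        bmap (polarP F m) e h w = 0 ∧ polarP F m u w = 1 ∧ Cfsg.quadFormPlus m F w = 0)).card := by
    rw [Finset.card_eq_sum_card_fiberwise (f := fun w => Cfsg.quadFormPlus m F w) (t := univ)
      (fun a _ => Finset.mem_univ _)]
    have : ∀ c : F, (Finset.filter (fun w => Cfsg.quadFormPlus m F w = c)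
        (univ.filter (fun w : Fin m ⊕ Fin m → F => bmap (polarP F m) e h w = 0 ∧
          polarP F m u w = 1))).card = (univ.filter (fun w : Fin m ⊕ Fin m → F =>
        bmap (polarP F m) e h w = 0 ∧ polarP F m u w = 1 ∧ Cfsg.quadFormPlus m F w = 0)).card := by
      intro c
      symm
      have huu : polarP F m u u = 0 := by rw [polarP_self, hQu, add_zero]
      refine Finset.card_bij (fun w _ => w + c • u) ?_ ?_ ?_
      · intro w hw
        simp only [Finset.mem_filter, Finset.mem_univ, true_and] at hw ⊢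
        obtain ⟨h1, h3, h4⟩ := hw
        refine ⟨⟨?_, ?_⟩, ?_⟩
        · rw [map_add, map_smul, h1, hu, smul_zero, add_zero]
        · rw [map_add, map_smul, h3, huu, smul_eq_mul, mul_zero, add_zero]
        · rw [quadP_add, quadP_smul, h4, hQu, map_smul, polarP_symm, h3]
          simp
      · intro w _ w' _ hww
        exact add_right_cancel hww
      · intro w hw
        simp only [Finset.mem_filter, Finset.mem_univ, true_and] at hw
        obtain ⟨⟨h1, h3⟩, h4⟩ := hw
        refine ⟨w - c • u, ?_, by simp⟩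
        simp only [Finset.mem_filter, Finset.mem_univ, true_and]
        refine ⟨?_, ?_, ?_⟩
        · rw [map_sub, map_smul, h1, hu, smul_zero, sub_zero]
        · rw [map_sub, map_smul, h3, huu, smul_eq_mul, mul_zero, sub_zero]
        · have : w - c • u = w + (-c) • u := by rw [neg_smul, sub_eq_add_neg]
          rw [this, quadP_add, quadP_smul, h4, hQu, map_smul, polarP_symm, h3]
          simp
    rw [Finset.sum_congr rfl (fun c _ => this c), Finset.sum_const, Finset.card_univ, smul_eq_mul]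
  rw [hsplit] at h2
  have e' : q ^ (2 * m) = q ^ (2 * (m - j) - 2) * (q * (q ^ (2 * j) * q)) := by
    rw [show q * (q ^ (2 * j) * q) = q ^ (2 * j + 2) by ring, ← pow_add]; congr 1; omega
  rw [e'] at h2
  have h3 : (univ.filter (fun w : Fin m ⊕ Fin m → F => bmap (polarP F m) e h w = 0 ∧
      polarP F m u w = 1 ∧ Cfsg.quadFormPlus m F w = 0)).card * (q * (q ^ (2 * j) * q)) =
      q ^ (2 * (m - j) - 2) * (q * (q ^ (2 * j) * q)) := by
    rw [← h2]; ring
  exact Nat.eq_of_mul_eq_mul_right (by positivity) h3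

end dist

section oframes
variable {F : Type*} [Field F] {m j : ℕ}

/-- Hyperbolic `j`-frames of singular vectors for `quadFormPlus`. -/
abbrev OFrame (F : Type*) [Field F] (m j : ℕ) : Type _ :=
  {p : (Fin j → (Fin m ⊕ Fin m → F)) × (Fin j → (Fin m ⊕ Fin m → F)) //
    IsHFrame (polarP F m) 1 p.1 p.2 ∧ (∀ a, Cfsg.quadFormPlus m F (p.1 a) = 0) ∧
      (∀ a, Cfsg.quadFormPlus m F (p.2 a) = 0)}

/-- Extending a hyperbolic frame by one hyperbolic pair. -/
noncomputable def oframeSuccEquiv :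
    OFrame F m (j + 1) ≃ Σ f : OFrame F m j,
      {p : (Fin m ⊕ Fin m → F) × (Fin m ⊕ Fin m → F) //
        (bmap (polarP F m) f.1.1 f.1.2 p.1 = 0 ∧ Cfsg.quadFormPlus m F p.1 = 0) ∧
        (bmap (polarP F m) f.1.1 f.1.2 p.2 = 0 ∧ polarP F m p.1 p.2 = 1 ∧
          Cfsg.quadFormPlus m F p.2 = 0)} where
  toFun g := ⟨⟨(Fin.tail g.1.1, Fin.tail g.1.2),
      ⟨⟨fun a b => g.2.1.ee a.succ b.succ, fun a b => g.2.1.hh a.succ b.succ, fun a b => by
        have := g.2.1.eh a.succ b.succ
        simpa [Fin.tail] using this⟩, fun a => g.2.2.1 a.succ, fun a => g.2.2.2 a.succ⟩⟩,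
    ⟨(g.1.1 0, g.1.2 0), by
      refine ⟨⟨?_, g.2.2.1 0⟩, ?_, ?_, g.2.2.2 0⟩
      · rw [bmap_eq_zero_iff]
        refine ⟨fun a => g.2.1.ee 0 a.succ, fun a => ?_⟩
        have := g.2.1.eh 0 a.succ
        simpa [Fin.tail, (Fin.succ_ne_zero a).symm] using this
      · rw [bmap_eq_zero_iff]
        refine ⟨fun a => ?_, fun a => g.2.1.hh 0 a.succ⟩
        show polarP F m (g.1.2 0) (g.1.1 a.succ) = 0
        rw [polarP_symm, g.2.1.eh a.succ 0, if_neg (Fin.succ_ne_zero a), mul_zero]
      · have := g.2.1.eh 0 0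
        simpa using this⟩⟩
  invFun x := ⟨(Fin.cons x.2.1.1 x.1.1.1, Fin.cons x.2.1.2 x.1.1.2), by
    obtain ⟨⟨⟨e, h⟩, hf, he, hh⟩, ⟨⟨u, w⟩, ⟨hu, hQu⟩, hw, huw, hQw⟩⟩ := x
    rw [bmap_eq_zero_iff] at hu hw
    simp only at hu hw huw hf he hh hQu hQw ⊢
    have huu : polarP F m u u = 0 := by rw [polarP_self, hQu, add_zero]
    have hww : polarP F m w w = 0 := by rw [polarP_self, hQw, add_zero]
    refine ⟨⟨fun a b => ?_, fun a b => ?_, fun a b => ?_⟩, fun a => ?_, fun a => ?_⟩
    · refine Fin.cases ?_ (fun a' => ?_) a <;> refine Fin.cases ?_ (fun b' => ?_) b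
      · simp only [Fin.cons_zero]; exact huu
      · simp only [Fin.cons_zero, Fin.cons_succ]; exact hu.1 b'
      · simp only [Fin.cons_zero, Fin.cons_succ]
        rw [polarP_symm, hu.1 a', mul_zero]
      · simp only [Fin.cons_succ]; exact hf.ee a' b'
    · refine Fin.cases ?_ (fun a' => ?_) a <;> refine Fin.cases ?_ (fun b' => ?_) b
      · simp only [Fin.cons_zero]; exact hww
      · simp only [Fin.cons_zero, Fin.cons_succ]; exact hw.2 b'
      · simp only [Fin.cons_zero, Fin.cons_succ]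
        rw [polarP_symm, hw.2 a', mul_zero]
      · simp only [Fin.cons_succ]; exact hf.hh a' b'
    · refine Fin.cases ?_ (fun a' => ?_) a <;> refine Fin.cases ?_ (fun b' => ?_) b
      · simp only [Fin.cons_zero]; simpa using huw
      · simp only [Fin.cons_zero, Fin.cons_succ]
        rw [hu.2 b', if_neg (Fin.succ_ne_zero b').symm]
      · simp only [Fin.cons_zero, Fin.cons_succ]
        rw [polarP_symm, hw.1 a', mul_zero, if_neg (Fin.succ_ne_zero a')]
      · simp only [Fin.cons_succ, Fin.succ_inj]; exact hf.eh a' b'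
    · refine Fin.cases ?_ (fun a' => ?_) a
      · simpa using hQu
      · simpa using he a'
    · refine Fin.cases ?_ (fun a' => ?_) a
      · simpa using hQw
      · simpa using hh a'⟩
  left_inv g := by
    apply Subtype.ext
    simp
  right_inv x := by
    obtain ⟨⟨⟨e, h⟩, hf⟩, ⟨⟨u, w⟩, hu, hw⟩⟩ := x
    simp only [Fin.cons_zero]
    have hfst : (⟨(Fin.tail (Fin.cons u e : Fin (j + 1) → Fin m ⊕ Fin m → F),
        Fin.tail (Fin.cons w h : Fin (j + 1) → Fin m ⊕ Fin m → F)), by
          simpa [Fin.tail_cons] using hf⟩ : OFrame F m j) = ⟨(e, h), hf⟩ :=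
      Subtype.ext (by
        refine Prod.ext ?_ ?_
        · funext a; simp [Fin.tail]
        · funext a; simp [Fin.tail])
    refine Sigma.ext hfst ?_
    refine (Subtype.heq_iff_coe_eq ?_).mpr rfl
    intro x
    simp only [Fin.tail_cons]

end oframes

section ocount
variable {F : Type*} [Field F] [Fintype F] [DecidableEq F] {m j : ℕ}

theorem card_oext (f : OFrame F m j) (hj : j < m) :
    Nat.card {p : (Fin m ⊕ Fin m → F) × (Fin m ⊕ Fin m → F) //
        (bmap (polarP F m) f.1.1 f.1.2 p.1 = 0 ∧ Cfsg.quadFormPlus m F p.1 = 0) ∧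
        (bmap (polarP F m) f.1.1 f.1.2 p.2 = 0 ∧ polarP F m p.1 p.2 = 1 ∧
          Cfsg.quadFormPlus m F p.2 = 0)} =
      (Fintype.card F ^ (m - j) + (Fintype.card F ^ (m - j) - 1) * Fintype.card F ^ (m - j - 1) - 1) *
        Fintype.card F ^ (2 * (m - j) - 2) := by
  classical
  set q := Fintype.card F with hq
  obtain ⟨⟨e, h⟩, hf, he, hh⟩ := f
  simp only
  rw [Nat.card_eq_fintype_card, Fintype.card_subtype]
  rw [Finset.card_eq_sum_card_fiberwise (f := Prod.fst) (t := univ) (fun a _ => Finset.mem_univ _)]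
  have hfib : ∀ u : Fin m ⊕ Fin m → F,
      (Finset.filter (fun p : (Fin m ⊕ Fin m → F) × (Fin m ⊕ Fin m → F) => p.1 = u)
        (univ.filter (fun p : (Fin m ⊕ Fin m → F) × (Fin m ⊕ Fin m → F) =>
          (bmap (polarP F m) e h p.1 = 0 ∧ Cfsg.quadFormPlus m F p.1 = 0) ∧
          (bmap (polarP F m) e h p.2 = 0 ∧ polarP F m p.1 p.2 = 1 ∧
            Cfsg.quadFormPlus m F p.2 = 0)))).card =
      if (bmap (polarP F m) e h u = 0 ∧ Cfsg.quadFormPlus m F u = 0) ∧ u ≠ 0
        then q ^ (2 * (m - j) - 2) else 0 := by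
    intro u
    split_ifs with hc
    · rw [← card_hyp_partner e h hf hj u hc.1.1 hc.2 hc.1.2]
      refine Finset.card_bij (fun p _ => p.2) ?_ ?_ ?_
      · intro p hp
        simp only [Finset.mem_filter, Finset.mem_univ, true_and] at hp ⊢
        obtain ⟨⟨-, h2⟩, h4⟩ := hp
        rw [← h4]; exact h2
      · intro p hp p' hp' hpp
        simp only [Finset.mem_filter, Finset.mem_univ, true_and] at hp hp'
        exact Prod.ext (hp.2.trans hp'.2.symm) hpp
      · intro w hw
        simp only [Finset.mem_filter, Finset.mem_univ, true_and] at hw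
        exact ⟨(u, w), by simp [hw.1, hw.2.1, hw.2.2, hc.1.1, hc.1.2], rfl⟩
    · rw [Finset.card_eq_zero, Finset.filter_eq_empty_iff]
      intro p hp hpu
      simp only [Finset.mem_filter, Finset.mem_univ, true_and] at hp
      apply hc
      rw [← hpu]
      refine ⟨hp.1, ?_⟩
      intro h0
      have := hp.2.2.1
      rw [h0, map_zero, LinearMap.zero_apply] at this
      exact zero_ne_one this
  rw [Finset.sum_congr rfl (fun u _ => hfib u), ← Finset.sum_filter, Finset.sum_const, smul_eq_mul]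
  congr 1
  have : (univ.filter (fun u : Fin m ⊕ Fin m → F =>
      (bmap (polarP F m) e h u = 0 ∧ Cfsg.quadFormPlus m F u = 0) ∧ u ≠ 0)) =
      (univ.filter (fun v : Fin m ⊕ Fin m → F =>
        bmap (polarP F m) e h v = 0 ∧ Cfsg.quadFormPlus m F v = 0)).erase 0 := by
    ext u
    simp only [Finset.mem_filter, Finset.mem_univ, true_and, Finset.mem_erase]
    tauto
  rw [this, Finset.card_erase_of_mem (by
    simp only [Finset.mem_filter, Finset.mem_univ, true_and, map_zero]
    simp [Cfsg.quadFormPlus])]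
  have h0 := NWp_zero e h hf he hh hj.le
  rw [NWp] at h0
  rw [h0]

theorem card_oframes_succ (hj : j < m) :
    Nat.card (OFrame F m (j + 1)) = Nat.card (OFrame F m j) *
      ((Fintype.card F ^ (m - j) + (Fintype.card F ^ (m - j) - 1) * Fintype.card F ^ (m - j - 1) - 1) *
        Fintype.card F ^ (2 * (m - j) - 2)) := by
  classical
  rw [Nat.card_congr oframeSuccEquiv, Nat.card_sigma,
    Finset.sum_congr rfl (fun f _ => card_oext f hj), Finset.sum_const, Finset.card_univ,
    smul_eq_mul, Nat.card_eq_fintype_card]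

theorem card_oframes (hj : j ≤ m) :
    Nat.card (OFrame F m j) = ∏ i ∈ Finset.range j,
      ((Fintype.card F ^ (m - i) + (Fintype.card F ^ (m - i) - 1) * Fintype.card F ^ (m - i - 1) - 1) *
        Fintype.card F ^ (2 * (m - i) - 2)) := by
  induction j with
  | zero =>
    simp only [Finset.range_zero, Finset.prod_empty]
    rw [Nat.card_eq_one_iff_unique]
    refine ⟨⟨fun f g => Subtype.ext (Prod.ext (funext fun a => a.elim0) (funext fun a => a.elim0))⟩,
      ⟨⟨(fun a => a.elim0, fun a => a.elim0),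
        ⟨fun a => a.elim0, fun a => a.elim0, fun a => a.elim0⟩, fun a => a.elim0,
          fun a => a.elim0⟩⟩⟩
  | succ k ih =>
    rw [card_oframes_succ (by omega), ih (by omega), Finset.prod_range_succ]

end ocount

section goequiv
variable {F : Type*} [Field F] {m : ℕ}

theorem swapS_mul_self : swapS F m * swapS F m = 1 := by
  simp [swapS, Matrix.fromBlocks_multiply, Matrix.fromBlocks_one]

theorem gramP_apply (A : Matrix (Fin m ⊕ Fin m) (Fin m ⊕ Fin m) F) (k l : Fin m ⊕ Fin m) :
    (Aᵀ * swapS F m * A) k l = polarP F m (fun i => A i k) (fun i => A i l) := by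
  rw [polarP, Matrix.toBilin'_apply', Matrix.mul_assoc, Matrix.mul_apply]
  simp only [dotProduct, Matrix.transpose_apply]
  refine Finset.sum_congr rfl (fun i _ => ?_)
  congr 1

theorem mem_isometryGroup_iff (g : GL (Fin m ⊕ Fin m) F) :
    g ∈ Cfsg.isometryGroup F (Cfsg.quadFormPlus m F) ↔
      ∀ u, Cfsg.quadFormPlus m F ((g : Matrix (Fin m ⊕ Fin m) (Fin m ⊕ Fin m) F) *ᵥ u) =
        Cfsg.quadFormPlus m F u :=
  ⟨fun h u => h u u, fun h u _ => h u⟩

theorem polarP_eq_sub (x y : Fin m ⊕ Fin m → F) :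
    polarP F m x y = Cfsg.quadFormPlus m F (x + y) - Cfsg.quadFormPlus m F x -
      Cfsg.quadFormPlus m F y := by
  rw [quadP_add]; ring

theorem quadP_single (k : Fin m ⊕ Fin m) :
    Cfsg.quadFormPlus m F (Pi.single k (1 : F)) = 0 := by
  simp only [Cfsg.quadFormPlus]
  apply Finset.sum_eq_zero
  intro i _
  rcases k with a | a
  · simp [Pi.single_apply]
  · simp [Pi.single_apply]

/-- The frame matrix applied to a vector is the corresponding combination. -/
theorem frameMat_mulVec (e h : Fin m → (Fin m ⊕ Fin m → F)) (x : Fin m ⊕ Fin m → F) :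
    (Matrix.of (fun i k => Sum.elim (fun a => e a i) (fun a => h a i) k) :
      Matrix (Fin m ⊕ Fin m) (Fin m ⊕ Fin m) F) *ᵥ x =
      comb e h (fun a => x (.inl a)) (fun a => x (.inr a)) := by
  funext i
  simp only [Matrix.mulVec, dotProduct, Matrix.of_apply, Fintype.sum_sum_type, Sum.elim_inl,
    Sum.elim_inr, comb, Finset.sum_apply, Pi.add_apply, Pi.smul_apply, smul_eq_mul,
    Finset.sum_add_distrib]
  congr 1 <;> exact Finset.sum_congr rfl (fun a _ => mul_comm _ _)

/-- `GO^+_{2m}(F)` is in bijection with hyperbolic `m`-frames (the columns). -/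
noncomputable def goEquivFrames :
    Cfsg.isometryGroup F (Cfsg.quadFormPlus m F) ≃ OFrame F m m where
  toFun g := ⟨(fun a i => (g.1 : Matrix (Fin m ⊕ Fin m) (Fin m ⊕ Fin m) F) i (Sum.inl a),
      fun a i => (g.1 : Matrix (Fin m ⊕ Fin m) (Fin m ⊕ Fin m) F) i (Sum.inr a)), by
    have hg := (mem_isometryGroup_iff g.1).mp g.2
    have hcol : ∀ k, (fun i => (g.1 : Matrix (Fin m ⊕ Fin m) (Fin m ⊕ Fin m) F) i k) =
        (g.1 : Matrix (Fin m ⊕ Fin m) (Fin m ⊕ Fin m) F) *ᵥ Pi.single k 1 := by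
      intro k
      funext i
      simp [Matrix.mulVec_single_one]
    have hQ : ∀ k, Cfsg.quadFormPlus m F
        (fun i => (g.1 : Matrix (Fin m ⊕ Fin m) (Fin m ⊕ Fin m) F) i k) = 0 := by
      intro k
      rw [hcol, hg, quadP_single]
    have hB : ∀ k l, polarP F m (fun i => (g.1 : Matrix (Fin m ⊕ Fin m) (Fin m ⊕ Fin m) F) i k)
        (fun i => (g.1 : Matrix (Fin m ⊕ Fin m) (Fin m ⊕ Fin m) F) i l) = swapS F m k l := by
      intro k l
      rw [polarP_eq_sub, hcol, hcol, ← Matrix.mulVec_add, hg, hg, hg, ← polarP_eq_sub, polarP,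
        Matrix.toBilin'_single]
    refine ⟨⟨fun a b => ?_, fun a b => ?_, fun a b => ?_⟩, fun a => hQ _, fun a => hQ _⟩
    · rw [hB]; simp [swapS]
    · rw [hB]; simp [swapS]
    · rw [hB]; simp [swapS, Matrix.one_apply]⟩
  invFun f :=
    let M : Matrix (Fin m ⊕ Fin m) (Fin m ⊕ Fin m) F :=
      Matrix.of (fun i k => Sum.elim (fun a => f.1.1 a i) (fun a => f.1.2 a i) k)
    have hgram : Mᵀ * swapS F m * M = swapS F m := by
      ext k l
      rw [gramP_apply]
      rcases k with a | a <;> rcases l with b | b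
      · simp only [Matrix.of_apply, Sum.elim_inl, M]
        rw [f.2.1.ee]; simp [swapS]
      · simp only [Matrix.of_apply, Sum.elim_inl, Sum.elim_inr, M]
        rw [f.2.1.eh]; simp [swapS, Matrix.one_apply]
      · simp only [Matrix.of_apply, Sum.elim_inl, Sum.elim_inr, M]
        rw [polarP_symm, f.2.1.eh]; simp [swapS, Matrix.one_apply, eq_comm]
      · simp only [Matrix.of_apply, Sum.elim_inr, M]
        rw [f.2.1.hh]; simp [swapS]
    have hinv : (swapS F m * Mᵀ * swapS F m) * M = 1 := by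
      rw [Matrix.mul_assoc, Matrix.mul_assoc, ← Matrix.mul_assoc Mᵀ, hgram, swapS_mul_self]
    ⟨⟨M, swapS F m * Mᵀ * swapS F m, mul_eq_one_comm.mp hinv, hinv⟩, by
      rw [mem_isometryGroup_iff]
      intro u
      show Cfsg.quadFormPlus m F (M *ᵥ u) = _
      rw [frameMat_mulVec, quadP_comb f.1.1 f.1.2 f.2.1 f.2.2.1 f.2.2.2]
      rfl⟩
  left_inv g := by
    apply Subtype.ext
    apply Units.ext
    ext i k
    rcases k with a | a <;> rfl
  right_inv f := by
    apply Subtype.ext
    rfl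

end goequiv

/-- `|GO^+_{2m}(F)|` as a product. -/
theorem card_GOplus_eq_prod {F : Type*} [Field F] [Fintype F] [DecidableEq F] {m : ℕ} :
    Nat.card (Cfsg.isometryGroup F (Cfsg.quadFormPlus m F)) = ∏ i ∈ Finset.range m,
      ((Fintype.card F ^ (m - i) + (Fintype.card F ^ (m - i) - 1) * Fintype.card F ^ (m - i - 1) - 1) *
        Fintype.card F ^ (2 * (m - i) - 2)) := by
  rw [Nat.card_congr goEquivFrames, card_oframes (le_refl m)]

end Cfsg.Agent.Lib.Lead
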