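import Mathlib
import Cfsg.Agent.Lib.Lead.FrameCount

set_option autoImplicit false

namespace Cfsg.Agent.Lib.Lead

open Finset Matrix

section
variable {F : Type*} [Field F] {m j : ℕ}

/-- The standard symplectic form on `F^(2m)`. -/
noncomputable def sympB (F : Type*) [Field F] (m : ℕ) :
    LinearMap.BilinForm F (Fin m ⊕ Fin m → F) :=
  Matrix.toBilin' (Matrix.J (Fin m) F)

theorem sympB_apply (x y : Fin m ⊕ Fin m → F) :
    sympB F m x y = x ⬝ᵥ (Matrix.J (Fin m) F *ᵥ y) := Matrix.toBilin'_apply' _ _ _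

theorem sympB_antisymm (x y : Fin m ⊕ Fin m → F) : sympB F m y x = (-1) * sympB F m x y := by
  rw [sympB_apply, sympB_apply, Matrix.dotProduct_mulVec, ← Matrix.mulVec_transpose,
    Matrix.J_transpose, Matrix.neg_mulVec, neg_dotProduct, dotProduct_comm]
  ring

theorem sympB_self (x : Fin m ⊕ Fin m → F) : sympB F m x x = 0 := by
  rw [sympB_apply]
  simp only [Matrix.J, dotProduct, Matrix.mulVec, Fintype.sum_sum_type, Matrix.fromBlocks_apply₁₁,
    Matrix.fromBlocks_apply₁₂, Matrix.fromBlocks_apply₂₁, Matrix.fromBlocks_apply₂₂,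
    Matrix.zero_apply, zero_mul, Finset.sum_const_zero, zero_add, add_zero, Matrix.neg_apply,
    Matrix.one_apply, neg_mul, ite_mul, one_mul, Finset.sum_neg_distrib, Finset.sum_ite_eq,
    Finset.mem_univ, if_true, mul_neg]
  rw [neg_add_eq_zero]
  exact Finset.sum_congr rfl (fun i _ => mul_comm _ _)

theorem sympB_nondeg (x : Fin m ⊕ Fin m → F) (hx : x ≠ 0) : ∃ y, sympB F m x y ≠ 0 := by
  obtain ⟨k, hk⟩ : ∃ k, x k ≠ 0 := by
    by_contra hcon
    push Not at hcon
    exact hx (funext hcon)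
  refine ⟨-(Matrix.J (Fin m) F *ᵥ Pi.single k 1), ?_⟩
  rw [sympB_apply, Matrix.mulVec_neg, Matrix.mulVec_mulVec, Matrix.J_squared, Matrix.neg_mulVec,
    neg_neg, Matrix.one_mulVec, dotProduct_single, mul_one]
  exact hk

/-- Symplectic `j`-frames in `F^(2m)`. -/
abbrev SFrame (F : Type*) [Field F] (m j : ℕ) : Type _ :=
  {p : (Fin j → (Fin m ⊕ Fin m → F)) × (Fin j → (Fin m ⊕ Fin m → F)) //
    IsHFrame (sympB F m) (-1) p.1 p.2}

theorem gram_apply (A : Matrix (Fin m ⊕ Fin m) (Fin m ⊕ Fin m) F) (k l : Fin m ⊕ Fin m) :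
    (Aᵀ * Matrix.J (Fin m) F * A) k l = sympB F m (fun i => A i k) (fun i => A i l) := by
  rw [sympB_apply, Matrix.mul_assoc, Matrix.mul_apply]
  simp only [dotProduct, Matrix.transpose_apply]
  refine Finset.sum_congr rfl (fun i _ => ?_)
  congr 1

/-- `Sp_{2m}(F)` is in bijection with symplectic `m`-frames (the columns). -/
noncomputable def spEquivFrames : Matrix.symplecticGroup (Fin m) F ≃ SFrame F m m where
  toFun A := ⟨(fun a i => A.1 i (Sum.inl a), fun a i => A.1 i (Sum.inr a)), by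
    have hA := SymplecticGroup.mem_iff'.mp A.2
    have key : ∀ k l, sympB F m (fun i => A.1 i k) (fun i => A.1 i l) = Matrix.J (Fin m) F k l := by
      intro k l
      rw [← gram_apply, hA]
    refine ⟨fun a b => ?_, fun a b => ?_, fun a b => ?_⟩
    · rw [key]; simp [Matrix.J]
    · rw [key]; simp [Matrix.J]
    · rw [key]; simp only [Matrix.J, Matrix.fromBlocks_apply₁₂, Matrix.neg_apply, Matrix.one_apply]; split_ifs <;> simp⟩
  invFun f := ⟨Matrix.of (fun i k => Sum.elim (fun a => f.1.1 a i) (fun a => f.1.2 a i) k), by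
    rw [SymplecticGroup.mem_iff']
    ext k l
    rw [gram_apply]
    rcases k with a | a <;> rcases l with b | b
    · simp only [Matrix.of_apply, Sum.elim_inl]
      rw [f.2.ee]; simp [Matrix.J]
    · simp only [Matrix.of_apply, Sum.elim_inl, Sum.elim_inr]
      rw [f.2.eh]; simp only [Matrix.J, Matrix.fromBlocks_apply₁₂, Matrix.neg_apply, Matrix.one_apply]; split_ifs <;> simp
    · simp only [Matrix.of_apply, Sum.elim_inl, Sum.elim_inr]
      rw [sympB_antisymm, f.2.eh]; simp [Matrix.J, Matrix.one_apply, eq_comm]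
    · simp only [Matrix.of_apply, Sum.elim_inr]
      rw [f.2.hh]; simp [Matrix.J]⟩
  left_inv A := by
    apply Subtype.ext
    ext i k
    rcases k with a | a <;> rfl
  right_inv f := by
    apply Subtype.ext
    rfl

/-- Extending a symplectic frame by one hyperbolic pair. -/
noncomputable def sframeSuccEquiv :
    SFrame F m (j + 1) ≃ Σ f : SFrame F m j,
      {p : (Fin m ⊕ Fin m → F) × (Fin m ⊕ Fin m → F) //
        bmap (sympB F m) f.1.1 f.1.2 p.1 = 0 ∧ bmap (sympB F m) f.1.1 f.1.2 p.2 = 0 ∧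
          sympB F m p.1 p.2 = -1} where
  toFun g := ⟨⟨(Fin.tail g.1.1, Fin.tail g.1.2),
      ⟨fun a b => g.2.ee a.succ b.succ, fun a b => g.2.hh a.succ b.succ, fun a b => by
        have := g.2.eh a.succ b.succ
        simpa [Fin.tail] using this⟩⟩,
    ⟨(g.1.1 0, g.1.2 0), by
      refine ⟨?_, ?_, ?_⟩
      · rw [bmap_eq_zero_iff]
        refine ⟨fun a => g.2.ee 0 a.succ, fun a => ?_⟩
        have := g.2.eh 0 a.succ
        simpa [Fin.tail, (Fin.succ_ne_zero a).symm] using this
      · rw [bmap_eq_zero_iff]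
        refine ⟨fun a => ?_, fun a => g.2.hh 0 a.succ⟩
        show sympB F m (g.1.2 0) (g.1.1 a.succ) = 0
        rw [sympB_antisymm, g.2.eh a.succ 0, if_neg (Fin.succ_ne_zero a), mul_zero]
      · have := g.2.eh 0 0
        simpa using this⟩⟩
  invFun x := ⟨(Fin.cons x.2.1.1 x.1.1.1, Fin.cons x.2.1.2 x.1.1.2), by
    obtain ⟨⟨⟨e, h⟩, hf⟩, ⟨⟨u, w⟩, hu, hw, huw⟩⟩ := x
    rw [bmap_eq_zero_iff] at hu hw
    simp only at hu hw huw hf ⊢
    refine ⟨fun a b => ?_, fun a b => ?_, fun a b => ?_⟩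
    · refine Fin.cases ?_ (fun a' => ?_) a <;> refine Fin.cases ?_ (fun b' => ?_) b
      · simp only [Fin.cons_zero]; exact sympB_self u
      · simp only [Fin.cons_zero, Fin.cons_succ]; exact hu.1 b'
      · simp only [Fin.cons_zero, Fin.cons_succ]
        rw [sympB_antisymm, hu.1 a', mul_zero]
      · simp only [Fin.cons_succ]; exact hf.ee a' b'
    · refine Fin.cases ?_ (fun a' => ?_) a <;> refine Fin.cases ?_ (fun b' => ?_) b
      · simp only [Fin.cons_zero]; exact sympB_self w
      · simp only [Fin.cons_zero, Fin.cons_succ]; exact hw.2 b'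
      · simp only [Fin.cons_zero, Fin.cons_succ]
        rw [sympB_antisymm, hw.2 a', mul_zero]
      · simp only [Fin.cons_succ]; exact hf.hh a' b'
    · refine Fin.cases ?_ (fun a' => ?_) a <;> refine Fin.cases ?_ (fun b' => ?_) b
      · simp only [Fin.cons_zero]; simpa using huw
      · simp only [Fin.cons_zero, Fin.cons_succ]
        rw [hu.2 b', if_neg (Fin.succ_ne_zero b').symm]
      · simp only [Fin.cons_zero, Fin.cons_succ]
        rw [sympB_antisymm, hw.1 a', mul_zero, if_neg (Fin.succ_ne_zero a')]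
      · simp only [Fin.cons_succ, Fin.succ_inj]; exact hf.eh a' b'⟩
  left_inv g := by
    apply Subtype.ext
    simp
  right_inv x := by
    obtain ⟨⟨⟨e, h⟩, hf⟩, ⟨⟨u, w⟩, hu, hw, huw⟩⟩ := x
    simp only [Fin.cons_zero]
    have hfst : (⟨(Fin.tail (Fin.cons u e : Fin (j + 1) → Fin m ⊕ Fin m → F),
        Fin.tail (Fin.cons w h : Fin (j + 1) → Fin m ⊕ Fin m → F)), by
          simpa [Fin.tail_cons] using hf⟩ : SFrame F m j) = ⟨(e, h), hf⟩ :=
      Subtype.ext (by
        refine Prod.ext ?_ ?_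
        · funext a; simp [Fin.tail]
        · funext a; simp [Fin.tail])
    refine Sigma.ext hfst ?_
    refine (Subtype.heq_iff_coe_eq ?_).mpr rfl
    intro x
    simp only [Fin.tail_cons]

end

section count
variable {F : Type*} [Field F] [Fintype F] [DecidableEq F] {m j : ℕ}

theorem card_ext (f : SFrame F m j) (hj : j < m) :
    Nat.card {p : (Fin m ⊕ Fin m → F) × (Fin m ⊕ Fin m → F) //
        bmap (sympB F m) f.1.1 f.1.2 p.1 = 0 ∧ bmap (sympB F m) f.1.1 f.1.2 p.2 = 0 ∧
          sympB F m p.1 p.2 = -1} =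
      (Fintype.card F ^ (2 * (m - j)) - 1) * Fintype.card F ^ (2 * (m - j) - 1) := by
  classical
  set q := Fintype.card F with hq
  have hqpos : 0 < q := Fintype.card_pos
  have hN : Fintype.card (Fin m ⊕ Fin m) = 2 * m := by
    rw [Fintype.card_sum, Fintype.card_fin]; ring
  have hε : ∀ x y, sympB F m y x = (-1) * sympB F m x y := sympB_antisymm
  have h1 := card_perp (sympB F m) (-1) (-1) (by simp) (by simp) hε f.1.1 f.1.2 f.2
  rw [hN] at h1
  have hW : (univ.filter (fun v : Fin m ⊕ Fin m → F => bmap (sympB F m) f.1.1 f.1.2 v = 0)).card =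
      q ^ (2 * (m - j)) := by
    have e : q ^ (2 * m) = q ^ (2 * (m - j)) * q ^ (2 * j) := by
      rw [← pow_add]; congr 1; omega
    rw [e] at h1
    exact Nat.eq_of_mul_eq_mul_right (pow_pos hqpos _) h1
  have hcnt : ∀ u : Fin m ⊕ Fin m → F, bmap (sympB F m) f.1.1 f.1.2 u = 0 → u ≠ 0 →
      (univ.filter (fun w : Fin m ⊕ Fin m → F =>
        bmap (sympB F m) f.1.1 f.1.2 w = 0 ∧ sympB F m u w = -1)).card = q ^ (2 * (m - j) - 1) := by
    intro u hu hu0
    have h2 := card_perp_pair (sympB F m) (-1) (-1) (by simp) (by simp) hε sympB_nondeg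
      f.1.1 f.1.2 f.2 u hu hu0 (-1)
    rw [hN] at h2
    have e : q ^ (2 * m) = q ^ (2 * (m - j) - 1) * (q ^ (2 * j) * q) := by
      rw [← pow_succ, ← pow_add]; congr 1; omega
    rw [e] at h2
    exact Nat.eq_of_mul_eq_mul_right (Nat.mul_pos (pow_pos hqpos _) hqpos) h2
  rw [Nat.card_eq_fintype_card, Fintype.card_subtype]
  rw [Finset.card_eq_sum_card_fiberwise (f := Prod.fst) (t := univ) (fun a _ => Finset.mem_univ _)]
  have hfib : ∀ u : Fin m ⊕ Fin m → F,
      (Finset.filter (fun p : (Fin m ⊕ Fin m → F) × (Fin m ⊕ Fin m → F) => p.1 = u)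
        (univ.filter (fun p : (Fin m ⊕ Fin m → F) × (Fin m ⊕ Fin m → F) =>
          bmap (sympB F m) f.1.1 f.1.2 p.1 = 0 ∧ bmap (sympB F m) f.1.1 f.1.2 p.2 = 0 ∧
            sympB F m p.1 p.2 = -1))).card =
      if bmap (sympB F m) f.1.1 f.1.2 u = 0 ∧ u ≠ 0 then q ^ (2 * (m - j) - 1) else 0 := by
    intro u
    split_ifs with hc
    · rw [← hcnt u hc.1 hc.2]
      refine Finset.card_bij (fun p _ => p.2) ?_ ?_ ?_
      · intro p hp
        simp only [Finset.mem_filter, Finset.mem_univ, true_and] at hp ⊢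
        obtain ⟨⟨-, h2, h3⟩, h4⟩ := hp
        rw [← h4]; exact ⟨h2, h3⟩
      · intro p hp p' hp' h
        simp only [Finset.mem_filter, Finset.mem_univ, true_and] at hp hp'
        exact Prod.ext (hp.2.trans hp'.2.symm) h
      · intro w hw
        simp only [Finset.mem_filter, Finset.mem_univ, true_and] at hw
        exact ⟨(u, w), by simp [hw.1, hw.2, hc.1], rfl⟩
    · rw [Finset.card_eq_zero, Finset.filter_eq_empty_iff]
      intro p hp hpu
      simp only [Finset.mem_filter, Finset.mem_univ, true_and] at hp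
      apply hc
      rw [← hpu]
      refine ⟨hp.1, ?_⟩
      intro h0
      have := hp.2.2
      rw [h0, map_zero, LinearMap.zero_apply] at this
      exact one_ne_zero (neg_eq_zero.mp this.symm)
  rw [Finset.sum_congr rfl (fun u _ => hfib u), ← Finset.sum_filter, Finset.sum_const, smul_eq_mul]
  congr 1
  have : (univ.filter (fun u : Fin m ⊕ Fin m → F => bmap (sympB F m) f.1.1 f.1.2 u = 0 ∧ u ≠ 0)) =
      (univ.filter (fun v : Fin m ⊕ Fin m → F => bmap (sympB F m) f.1.1 f.1.2 v = 0)).erase 0 := by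
    ext u
    simp only [Finset.mem_filter, Finset.mem_univ, true_and, Finset.mem_erase]
    tauto
  rw [this, Finset.card_erase_of_mem (by simp), hW]

theorem card_sframes_succ (hj : j < m) :
    Nat.card (SFrame F m (j + 1)) = Nat.card (SFrame F m j) *
      ((Fintype.card F ^ (2 * (m - j)) - 1) * Fintype.card F ^ (2 * (m - j) - 1)) := by
  classical
  rw [Nat.card_congr sframeSuccEquiv, Nat.card_sigma,
    Finset.sum_congr rfl (fun f _ => card_ext f hj), Finset.sum_const, Finset.card_univ,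
    smul_eq_mul, Nat.card_eq_fintype_card]

theorem card_sframes (hj : j ≤ m) :
    Nat.card (SFrame F m j) = ∏ i ∈ Finset.range j,
      ((Fintype.card F ^ (2 * (m - i)) - 1) * Fintype.card F ^ (2 * (m - i) - 1)) := by
  induction j with
  | zero =>
    simp only [Finset.range_zero, Finset.prod_empty]
    rw [Nat.card_eq_one_iff_unique]
    refine ⟨⟨fun f g => Subtype.ext (Prod.ext (funext fun a => a.elim0) (funext fun a => a.elim0))⟩,
      ⟨⟨(fun a => a.elim0, fun a => a.elim0),
        ⟨fun a => a.elim0, fun a => a.elim0, fun a => a.elim0⟩⟩⟩⟩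
  | succ k ih =>
    rw [card_sframes_succ (by omega), ih (by omega), Finset.prod_range_succ]

/-- `|Sp_{2m}(F)| = ∏_{i<m} (q^(2(m-i)) - 1) q^(2(m-i)-1)`. -/
theorem card_Sp_eq_prod :
    Nat.card (Matrix.symplecticGroup (Fin m) F) = ∏ i ∈ Finset.range m,
      ((Fintype.card F ^ (2 * (m - i)) - 1) * Fintype.card F ^ (2 * (m - i) - 1)) := by
  rw [Nat.card_congr spEquivFrames, card_sframes (le_refl m)]

end count

end Cfsg.Agent.Lib.Lead
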