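import Mathlib
import Cfsg.Agent.Lib.Helper13.S5955.Defs
import Cfsg.Agent.Lib.Helper24.ElM
import Cfsg.Agent.Lib.Lead.S5955T2

set_option autoImplicit false

/-! # Project S5955, row T3 (peel_ti): peel a totally isotropic invariant `U` off a non-degenerate
invariant `N` -/

namespace Cfsg.Agent.Lib.Helper13.S5955

open Polynomial Module

variable {F : Type*} [Field F] {V : Type*} [AddCommGroup V] [Module F V]

theorem s5955t3_isRefl (B : LinearMap.BilinForm F V) (halt : ∀ v, B v v = 0) : B.IsRefl := by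
  intro u v huv
  rw [s5955t2_skew B halt, huv, neg_zero]

theorem s5955t3_nondeg (B : LinearMap.BilinForm F V) (halt : ∀ v, B v v = 0)
    (hnd : ∀ u, (∀ v, B u v = 0) → u = 0) : B.Nondegenerate := by
  constructor
  · intro u hu
    exact hnd u hu
  · intro v hv
    apply hnd v
    intro w
    rw [s5955t2_skew B halt, hv w, neg_zero]

/-- the dimension formula inside a non-degenerate subspace -/
theorem s5955t3_dim [FiniteDimensional F V] (B : LinearMap.BilinForm F V) (halt : ∀ v, B v v = 0)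
    (hnd : ∀ u, (∀ v, B u v = 0) → u = 0) (N U : Submodule F V) (hNnd : SND B N) (hUN : U ≤ N) :
    finrank F ↥(N ⊓ B.orthogonal U) + finrank F U = finrank F N := by
  have hrefl := s5955t3_isRefl B halt
  have hB := s5955t3_nondeg B halt hnd
  have hc : IsCompl N (B.orthogonal N) := by
    rw [LinearMap.BilinForm.isCompl_orthogonal_iff_disjoint hrefl, Submodule.disjoint_def]
    intro y hy hy'
    apply hNnd y hy
    intro v hv
    exact hrefl _ _ (hy' v hv)
  have hle : B.orthogonal N ≤ B.orthogonal U := LinearMap.BilinForm.orthogonal_le hUN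
  have hmod : B.orthogonal U = B.orthogonal N ⊔ (N ⊓ B.orthogonal U) := by
    have := sup_inf_assoc_of_le N hle
    rw [sup_comm, hc.sup_eq_top, top_inf_eq] at this
    exact this
  have hdisj : B.orthogonal N ⊓ (N ⊓ B.orthogonal U) = ⊥ := by
    rw [eq_bot_iff]
    intro y hy
    have h1 : y ∈ N ⊓ B.orthogonal N := ⟨hy.2.1, hy.1⟩
    rw [hc.inf_eq_bot] at h1
    exact h1
  have hfr := Submodule.finrank_sup_add_finrank_inf_eq (B.orthogonal N) (N ⊓ B.orthogonal U)
  rw [← hmod, hdisj, finrank_bot, add_zero, LinearMap.BilinForm.finrank_orthogonal hB,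
    LinearMap.BilinForm.finrank_orthogonal hB] at hfr
  have h1 : finrank F U ≤ finrank F N := Submodule.finrank_mono hUN
  have h2 : finrank F N ≤ finrank F V := Submodule.finrank_le N
  omega

theorem peel_ti [FiniteDimensional F V] {r : ℕ} (hrF : (r : F) ≠ 0)
    {B : LinearMap.BilinForm F V} {x : Module.End F V} (h : SCtx r B x)
    (N U : Submodule F V) (hN : SInv x N) (hNnd : SND B N) (hUN : U ≤ N) (hU : SInv x U)
    (hUti : STI B U) :
    ∃ N' : Submodule F V, N' ≤ N ∧ SInv x N' ∧ SND B N' ∧ SOrth B U N' ∧ Disjoint U N' ∧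
      finrank F N' + 2 * finrank F U = finrank F N := by
  have hrefl := s5955t3_isRefl B h.alt
  have hr0 : r ≠ 0 := by
    rintro rfl
    exact hrF Nat.cast_zero
  obtain ⟨N1, hN1⟩ : ∃ N1 : Submodule F V, N1 = N ⊓ B.orthogonal U := ⟨_, rfl⟩
  have hUN1 : U ≤ N1 := by
    rw [hN1]
    intro u hu
    exact ⟨hUN hu, fun n hn => hUti n hn u hu⟩
  obtain ⟨W0, hW0inv, hW0c⟩ := Cfsg.Agent.Lib.Helper24.el_maschke x r hrF 1 one_ne_zero
    (by rw [h.pow, one_smul]) U hU
  have hsup : U ⊔ (N1 ⊓ W0) = N1 := by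
    have := sup_inf_assoc_of_le W0 hUN1
    rw [hW0c.sup_eq_top, top_inf_eq, inf_comm] at this
    exact this.symm
  have hdisj : Disjoint U (N1 ⊓ W0) := hW0c.disjoint.mono_right inf_le_right
  have hdimN1 : finrank F N1 + finrank F U = finrank F N := by
    rw [hN1]
    exact s5955t3_dim B h.alt h.nd N U hNnd hUN
  have hdim' : finrank F N1 = finrank F U + finrank F ↥(N1 ⊓ W0) := by
    have := Submodule.finrank_sup_add_finrank_inf_eq U (N1 ⊓ W0)
    rw [hsup, hdisj.eq_bot, finrank_bot, add_zero] at this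
    exact this
  -- invariance of the orthogonal
  have hxinv : ∀ u : V, x ((x ^ (r - 1)) u) = u := by
    intro u
    have h1 : x * x ^ (r - 1) = 1 := by
      rw [← pow_succ', Nat.sub_add_cancel (Nat.one_le_iff_ne_zero.mpr hr0), h.pow]
    have := LinearMap.congr_fun h1 u
    rw [Module.End.mul_apply, Module.End.one_apply] at this
    exact this
  have hN1inv : SInv x N1 := by
    intro v hv
    rw [hN1] at hv ⊢
    refine ⟨hN v hv.1, ?_⟩
    intro u hu
    have h2 : B (x ((x ^ (r - 1)) u)) (x v) = B ((x ^ (r - 1)) u) v := h.pres _ _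
    rw [hxinv u] at h2
    rw [h2]
    exact hv.2 _ (Cfsg.Agent.Lib.Helper24.el_pow_mem hU (r - 1) hu)
  have hN1le : N1 ≤ N := by rw [hN1]; exact inf_le_left
  -- the double orthogonal inside N
  have hUeq : U = N ⊓ B.orthogonal N1 := by
    apply Submodule.eq_of_le_of_finrank_eq
    · intro u hu
      refine ⟨hUN hu, ?_⟩
      intro m hm
      rw [hN1] at hm
      exact hrefl _ _ (hm.2 u hu)
    · have := s5955t3_dim B h.alt h.nd N N1 hNnd hN1le
      omega
  refine ⟨N1 ⊓ W0, inf_le_left.trans hN1le, ?_, ?_, ?_, hdisj, by omega⟩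
  · intro v hv
    exact ⟨hN1inv v hv.1, hW0inv v hv.2⟩
  · intro n' hn' hrad
    have h1 : n' ∈ N ⊓ B.orthogonal N1 := by
      refine ⟨hN1le hn'.1, ?_⟩
      intro m hm
      rw [← hsup] at hm
      obtain ⟨u, hu, w, hw, rfl⟩ := Submodule.mem_sup.mp hm
      have h3 : n' ∈ B.orthogonal U := by
        have := hn'.1
        rw [hN1] at this
        exact this.2
      have h4 : B w n' = 0 := by rw [s5955t2_skew B h.alt, hrad w hw, neg_zero]
      show B (u + w) n' = 0
      rw [map_add, LinearMap.add_apply, h3 u hu, h4, add_zero]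
    rw [← hUeq] at h1
    have h5 : n' ∈ U ⊓ (N1 ⊓ W0) := ⟨h1, hn'⟩
    rw [hdisj.eq_bot] at h5
    exact h5
  · intro u hu w hw
    have := hw.1
    rw [hN1] at this
    exact this.2 u hu

end Cfsg.Agent.Lib.Helper13.S5955
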