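import Mathlib
import Cfsg.Prelude.Def_Classical
import Cfsg.Agent.Lib.helper6.WittQuad
import Cfsg.Agent.Lib.Lead.OrthMinus
import Cfsg.Agent.Lib.Helper16.SpinG2

set_option autoImplicit false

/-! Totally singular subspaces have dimension at most that of a maximal one (Witt);
the minus-type form in dimension `2k + 2` has Witt index `k`. -/

namespace Cfsg.Agent.Lib.Lead.WI

open Module Cfsg.Agent.Lib.Lead.OG Cfsg.Agent.Lib.Lead.Bin Cfsg.Agent.Lib.Helper16

/-- all totally singular subspaces have dimension at most that of a maximal totally singular one -/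
theorem ts_finrank_le {F V : Type*} [Field F] [AddCommGroup V] [Module F V] [FiniteDimensional F V]
    (Q : QuadraticForm F V) (hQ : (QuadraticMap.polarBilin Q).Nondegenerate) (Y U : Submodule F V)
    (hY : ∀ y ∈ Y, Q y = 0)
    (hYmax : ∀ u, Q u = 0 → (∀ y ∈ Y, QuadraticMap.polar ⇑Q y u = 0) → u ∈ Y)
    (hU : ∀ u ∈ U, Q u = 0) : finrank F ↥U ≤ finrank F ↥Y := by
  by_contra hlt
  push Not at hlt
  obtain ⟨j, hj⟩ := (finrank_le_iff_exists_linearMap (R := F) (M := ↥Y) (M' := ↥U)).mp hlt.le
  set j' : ↥Y →ₗ[F] V := U.subtype ∘ₗ j with hj'def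
  have hj' : Function.Injective j' := U.injective_subtype.comp hj
  let φ : ↥Y ≃ₗ[F] ↥(LinearMap.range j') := LinearEquiv.ofInjective j' hj'
  have hφv : ∀ y : ↥Y, ((φ y : ↥(LinearMap.range j')) : V) = ((j y : ↥U) : V) := fun y => rfl
  have hφ : ∀ y : ↥Y, Q ((φ y : ↥(LinearMap.range j')) : V) = Q (y : V) := by
    intro y
    rw [hY y y.2, hφv]
    exact hU _ (j y).2
  obtain ⟨g, hg, hgφ⟩ := Cfsg.Agent.Lib.helper6.Witt.witt_quad Q hQ Y (LinearMap.range j') φ hφ
  set U' : Submodule F V := U.comap (g : V →ₗ[F] V) with hU'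
  have hYU' : Y ≤ U' := by
    intro y hy
    show g y ∈ U
    have := hgφ ⟨y, hy⟩
    rw [hφv] at this
    rw [show g y = g ((⟨y, hy⟩ : ↥Y) : V) from rfl, this]
    exact (j ⟨y, hy⟩).2
  have hfr : finrank F ↥U' = finrank F ↥U := by
    have : U' = U.map (g.symm : V →ₗ[F] V) := by
      rw [hU']
      exact Submodule.comap_equiv_eq_map_symm g U
    rw [this]
    exact LinearEquiv.finrank_map_eq g.symm U
  have hne : Y ≠ U' := by
    intro h
    rw [← h] at hfr
    omega
  obtain ⟨u, huU', huY⟩ := SetLike.exists_of_lt (lt_of_le_of_ne hYU' hne)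
  apply huY
  have hQU' : ∀ w ∈ U', Q w = 0 := by
    intro w hw
    rw [← hg w]
    exact hU _ hw
  apply hYmax u (hQU' u huU')
  intro y hy
  unfold QuadraticMap.polar
  rw [hQU' _ (U'.add_mem (hYU' hy) huU'), hQU' u huU', hY y hy]
  ring

section minus
variable {F : Type*} [Field F] {k : ℕ} {a b : F}

/-- the embedding of the `y`-coordinates -/
def yEmb (k : ℕ) (F : Type*) [Field F] : (Fin k → F) →ₗ[F] (MI k → F) :=
  LinearMap.pi (Sum.elim (Sum.elim (fun _ => 0) (fun i => LinearMap.proj i)) (fun _ => 0))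

@[simp] theorem yEmb_inl_inl (c : Fin k → F) (i : Fin k) : yEmb k F c (.inl (.inl i)) = 0 := rfl
@[simp] theorem yEmb_inl_inr (c : Fin k → F) (i : Fin k) : yEmb k F c (.inl (.inr i)) = c i := rfl
@[simp] theorem yEmb_inr (c : Fin k → F) (i : Fin 2) : yEmb k F c (.inr i) = 0 := rfl

theorem yEmb_injective : Function.Injective (yEmb k F) := by
  intro c c' h
  funext i
  have := congrFun h (.inl (.inr i))
  simpa using this

theorem finrank_range_yEmb : finrank F ↥(LinearMap.range (yEmb k F)) = k := by
  rw [LinearMap.finrank_range_of_inj yEmb_injective, Module.finrank_fin_fun]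

theorem polar_minus [Finite F] (hab : Aniso a b) (x y : MI k → F) :
    QuadraticMap.polar (Cfsg.quadFormMinus k F a b) x y = polarM a b k x y := by
  have hqp := isQP_minus (k := k) (F := F) (a := a) (b := b) hab
  rw [QuadraticMap.polar, hqp.add x y]
  ring

/-- the minus-type form has no totally singular subspace of dimension more than `k` -/
theorem minus_ts_le [Fintype F] (hab : Aniso a b) (U : Submodule F (MI k → F))
    (hU : ∀ u ∈ U, Cfsg.quadFormMinus k F a b u = 0) : finrank F ↥U ≤ k := by
  have hnd : (QuadraticMap.polarBilin (qfMinus k F a b)).Nondegenerate := by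
    have hqp := isQP_minus (k := k) (F := F) (a := a) (b := b) hab
    have hB : ∀ x y, QuadraticMap.polarBilin (qfMinus k F a b) x y = polarM a b k x y := by
      intro x y
      rw [QuadraticMap.polarBilin_apply_apply, qfMinus_coe, polar_minus hab]
    have hsep : (QuadraticMap.polarBilin (qfMinus k F a b)).SeparatingLeft := by
      intro x hx
      by_contra hne
      obtain ⟨y, hy⟩ := hqp.nondeg x hne
      exact hy (by rw [← hB]; exact hx y)
    refine ⟨hsep, ?_⟩
    intro y hy
    apply hsep y
    intro x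
    have := hy x
    rw [hB] at this ⊢
    rw [hqp.symm x y, one_mul]
    exact this
  have h := ts_finrank_le (qfMinus k F a b) hnd (LinearMap.range (yEmb k F)) U ?_ ?_ ?_
  · rw [finrank_range_yEmb] at h
    exact h
  · rintro y ⟨c, rfl⟩
    rw [qfMinus_coe, quadM_eq]
    simp
  · intro u hu hperp
    rw [qfMinus_coe] at hu hperp
    have h1 : ∀ i : Fin k, u (.inl (.inl i)) = 0 := by
      intro i
      have := hperp (yEmb k F (Pi.single i 1)) ⟨_, rfl⟩
      rw [polar_minus hab, polarM_apply] at this
      simpa [Pi.single_apply] using this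
    rw [quadM_eq] at hu
    have h2 : ∑ i : Fin k, u (.inl (.inl i)) * u (.inl (.inr i)) = 0 := by
      apply Finset.sum_eq_zero
      intro i _
      rw [h1 i, zero_mul]
    rw [h2, zero_add] at hu
    obtain ⟨h3, h4⟩ := hab _ _ hu
    refine ⟨fun i => u (.inl (.inr i)), ?_⟩
    funext idx
    rcases idx with (i | i) | i
    · rw [yEmb_inl_inl, h1 i]
    · rw [yEmb_inl_inr]
    · rw [yEmb_inr]
      fin_cases i
      · exact h3.symm
      · exact h4.symm
  · intro u hu
    rw [qfMinus_coe]
    exact hU u hu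

end minus

end Cfsg.Agent.Lib.Lead.WI
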