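import Mathlib
import Cfsg.Agent.Lib.Helper18.ONE.Defs
import Cfsg.Agent.Lib.helper15.S5972STDO

set_option autoImplicit false
set_option linter.unusedVariables false
set_option linter.unusedSectionVars false

/-!
# Project ONE (designer helper18), row FROZEN (written by lead)
The frozen predicates of S5992 / S5993 in the abstract vocabulary.
-/

namespace Cfsg.Agent.Lib.Helper18.ONE

open Polynomial Module Cfsg.Agent.Lib.Helper13.S5955 Cfsg.Agent.Lib.helper15.S5972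

theorem frozen_iff {F : Type*} [Field F] (h2 : (2 : F) ≠ 0) (d : ℕ)
    (W : Submodule F (Unit ⊕ (Fin d ⊕ Fin d) → F)) :
    (Cfsg.Geo.IsNondegenerateOn (QuadraticMap.polar (Cfsg.quadFormOdd d F)) W ↔ SND (stdO d F) W) ∧
      (Cfsg.Geo.IsPlusTypeOn (Cfsg.quadFormOdd d F) W ↔ SHyp (stdO d F) W) := by
  obtain ⟨hsymm, _, _, hti⟩ := stdO_facts h2 d
  have hpol : ∀ u v, QuadraticMap.polar (Cfsg.quadFormOdd d F) u v = stdO d F u v := by
    intro u v
    rw [stdO_apply]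
    rfl
  refine ⟨⟨?_, ?_⟩, ⟨?_, ?_⟩⟩
  · intro h u hu hall
    by_contra hne
    obtain ⟨_, ⟨x, hxW, hx⟩⟩ := h u hu hne
    apply hx
    rw [hpol]
    exact hall x hxW
  · intro h w hw hne
    have hex : ∃ x ∈ W, stdO d F w x ≠ 0 := by
      by_contra hcon
      push Not at hcon
      exact hne (h w hw hcon)
    obtain ⟨x, hxW, hx⟩ := hex
    refine ⟨⟨x, hxW, ?_⟩, ⟨x, hxW, ?_⟩⟩
    · rw [hpol, hsymm]; exact hx
    · rw [hpol]; exact hx
  · rintro ⟨U, hUW, hUts, hdim⟩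
    exact ⟨U, hUW, (hti U).2 hUts, hdim⟩
  · rintro ⟨U, hUW, hUti, hdim⟩
    exact ⟨U, hUW, (hti U).1 hUti, hdim⟩

end Cfsg.Agent.Lib.Helper18.ONE
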