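import Mathlib
import Cfsg.Agent.Lib.Helper18.ONE.Defs
import Cfsg.Agent.Lib.helper15.S5972STDO
import Cfsg.Agent.Lib.Lead.ONEFROZEN

set_option autoImplicit false
set_option linter.unusedVariables false
set_option linter.unusedSectionVars false

/-!
# Project ONE (designer helper18), row CP2 (written by lead)
A totally singular `h`-space `U` lies in exactly `q^(h (2d + 1 - 2h))` hyperbolic `2h`-spaces:
`W ⊇ U` of dimension `2h` is nondegenerate iff `W ⊓ U^⊥ = U` and `W + U^⊥ = V`, i.e. iff `W / U` is a complement of `U^⊥ / U` in `V / U`;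
complements of a subspace `K` of `X` are a torsor under `Hom (X / K, K)`.
-/

namespace Cfsg.Agent.Lib.Helper18.ONE

open Polynomial Module Cfsg.Agent.Lib.Helper13.S5955 Cfsg.Agent.Lib.helper15.S5972

/-- the number of complements of a subspace -/
theorem onecp2_compl_count {F : Type*} [Field F] [Fintype F] {X : Type*} [AddCommGroup X] [Module F X]
    [FiniteDimensional F X] (K : Submodule F X) :
    Nat.card {C : Submodule F X // IsCompl K C} =
      Fintype.card F ^ ((finrank F X - finrank F K) * finrank F K) := by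
  classical
  obtain ⟨C₀, hC₀⟩ := Submodule.exists_isCompl K
  rw [Nat.card_congr (Submodule.isComplEquivProj K)]
  obtain ⟨f₀, hf₀⟩ : ∃ f₀ : X →ₗ[F] K, ∀ x : K, f₀ x = x :=
    ⟨(Submodule.isComplEquivProj K ⟨C₀, hC₀⟩).1, (Submodule.isComplEquivProj K ⟨C₀, hC₀⟩).2⟩
  have e : {f : X →ₗ[F] K // ∀ x : K, f x = x} ≃ ((X ⧸ K) →ₗ[F] K) :=
    { toFun := fun f => K.liftQ (f.1 - f₀) (by
        intro x hx
        rw [LinearMap.mem_ker, LinearMap.sub_apply, f.2 ⟨x, hx⟩, hf₀ ⟨x, hx⟩, sub_self])
      invFun := fun g => ⟨f₀ + g.comp K.mkQ, by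
        intro x
        rw [LinearMap.add_apply, hf₀ x, LinearMap.comp_apply]
        have : K.mkQ (x : X) = 0 := (Submodule.Quotient.mk_eq_zero K).2 x.2
        rw [this, map_zero, add_zero]⟩
      left_inv := by
        intro f
        apply Subtype.ext
        apply LinearMap.ext
        intro x
        simp
      right_inv := by
        intro g
        apply LinearMap.ext
        intro y
        obtain ⟨x, rfl⟩ := Submodule.Quotient.mk_surjective K y
        simp }
  rw [Nat.card_congr e, Module.natCard_eq_pow_finrank (K := F), Module.finrank_linearMap, Nat.card_eq_fintype_card]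
  congr 2
  have := Submodule.finrank_quotient_add_finrank K
  omega

section abs

variable {F : Type*} [Field F] {V : Type*} [AddCommGroup V] [Module F V] [FiniteDimensional F V]

theorem onecp2_mem_orth (B : LinearMap.BilinForm F V) (U : Submodule F V) (v : V) :
    v ∈ B.orthogonal U ↔ ∀ u ∈ U, B u v = 0 := by
  rw [LinearMap.BilinForm.mem_orthogonal_iff]

theorem onecp2_nondeg (B : LinearMap.BilinForm F V) (hsymm : ∀ u v, B u v = B v u)
    (hnd : ∀ u, (∀ v, B u v = 0) → u = 0) : B.Nondegenerate :=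
  ⟨hnd, fun v hv => hnd v (fun u => by rw [hsymm]; exact hv u)⟩

/-- `W ⊇ U` with `W ⊓ U^⊥ = U`, `W + U^⊥ = V` is nondegenerate of dimension `2 dim U` -/
theorem onecp2_of_compl (B : LinearMap.BilinForm F V) (hsymm : ∀ u v, B u v = B v u)
    (hnd : ∀ u, (∀ v, B u v = 0) → u = 0) (U W : Submodule F V) (hUW : U ≤ W)
    (h1 : W ⊓ B.orthogonal U = U) (h2 : W ⊔ B.orthogonal U = ⊤) :
    finrank F W = 2 * finrank F U ∧ SND B W := by
  have hK : finrank F (B.orthogonal U) = finrank F V - finrank F U :=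
    LinearMap.BilinForm.finrank_orthogonal (onecp2_nondeg B hsymm hnd) U
  have hsum := Submodule.finrank_sup_add_finrank_inf_eq W (B.orthogonal U)
  rw [h1, h2, finrank_top] at hsum
  have hle : finrank F U ≤ finrank F V := Submodule.finrank_le U
  refine ⟨by omega, ?_⟩
  intro w hw hall
  have hwK : w ∈ B.orthogonal U := by
    rw [onecp2_mem_orth]
    intro u hu
    rw [hsymm]
    exact hall u (hUW hu)
  have hwU : w ∈ U := by
    rw [← h1]
    exact ⟨hw, hwK⟩
  apply hnd
  intro v
  have hv : v ∈ W ⊔ B.orthogonal U := by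
    rw [h2]; trivial
  obtain ⟨a, ha, k, hk, rfl⟩ := Submodule.mem_sup.1 hv
  rw [map_add, hall a ha, zero_add]
  exact (onecp2_mem_orth B U k).1 hk w hwU

/-- a nondegenerate `W ⊇ U` of dimension `2 dim U`, `U` totally isotropic, has `W ⊓ U^⊥ = U`, `W + U^⊥ = V` -/
theorem onecp2_compl_of_nd (B : LinearMap.BilinForm F V) (hsymm : ∀ u v, B u v = B v u)
    (hnd : ∀ u, (∀ v, B u v = 0) → u = 0) (U W : Submodule F V) (hUti : STI B U) (hUW : U ≤ W)
    (hdim : finrank F W = 2 * finrank F U) (hW : SND B W) :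
    W ⊓ B.orthogonal U = U ∧ W ⊔ B.orthogonal U = ⊤ := by
  have hK : finrank F (B.orthogonal U) = finrank F V - finrank F U :=
    LinearMap.BilinForm.finrank_orthogonal (onecp2_nondeg B hsymm hnd) U
  have hle : finrank F U ≤ finrank F V := Submodule.finrank_le U
  -- the restricted form
  have hBW : (LinearMap.BilinForm.restrict B W).Nondegenerate := by
    constructor
    · intro x hx
      apply Subtype.ext
      exact hW x x.2 (fun v hv => hx ⟨v, hv⟩)
    · intro x hx
      apply Subtype.ext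
      exact hW x x.2 (fun v hv => by rw [hsymm]; exact hx ⟨v, hv⟩)
  have horth := LinearMap.BilinForm.finrank_orthogonal hBW (Submodule.comap W.subtype U)
  have hU' : finrank F (Submodule.comap W.subtype U) = finrank F U :=
    (Submodule.comapSubtypeEquivOfLe hUW).finrank_eq
  have hcomap : (LinearMap.BilinForm.restrict B W).orthogonal (Submodule.comap W.subtype U) =
      Submodule.comap W.subtype (W ⊓ B.orthogonal U) := by
    ext x
    rw [onecp2_mem_orth, Submodule.mem_comap, Submodule.mem_inf, onecp2_mem_orth]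
    constructor
    · intro hx
      refine ⟨x.2, fun u hu => ?_⟩
      exact hx ⟨u, hUW hu⟩ hu
    · rintro ⟨_, hx⟩ u hu
      exact hx u hu
  have hinf' : finrank F (Submodule.comap W.subtype (W ⊓ B.orthogonal U)) =
      finrank F ↥(W ⊓ B.orthogonal U) :=
    (Submodule.comapSubtypeEquivOfLe (inf_le_left : W ⊓ B.orthogonal U ≤ W)).finrank_eq
  have hinfdim : finrank F ↥(W ⊓ B.orthogonal U) = finrank F U := by
    rw [← hinf', ← hcomap, horth, hU', hdim]
    omega
  have hUle : U ≤ W ⊓ B.orthogonal U := by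
    intro u hu
    refine Submodule.mem_inf.2 ⟨hUW hu, ?_⟩
    rw [onecp2_mem_orth]
    intro u' hu'
    exact hUti u' hu' u hu
  have hinf : W ⊓ B.orthogonal U = U :=
    (Submodule.eq_of_le_of_finrank_eq hUle hinfdim.symm).symm
  refine ⟨hinf, ?_⟩
  apply Submodule.eq_top_of_finrank_eq
  have hsum := Submodule.finrank_sup_add_finrank_inf_eq W (B.orthogonal U)
  rw [hinf] at hsum
  omega

/-- `dim (K / U) = dim K - dim U` -/
theorem onecp2_finrank_map_mkQ (U K : Submodule F V) (hUK : U ≤ K) :
    finrank F (K.map U.mkQ) + finrank F U = finrank F K := by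
  have h := LinearMap.finrank_range_add_finrank_ker (U.mkQ.comp K.subtype)
  have hr : LinearMap.range (U.mkQ.comp K.subtype) = K.map U.mkQ := by
    rw [LinearMap.range_comp, Submodule.range_subtype]
  have hk : LinearMap.ker (U.mkQ.comp K.subtype) = Submodule.comap K.subtype U := by
    rw [LinearMap.ker_comp, Submodule.ker_mkQ]
  rw [hr, hk, (Submodule.comapSubtypeEquivOfLe hUK).finrank_eq] at h
  exact h

end abs

theorem ts_ext_count {F : Type*} [Field F] [Fintype F] (hodd : Odd (Fintype.card F)) (d h : ℕ)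
    (hh : h ≤ d) (U : Submodule F (Unit ⊕ (Fin d ⊕ Fin d) → F)) (hU : Module.finrank F ↥U = h)
    (hUs : ∀ u ∈ U, Cfsg.quadFormOdd d F u = 0) :
    Nat.card {W : NDp d (2 * h) F // U ≤ W.1} = Fintype.card F ^ (h * (2 * d + 1 - 2 * h)) := by
  classical
  have h2 : (2 : F) ≠ 0 := by
    intro h0
    have hchar : ringChar F = 2 := by
      have : CharP F 2 := CharTwo.of_one_ne_zero_of_two_eq_zero one_ne_zero h0
      exact ringChar.eq F 2
    have := FiniteField.even_card_of_char_two hchar
    obtain ⟨k, hk⟩ := hodd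
    omega
  obtain ⟨hsymm, hnd, hself, hti⟩ := stdO_facts h2 d
  have hUti : STI (stdO d F) U := (hti U).2 hUs
  obtain ⟨K, hK⟩ : ∃ K : Submodule F (Unit ⊕ (Fin d ⊕ Fin d) → F), K = (stdO d F).orthogonal U := ⟨_, rfl⟩
  have hUK : U ≤ K := by
    intro u hu
    rw [hK, onecp2_mem_orth]
    intro u' hu'
    exact hUti u' hu' u hu
  have hV : finrank F (Unit ⊕ (Fin d ⊕ Fin d) → F) = 2 * d + 1 := by
    rw [Module.finrank_pi]
    simp
    omega
  have hKdim : finrank F K = 2 * d + 1 - h := by
    rw [hK, LinearMap.BilinForm.finrank_orthogonal (onecp2_nondeg _ hsymm hnd) U, hV, hU]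
  -- membership in `NDp`
  have key : ∀ W : Submodule F (Unit ⊕ (Fin d ⊕ Fin d) → F), U ≤ W →
      ((Module.finrank F ↥W = 2 * h ∧
        Cfsg.Geo.IsNondegenerateOn (QuadraticMap.polar (Cfsg.quadFormOdd d F)) W ∧
        Cfsg.Geo.IsPlusTypeOn (Cfsg.quadFormOdd d F) W) ↔ (W ⊓ K = U ∧ W ⊔ K = ⊤)) := by
    intro W hUW
    obtain ⟨hfr1, hfr2⟩ := frozen_iff h2 d W
    constructor
    · rintro ⟨hdim, hndW, _⟩
      rw [hK]
      exact onecp2_compl_of_nd _ hsymm hnd U W hUti hUW (by rw [hdim, hU]) (hfr1.1 hndW)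
    · rintro ⟨h1, h3⟩
      rw [hK] at h1 h3
      obtain ⟨hdim, hsnd⟩ := onecp2_of_compl _ hsymm hnd U W hUW h1 h3
      refine ⟨by rw [hdim, hU], hfr1.2 hsnd, hfr2.2 ⟨U, hUW, hUti, by rw [hdim]⟩⟩
  -- the correspondence with complements of `K / U` in `V / U`
  have hcomapK : Submodule.comap U.mkQ (K.map U.mkQ) = K := by
    rw [Submodule.comap_map_mkQ, sup_eq_right.2 hUK]
  have hcinj : Function.Injective (Submodule.comap (U.mkQ) :
      Submodule F ((Unit ⊕ (Fin d ⊕ Fin d) → F) ⧸ U) → Submodule F (Unit ⊕ (Fin d ⊕ Fin d) → F)) :=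
    Submodule.comap_injective_of_surjective (Submodule.mkQ_surjective U)
  have hcorr : ∀ C : Submodule F ((Unit ⊕ (Fin d ⊕ Fin d) → F) ⧸ U),
      IsCompl (K.map U.mkQ) C ↔
        (Submodule.comap U.mkQ C ⊓ K = U ∧ Submodule.comap U.mkQ C ⊔ K = ⊤) := by
    intro C
    rw [isCompl_iff, disjoint_iff, codisjoint_iff]
    constructor
    · rintro ⟨h1, h3⟩
      constructor
      · rw [inf_comm, ← hcomapK, ← Submodule.comap_inf, h1, Submodule.comap_bot, Submodule.ker_mkQ]
      · have : Submodule.map U.mkQ (Submodule.comap U.mkQ C ⊔ K) = ⊤ := by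
          rw [Submodule.map_sup, Submodule.map_comap_eq_of_surjective (Submodule.mkQ_surjective U), sup_comm]
          exact h3
        have h4 : Submodule.comap U.mkQ (Submodule.map U.mkQ (Submodule.comap U.mkQ C ⊔ K)) = ⊤ := by
          rw [this, Submodule.comap_top]
        rw [Submodule.comap_map_mkQ] at h4
        have hle : U ≤ Submodule.comap U.mkQ C ⊔ K := le_trans hUK le_sup_right
        rwa [sup_eq_right.2 hle] at h4
    · rintro ⟨h1, h3⟩
      constructor
      · apply hcinj
        rw [Submodule.comap_inf, hcomapK, inf_comm, h1, Submodule.comap_bot, Submodule.ker_mkQ]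
      · have : Submodule.map U.mkQ (Submodule.comap U.mkQ C ⊔ K) = ⊤ := by
          rw [h3, Submodule.map_top, Submodule.range_mkQ]
        rw [Submodule.map_sup, Submodule.map_comap_eq_of_surjective (Submodule.mkQ_surjective U), sup_comm] at this
        exact this
  obtain ⟨f, hf⟩ : ∃ f : {C : Submodule F ((Unit ⊕ (Fin d ⊕ Fin d) → F) ⧸ U) // IsCompl (K.map U.mkQ) C} →
      {W : NDp d (2 * h) F // U ≤ W.1}, ∀ C, (f C).1.1 = Submodule.comap U.mkQ C.1 :=
    ⟨fun C => ⟨⟨Submodule.comap U.mkQ C.1,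
      (key _ (Submodule.le_comap_mkQ U C.1)).2 ((hcorr C.1).1 C.2)⟩, Submodule.le_comap_mkQ U C.1⟩,
      fun C => rfl⟩
  have hbij : Function.Bijective f := by
    constructor
    · intro C C' hCC
      apply Subtype.ext
      apply hcinj
      rw [← hf C, ← hf C', hCC]
    · intro W
      have hW := (key W.1.1 W.2).1 W.1.2
      have hcm : Submodule.comap U.mkQ (Submodule.map U.mkQ W.1.1) = W.1.1 := by
        rw [Submodule.comap_map_mkQ, sup_eq_right.2 W.2]
      refine ⟨⟨Submodule.map U.mkQ W.1.1, (hcorr _).2 (by rw [hcm]; exact hW)⟩, ?_⟩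
      apply Subtype.ext
      apply Subtype.ext
      rw [hf]
      exact hcm
  rw [← Nat.card_eq_of_bijective f hbij, onecp2_compl_count]
  congr 1
  have hq := Submodule.finrank_quotient_add_finrank U
  have hm := onecp2_finrank_map_mkQ U K hUK
  rw [hV, hU] at hq
  rw [hKdim, hU] at hm
  have e1 : finrank F ((Unit ⊕ (Fin d ⊕ Fin d) → F) ⧸ U) = 2 * d + 1 - h := by omega
  have e2 : finrank F (K.map U.mkQ) = 2 * d + 1 - 2 * h := by omega
  rw [e1, e2]
  have : 2 * d + 1 - h - (2 * d + 1 - 2 * h) = h := by omega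
  rw [this]

end Cfsg.Agent.Lib.Helper18.ONE
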