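import Cfsg.Agent.Lib.Helper19.SPD.Defs
import Cfsg.Agent.Lib.Helper16.SpSemi1

set_option autoImplicit false

/-! # SPD row EVEN: a nondegenerate subspace has even dimension -/

namespace Cfsg.Agent.Lib.Helper19.SPD

open Cfsg.Agent.Lib.helper6 Cfsg.Agent.Lib.helper6.SB

variable {F : Type*} [Field F] {d : ℕ}

theorem nd_even (W : Submodule F (Fin d ⊕ Fin d → F)) (hnd : ND W) : Even (Module.finrank F W) := by
  have happ : ∀ x y : W, ((sB d F).restrict W) x y = Cfsg.sympForm d F (x : Fin d ⊕ Fin d → F) y := by
    intro x y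
    show sB d F (x : Fin d ⊕ Fin d → F) (y : Fin d ⊕ Fin d → F) = _
    rw [sB_apply]
  have halt : ((sB d F).restrict W).IsAlt := by
    intro x
    rw [happ]
    exact sympForm_self d _
  have key : ∀ w : W, (∀ u : W, ((sB d F).restrict W) w u = 0) → w = 0 := by
    intro w hw
    apply Subtype.ext
    apply hnd w.1 w.2
    intro v hv
    have := hw ⟨v, hv⟩
    rw [happ] at this
    exact this
  have hnd' : ((sB d F).restrict W).Nondegenerate := by
    constructor
    · intro w hw
      exact key w (fun u => hw u)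
    · intro w hw
      apply key w
      intro u
      have h2 : ((sB d F).restrict W) u w = 0 := hw u
      rw [happ] at h2 ⊢
      rw [sympForm_swap, h2, neg_zero]
  obtain ⟨k, hk⟩ := Cfsg.Agent.Lib.Helper16.SpSemi.alt_even (Module.finrank F W) rfl
    ((sB d F).restrict W) halt hnd'
  exact ⟨k, by omega⟩

end Cfsg.Agent.Lib.Helper19.SPD
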