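import Mathlib
import Cfsg.Prelude.Def_Classical
import Cfsg.Agent.Lib.Helper28.OMM.Defs
import Cfsg.Agent.Lib.Lead.OMMO5
import Cfsg.Agent.Lib.Helper21.PresQuot

/-!
# Block POM of S2295 (lead), module Cfsg.Agent.Lib.Lead.POM: the centre of `Ω⁺_{2n}(F)` consists of `±1`, hence `PΩ⁺_{2n}(F)` needs ONE more relator.

`pom_scalar_of_comm`: a matrix commuting with all `Td a b 1` is scalar.  `pom_center_cases`: a central element of `Ω` has matrix `1` or `-1`.
`pom_center_gen`: the centre is the normal closure of one element.  `pomega_pres`: the presentation statement.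
-/

set_option autoImplicit false

namespace Cfsg.Agent.Lib.Lead.POM

open Matrix Cfsg.Agent.Lib.helper3.STC Cfsg.Agent.Lib.Lead.STD Cfsg.Agent.Lib.Helper28.CTD Cfsg.Agent.Lib.Helper28.OMM

universe u

variable {n : ℕ} {F : Type u} [Field F]

theorem pom_mul_single (A : Matrix (Fin n ⊕ Fin n) (Fin n ⊕ Fin n) F) (a b i j : Fin n ⊕ Fin n) :
    (A * Matrix.single a b (1 : F)) i j = if j = b then A i a else 0 := by
  by_cases h : j = b
  · subst h
    rw [Matrix.mul_single_apply_same, mul_one, if_pos rfl]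
  · rw [Matrix.mul_single_apply_of_ne (1 : F) a b i j h A, if_neg h]

theorem pom_single_mul (A : Matrix (Fin n ⊕ Fin n) (Fin n ⊕ Fin n) F) (a b i j : Fin n ⊕ Fin n) :
    (Matrix.single a b (1 : F) * A) i j = if i = a then A b j else 0 := by
  by_cases h : i = a
  · subst h
    rw [Matrix.single_mul_apply_same, one_mul, if_pos rfl]
  · rw [Matrix.single_mul_apply_of_ne (1 : F) a b i j h A, if_neg h]

/-- the entrywise form of `A * Td a b 1 = Td a b 1 * A` -/
theorem pom_entry (A : Matrix (Fin n ⊕ Fin n) (Fin n ⊕ Fin n) F) (a b : Fin n ⊕ Fin n)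
    (h : A * Td a b 1 = Td a b 1 * A) (i j : Fin n ⊕ Fin n) :
    (if j = b then A i a else 0) - (if j = ng a then A i (ng b) else 0) =
      (if i = a then A b j else 0) - (if i = ng b then A (ng a) j else 0) := by
  unfold Td at h
  rw [Matrix.mul_sub, Matrix.mul_add, Matrix.mul_one, Matrix.sub_mul, Matrix.add_mul, Matrix.one_mul] at h
  have h' := congrFun (congrFun h i) j
  simp only [Matrix.sub_apply, Matrix.add_apply, pom_mul_single, pom_single_mul] at h'
  linear_combination h'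

/-- a matrix commuting with all `Td a b 1` is scalar -/
theorem pom_scalar_of_comm (hn : 3 ≤ n) (A : Matrix (Fin n ⊕ Fin n) (Fin n ⊕ Fin n) F)
    (hA : ∀ a b : Fin n ⊕ Fin n, a ≠ b → a ≠ ng b → A * Td a b 1 = Td a b 1 * A) (o : Fin n ⊕ Fin n) :
    A = A o o • (1 : Matrix (Fin n ⊕ Fin n) (Fin n ⊕ Fin n) F) := by
  have hoff : ∀ i a : Fin n ⊕ Fin n, i ≠ a → A i a = 0 := by
    intro i a hia
    obtain ⟨b, hab, hab', hb1, hb2⟩ := ommo5_third hn a (ng i)
    rw [ng_ng] at hb2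
    have hE := pom_entry A a b (hA a b hab hab') i b
    have h1 : b ≠ ng a := fun h => hab' (by rw [h, ng_ng])
    have h2 : i ≠ ng b := fun h => hb1 (by rw [h, ng_ng])
    rw [if_pos rfl, if_neg h1, if_neg hia, if_neg h2] at hE
    simpa using hE
  have hdiag : ∀ a b : Fin n ⊕ Fin n, a ≠ b → a ≠ ng b → A a a = A b b := by
    intro a b hab hab'
    have hE := pom_entry A a b (hA a b hab hab') a b
    have h1 : b ≠ ng a := fun h => hab' (by rw [h, ng_ng])
    rw [if_pos rfl, if_neg h1, if_pos rfl, if_neg hab'] at hE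
    simpa using hE
  have hall : ∀ a : Fin n ⊕ Fin n, A a a = A o o := by
    intro a
    by_cases h1 : a = o
    · rw [h1]
    by_cases h2 : a = ng o
    · obtain ⟨c, hc1, hc2, hc3, hc4⟩ := ommo5_third hn o (ng o)
      rw [ng_ng] at hc4
      have h3 : ng o ≠ c := fun h => hc3 h.symm
      have h4 : ng o ≠ ng c := fun h => hc1 (by have := congrArg ng h; rwa [ng_ng, ng_ng] at this)
      rw [h2, hdiag (ng o) c h3 h4, hdiag o c hc1 hc2]
    · exact hdiag a o h1 h2
  ext i j
  rw [Matrix.smul_apply, Matrix.one_apply, smul_eq_mul]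
  by_cases hij : i = j
  · subst hij
    rw [if_pos rfl, mul_one, hall]
  · rw [if_neg hij, mul_zero, hoff i j hij]

/-- the matrix of a central element of `Ω⁺_{2n}(F)` is `1` or `-1` -/
theorem pom_center_cases (hn : 3 ≤ n) (g : ↥(Cfsg.Omega F (Cfsg.quadFormPlus n F)))
    (hg : g ∈ Subgroup.center ↥(Cfsg.Omega F (Cfsg.quadFormPlus n F))) :
    (((g : ↥(Cfsg.isometryGroup F (Cfsg.quadFormPlus n F))) : Matrix.GeneralLinearGroup (Fin n ⊕ Fin n) F) :
        Matrix (Fin n ⊕ Fin n) (Fin n ⊕ Fin n) F) = 1 ∨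
    (((g : ↥(Cfsg.isometryGroup F (Cfsg.quadFormPlus n F))) : Matrix.GeneralLinearGroup (Fin n ⊕ Fin n) F) :
        Matrix (Fin n ⊕ Fin n) (Fin n ⊕ Fin n) F) = -1 := by
  set A : Matrix (Fin n ⊕ Fin n) (Fin n ⊕ Fin n) F :=
    (((g : ↥(Cfsg.isometryGroup F (Cfsg.quadFormPlus n F))) : Matrix.GeneralLinearGroup (Fin n ⊕ Fin n) F) :
        Matrix (Fin n ⊕ Fin n) (Fin n ⊕ Fin n) F) with hAdef
  have hA : ∀ a b : Fin n ⊕ Fin n, a ≠ b → a ≠ ng b → A * Td a b 1 = Td a b 1 * A := by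
    intro a b hab hab'
    have hmem := Td_mem_omegaGL hn hab hab' (1 : F)
      (Matrix.SpecialLinearGroup.toGL (mx a b 1 : Matrix.SpecialLinearGroup (Fin n ⊕ Fin n) F))
      (mx_coe a b hab hab' 1)
    unfold Cfsg.Geo.omegaGL at hmem
    obtain ⟨x, hx, hxT⟩ := hmem
    have hc := Subgroup.mem_center_iff.mp hg ⟨x, hx⟩
    have hc' := congrArg (fun y : ↥(Cfsg.Omega F (Cfsg.quadFormPlus n F)) =>
      (((y : ↥(Cfsg.isometryGroup F (Cfsg.quadFormPlus n F))) : Matrix.GeneralLinearGroup (Fin n ⊕ Fin n) F) :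
        Matrix (Fin n ⊕ Fin n) (Fin n ⊕ Fin n) F)) hc
    simp only [Subgroup.coe_mul, Units.val_mul] at hc'
    have hxm : ((x : Matrix.GeneralLinearGroup (Fin n ⊕ Fin n) F) : Matrix (Fin n ⊕ Fin n) (Fin n ⊕ Fin n) F) =
        Td a b 1 := by
      have := congrArg (fun y : Matrix.GeneralLinearGroup (Fin n ⊕ Fin n) F =>
        (y : Matrix (Fin n ⊕ Fin n) (Fin n ⊕ Fin n) F)) hxT
      simp only [Subgroup.coe_subtype] at this
      rw [this]
      exact mx_coe a b hab hab' 1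
    rw [hxm] at hc'
    exact hc'.symm
  have hn0 : 0 < n := by omega
  have hsc := pom_scalar_of_comm hn A hA (Sum.inl ⟨0, hn0⟩)
  set lam : F := A (Sum.inl ⟨0, hn0⟩) (Sum.inl ⟨0, hn0⟩) with hlam
  -- the isometry condition on `e_0 + f_0`
  have hiso := (g : ↥(Cfsg.isometryGroup F (Cfsg.quadFormPlus n F))).2
    (Pi.single (Sum.inl ⟨0, hn0⟩) 1 + Pi.single (Sum.inr ⟨0, hn0⟩) 1) 0
  have hiso' : Cfsg.quadFormPlus n F (A *ᵥ (Pi.single (Sum.inl ⟨0, hn0⟩) 1 + Pi.single (Sum.inr ⟨0, hn0⟩) 1)) =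
      Cfsg.quadFormPlus n F (Pi.single (Sum.inl ⟨0, hn0⟩) 1 + Pi.single (Sum.inr ⟨0, hn0⟩) 1) := hiso
  have hQ1 : ∀ c : F, Cfsg.quadFormPlus n F (c • (Pi.single (Sum.inl ⟨0, hn0⟩) 1 + Pi.single (Sum.inr ⟨0, hn0⟩) 1)) =
      c * c := by
    intro c
    unfold Cfsg.quadFormPlus
    rw [Finset.sum_eq_single (⟨0, hn0⟩ : Fin n)]
    · simp
    · intro i _ hi
      have : (Sum.inl i : Fin n ⊕ Fin n) ≠ Sum.inl ⟨0, hn0⟩ := fun h => hi (Sum.inl.inj h)
      simp [Pi.single_apply, this]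
    · intro h; exact absurd (Finset.mem_univ _) h
  have hmv : A *ᵥ (Pi.single (Sum.inl ⟨0, hn0⟩) 1 + Pi.single (Sum.inr ⟨0, hn0⟩) 1) =
      lam • (Pi.single (Sum.inl ⟨0, hn0⟩) 1 + Pi.single (Sum.inr ⟨0, hn0⟩) 1) := by
    rw [hsc, Matrix.smul_mulVec, Matrix.one_mulVec]
  rw [hmv, hQ1] at hiso'
  have h1 := hQ1 1
  rw [one_smul, one_mul] at h1
  rw [h1] at hiso'
  have hl : lam = 1 ∨ lam = -1 := by
    have : (lam - 1) * (lam + 1) = 0 := by linear_combination hiso'
    rcases mul_eq_zero.mp this with h | h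
    · left; linear_combination h
    · right; linear_combination h
  rcases hl with h | h
  · left; rw [hsc, h, one_smul]
  · right; rw [hsc, h, neg_smul, one_smul]

/-- the matrix determines the element of `Ω` -/
theorem pom_ext (g h : ↥(Cfsg.Omega F (Cfsg.quadFormPlus n F)))
    (hgh : (((g : ↥(Cfsg.isometryGroup F (Cfsg.quadFormPlus n F))) : Matrix.GeneralLinearGroup (Fin n ⊕ Fin n) F) :
        Matrix (Fin n ⊕ Fin n) (Fin n ⊕ Fin n) F) =
      (((h : ↥(Cfsg.isometryGroup F (Cfsg.quadFormPlus n F))) : Matrix.GeneralLinearGroup (Fin n ⊕ Fin n) F) :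
        Matrix (Fin n ⊕ Fin n) (Fin n ⊕ Fin n) F)) : g = h :=
  Subtype.ext (Subtype.ext (Units.ext hgh))

/-- the centre of `Ω⁺_{2n}(F)` is the normal closure of one element -/
theorem pom_center_gen (hn : 3 ≤ n) :
    ∃ z : ↥(Cfsg.Omega F (Cfsg.quadFormPlus n F)),
      Subgroup.center ↥(Cfsg.Omega F (Cfsg.quadFormPlus n F)) = Subgroup.normalClosure {z} := by
  by_cases hall : ∀ g ∈ Subgroup.center ↥(Cfsg.Omega F (Cfsg.quadFormPlus n F)), g = 1
  · refine ⟨1, le_antisymm ?_ ?_⟩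
    · intro g hg
      rw [hall g hg]
      exact one_mem _
    · apply Subgroup.normalClosure_le_normal
      intro y hy
      rw [Set.mem_singleton_iff] at hy
      rw [hy]
      exact one_mem _
  · simp only [not_forall] at hall
    obtain ⟨z, hz, hz1⟩ := hall
    have hzm : (((z : ↥(Cfsg.isometryGroup F (Cfsg.quadFormPlus n F))) : Matrix.GeneralLinearGroup (Fin n ⊕ Fin n) F) :
        Matrix (Fin n ⊕ Fin n) (Fin n ⊕ Fin n) F) = -1 := by
      rcases pom_center_cases hn z hz with h | h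
      · exfalso
        apply hz1
        apply pom_ext
        rw [h]
        rfl
      · exact h
    refine ⟨z, le_antisymm ?_ ?_⟩
    · intro g hg
      rcases pom_center_cases hn g hg with h | h
      · have : g = 1 := by
          apply pom_ext
          rw [h]
          rfl
        rw [this]
        exact one_mem _
      · have : g = z := by
          apply pom_ext
          rw [h, hzm]
        rw [this]
        exact Subgroup.subset_normalClosure (Set.mem_singleton _)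
    · apply Subgroup.normalClosure_le_normal
      intro y hy
      rw [Set.mem_singleton_iff] at hy
      rw [hy]
      exact hz

/-- **POM**: one more relator for `PΩ⁺_{2n}(F)`. -/
theorem pomega_pres (hn : 3 ≤ n) {k : ℕ} (R : Finset (FreeGroup (Fin k)))
    (e : PresentedGroup (↑R : Set (FreeGroup (Fin k))) ≃* ↥(Cfsg.Omega F (Cfsg.quadFormPlus n F))) :
    ∃ rels : Finset (FreeGroup (Fin k)), rels.card ≤ R.card + 1 ∧
      Nonempty (PresentedGroup (↑rels : Set (FreeGroup (Fin k))) ≃* Cfsg.POmega F (Cfsg.quadFormPlus n F)) := by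
  obtain ⟨z, hz⟩ := pom_center_gen (F := F) hn
  obtain ⟨rels, hc, e', _⟩ := Cfsg.Agent.Lib.Helper21.PresQuot.quot_one_relator R e
    (Subgroup.center ↥(Cfsg.Omega F (Cfsg.quadFormPlus n F))) z hz
  exact ⟨rels, hc, ⟨e'⟩⟩

end Cfsg.Agent.Lib.Lead.POM
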