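import Mathlib
import Cfsg.Agent.Lib.Helper16.QuadClass

set_option autoImplicit false

namespace Cfsg.Agent.Lib.Lead.SU1

open Cfsg.Agent.Lib.Helper16 Module

theorem exists_in_subspace {F : Type*} [Field F] [Fintype F] (h2 : (2 : F) ≠ 0)
    {V : Type*} [AddCommGroup V] [Module F V] [FiniteDimensional F V]
    (Bf : LinearMap.BilinForm F V) (hS : ∀ x y, Bf x y = Bf y x) (W : Submodule F V)
    (hdim : finrank F ↥(W ⊓ Bf.orthogonal W) + 2 ≤ finrank F ↥W)
    (d : F) (hd : d ≠ 0) : ∃ z ∈ W, Bf z z = d := by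
  classical
  have : Invertible (2 : F) := invertibleOfNonzero h2
  set Bw : LinearMap.BilinForm F ↥W := Bf.restrict W with hBw
  have hBw_apply : ∀ x y : ↥W, Bw x y = Bf (x : V) (y : V) := fun x y => rfl
  have hSw : LinearMap.IsSymm Bw := ⟨fun x y => by
    simp only [RingHom.id_apply]
    rw [hBw_apply, hBw_apply, hS]⟩
  obtain ⟨v, hv⟩ := LinearMap.BilinForm.exists_orthogonal_basis hSw
  set T := Finset.univ.filter (fun i => Bw (v i) (v i) = 0) with hT
  set T' := Finset.univ.filter (fun i => ¬ Bw (v i) (v i) = 0) with hT'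
  have hmemR : ∀ i ∈ T, ((v i : ↥W) : V) ∈ W ⊓ Bf.orthogonal W := by
    intro i hi
    refine ⟨(v i).2, ?_⟩
    show ((v i : ↥W) : V) ∈ Bf.orthogonal W
    rw [LinearMap.BilinForm.mem_orthogonal_iff]
    intro y hy
    show Bf y (v i : V) = 0
    have hrep : (⟨y, hy⟩ : ↥W) = ∑ j, (v.repr ⟨y, hy⟩ j) • v j := (v.sum_repr _).symm
    have : Bw ⟨y, hy⟩ (v i) = 0 := by
      rw [hrep, map_sum, LinearMap.sum_apply]
      apply Finset.sum_eq_zero
      intro j _
      rw [map_smul, LinearMap.smul_apply]
      by_cases hji : j = i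
      · subst hji
        rw [(Finset.mem_filter.mp hi).2, smul_zero]
      · rw [hv hji, smul_zero]
    exact this
  have hTcard : T.card ≤ finrank F ↥(W ⊓ Bf.orthogonal W) := by
    have hli : LinearIndependent F (fun i : T => v (i : Fin (finrank F ↥W))) :=
      v.linearIndependent.comp _ Subtype.val_injective
    have h1 := finrank_span_eq_card hli
    rw [Fintype.card_coe] at h1
    rw [← h1, ← Submodule.finrank_map_subtype_eq W]
    apply Submodule.finrank_mono
    rw [Submodule.map_span_le]
    rintro x ⟨i, rfl⟩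
    exact hmemR i i.2
  have hsum : T.card + T'.card = finrank F ↥W := by
    have := Finset.card_filter_add_card_filter_not (s := (Finset.univ : Finset (Fin (finrank F ↥W))))
      (fun i => Bw (v i) (v i) = 0)
    rw [Finset.card_univ, Fintype.card_fin] at this
    exact this
  have hcard : 1 < T'.card := by omega
  obtain ⟨i, hi, j, hj, hij⟩ := Finset.one_lt_card.mp hcard
  have hai : Bw (v i) (v i) ≠ 0 := (Finset.mem_filter.mp hi).2
  have haj : Bw (v j) (v j) ≠ 0 := (Finset.mem_filter.mp hj).2
  obtain ⟨s, t, hst⟩ := exists_sq_sum h2 (a := Bw (v i) (v i) / d) (b := Bw (v j) (v j) / d)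
    (div_ne_zero hai hd) (div_ne_zero haj hd)
  refine ⟨((s • v i + t • v j : ↥W) : V), (s • v i + t • v j : ↥W).2, ?_⟩
  have h01 : Bw (v i) (v j) = 0 := hv hij
  have h10 : Bw (v j) (v i) = 0 := hv hij.symm
  have : Bw (s • v i + t • v j) (s • v i + t • v j) = d := by
    simp only [map_add, LinearMap.add_apply, map_smul, LinearMap.smul_apply, smul_eq_mul, h01, h10]
    field_simp at hst
    linear_combination hst
  exact this

end Cfsg.Agent.Lib.Lead.SU1
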