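import Mathlib
import Cfsg.Prelude.Def_Classical
import Cfsg.Agent.Lib.Helper16.SpinE3
import Cfsg.Agent.Lib.Helper16.QuadClass
import Cfsg.Agent.Lib.Lead.SubUniv

set_option autoImplicit false

namespace Cfsg.Agent.Lib.Lead.OC

open Cfsg Cfsg.Agent.Lib.Helper16 Cfsg.Agent.Lib.helper6 Module Matrix

variable {ι : Type} [Fintype ι] [DecidableEq ι] {F : Type*} [Field F] [Fintype F]

local notation "Bp" => QuadraticMap.polar

theorem polar_self_ne (h2 : (2 : F) ≠ 0) (Q : QuadraticForm F (ι → F)) (u : ι → F) (hu : Q u ≠ 0) :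
    QuadraticMap.polar ⇑Q u u ≠ 0 := by
  rw [QuadraticMap.polar_self, nsmul_eq_mul]
  push_cast
  exact mul_ne_zero h2 hu

/-- a vector orthogonal to `u` and `v` (spanning a non-degenerate subspace) with prescribed norm -/
theorem exists_perp_norm (h2 : (2 : F) ≠ 0) (Q : QuadraticForm F (ι → F))
    (hQ : (QuadraticMap.polarBilin Q).Nondegenerate) (u v : ι → F) (hu : Q u ≠ 0)
    (hv : v = 0 ∨ (Q v ≠ 0 ∧ QuadraticMap.polar ⇑Q u v = 0))
    (hn : 4 ≤ Fintype.card ι) (d : F) (hd : d ≠ 0) :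
    ∃ z, Q z = d ∧ QuadraticMap.polar ⇑Q u z = 0 ∧ QuadraticMap.polar ⇑Q v z = 0 := by
  classical
  set Bf : LinearMap.BilinForm F (ι → F) := QuadraticMap.polarBilin Q with hBf
  have hBf_apply : ∀ x y, Bf x y = QuadraticMap.polar ⇑Q x y := fun x y => rfl
  have hS : ∀ x y, Bf x y = Bf y x := fun x y => by
    rw [hBf_apply, hBf_apply, QuadraticMap.polar_comm]
  have hrefl : Bf.IsRefl := fun x y h => by rw [hS]; exact h
  set P : Submodule F (ι → F) := Submodule.span _ {u, v} with hP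
  set W := LinearMap.BilinForm.orthogonal Bf P with hW
  have hfrW : finrank F ↥W = Fintype.card ι - finrank F ↥P := by
    rw [hW, LinearMap.BilinForm.finrank_orthogonal hQ, Module.finrank_fintype_fun_eq_card]
  have hWW : LinearMap.BilinForm.orthogonal Bf W = P :=
    LinearMap.BilinForm.orthogonal_orthogonal hQ hrefl P
  have hP2 : finrank F ↥P ≤ 2 := by
    have h1 := finrank_span_finset_le_card (R := F) ({u, v} : Finset (ι → F))
    rw [Finset.coe_pair] at h1
    exact le_trans h1 Finset.card_le_two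
  have huP : u ∈ P := Submodule.subset_span (by simp)
  have hvP : v ∈ P := Submodule.subset_span (by simp)
  have hrad : W ⊓ LinearMap.BilinForm.orthogonal Bf W = ⊥ := by
    rw [hWW, eq_bot_iff]
    rintro x ⟨hxW, hxP⟩
    obtain ⟨a, b, rfl⟩ := Submodule.mem_span_pair.mp hxP
    have h1 := hxW u huP
    have h2' := hxW v hvP
    rw [hBf_apply] at h1 h2'
    rcases hv with rfl | ⟨hv0, huv⟩
    · rw [smul_zero, add_zero] at h1 ⊢
      rw [QuadraticMap.polar_smul_right, smul_eq_mul] at h1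
      have ha : a = 0 := by
        rcases mul_eq_zero.mp h1 with h | h
        · exact h
        · exact absurd h (polar_self_ne h2 Q u hu)
      rw [ha, zero_smul]
      exact Submodule.zero_mem _
    · rw [QuadraticMap.polar_add_right, QuadraticMap.polar_smul_right, QuadraticMap.polar_smul_right,
        huv, smul_zero, add_zero, smul_eq_mul] at h1
      rw [QuadraticMap.polar_add_right, QuadraticMap.polar_smul_right, QuadraticMap.polar_smul_right,
        QuadraticMap.polar_comm (⇑Q) v u, huv, smul_zero, zero_add, smul_eq_mul] at h2'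
      have ha : a = 0 := by
        rcases mul_eq_zero.mp h1 with h | h
        · exact h
        · exact absurd h (polar_self_ne h2 Q u hu)
      have hb : b = 0 := by
        rcases mul_eq_zero.mp h2' with h | h
        · exact h
        · exact absurd h (polar_self_ne h2 Q v hv0)
      rw [ha, hb, zero_smul, zero_smul, add_zero]
      exact Submodule.zero_mem _
  have hdim : finrank F ↥(W ⊓ LinearMap.BilinForm.orthogonal Bf W) + 2 ≤ finrank F ↥W := by
    rw [hrad, finrank_bot, hfrW]; omega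
  obtain ⟨z, hzW, hz⟩ := SU1.exists_in_subspace h2 Bf hS W hdim (2 * d) (mul_ne_zero h2 hd)
  refine ⟨z, ?_, ?_, ?_⟩
  · rw [hBf_apply, QuadraticMap.polar_self, nsmul_eq_mul] at hz
    push_cast at hz
    exact mul_left_cancel₀ h2 hz
  · exact hzW u huP
  · exact hzW v hvP


/-- product of two reflections in orthogonal vectors of the same norm lies in `Ω` -/
theorem pair_mem_omega (h2 : (2 : F) ≠ 0) (Q : QuadraticForm F (ι → F)) (u v : ι → F)
    (hu : Q u ≠ 0) (hv : Q v ≠ 0) (huv : Q v = Q u) :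
    reflG Q u hu * reflG Q v hv ∈ Cfsg.Omega F ⇑Q := by
  have hvs : ∀ w ∈ [u, v], Q w ≠ 0 := by
    intro w hw
    rcases List.mem_pair.mp hw with rfl | rfl
    · exact hu
    · exact hv
  have := master_backward h2 Q [u, v] hvs ⟨1, rfl⟩ (by
    simp only [List.map_cons, List.map_nil, List.prod_cons, List.prod_nil, mul_one]
    exact ⟨Q u, by rw [huv]⟩)
  simpa [reflG'_eq Q u hu, reflG'_eq Q v hv] using this

/-- the `(-1)`-eigenvectors of `r_u r_v` lie in the span of `u, v` -/
theorem neg_eigen (h2 : (2 : F) ≠ 0) (Q : QuadraticForm F (ι → F)) (u v x : ι → F)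
    (hx : Cfsg.reflectionMatrix ⇑Q u *ᵥ (Cfsg.reflectionMatrix ⇑Q v *ᵥ x) = -x) :
    ∃ a b : F, x = a • u + b • v := by
  rw [reflectionMatrix_mulVec, reflectionMatrix_mulVec] at hx
  set α := (Q v)⁻¹ * QuadraticMap.polar (⇑Q) v x with hα
  set β := (Q u)⁻¹ * QuadraticMap.polar (⇑Q) u (x - α • v) with hβ
  refine ⟨β / 2, α / 2, ?_⟩
  have h3 : (2 : F) • x = β • u + α • v := by
    have : x - α • v - β • u + x = 0 := by rw [hx]; abel
    have h4 : (2 : F) • x = (x - α • v - β • u + x) + (β • u + α • v) := by module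
    rw [h4, this, zero_add]
  have h5 : x = (2 : F)⁻¹ • ((2 : F) • x) := by
    rw [smul_smul, inv_mul_cancel₀ h2, one_smul]
  rw [h5, h3, smul_add, smul_smul, smul_smul]
  congr 2 <;> field_simp

theorem refl_self (h2 : (2 : F) ≠ 0) (Q : QuadraticForm F (ι → F)) (u : ι → F) (hu : Q u ≠ 0) :
    Cfsg.reflectionMatrix ⇑Q u *ᵥ u = -u := by
  rw [reflectionMatrix_mulVec, QuadraticMap.polar_self, nsmul_eq_mul]
  push_cast
  have : (Q u)⁻¹ * (2 * Q u) = 2 := by field_simp
  rw [this]
  module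

theorem refl_perp (Q : QuadraticForm F (ι → F)) (v x : ι → F)
    (hvx : QuadraticMap.polar ⇑Q v x = 0) :
    Cfsg.reflectionMatrix ⇑Q v *ᵥ x = x := by
  rw [reflectionMatrix_mulVec, hvx, mul_zero, zero_smul, sub_zero]

theorem polar_mulVec (Q : QuadraticForm F (ι → F)) (g : ↥(Cfsg.isometryGroup F ⇑Q)) (x y : ι → F) :
    QuadraticMap.polar (⇑Q) (((g : Matrix.GeneralLinearGroup ι F) : Matrix ι ι F) *ᵥ x)
      (((g : Matrix.GeneralLinearGroup ι F) : Matrix ι ι F) *ᵥ y) = QuadraticMap.polar (⇑Q) x y :=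
  polar_iso' Q g x y

/-- an isometry centralising `Ω` maps `u` into the span of `u, v` for `v ⊥ u` of the same norm -/
theorem mem_span_pair_of_central (h2 : (2 : F) ≠ 0) (Q : QuadraticForm F (ι → F))
    (z : ↥(Cfsg.isometryGroup F ⇑Q)) (hz : ∀ t ∈ Cfsg.Omega F ⇑Q, z * t = t * z)
    (u v : ι → F) (hu : Q u ≠ 0) (hv : Q v ≠ 0) (huv : Q v = Q u)
    (hp : QuadraticMap.polar ⇑Q u v = 0) :
    ∃ a b : F, ((z : Matrix.GeneralLinearGroup ι F) : Matrix ι ι F) *ᵥ u = a • u + b • v := by
  apply neg_eigen h2 Q u v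
  have hc := hz _ (pair_mem_omega h2 Q u v hu hv huv)
  have hc' := congrArg (fun g : ↥(Cfsg.isometryGroup F ⇑Q) =>
    ((g : Matrix.GeneralLinearGroup ι F) : Matrix ι ι F) *ᵥ u) hc
  simp only [iso_mul_coe, reflG_coe] at hc'
  rw [← Matrix.mulVec_mulVec, ← Matrix.mulVec_mulVec, ← Matrix.mulVec_mulVec, ← Matrix.mulVec_mulVec,
    refl_perp Q v u (by rw [QuadraticMap.polar_comm]; exact hp), refl_self h2 Q u hu,
    Matrix.mulVec_neg] at hc'
  exact hc'.symm

theorem fix_line (h2 : (2 : F) ≠ 0) (Q : QuadraticForm F (ι → F))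
    (hQ : (QuadraticMap.polarBilin Q).Nondegenerate) (hn : 4 ≤ Fintype.card ι)
    (z : ↥(Cfsg.isometryGroup F ⇑Q)) (hz : ∀ t ∈ Cfsg.Omega F ⇑Q, z * t = t * z)
    (u : ι → F) (hu : Q u ≠ 0) :
    ∃ a : F, ((z : Matrix.GeneralLinearGroup ι F) : Matrix ι ι F) *ᵥ u = a • u := by
  obtain ⟨v, hv, huv, -⟩ := exists_perp_norm h2 Q hQ u 0 hu (Or.inl rfl) hn (Q u) hu
  have hv0 : Q v ≠ 0 := by rw [hv]; exact hu
  obtain ⟨v', hv', huv', hvv'⟩ := exists_perp_norm h2 Q hQ u v hu (Or.inr ⟨hv0, huv⟩) hn (Q u) hu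
  have hv0' : Q v' ≠ 0 := by rw [hv']; exact hu
  obtain ⟨a, b, hab⟩ := mem_span_pair_of_central h2 Q z hz u v hu hv0 hv huv
  obtain ⟨a', b', hab'⟩ := mem_span_pair_of_central h2 Q z hz u v' hu hv0' hv' huv'
  refine ⟨a, ?_⟩
  have h1 : QuadraticMap.polar ⇑Q (((z : Matrix.GeneralLinearGroup ι F) : Matrix ι ι F) *ᵥ u) v
      = b * QuadraticMap.polar ⇑Q v v := by
    rw [hab, QuadraticMap.polar_add_left, QuadraticMap.polar_smul_left, QuadraticMap.polar_smul_left,
      huv, smul_zero, zero_add, smul_eq_mul]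
  have h2' : QuadraticMap.polar ⇑Q (((z : Matrix.GeneralLinearGroup ι F) : Matrix ι ι F) *ᵥ u) v = 0 := by
    rw [hab', QuadraticMap.polar_add_left, QuadraticMap.polar_smul_left, QuadraticMap.polar_smul_left,
      huv, QuadraticMap.polar_comm (⇑Q) v' v, hvv', smul_zero, smul_zero, add_zero]
  rw [h2'] at h1
  have hb : b = 0 := by
    rcases mul_eq_zero.mp h1.symm with h | h
    · exact h
    · exact absurd h (polar_self_ne h2 Q v hv0)
  rw [hab, hb, zero_smul, add_zero]


/-- three pairwise orthogonal eigenvectors whose sum is an eigenvector have equal eigenvalues -/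
theorem eigen_eq (h2 : (2 : F) ≠ 0) (Q : QuadraticForm F (ι → F)) (Z : Matrix ι ι F)
    (x y w : ι → F) (hx : Q x ≠ 0)
    (hxy : QuadraticMap.polar ⇑Q x y = 0) (hxw : QuadraticMap.polar ⇑Q x w = 0)
    (a b c e : F) (hZx : Z *ᵥ x = a • x) (hZy : Z *ᵥ y = b • y) (hZw : Z *ᵥ w = c • w)
    (hZs : Z *ᵥ (x + y + w) = e • (x + y + w)) : a = e := by
  rw [Matrix.mulVec_add, Matrix.mulVec_add, hZx, hZy, hZw] at hZs
  have h1 := congrArg (fun t => QuadraticMap.polar ⇑Q x t) hZs
  simp only [QuadraticMap.polar_add_right, QuadraticMap.polar_smul_right, hxy, hxw, mul_zero,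
    add_zero, smul_eq_mul] at h1
  exact mul_right_cancel₀ (polar_self_ne h2 Q x hx) h1

theorem Q_add3 (Q : QuadraticForm F (ι → F)) (x y w : ι → F)
    (hxy : QuadraticMap.polar ⇑Q x y = 0) (hxw : QuadraticMap.polar ⇑Q x w = 0)
    (hyw : QuadraticMap.polar ⇑Q y w = 0) : Q (x + y + w) = Q x + Q y + Q w := by
  have e1 : Q (x + y + w) = Q (x + y) + Q w + QuadraticMap.polar ⇑Q (x + y) w := by
    unfold QuadraticMap.polar; ring
  have e2 : Q (x + y) = Q x + Q y + QuadraticMap.polar ⇑Q x y := by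
    unfold QuadraticMap.polar; ring
  rw [e1, e2, QuadraticMap.polar_add_left, hxy, hxw, hyw]; ring

theorem scalar_of_central (h2 : (2 : F) ≠ 0) (Q : QuadraticForm F (ι → F))
    (hQ : (QuadraticMap.polarBilin Q).Nondegenerate) (hn : 4 ≤ Fintype.card ι)
    (z : ↥(Cfsg.isometryGroup F ⇑Q)) (hz : ∀ t ∈ Cfsg.Omega F ⇑Q, z * t = t * z) :
    ∃ a : F, ((z : Matrix.GeneralLinearGroup ι F) : Matrix ι ι F) = a • (1 : Matrix ι ι F) := by
  classical
  have : Invertible (2 : F) := invertibleOfNonzero h2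
  have hsymm : LinearMap.IsSymm (QuadraticMap.polarBilin Q) :=
    LinearMap.BilinForm.isSymm_iff.mp (polarBilin_isSymm Q)
  obtain ⟨v, hv⟩ := LinearMap.BilinForm.exists_orthogonal_basis hsymm
  have hfr : Module.finrank F (ι → F) = Fintype.card ι := Module.finrank_fintype_fun_eq_card F
  have hortho : ∀ i j, i ≠ j → QuadraticMap.polar (⇑Q) (v i) (v j) = 0 := fun i j hij => hv hij
  have hself : ∀ i, QuadraticMap.polarBilin Q (v i) (v i) ≠ 0 :=
    fun i => LinearMap.BilinForm.iIsOrtho.not_isOrtho_basis_self_of_nondegenerate hv hQ i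
  have hQv : ∀ i, Q (v i) ≠ 0 := by
    intro i h0
    apply hself i
    rw [QuadraticMap.polarBilin_apply_apply, QuadraticMap.polar_self, h0, smul_zero]
  set Z := ((z : Matrix.GeneralLinearGroup ι F) : Matrix ι ι F) with hZ
  have hline : ∀ u : ι → F, Q u ≠ 0 → ∃ a : F, Z *ᵥ u = a • u :=
    fun u hu => fix_line h2 Q hQ hn z hz u hu
  choose lam hlam using fun i => hline (v i) (hQv i)
  have hpos : 0 < Module.finrank F (ι → F) := by omega
  have heq : ∀ i j, i ≠ j → lam i = lam j := by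
    intro i j hij
    by_cases hs : Q (v i) + Q (v j) = 0
    · have hk : ∃ k, k ≠ i ∧ k ≠ j := by
        by_contra hcon
        push Not at hcon
        have hsub : (Finset.univ : Finset (Fin (Module.finrank F (ι → F)))) ⊆ {i, j} := by
          intro k _
          by_cases hki : k = i
          · simp [hki]
          · simp [hcon k hki]
        have := Finset.card_le_card hsub
        rw [Finset.card_univ, Fintype.card_fin] at this
        have h3 : ({i, j} : Finset (Fin (Module.finrank F (ι → F)))).card ≤ 2 := Finset.card_le_two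
        omega
      obtain ⟨k, hki, hkj⟩ := hk
      have hQs : Q (v i + v j + v k) ≠ 0 := by
        rw [Q_add3 Q _ _ _ (hortho i j hij) (hortho i k hki.symm) (hortho j k hkj.symm), hs, zero_add]
        exact hQv k
      obtain ⟨e, he⟩ := hline _ hQs
      have h1 := eigen_eq h2 Q Z (v i) (v j) (v k) (hQv i) (hortho i j hij) (hortho i k hki.symm)
        (lam i) (lam j) (lam k) e (hlam i) (hlam j) (hlam k) he
      have he' : Z *ᵥ (v j + v i + v k) = e • (v j + v i + v k) := by
        rw [add_comm (v j) (v i)]; exact he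
      have h2' := eigen_eq h2 Q Z (v j) (v i) (v k) (hQv j) (hortho j i hij.symm)
        (hortho j k hkj.symm) (lam j) (lam i) (lam k) e (hlam j) (hlam i) (hlam k) he'
      rw [h1, h2']
    · have hQs : Q (v i + v j + 0) ≠ 0 := by
        rw [add_zero]
        have e2 : Q (v i + v j) = Q (v i) + Q (v j) + QuadraticMap.polar ⇑Q (v i) (v j) := by
          unfold QuadraticMap.polar; ring
        rw [e2, hortho i j hij, add_zero]
        exact hs
      obtain ⟨e, he⟩ := hline _ hQs
      have hz0 : Z *ᵥ (0 : ι → F) = (0 : F) • (0 : ι → F) := by simp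
      have hp0 : ∀ x : ι → F, QuadraticMap.polar ⇑Q x 0 = 0 := fun x => by
        simp [QuadraticMap.polar]
      have h1 := eigen_eq h2 Q Z (v i) (v j) 0 (hQv i) (hortho i j hij) (hp0 _)
        (lam i) (lam j) 0 e (hlam i) (hlam j) hz0 he
      have he' : Z *ᵥ (v j + v i + 0) = e • (v j + v i + 0) := by
        rw [add_comm (v j) (v i)]; exact he
      have h2' := eigen_eq h2 Q Z (v j) (v i) 0 (hQv j) (hortho j i hij.symm) (hp0 _)
        (lam j) (lam i) 0 e (hlam j) (hlam i) hz0 he'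
      rw [h1, h2']
  set i0 : Fin (Module.finrank F (ι → F)) := ⟨0, hpos⟩ with hi0
  refine ⟨lam i0, ?_⟩
  have hL : Matrix.mulVecLin Z = lam i0 • LinearMap.id := by
    apply v.ext
    intro j
    rw [Matrix.mulVecLin_apply, hlam j]
    by_cases hj : j = i0
    · rw [hj]; simp
    · rw [heq j i0 hj]; simp
  rw [Matrix.ext_iff_mulVec]
  intro x
  have := congrArg (fun L => L x) hL
  simp only [Matrix.mulVecLin_apply, LinearMap.smul_apply, LinearMap.id_apply] at this
  rw [this, Matrix.smul_mulVec, Matrix.one_mulVec]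

end Cfsg.Agent.Lib.Lead.OC
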