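import Cfsg.Agent.Lib.Lead.UDK1Q2.Defs

set_option autoImplicit false

namespace Cfsg.Agent.Lib.Lead.UDK1Q2

open Matrix Cfsg.Agent.Lib.Helper29.ExtrL Cfsg.Agent.Lib.Helper28.UMax

variable {n : ℕ} {F : Type*} [Field F] [Fintype F] [DecidableEq F]

/-! ## row FLD -/

theorem q2_two (hF : Fintype.card F = 4) : (2 : F) = 0 := by
  have h4 : ((Fintype.card F : ℕ) : F) = 0 := Nat.cast_card_eq_zero F
  rw [hF] at h4
  have h22 : (2 : F) * 2 = 0 := by
    have : ((4 : ℕ) : F) = 2 * 2 := by norm_num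
    rw [← this]; exact h4
  rcases mul_eq_zero.mp h22 with h | h <;> exact h

theorem q2_cube (hF : Fintype.card F = 4) {a : F} (ha : a ≠ 0) : a ^ 3 = 1 := by
  have := FiniteField.pow_card_sub_one_eq_one a ha
  rw [hF] at this
  exact this

theorem q2_omega (hF : Fintype.card F = 4) : ∃ w : F, w ≠ 0 ∧ w ≠ 1 ∧ w ^ 2 + w + 1 = 0 := by
  have hex : ∃ w : F, w ∉ ({0, 1} : Finset F) := by
    by_contra hcon
    push Not at hcon
    have hsub : (Finset.univ : Finset F) ⊆ {0, 1} := fun x _ => hcon x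
    have hle := Finset.card_le_card hsub
    rw [Finset.card_univ, hF] at hle
    have : ({0, 1} : Finset F).card ≤ 2 := Finset.card_le_two
    omega
  obtain ⟨w, hw⟩ := hex
  have hw0 : w ≠ 0 := fun h => hw (by rw [h]; simp)
  have hw1 : w ≠ 1 := fun h => hw (by rw [h]; simp)
  refine ⟨w, hw0, hw1, ?_⟩
  have h3 := q2_cube hF hw0
  have hfac : (w - 1) * (w ^ 2 + w + 1) = 0 := by
    have : (w - 1) * (w ^ 2 + w + 1) = w ^ 3 - 1 := by ring
    rw [this, h3, sub_self]
  rcases mul_eq_zero.mp hfac with h | h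
  · exact absurd (sub_eq_zero.mp h) hw1
  · exact h

theorem q2_herm_self (hF : Fintype.card F = 4) (y : Fin n → F) :
    Cfsg.hermForm n F 2 y y = ((wt y : ℕ) : F) := by
  unfold Cfsg.hermForm wt
  rw [Finset.card_filter, Nat.cast_sum]
  refine Finset.sum_congr rfl (fun i _ => ?_)
  by_cases h : y i = 0
  · simp [h]
  · have h3 := q2_cube hF h
    have : y i * y i ^ 2 = y i ^ 3 := by ring
    rw [this, h3]
    simp [h]

theorem q2_iso_iff (hF : Fintype.card F = 4) (y : Fin n → F) :
    Cfsg.hermForm n F 2 y y = 0 ↔ Even (wt y) := by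
  haveI : CharP F 2 := CharTwo.of_one_ne_zero_of_two_eq_zero one_ne_zero (q2_two hF)
  rw [q2_herm_self hF, CharP.cast_eq_zero_iff F 2, even_iff_two_dvd]

theorem q2_sigma (C : Ctx n F) (c : F) : C.σ c = -c ↔ c = 0 ∨ c = 1 := by
  have h2 := q2_two C.hF
  have hneg : -c = c := by
    have : c + c = 0 := by
      have : c + c = 2 * c := by ring
      rw [this, h2, zero_mul]
    exact neg_eq_of_add_eq_zero_left this
  rw [C.hσ, hneg]
  constructor
  · intro h
    have : c * (c - 1) = 0 := by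
      have : c * (c - 1) = c ^ 2 - c := by ring
      rw [this, h, sub_self]
    rcases mul_eq_zero.mp this with h | h
    · exact Or.inl h
    · exact Or.inr (sub_eq_zero.mp h)
  · rintro (h | h) <;> rw [h] <;> norm_num

end Cfsg.Agent.Lib.Lead.UDK1Q2
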