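import Mathlib
import Cfsg.Prelude.Def_LieTypeDatum

set_option autoImplicit false

namespace Cfsg.Agent.Lib.Lead.OA

open Cfsg Matrix

variable {ι : Type} [Fintype ι] [DecidableEq ι] {F : Type*} [Field F]

abbrev GO (Q : (ι → F) → F) : Subgroup (GL ι F) := Geo.quadSimilarityGroup (F := F) Q

theorem mem_iso_iff' (Q : (ι → F) → F) (g : GL ι F) :
    g ∈ Cfsg.isometryGroup F Q ↔ ∀ v, Q ((g : Matrix ι ι F) *ᵥ v) = Q v := by
  constructor
  · intro h v
    exact h v v
  · intro h u v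
    exact h u

theorem mem_GO_iff (Q : (ι → F) → F) (g : GL ι F) :
    g ∈ GO Q ↔ ∃ c : Fˣ, ∀ v, Q ((g : Matrix ι ι F) *ᵥ v) = (c : F) * Q v := Iff.rfl

theorem iso_le_GO (Q : (ι → F) → F) : Cfsg.isometryGroup F Q ≤ GO Q := by
  intro g hg
  rw [mem_iso_iff'] at hg
  exact ⟨1, fun v => by rw [hg v, Units.val_one, one_mul]⟩

theorem conj_mem_iso (Q : (ι → F) → F) (g : GL ι F) (hg : g ∈ GO Q) (h : GL ι F)
    (hh : h ∈ Cfsg.isometryGroup F Q) : g * h * g⁻¹ ∈ Cfsg.isometryGroup F Q := by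
  obtain ⟨c, hc⟩ := hg
  rw [mem_iso_iff'] at hh ⊢
  intro v
  have h1 := hc (((g⁻¹ : GL ι F) : Matrix ι ι F) *ᵥ v)
  rw [Matrix.mulVec_mulVec, ← Units.val_mul, mul_inv_cancel, Units.val_one, Matrix.one_mulVec] at h1
  rw [Units.val_mul, Units.val_mul, ← Matrix.mulVec_mulVec, ← Matrix.mulVec_mulVec, hc, hh]
  exact h1.symm

/-- conjugation by a similarity, as an automorphism of the isometry group -/
def conjO (Q : (ι → F) → F) : ↥(GO Q) →* MulAut ↥(Cfsg.isometryGroup F Q) where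
  toFun g :=
    { toFun := fun h => ⟨(g : GL ι F) * h * (g : GL ι F)⁻¹, conj_mem_iso Q g g.2 h h.2⟩
      invFun := fun h => ⟨(g : GL ι F)⁻¹ * h * ((g : GL ι F)⁻¹)⁻¹,
        conj_mem_iso Q _ (inv_mem g.2) h h.2⟩
      left_inv := fun h => by
        apply Subtype.ext
        simp [mul_assoc]
      right_inv := fun h => by
        apply Subtype.ext
        simp [mul_assoc]
      map_mul' := fun a b => by
        apply Subtype.ext
        simp [mul_assoc] }
  map_one' := by
    apply MulEquiv.ext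
    intro h
    apply Subtype.ext
    simp
  map_mul' := fun a b => by
    apply MulEquiv.ext
    intro h
    apply Subtype.ext
    simp [mul_assoc]

theorem conjO_apply (Q : (ι → F) → F) (g : ↥(GO Q)) (h : ↥(Cfsg.isometryGroup F Q)) :
    ((conjO Q g h : ↥(Cfsg.isometryGroup F Q)) : GL ι F) = (g : GL ι F) * h * (g : GL ι F)⁻¹ := rfl

/-- automorphisms act on the quotient by a characteristic subgroup -/
def autQuot {X : Type*} [Group X] (N : Subgroup X) [hN : N.Characteristic] :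
    MulAut X →* MulAut (X ⧸ N) where
  toFun α := QuotientGroup.congr N N α (Subgroup.characteristic_iff_map_eq.mp hN α)
  map_one' := by
    apply MulEquiv.ext
    intro x
    induction x using QuotientGroup.induction_on
    rfl
  map_mul' := fun α β => by
    apply MulEquiv.ext
    intro x
    induction x using QuotientGroup.induction_on
    rfl

theorem autQuot_mk {X : Type*} [Group X] (N : Subgroup X) [hN : N.Characteristic]
    (α : MulAut X) (x : X) : autQuot N α (QuotientGroup.mk x) = QuotientGroup.mk (α x) := rfl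

/-- the action of the similarity group on `PΩ(Q)` by conjugation -/
def cHom (Q : (ι → F) → F) : ↥(GO Q) →* MulAut (Cfsg.POmega F Q) :=
  (autQuot (Subgroup.center ↥(Cfsg.Omega F Q))).comp
    ((MulAut.characteristic (Cfsg.Omega F Q)).comp (conjO Q))

theorem cHom_mk (Q : (ι → F) → F) (g : ↥(GO Q)) (s : ↥(Cfsg.Omega F Q)) :
    cHom Q g (QuotientGroup.mk s) =
      QuotientGroup.mk (MulAut.characteristic (Cfsg.Omega F Q) (conjO Q g) s) := rfl

theorem cHom_mk_coe (Q : (ι → F) → F) (g : ↥(GO Q)) (s : ↥(Cfsg.Omega F Q)) :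
    (((MulAut.characteristic (Cfsg.Omega F Q) (conjO Q g) s : ↥(Cfsg.Omega F Q)) :
      ↥(Cfsg.isometryGroup F Q)) : GL ι F) =
      (g : GL ι F) * ((s : ↥(Cfsg.isometryGroup F Q)) : GL ι F) * (g : GL ι F)⁻¹ := rfl


theorem induced_iff (Q : (ι → F) → F) (g : GL ι F) (hg : g ∈ GO Q)
    (β : Cfsg.POmega F Q ≃* Cfsg.POmega F Q) :
    Cfsg.IsInducedBySemilinearPOmega Q g (RingEquiv.refl F) β ↔ β = cHom Q ⟨g, hg⟩ := by
  have hmap : ∀ M : Matrix ι ι F, M.map (RingEquiv.refl F) = M := fun M => by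
    ext i j; rfl
  constructor
  · intro h
    apply MulEquiv.ext
    intro x
    induction x using QuotientGroup.induction_on with
    | H s =>
      rw [cHom_mk]
      apply h s
      rw [hmap]
      rfl
  · rintro rfl s s' hs
    rw [cHom_mk]
    congr 1
    apply Subtype.ext
    apply Subtype.ext
    apply Units.ext
    rw [hs, hmap]
    rfl

theorem autSub_eq (Q : (ι → F) → F) (S : Subgroup (GL ι F)) (hS : S ≤ GO Q) :
    Cfsg.autSubgroupOf (fun β : Cfsg.POmega F Q ≃* Cfsg.POmega F Q =>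
      ∃ g : GL ι F, g ∈ S ∧ Cfsg.IsInducedBySemilinearPOmega Q g (RingEquiv.refl F) β) =
      (S.subgroupOf (GO Q)).map (cHom Q) := by
  unfold Cfsg.autSubgroupOf
  have hset : {β : MulAut (Cfsg.POmega F Q) | ∃ g : GL ι F, g ∈ S ∧
      Cfsg.IsInducedBySemilinearPOmega Q g (RingEquiv.refl F) β} =
      (((S.subgroupOf (GO Q)).map (cHom Q) : Subgroup (MulAut (Cfsg.POmega F Q))) :
        Set (MulAut (Cfsg.POmega F Q))) := by
    ext β
    simp only [Set.mem_ofPred_eq, SetLike.mem_coe, Subgroup.mem_map, Subgroup.mem_subgroupOf]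
    constructor
    · rintro ⟨g, hgS, hg⟩
      exact ⟨⟨g, hS hgS⟩, hgS, ((induced_iff Q g (hS hgS) β).mp hg).symm⟩
    · rintro ⟨g, hgS, rfl⟩
      exact ⟨g, hgS, (induced_iff Q g g.2 _).mpr rfl⟩
  rw [hset, Subgroup.closure_eq]

theorem pgoAut_eq (Q : (ι → F) → F) : Cfsg.pgoAut F Q = (cHom Q).range := by
  have h := autSub_eq Q (GO Q) le_rfl
  have h2 : (GO Q).subgroupOf (GO Q) = ⊤ := Subgroup.subgroupOf_self _
  rw [h2, ← MonoidHom.range_eq_map] at h
  exact h

theorem poAut_eq (Q : (ι → F) → F) :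
    Cfsg.poAut F Q = ((Cfsg.isometryGroup F Q).subgroupOf (GO Q)).map (cHom Q) :=
  autSub_eq Q _ (iso_le_GO Q)

theorem sIso_le_GO (Q : (ι → F) → F) : Cfsg.specialIsometryGL F Q ≤ GO Q :=
  le_trans inf_le_left (iso_le_GO Q)

theorem psoAut_eq (Q : (ι → F) → F) :
    Cfsg.psoAut F Q = ((Cfsg.specialIsometryGL F Q).subgroupOf (GO Q)).map (cHom Q) :=
  autSub_eq Q _ (sIso_le_GO Q)

/-- `Ω` as a subgroup of `GL` -/
abbrev omGL (Q : (ι → F) → F) : Subgroup (GL ι F) :=
  (Cfsg.Omega F Q).map (Cfsg.isometryGroup F Q).subtype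

theorem omGL_le_iso (Q : (ι → F) → F) : omGL Q ≤ Cfsg.isometryGroup F Q := by
  rintro _ ⟨s, -, rfl⟩
  exact s.2

theorem omGL_le_GO (Q : (ι → F) → F) : omGL Q ≤ GO Q :=
  le_trans (omGL_le_iso Q) (iso_le_GO Q)

theorem inn_eq (Q : (ι → F) → F) :
    Cfsg.Inn (Cfsg.POmega F Q) = ((omGL Q).subgroupOf (GO Q)).map (cHom Q) := by
  ext β
  simp only [MonoidHom.mem_range, Subgroup.mem_map, Subgroup.mem_subgroupOf]
  constructor
  · rintro ⟨x, rfl⟩
    induction x using QuotientGroup.induction_on with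
    | H s =>
      refine ⟨⟨((s : ↥(Cfsg.isometryGroup F Q)) : GL ι F), omGL_le_GO Q ⟨s, s.2, rfl⟩⟩,
        ⟨s, s.2, rfl⟩, ?_⟩
      apply MulEquiv.ext
      intro y
      induction y using QuotientGroup.induction_on with
      | H t =>
        rw [cHom_mk, MulAut.conj_apply]
        rfl
  · rintro ⟨g, ⟨s, hs, hsg⟩, rfl⟩
    refine ⟨QuotientGroup.mk ⟨s, hs⟩, ?_⟩
    apply MulEquiv.ext
    intro y
    induction y using QuotientGroup.induction_on with
    | H t =>
      rw [cHom_mk, MulAut.conj_apply]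
      have : (MulAut.characteristic (Cfsg.Omega F Q) (conjO Q g) t) = ⟨s, hs⟩ * t * ⟨s, hs⟩⁻¹ := by
        apply Subtype.ext
        apply Subtype.ext
        rw [cHom_mk_coe, ← hsg]
        rfl
      rw [this]
      rfl

end Cfsg.Agent.Lib.Lead.OA
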