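import Mathlib
import Cfsg.Agent.Lib.Lead.OrthAut1
import Cfsg.Agent.Lib.Lead.OmegaCenter

set_option autoImplicit false

namespace Cfsg.Agent.Lib.Lead.OA

open Cfsg Cfsg.Agent.Lib.Helper16 Cfsg.Agent.Lib.helper6 Module Matrix

variable {ι : Type} [Fintype ι] [DecidableEq ι] {F : Type*} [Field F] [Fintype F]

/-- an automorphism that is trivial modulo the centre fixes all commutators -/
theorem aut_fix_comm {X : Type*} [Group X] (α : MulAut X)
    (h : ∀ s : X, (α s)⁻¹ * s ∈ Subgroup.center X) (a b : X) :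
    α (a * b * a⁻¹ * b⁻¹) = a * b * a⁻¹ * b⁻¹ := by
  have key : ∀ s : X, ∃ z : X, (∀ x, z * x = x * z) ∧ α s = s * z := by
    intro s
    refine ⟨s⁻¹ * α s, ?_, by group⟩
    have h1 := Subgroup.inv_mem _ (h s)
    have h2 : ((α s)⁻¹ * s)⁻¹ = s⁻¹ * α s := by group
    rw [h2] at h1
    intro x
    exact ((Subgroup.mem_center_iff.mp h1) x).symm
  obtain ⟨z₁, hz₁, e₁⟩ := key a
  obtain ⟨z₂, hz₂, e₂⟩ := key b
  rw [map_mul, map_mul, map_mul, map_inv, map_inv, e₁, e₂]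
  have h1 : a * z₁ * (b * z₂) = a * b * (z₁ * z₂) := by
    calc a * z₁ * (b * z₂) = a * (z₁ * b) * z₂ := by group
      _ = a * (b * z₁) * z₂ := by rw [hz₁ b]
      _ = a * b * (z₁ * z₂) := by group
  have h2 : (a * z₁)⁻¹ * (b * z₂)⁻¹ = (z₁ * z₂)⁻¹ * (a⁻¹ * b⁻¹) := by
    have h3 : b * z₂ * (a * z₁) = b * a * (z₁ * z₂) := by
      calc b * z₂ * (a * z₁) = b * (z₂ * a) * z₁ := by group
        _ = b * (a * z₂) * z₁ := by rw [hz₂ a]
        _ = b * a * (z₂ * z₁) := by group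
        _ = b * a * (z₁ * z₂) := by rw [hz₂ z₁]
    have h4 : (a * z₁)⁻¹ * (b * z₂)⁻¹ = (b * z₂ * (a * z₁))⁻¹ := by group
    rw [h4, h3]; group
  calc a * z₁ * (b * z₂) * (a * z₁)⁻¹ * (b * z₂)⁻¹
      = (a * z₁ * (b * z₂)) * ((a * z₁)⁻¹ * (b * z₂)⁻¹) := by group
    _ = a * b * a⁻¹ * b⁻¹ := by rw [h1, h2]; group

omit [Fintype ι] [DecidableEq ι] [Fintype F] in
theorem Q_sub_perp (Q : QuadraticForm F (ι → F)) (a b : ι → F)
    (hab : QuadraticMap.polar ⇑Q a b = 0) : Q (a - b) = Q a + Q b := by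
  rw [Q_sub' Q a b, hab, sub_zero]

/-- a product of two reflections in orthogonal vectors of the same norm is a commutator of
elements of `Ω` -/
theorem pair_comm (h2 : (2 : F) ≠ 0) (Q : QuadraticForm F (ι → F))
    (hQ : (QuadraticMap.polarBilin Q).Nondegenerate) (hn : 4 ≤ Fintype.card ι)
    (u u' : ι → F) (hu : Q u ≠ 0) (hu' : Q u' ≠ 0) (huu' : Q u' = Q u)
    (hp : QuadraticMap.polar ⇑Q u u' = 0) :
    ∃ a b : ↥(Cfsg.isometryGroup F ⇑Q), a ∈ Cfsg.Omega F ⇑Q ∧ b ∈ Cfsg.Omega F ⇑Q ∧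
      a * b * a⁻¹ * b⁻¹ = reflG Q u' hu' * reflG Q u hu := by
  obtain ⟨v, hv, huv, hu'v⟩ := OC.exists_perp_norm h2 Q hQ u u' hu (Or.inr ⟨hu', hp⟩) hn (Q u) hu
  have hv0 : Q v ≠ 0 := by rw [hv]; exact hu
  have h2Q : Q u + Q u ≠ 0 := by
    rw [← two_mul]; exact mul_ne_zero h2 hu
  have hw₁ : Q (u - v) = Q u + Q u := by rw [Q_sub_perp Q u v huv, hv]
  have hw₂ : Q (v - u') = Q u + Q u := by
    rw [Q_sub_perp Q v u' (by rw [QuadraticMap.polar_comm]; exact hu'v), hv, huu']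
  have hw₁0 : Q (u - v) ≠ 0 := by rw [hw₁]; exact h2Q
  have hw₂0 : Q (v - u') ≠ 0 := by rw [hw₂]; exact h2Q
  set a := reflG Q (u - v) hw₁0 * reflG Q (v - u') hw₂0 with ha
  set b := reflG Q u hu * reflG Q v hv0 with hb
  have haΩ : a ∈ Cfsg.Omega F ⇑Q := OC.pair_mem_omega h2 Q _ _ hw₁0 hw₂0 (by rw [hw₁, hw₂])
  have hbΩ : b ∈ Cfsg.Omega F ⇑Q := OC.pair_mem_omega h2 Q _ _ hu hv0 hv
  have hau : ((a : Matrix.GeneralLinearGroup ι F) : Matrix ι ι F) *ᵥ u = v := by
    rw [ha, iso_mul_coe, reflG_coe, reflG_coe, ← Matrix.mulVec_mulVec,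
      OC.refl_perp Q (v - u') u (by
        rw [QuadraticMap.polar_sub_left, QuadraticMap.polar_comm (⇑Q) v u, huv,
          QuadraticMap.polar_comm (⇑Q) u' u, hp, sub_zero])]
    exact refl_swap_sub' Q v u hv.symm hw₁0
  have hav : ((a : Matrix.GeneralLinearGroup ι F) : Matrix ι ι F) *ᵥ v = u' := by
    rw [ha, iso_mul_coe, reflG_coe, reflG_coe, ← Matrix.mulVec_mulVec,
      refl_swap_sub' Q u' v (by rw [hv, huu']) hw₂0,
      OC.refl_perp Q (u - v) u' (by
        rw [QuadraticMap.polar_sub_left, hp, QuadraticMap.polar_comm (⇑Q) v u', hu'v, sub_zero])]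
  have hau0 : Q (((a : Matrix.GeneralLinearGroup ι F) : Matrix ι ι F) *ᵥ u) ≠ 0 := by
    rw [hau]; exact hv0
  have hav0 : Q (((a : Matrix.GeneralLinearGroup ι F) : Matrix ι ι F) *ᵥ v) ≠ 0 := by
    rw [hav]; exact hu'
  have hc1 : a * reflG Q u hu * a⁻¹ = reflG Q v hv0 := by
    rw [refl_conj Q a u hu hau0]
    apply iso_ext'
    rw [reflG_coe, reflG_coe, hau]
  have hc2 : a * reflG Q v hv0 * a⁻¹ = reflG Q u' hu' := by
    rw [refl_conj Q a v hv0 hav0]
    apply iso_ext'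
    rw [reflG_coe, reflG_coe, hav]
  have hvu' : ((reflG Q v hv0 : Matrix.GeneralLinearGroup ι F) : Matrix ι ι F) *ᵥ u' = u' := by
    rw [reflG_coe]
    exact OC.refl_perp Q v u' (by rw [QuadraticMap.polar_comm]; exact hu'v)
  have hvu'0 : Q (((reflG Q v hv0 : Matrix.GeneralLinearGroup ι F) : Matrix ι ι F) *ᵥ u') ≠ 0 := by
    rw [hvu']; exact hu'
  have hc3 : reflG Q v hv0 * reflG Q u' hu' * (reflG Q v hv0)⁻¹ = reflG Q u' hu' := by
    rw [refl_conj Q _ u' hu' hvu'0]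
    apply iso_ext'
    rw [reflG_coe, reflG_coe]
    rw [reflG_coe] at hvu'
    rw [hvu', reflG_coe]
  refine ⟨a, b, haΩ, hbΩ, ?_⟩
  have hbinv : b⁻¹ = reflG Q v hv0 * reflG Q u hu := by
    rw [hb, _root_.mul_inv_rev, reflG_inv, reflG_inv]
  have h5 : a * b * a⁻¹ = reflG Q v hv0 * reflG Q u' hu' := by
    calc a * b * a⁻¹ = (a * reflG Q u hu * a⁻¹) * (a * reflG Q v hv0 * a⁻¹) := by
          rw [hb]; group
      _ = reflG Q v hv0 * reflG Q u' hu' := by rw [hc1, hc2]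
  rw [h5, hbinv]
  calc reflG Q v hv0 * reflG Q u' hu' * (reflG Q v hv0 * reflG Q u hu)
      = (reflG Q v hv0 * reflG Q u' hu' * (reflG Q v hv0)⁻¹) * reflG Q u hu := by
        rw [reflG_inv]; group
    _ = reflG Q u' hu' * reflG Q u hu := by rw [hc3]

/-- a matrix commuting with the products `r_u r_v` maps `u` into the span of `u, v` -/
theorem mem_span_pair_of_comm (h2 : (2 : F) ≠ 0) (Q : QuadraticForm F (ι → F)) (Z : Matrix ι ι F)
    (u v : ι → F) (hu : Q u ≠ 0) (hp : QuadraticMap.polar ⇑Q u v = 0)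
    (hc : Z * (Cfsg.reflectionMatrix ⇑Q u * Cfsg.reflectionMatrix ⇑Q v) =
      (Cfsg.reflectionMatrix ⇑Q u * Cfsg.reflectionMatrix ⇑Q v) * Z) :
    ∃ a b : F, Z *ᵥ u = a • u + b • v := by
  apply OC.neg_eigen h2 Q u v
  have hc' : (Z * (Cfsg.reflectionMatrix ⇑Q u * Cfsg.reflectionMatrix ⇑Q v)) *ᵥ u =
      ((Cfsg.reflectionMatrix ⇑Q u * Cfsg.reflectionMatrix ⇑Q v) * Z) *ᵥ u := by rw [hc]
  rw [← Matrix.mulVec_mulVec, ← Matrix.mulVec_mulVec, ← Matrix.mulVec_mulVec,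
    ← Matrix.mulVec_mulVec,
    OC.refl_perp Q v u (by rw [QuadraticMap.polar_comm]; exact hp), OC.refl_self h2 Q u hu,
    Matrix.mulVec_neg] at hc'
  exact hc'.symm

theorem fix_line_of_comm (h2 : (2 : F) ≠ 0) (Q : QuadraticForm F (ι → F))
    (hQ : (QuadraticMap.polarBilin Q).Nondegenerate) (hn : 4 ≤ Fintype.card ι)
    (Z : Matrix ι ι F)
    (hZ : ∀ u v : ι → F, Q u ≠ 0 → Q v = Q u → QuadraticMap.polar ⇑Q u v = 0 →
      Z * (Cfsg.reflectionMatrix ⇑Q u * Cfsg.reflectionMatrix ⇑Q v) =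
      (Cfsg.reflectionMatrix ⇑Q u * Cfsg.reflectionMatrix ⇑Q v) * Z)
    (u : ι → F) (hu : Q u ≠ 0) :
    ∃ a : F, Z *ᵥ u = a • u := by
  obtain ⟨v, hv, huv, -⟩ := OC.exists_perp_norm h2 Q hQ u 0 hu (Or.inl rfl) hn (Q u) hu
  have hv0 : Q v ≠ 0 := by rw [hv]; exact hu
  obtain ⟨v', hv', huv', hvv'⟩ :=
    OC.exists_perp_norm h2 Q hQ u v hu (Or.inr ⟨hv0, huv⟩) hn (Q u) hu
  obtain ⟨a, b, hab⟩ := mem_span_pair_of_comm h2 Q Z u v hu huv (hZ u v hu hv huv)
  obtain ⟨a', b', hab'⟩ := mem_span_pair_of_comm h2 Q Z u v' hu huv' (hZ u v' hu hv' huv')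
  refine ⟨a, ?_⟩
  have h1 : QuadraticMap.polar ⇑Q (Z *ᵥ u) v = b * QuadraticMap.polar ⇑Q v v := by
    rw [hab, QuadraticMap.polar_add_left, QuadraticMap.polar_smul_left, QuadraticMap.polar_smul_left,
      huv, smul_zero, zero_add, smul_eq_mul]
  have h2' : QuadraticMap.polar ⇑Q (Z *ᵥ u) v = 0 := by
    rw [hab', QuadraticMap.polar_add_left, QuadraticMap.polar_smul_left, QuadraticMap.polar_smul_left,
      huv, QuadraticMap.polar_comm (⇑Q) v' v, hvv', smul_zero, smul_zero, add_zero]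
  rw [h2'] at h1
  have hb : b = 0 := by
    rcases mul_eq_zero.mp h1.symm with h | h
    · exact h
    · exact absurd h (OC.polar_self_ne h2 Q v hv0)
  rw [hab, hb, zero_smul, add_zero]

theorem scalar_of_comm (h2 : (2 : F) ≠ 0) (Q : QuadraticForm F (ι → F))
    (hQ : (QuadraticMap.polarBilin Q).Nondegenerate) (hn : 4 ≤ Fintype.card ι)
    (Z : Matrix ι ι F)
    (hZ : ∀ u v : ι → F, Q u ≠ 0 → Q v = Q u → QuadraticMap.polar ⇑Q u v = 0 →
      Z * (Cfsg.reflectionMatrix ⇑Q u * Cfsg.reflectionMatrix ⇑Q v) =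
      (Cfsg.reflectionMatrix ⇑Q u * Cfsg.reflectionMatrix ⇑Q v) * Z) :
    ∃ a : F, Z = a • (1 : Matrix ι ι F) := by
  classical
  have : Invertible (2 : F) := invertibleOfNonzero h2
  have hsymm : LinearMap.IsSymm (QuadraticMap.polarBilin Q) :=
    LinearMap.BilinForm.isSymm_iff.mp (polarBilin_isSymm Q)
  obtain ⟨v, hv⟩ := LinearMap.BilinForm.exists_orthogonal_basis hsymm
  have hfr : Module.finrank F (ι → F) = Fintype.card ι := Module.finrank_fintype_fun_eq_card F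
  have hortho : ∀ i j, i ≠ j → QuadraticMap.polar (⇑Q) (v i) (v j) = 0 := fun i j hij => hv hij
  have hself : ∀ i, QuadraticMap.polarBilin Q (v i) (v i) ≠ 0 :=
    fun i => LinearMap.BilinForm.iIsOrtho.not_isOrtho_basis_self_of_nondegenerate hv hQ i
  have hQv : ∀ i, Q (v i) ≠ 0 := by
    intro i h0
    apply hself i
    rw [QuadraticMap.polarBilin_apply_apply, QuadraticMap.polar_self, h0, smul_zero]
  have hline : ∀ u : ι → F, Q u ≠ 0 → ∃ a : F, Z *ᵥ u = a • u :=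
    fun u hu => fix_line_of_comm h2 Q hQ hn Z hZ u hu
  choose lam hlam using fun i => hline (v i) (hQv i)
  have hpos : 0 < Module.finrank F (ι → F) := by omega
  have heq : ∀ i j, i ≠ j → lam i = lam j := by
    intro i j hij
    by_cases hs : Q (v i) + Q (v j) = 0
    · have hk : ∃ k, k ≠ i ∧ k ≠ j := by
        by_contra hcon
        push Not at hcon
        have hsub : (Finset.univ : Finset (Fin (Module.finrank F (ι → F)))) ⊆ {i, j} := by
          intro k _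
          by_cases hki : k = i
          · simp [hki]
          · simp [hcon k hki]
        have := Finset.card_le_card hsub
        rw [Finset.card_univ, Fintype.card_fin] at this
        have h3 : ({i, j} : Finset (Fin (Module.finrank F (ι → F)))).card ≤ 2 := Finset.card_le_two
        omega
      obtain ⟨k, hki, hkj⟩ := hk
      have hQs : Q (v i + v j + v k) ≠ 0 := by
        rw [OC.Q_add3 Q _ _ _ (hortho i j hij) (hortho i k hki.symm) (hortho j k hkj.symm), hs,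
          zero_add]
        exact hQv k
      obtain ⟨e, he⟩ := hline _ hQs
      have h1 := OC.eigen_eq h2 Q Z (v i) (v j) (v k) (hQv i) (hortho i j hij) (hortho i k hki.symm)
        (lam i) (lam j) (lam k) e (hlam i) (hlam j) (hlam k) he
      have he' : Z *ᵥ (v j + v i + v k) = e • (v j + v i + v k) := by
        rw [add_comm (v j) (v i)]; exact he
      have h2' := OC.eigen_eq h2 Q Z (v j) (v i) (v k) (hQv j) (hortho j i hij.symm)
        (hortho j k hkj.symm) (lam j) (lam i) (lam k) e (hlam j) (hlam i) (hlam k) he'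
      rw [h1, h2']
    · have hQs : Q (v i + v j + 0) ≠ 0 := by
        rw [add_zero]
        have e2 : Q (v i + v j) = Q (v i) + Q (v j) + QuadraticMap.polar ⇑Q (v i) (v j) := by
          unfold QuadraticMap.polar; ring
        rw [e2, hortho i j hij, add_zero]
        exact hs
      obtain ⟨e, he⟩ := hline _ hQs
      have hz0 : Z *ᵥ (0 : ι → F) = (0 : F) • (0 : ι → F) := by simp
      have hp0 : ∀ x : ι → F, QuadraticMap.polar ⇑Q x 0 = 0 := fun x => by
        simp [QuadraticMap.polar]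
      have h1 := OC.eigen_eq h2 Q Z (v i) (v j) 0 (hQv i) (hortho i j hij) (hp0 _)
        (lam i) (lam j) 0 e (hlam i) (hlam j) hz0 he
      have he' : Z *ᵥ (v j + v i + 0) = e • (v j + v i + 0) := by
        rw [add_comm (v j) (v i)]; exact he
      have h2' := OC.eigen_eq h2 Q Z (v j) (v i) 0 (hQv j) (hortho j i hij.symm) (hp0 _)
        (lam j) (lam i) 0 e (hlam j) (hlam i) hz0 he'
      rw [h1, h2']
  set i0 : Fin (Module.finrank F (ι → F)) := ⟨0, hpos⟩ with hi0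
  refine ⟨lam i0, ?_⟩
  have hL : Matrix.mulVecLin Z = lam i0 • LinearMap.id := by
    apply v.ext
    intro j
    rw [Matrix.mulVecLin_apply, hlam j]
    by_cases hj : j = i0
    · rw [hj]; simp
    · rw [heq j i0 hj]; simp
  rw [Matrix.ext_iff_mulVec]
  intro x
  have := congrArg (fun L => L x) hL
  simp only [Matrix.mulVecLin_apply, LinearMap.smul_apply, LinearMap.id_apply] at this
  rw [this, Matrix.smul_mulVec, Matrix.one_mulVec]


/-- the kernel of the conjugation action on `PΩ` consists of the scalar similarities -/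
theorem cHom_eq_one_iff (h2 : (2 : F) ≠ 0) (Q : QuadraticForm F (ι → F))
    (hQ : (QuadraticMap.polarBilin Q).Nondegenerate) (hn : 4 ≤ Fintype.card ι)
    (g : ↥(GO (⇑Q : (ι → F) → F))) :
    cHom (⇑Q : (ι → F) → F) g = 1 ↔
      ∃ a : F, (((g : GL ι F)) : Matrix ι ι F) = a • (1 : Matrix ι ι F) := by
  constructor
  · intro hg
    set α : MulAut ↥(Cfsg.Omega F (⇑Q : (ι → F) → F)) :=
      MulAut.characteristic (Cfsg.Omega F (⇑Q : (ι → F) → F)) (conjO (⇑Q : (ι → F) → F) g) with hα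
    have h : ∀ s : ↥(Cfsg.Omega F (⇑Q : (ι → F) → F)), (α s)⁻¹ * s ∈
        Subgroup.center ↥(Cfsg.Omega F (⇑Q : (ι → F) → F)) := by
      intro s
      have h1 : cHom (⇑Q : (ι → F) → F) g (QuotientGroup.mk s) = QuotientGroup.mk s := by
        rw [hg]; rfl
      rw [cHom_mk] at h1
      exact QuotientGroup.eq.mp h1
    apply scalar_of_comm h2 Q hQ hn
    intro u v hu hv hp
    have hv0 : Q v ≠ 0 := by rw [hv]; exact hu
    obtain ⟨a, b, ha, hb, hab⟩ := pair_comm h2 Q hQ hn v u hv0 hu hv.symm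
      (by rw [QuadraticMap.polar_comm]; exact hp)
    have h3 := aut_fix_comm α h ⟨a, ha⟩ ⟨b, hb⟩
    have h4 := congrArg (fun x : ↥(Cfsg.Omega F (⇑Q : (ι → F) → F)) =>
      (((x : ↥(Cfsg.isometryGroup F (⇑Q : (ι → F) → F))) : GL ι F))) h3
    have h5 : (g : GL ι F) * ((a * b * a⁻¹ * b⁻¹ : ↥(Cfsg.isometryGroup F (⇑Q : (ι → F) → F))) :
        GL ι F) * (g : GL ι F)⁻¹ =
        ((a * b * a⁻¹ * b⁻¹ : ↥(Cfsg.isometryGroup F (⇑Q : (ι → F) → F))) : GL ι F) := h4
    rw [hab] at h5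
    have h6 := mul_inv_eq_iff_eq_mul.mp h5
    have h7 := congrArg (fun x : GL ι F => (x : Matrix ι ι F)) h6
    simp only [Units.val_mul] at h7
    rw [show (((reflG Q u hu * reflG Q v hv0 : ↥(Cfsg.isometryGroup F (⇑Q : (ι → F) → F))) :
        GL ι F) : Matrix ι ι F) = Cfsg.reflectionMatrix ⇑Q u * Cfsg.reflectionMatrix ⇑Q v from rfl]
      at h7
    exact h7
  · rintro ⟨a, ha⟩
    apply MulEquiv.ext
    intro x
    induction x using QuotientGroup.induction_on with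
    | H s =>
      rw [cHom_mk]
      show _ = QuotientGroup.mk s
      congr 1
      apply Subtype.ext
      apply Subtype.ext
      rw [cHom_mk_coe, mul_inv_eq_iff_eq_mul]
      apply Units.ext
      rw [Units.val_mul, Units.val_mul, ha, Matrix.smul_mul, Matrix.mul_smul, Matrix.one_mul,
        Matrix.mul_one]

end Cfsg.Agent.Lib.Lead.OA
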