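import Mathlib
import Cfsg.Agent.Lib.Lead.OrthAut2
import Cfsg.Agent.Lib.Helper16.ReflList
import Cfsg.Agent.Lib.Helper16.CDG

set_option autoImplicit false

namespace Cfsg.Agent.Lib.Lead.OA

open Cfsg Cfsg.Agent.Lib.Helper16 Cfsg.Agent.Lib.helper6 Module Matrix

/-! ### abstract lemmas -/

/-- transfer of a quotient description along a homomorphism -/
theorem lemmaA {A B C : Type*} [Group A] [Group B] [Group C] (c : A →* B) (S : Subgroup A)
    (ψ : A →* C) (hψ : Function.Surjective ψ) (hS : S ≤ ψ.ker) (hK : c.ker ≤ ψ.ker)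
    (hker : ∀ a ∈ ψ.ker, ∃ s ∈ S, c s = c a) :
    ∃ φ : ↥c.range →* C, Function.Surjective φ ∧ φ.ker = (S.map c).subgroupOf c.range := by
  let φ : ↥c.range →* C :=
    (QuotientGroup.lift c.ker ψ hK).comp (QuotientGroup.quotientKerEquivRange c).symm.toMonoidHom
  have hφ : ∀ a : A, φ ⟨c a, ⟨a, rfl⟩⟩ = ψ a := by
    intro a
    have h1 : (QuotientGroup.quotientKerEquivRange c).symm ⟨c a, ⟨a, rfl⟩⟩ =
        (QuotientGroup.mk a : A ⧸ c.ker) := by
      rw [MulEquiv.symm_apply_eq]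
      rfl
    show (QuotientGroup.lift c.ker ψ hK) ((QuotientGroup.quotientKerEquivRange c).symm _) = _
    rw [h1]
    rfl
  refine ⟨φ, ?_, ?_⟩
  · intro y
    obtain ⟨a, rfl⟩ := hψ y
    exact ⟨⟨c a, ⟨a, rfl⟩⟩, hφ a⟩
  · ext ⟨x, a, rfl⟩
    rw [MonoidHom.mem_ker, hφ, Subgroup.mem_subgroupOf, Subgroup.mem_map]
    constructor
    · intro h
      obtain ⟨s, hs, hsa⟩ := hker a (MonoidHom.mem_ker.mpr h)
      exact ⟨s, hs, hsa⟩
    · rintro ⟨s, hs, hsa⟩
      have h1 : s⁻¹ * a ∈ c.ker := by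
        rw [MonoidHom.mem_ker, map_mul, map_inv, hsa]
        exact inv_mul_cancel _
      have h2 := hK h1
      have h3 := hS hs
      rw [MonoidHom.mem_ker] at h2 h3
      rw [map_mul, map_inv, h3, inv_one, one_mul] at h2
      exact h2

/-- a quotient isomorphism gives a surjection with the right kernel -/
theorem lemmaB {P C : Type*} [Group P] [Group C] (I : Subgroup P) [I.Normal]
    (e : P ⧸ I ≃* C) : ∃ φ : P →* C, Function.Surjective φ ∧ φ.ker = I := by
  refine ⟨e.toMonoidHom.comp (QuotientGroup.mk' I), ?_, ?_⟩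
  · intro y
    obtain ⟨x, hx⟩ := QuotientGroup.mk'_surjective I (e.symm y)
    refine ⟨x, ?_⟩
    show e (QuotientGroup.mk' I x) = y
    rw [hx, MulEquiv.apply_symm_apply]
  · ext x
    rw [MonoidHom.mem_ker, MonoidHom.comp_apply]
    simp

theorem inn_normal (X : Type*) [Group X] : (Cfsg.Inn X).Normal := by
  constructor
  rintro _ ⟨x, rfl⟩ g
  refine ⟨g x, ?_⟩
  apply MulEquiv.ext
  intro y
  simp [MulAut.conj_apply]

theorem expZ : Monoid.exponent ℤˣ = 2 := by
  have : Nontrivial ℤˣ := ⟨⟨1, -1, by decide⟩⟩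
  apply (Monoid.exponent_eq_prime_iff Nat.prime_two).mpr
  intro g hg
  apply orderOf_eq_prime
  · exact Int.units_sq g
  · exact hg

theorem kleinZ : IsKleinFour (ℤˣ × ℤˣ) where
  card_four := by simp
  exponent_two := by rw [Monoid.exponent_prod, expZ]; rfl

theorem exists_isoZ : Nonempty (ℤˣ × ℤˣ ≃* Multiplicative (ZMod 2 × ZMod 2)) := by
  have := kleinZ
  exact IsKleinFour.nonempty_mulEquiv


/-! ### the multiplier -/

section Mult

variable {ι : Type} [Fintype ι] [DecidableEq ι] {F : Type*} [Field F]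
variable (Q : QuadraticForm F (ι → F))

/-- the similarity group of a quadratic form -/
abbrev GOq (Q : QuadraticForm F (ι → F)) : Subgroup (GL ι F) := GO (⇑Q : (ι → F) → F)

noncomputable def mult (g : ↥(GOq Q)) : Fˣ := Classical.choose g.2

theorem mult_spec (g : ↥(GOq Q)) (v : ι → F) :
    Q (((g : GL ι F) : Matrix ι ι F) *ᵥ v) = (mult Q g : F) * Q v :=
  Classical.choose_spec g.2 v

theorem mult_unique (hne : ∃ v, Q v ≠ 0) (g : ↥(GOq Q)) (c : Fˣ)
    (hc : ∀ v, Q (((g : GL ι F) : Matrix ι ι F) *ᵥ v) = (c : F) * Q v) : mult Q g = c := by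
  obtain ⟨v, hv⟩ := hne
  apply Units.ext
  have h1 := mult_spec Q g v
  rw [hc v] at h1
  exact (mul_right_cancel₀ hv h1).symm

noncomputable def multHom (hne : ∃ v, Q v ≠ 0) : ↥(GOq Q) →* Fˣ where
  toFun := mult Q
  map_one' := mult_unique Q hne 1 1 (fun v => by simp)
  map_mul' := fun a b => mult_unique Q hne (a * b) (mult Q a * mult Q b) (fun v => by
    rw [Subgroup.coe_mul, Units.val_mul, ← Matrix.mulVec_mulVec, mult_spec, mult_spec,
      Units.val_mul, mul_assoc])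

theorem multHom_apply (hne : ∃ v, Q v ≠ 0) (g : ↥(GOq Q)) : multHom Q hne g = mult Q g := rfl

theorem polar_sim (g : ↥(GOq Q)) (x y : ι → F) :
    QuadraticMap.polar ⇑Q (((g : GL ι F) : Matrix ι ι F) *ᵥ x)
      (((g : GL ι F) : Matrix ι ι F) *ᵥ y) = (mult Q g : F) * QuadraticMap.polar ⇑Q x y := by
  unfold QuadraticMap.polar
  rw [← Matrix.mulVec_add, mult_spec, mult_spec, mult_spec]
  ring

theorem mult_eq_one_iff (hne : ∃ v, Q v ≠ 0) (g : ↥(GOq Q)) :
    mult Q g = 1 ↔ (g : GL ι F) ∈ Cfsg.isometryGroup F (⇑Q : (ι → F) → F) := by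
  rw [mem_iso_iff']
  constructor
  · intro h v
    rw [mult_spec, h, Units.val_one, one_mul]
  · intro h
    exact mult_unique Q hne g 1 (fun v => by rw [h v, Units.val_one, one_mul])

/-- the scalar similarities -/
noncomputable def scalGO (a : Fˣ) : ↥(GOq Q) :=
  ⟨Matrix.GeneralLinearGroup.scalar ι a, ⟨a * a, fun v => by
    rw [Matrix.GeneralLinearGroup.coe_scalar, Matrix.scalar_apply, ← Matrix.smul_one_eq_diagonal,
      Matrix.smul_mulVec, Matrix.one_mulVec, QuadraticMap.map_smul, Units.val_mul, smul_eq_mul]⟩⟩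

theorem scalGO_coe (a : Fˣ) :
    (((scalGO Q a : ↥(GOq Q)) : GL ι F) : Matrix ι ι F) = (a : F) • (1 : Matrix ι ι F) := by
  show ((Matrix.GeneralLinearGroup.scalar ι a : GL ι F) : Matrix ι ι F) = _
  rw [Matrix.GeneralLinearGroup.coe_scalar, Matrix.scalar_apply, ← Matrix.smul_one_eq_diagonal]

theorem mult_scalGO (hne : ∃ v, Q v ≠ 0) (a : Fˣ) : mult Q (scalGO Q a) = a * a :=
  mult_unique Q hne _ _ (fun v => by
    rw [scalGO_coe, Matrix.smul_mulVec, Matrix.one_mulVec, QuadraticMap.map_smul, Units.val_mul,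
      smul_eq_mul])

theorem mult_of_scalar (hne : ∃ v, Q v ≠ 0) (g : ↥(GOq Q)) (a : F)
    (ha : (((g : GL ι F)) : Matrix ι ι F) = a • (1 : Matrix ι ι F)) :
    (mult Q g : F) = a * a := by
  obtain ⟨v, hv⟩ := hne
  have h1 := mult_spec Q g v
  rw [ha, Matrix.smul_mulVec, Matrix.one_mulVec, QuadraticMap.map_smul, smul_eq_mul] at h1
  exact (mul_right_cancel₀ hv h1).symm

noncomputable def detGO : ↥(GOq Q) →* Fˣ :=
  Matrix.GeneralLinearGroup.det.comp (Subgroup.subtype _)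

theorem detGO_coe (g : ↥(GOq Q)) : ((detGO Q g : Fˣ) : F) = (((g : GL ι F)) : Matrix ι ι F).det := rfl

end Mult

end Cfsg.Agent.Lib.Lead.OA
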