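import Mathlib
import Cfsg.Agent.Lib.Lead.OrthAut3

set_option autoImplicit false
set_option linter.unusedSectionVars false

namespace Cfsg.Agent.Lib.Lead.OA

open Cfsg Cfsg.Agent.Lib.Helper16 Cfsg.Agent.Lib.helper6 Module Matrix

variable {ι : Type} [Fintype ι] [DecidableEq ι] {F : Type*} [Field F] [Fintype F]
variable (Q : QuadraticForm F (ι → F))

theorem exists_ne_zero (h2 : (2 : F) ≠ 0) (hQ : (QuadraticMap.polarBilin Q).Nondegenerate)
    (hn : 1 ≤ Fintype.card ι) : ∃ v, Q v ≠ 0 := by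
  classical
  have : Invertible (2 : F) := invertibleOfNonzero h2
  have hsymm : LinearMap.IsSymm (QuadraticMap.polarBilin Q) :=
    LinearMap.BilinForm.isSymm_iff.mp (polarBilin_isSymm Q)
  obtain ⟨v, hv⟩ := LinearMap.BilinForm.exists_orthogonal_basis hsymm
  have hfr : Module.finrank F (ι → F) = Fintype.card ι := Module.finrank_fintype_fun_eq_card F
  have hself : ∀ i, QuadraticMap.polarBilin Q (v i) (v i) ≠ 0 :=
    fun i => LinearMap.BilinForm.iIsOrtho.not_isOrtho_basis_self_of_nondegenerate hv hQ i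
  have hpos : 0 < Module.finrank F (ι → F) := by omega
  refine ⟨v ⟨0, hpos⟩, ?_⟩
  intro h0
  apply hself ⟨0, hpos⟩
  rw [QuadraticMap.polarBilin_apply_apply, QuadraticMap.polar_self, h0, smul_zero]

theorem exists_norm (h2 : (2 : F) ≠ 0) (hQ : (QuadraticMap.polarBilin Q).Nondegenerate)
    (hn : 4 ≤ Fintype.card ι) (d : F) (hd : d ≠ 0) : ∃ z, Q z = d := by
  obtain ⟨u, hu⟩ := exists_ne_zero Q h2 hQ (by omega)
  obtain ⟨z, hz, -, -⟩ := OC.exists_perp_norm h2 Q hQ u 0 hu (Or.inl rfl) hn d hd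
  exact ⟨z, hz⟩

theorem exists_list' (h2 : (2 : F) ≠ 0) (hQ : (QuadraticMap.polarBilin Q).Nondegenerate)
    (g : ↥(Cfsg.isometryGroup F (⇑Q : (ι → F) → F))) :
    ∃ vs : List (ι → F), (∀ v ∈ vs, Q v ≠ 0) ∧ g = (vs.map (reflG' Q)).prod :=
  exists_list_of_gen Q (CDG.cartan_dieudonne h2 Q hQ) g

theorem isoDet_pm' (h2 : (2 : F) ≠ 0) (hQ : (QuadraticMap.polarBilin Q).Nondegenerate)
    (g : ↥(Cfsg.isometryGroup F (⇑Q : (ι → F) → F))) :
    isoDet (⇑Q) g = 1 ∨ isoDet (⇑Q) g = -1 := by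
  obtain ⟨vs, hvs, rfl⟩ := exists_list' Q h2 hQ g
  rw [isoDet_prod Q vs hvs]
  exact neg_one_pow_eq_or Fˣ vs.length

theorem neg_one_ne_one (h2 : (2 : F) ≠ 0) : (-1 : Fˣ) ≠ 1 := by
  intro h
  have h3 := congrArg Units.val h
  simp only [Units.val_neg, Units.val_one] at h3
  apply h2
  linear_combination -h3

theorem sqSign_eq_one_iff (x : F) : sqSign x = 1 ↔ IsSquare x := by
  classical
  unfold sqSign
  constructor
  · intro h
    by_contra hx
    rw [if_neg hx] at h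
    exact absurd h (by decide)
  · intro h
    rw [if_pos h]

section Homs


/-- square class of the multiplier -/
noncomputable def psi1 (hne : ∃ v, Q v ≠ 0) : ↥(GOq Q) →* ℤˣ :=
  MonoidHom.mk' (fun g => sqSign (mult Q g : F)) (fun a b => by
    have h : mult Q (a * b) = mult Q a * mult Q b := map_mul (multHom Q hne) a b
    show sqSign ((mult Q (a * b) : Fˣ) : F) = _
    rw [h, Units.val_mul, sqSign_mul (Units.ne_zero _) (Units.ne_zero _)])

theorem psi1_apply (hne : ∃ v, Q v ≠ 0) (g : ↥(GOq Q)) : psi1 Q hne g = sqSign (mult Q g : F) := rfl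

/-- `det g / mult g ^ m` -/
noncomputable def eps (hne : ∃ v, Q v ≠ 0) (m : ℕ) : ↥(GOq Q) →* Fˣ :=
  MonoidHom.mk' (fun g => detGO Q g * ((mult Q g) ^ m)⁻¹) (fun a b => by
    have h : mult Q (a * b) = mult Q a * mult Q b := map_mul (multHom Q hne) a b
    show detGO Q (a * b) * ((mult Q (a * b)) ^ m)⁻¹ = _
    rw [map_mul, h, mul_pow, mul_inv, mul_mul_mul_comm])

theorem eps_apply (hne : ∃ v, Q v ≠ 0) (m : ℕ) (g : ↥(GOq Q)) :
    eps Q hne m g = detGO Q g * ((mult Q g) ^ m)⁻¹ := rfl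

theorem eps_scal (hne : ∃ v, Q v ≠ 0) (m : ℕ) (hcard : Fintype.card ι = 2 * m) (a : Fˣ) :
    eps Q hne m (scalGO Q a) = 1 := by
  rw [eps_apply, mult_scalGO Q hne]
  have h1 : detGO Q (scalGO Q a) = a ^ (2 * m) := by
    apply Units.ext
    rw [detGO_coe, scalGO_coe, Matrix.det_smul, Matrix.det_one, mul_one, hcard, Units.val_pow_eq_pow_val]
  rw [h1, ← pow_two, ← pow_mul]
  exact mul_inv_cancel _

/-- an isometry as a similarity -/
def isoToGO : ↥(Cfsg.isometryGroup F (⇑Q : (ι → F) → F)) →* ↥(GOq Q) :=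
  Subgroup.inclusion (iso_le_GO _)

theorem isoToGO_coe (h : ↥(Cfsg.isometryGroup F (⇑Q : (ι → F) → F))) :
    ((isoToGO Q h : ↥(GOq Q)) : GL ι F) = (h : GL ι F) := rfl

theorem mult_iso (hne : ∃ v, Q v ≠ 0) (h : ↥(Cfsg.isometryGroup F (⇑Q : (ι → F) → F))) : mult Q (isoToGO Q h) = 1 :=
  (mult_eq_one_iff Q hne _).mpr h.2

theorem eps_iso (hne : ∃ v, Q v ≠ 0) (m : ℕ) (h : ↥(Cfsg.isometryGroup F (⇑Q : (ι → F) → F))) :
    eps Q hne m (isoToGO Q h) = isoDet (⇑Q) h := by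
  rw [eps_apply, mult_iso Q hne, one_pow, inv_one, mul_one]
  rfl

theorem eps_of_sq (hne : ∃ v, Q v ≠ 0) (h2 : (2 : F) ≠ 0) (hQ : (QuadraticMap.polarBilin Q).Nondegenerate)
    (m : ℕ) (hcard : Fintype.card ι = 2 * m) (g : ↥(GOq Q)) (hg : IsSquare (mult Q g : F)) :
    eps Q hne m g = 1 ∨ eps Q hne m g = -1 := by
  obtain ⟨μ, hμ⟩ := hg
  have hμ0 : μ ≠ 0 := by
    rintro rfl
    rw [mul_zero] at hμ
    exact Units.ne_zero _ hμ
  set a : Fˣ := Units.mk0 μ hμ0 with ha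
  set s := scalGO Q a⁻¹ * g with hs
  have hms : mult Q s = 1 := by
    have h : mult Q s = mult Q (scalGO Q a⁻¹) * mult Q g := map_mul (multHom Q hne) _ _
    rw [h, mult_scalGO Q hne]
    apply Units.ext
    rw [Units.val_mul, Units.val_mul, hμ, ha]
    simp only [Units.val_inv_eq_inv_val, Units.val_mk0, Units.val_one]
    field_simp
  have hsO := (mult_eq_one_iff Q hne s).mp hms
  have h1 : eps Q hne m s = eps Q hne m g := by
    rw [hs, map_mul, eps_scal Q hne m hcard, one_mul]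
  have h2' : eps Q hne m s = isoDet (⇑Q) ⟨(s : GL ι F), hsO⟩ := eps_iso Q hne m ⟨(s : GL ι F), hsO⟩
  rw [← h1, h2']
  exact isoDet_pm' Q h2 hQ _

theorem eps_pm (hne : ∃ v, Q v ≠ 0) (h2 : (2 : F) ≠ 0) (hQ : (QuadraticMap.polarBilin Q).Nondegenerate)
    (m : ℕ) (hcard : Fintype.card ι = 2 * m) (g₁ : ↥(GOq Q))
    (hg₁ : ¬ IsSquare (mult Q g₁ : F)) (hg₁e : eps Q hne m g₁ = 1) (g : ↥(GOq Q)) :
    eps Q hne m g = 1 ∨ eps Q hne m g = -1 := by
  by_cases hg : IsSquare (mult Q g : F)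
  · exact eps_of_sq Q hne h2 hQ m hcard g hg
  · have h1 : psi1 Q hne (g * g₁⁻¹) = 1 := by
      rw [map_mul, map_inv, psi1_apply, psi1_apply]
      have e1 : sqSign (mult Q g : F) = -1 := by
        rcases Int.units_eq_one_or (sqSign (mult Q g : F)) with h | h
        · exact absurd ((sqSign_eq_one_iff _).mp h) hg
        · exact h
      have e2 : sqSign (mult Q g₁ : F) = -1 := by
        rcases Int.units_eq_one_or (sqSign (mult Q g₁ : F)) with h | h
        · exact absurd ((sqSign_eq_one_iff _).mp h) hg₁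
        · exact h
      rw [e1, e2]; rfl
    rw [psi1_apply, sqSign_eq_one_iff] at h1
    have h3 := eps_of_sq Q hne h2 hQ m hcard _ h1
    rw [map_mul, map_inv, hg₁e, inv_one, mul_one] at h3
    exact h3

end Homs

end Cfsg.Agent.Lib.Lead.OA
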