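import Mathlib
import Cfsg.Agent.Lib.Lead.OrthAut4

set_option autoImplicit false
set_option linter.unusedSectionVars false

namespace Cfsg.Agent.Lib.Lead.OA

open Cfsg Cfsg.Agent.Lib.Helper16 Cfsg.Agent.Lib.helper6 Module Matrix

variable {ι : Type} [Fintype ι] [DecidableEq ι] {F : Type*} [Field F] [Fintype F]
variable (Q : QuadraticForm F (ι → F))

open Classical in
/-- sign of `det g / mult g ^ m` -/
noncomputable def psi2 (hne : ∃ v, Q v ≠ 0) (m : ℕ)
    (heps : ∀ g, eps Q hne m g = 1 ∨ eps Q hne m g = -1) (h2 : (2 : F) ≠ 0) :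
    ↥(GOq Q) →* ℤˣ :=
  MonoidHom.mk' (fun g => if eps Q hne m g = 1 then 1 else -1) (by
    intro a b
    have hne1 := neg_one_ne_one (F := F) h2
    rcases heps a with ha | ha <;> rcases heps b with hb | hb <;>
      simp [map_mul, ha, hb, hne1])

open Classical in
theorem psi2_apply (hne : ∃ v, Q v ≠ 0) (m : ℕ)
    (heps : ∀ g, eps Q hne m g = 1 ∨ eps Q hne m g = -1) (h2 : (2 : F) ≠ 0) (g : ↥(GOq Q)) :
    psi2 Q hne m heps h2 g = if eps Q hne m g = 1 then 1 else -1 := rfl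

theorem psi2_eq_one_iff (hne : ∃ v, Q v ≠ 0) (m : ℕ)
    (heps : ∀ g, eps Q hne m g = 1 ∨ eps Q hne m g = -1) (h2 : (2 : F) ≠ 0) (g : ↥(GOq Q)) :
    psi2 Q hne m heps h2 g = 1 ↔ eps Q hne m g = 1 := by
  classical
  rw [psi2_apply]
  constructor
  · intro h
    by_contra hx
    rw [if_neg hx] at h
    exact absurd h (by decide)
  · intro h
    rw [if_pos h]

theorem scal_of_ker (h2 : (2 : F) ≠ 0) (hQ : (QuadraticMap.polarBilin Q).Nondegenerate)
    (hn : 4 ≤ Fintype.card ι) (g : ↥(GOq Q)) (hg : g ∈ (cHom (⇑Q : (ι → F) → F)).ker) :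
    ∃ a : Fˣ, g = scalGO Q a := by
  obtain ⟨a, ha⟩ := (cHom_eq_one_iff h2 Q hQ hn g).mp (MonoidHom.mem_ker.mp hg)
  have ha0 : a ≠ 0 := by
    rintro rfl
    rw [zero_smul] at ha
    have h1 := (g : GL ι F).inv_mul
    rw [ha, mul_zero] at h1
    have hne : Nonempty ι := by
      rw [← Fintype.card_pos_iff]; omega
    obtain ⟨i⟩ := hne
    have := congrFun (congrFun h1 i) i
    simp at this
  refine ⟨Units.mk0 a ha0, ?_⟩
  apply Subtype.ext
  apply Units.ext
  rw [scalGO_coe, ha]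
  rfl

theorem scal_mem_ker (h2 : (2 : F) ≠ 0) (hQ : (QuadraticMap.polarBilin Q).Nondegenerate)
    (hn : 4 ≤ Fintype.card ι) (a : Fˣ) : cHom (⇑Q : (ι → F) → F) (scalGO Q a) = 1 :=
  (cHom_eq_one_iff h2 Q hQ hn _).mpr ⟨a, scalGO_coe Q a⟩

/-- the quotient of the image of the similarity group by the image of the special orthogonal group
is a four-group -/
theorem klein_quot (h2 : (2 : F) ≠ 0) (hQ : (QuadraticMap.polarBilin Q).Nondegenerate)
    (hn : 4 ≤ Fintype.card ι) (m : ℕ) (hcard : Fintype.card ι = 2 * m)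
    (hne : ∃ v, Q v ≠ 0) (g₁ : ↥(GOq Q))
    (hg₁ : ¬ IsSquare (mult Q g₁ : F)) (hg₁e : eps Q hne m g₁ = 1) :
    ∃ φ : ↥(cHom (⇑Q : (ι → F) → F)).range →* Multiplicative (ZMod 2 × ZMod 2),
      Function.Surjective φ ∧
      φ.ker = (((Cfsg.specialIsometryGL F (⇑Q : (ι → F) → F)).subgroupOf (GOq Q)).map
        (cHom (⇑Q : (ι → F) → F))).subgroupOf (cHom (⇑Q : (ι → F) → F)).range := by
  classical
  have heps := eps_pm Q hne h2 hQ m hcard g₁ hg₁ hg₁e
  obtain ⟨e⟩ := exists_isoZ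
  set Ψ : ↥(GOq Q) →* ℤˣ × ℤˣ := (psi1 Q hne).prod (psi2 Q hne m heps h2) with hΨ
  have hΨ1 : ∀ g, Ψ g = 1 ↔ IsSquare (mult Q g : F) ∧ eps Q hne m g = 1 := by
    intro g
    rw [hΨ, MonoidHom.prod_apply, Prod.mk_eq_one, psi1_apply, sqSign_eq_one_iff, psi2_eq_one_iff]
  have hψ1 : ∀ g, (e.toMonoidHom.comp Ψ) g = 1 ↔ IsSquare (mult Q g : F) ∧ eps Q hne m g = 1 := by
    intro g
    rw [MonoidHom.comp_apply, ← hΨ1]
    exact e.map_eq_one_iff
  apply lemmaA (cHom (⇑Q : (ι → F) → F)) _ (e.toMonoidHom.comp Ψ)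
  · -- surjective
    apply e.surjective.comp
    obtain ⟨v, hv⟩ := hne
    set r : ↥(GOq Q) := isoToGO Q (reflG Q v hv) with hr
    have h1 : Ψ g₁ = (-1, 1) := by
      rw [hΨ, MonoidHom.prod_apply, psi1_apply, (psi2_eq_one_iff Q ⟨v, hv⟩ m heps h2 g₁).mpr hg₁e]
      congr 1
      rcases Int.units_eq_one_or (sqSign (mult Q g₁ : F)) with h | h
      · exact absurd ((sqSign_eq_one_iff _).mp h) hg₁
      · exact h
    have h3 : Ψ r = (1, -1) := by
      rw [hΨ, MonoidHom.prod_apply, psi1_apply, hr, mult_iso Q ⟨v, hv⟩, psi2_apply,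
        eps_iso Q ⟨v, hv⟩, isoDet_reflG, if_neg (neg_one_ne_one h2)]
      congr 1
      rw [sqSign_eq_one_iff]
      exact ⟨1, by simp⟩
    rintro ⟨a, b⟩
    rcases Int.units_eq_one_or a with rfl | rfl <;> rcases Int.units_eq_one_or b with rfl | rfl
    · exact ⟨1, map_one _⟩
    · exact ⟨r, h3⟩
    · exact ⟨g₁, h1⟩
    · exact ⟨g₁ * r, by rw [map_mul, h1, h3]; rfl⟩
  · -- SO in the kernel
    intro s hs
    rw [MonoidHom.mem_ker, hψ1]
    rw [Subgroup.mem_subgroupOf] at hs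
    have hsO : (s : GL ι F) ∈ Cfsg.isometryGroup F (⇑Q : (ι → F) → F) := hs.1
    have hsd : Matrix.GeneralLinearGroup.det (s : GL ι F) = 1 := hs.2
    have hs' : s = isoToGO Q ⟨(s : GL ι F), hsO⟩ := rfl
    constructor
    · rw [hs', mult_iso Q hne]
      exact ⟨1, by simp⟩
    · rw [hs', eps_iso Q hne]
      exact hsd
  · -- scalars in the kernel
    intro g hg
    obtain ⟨a, rfl⟩ := scal_of_ker Q h2 hQ hn g hg
    rw [MonoidHom.mem_ker, hψ1]
    constructor
    · rw [mult_scalGO Q hne]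
      exact ⟨(a : F), by rw [Units.val_mul]⟩
    · exact eps_scal Q hne m hcard a
  · -- kernel generated by these
    intro g hg
    rw [MonoidHom.mem_ker, hψ1] at hg
    obtain ⟨⟨μ, hμ⟩, hge⟩ := hg
    have hμ0 : μ ≠ 0 := by
      rintro rfl
      rw [mul_zero] at hμ
      exact Units.ne_zero _ hμ
    set a : Fˣ := Units.mk0 μ hμ0 with ha
    set s := scalGO Q a⁻¹ * g with hs
    have hms : mult Q s = 1 := by
      have h : mult Q s = mult Q (scalGO Q a⁻¹) * mult Q g := map_mul (multHom Q hne) _ _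
      rw [h, mult_scalGO Q hne]
      apply Units.ext
      rw [Units.val_mul, Units.val_mul, hμ, ha]
      simp only [Units.val_inv_eq_inv_val, Units.val_mk0, Units.val_one]
      field_simp
    have hsO := (mult_eq_one_iff Q hne s).mp hms
    have h1 : eps Q hne m s = 1 := by
      rw [hs, map_mul, eps_scal Q hne m hcard, one_mul, hge]
    have h2' : eps Q hne m s = isoDet (⇑Q) ⟨(s : GL ι F), hsO⟩ :=
      eps_iso Q hne m ⟨(s : GL ι F), hsO⟩
    refine ⟨s, ?_, ?_⟩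
    · rw [Subgroup.mem_subgroupOf]
      refine ⟨hsO, ?_⟩
      show Matrix.GeneralLinearGroup.det (s : GL ι F) = 1
      rw [h2'] at h1
      exact h1
    · rw [hs, map_mul, scal_mem_ker Q h2 hQ hn, one_mul]

end Cfsg.Agent.Lib.Lead.OA
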