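import Mathlib
import Cfsg.Agent.Lib.Lead.OrthAut5
import Cfsg.Agent.Lib.Lead.Reindex

set_option autoImplicit false
set_option linter.unusedSectionVars false

namespace Cfsg.Agent.Lib.Lead.OA

open Cfsg Cfsg.Agent.Lib.Helper16 Cfsg.Agent.Lib.helper6 Module Matrix

variable {ι : Type} [Fintype ι] [DecidableEq ι] {F : Type*} [Field F] [Fintype F]
variable (Q : QuadraticForm F (ι → F))

/-- the action of the isometry group on `PΩ` -/
noncomputable def c0 : ↥(Cfsg.isometryGroup F (⇑Q : (ι → F) → F)) →* MulAut (Cfsg.POmega F (⇑Q : (ι → F) → F)) :=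
  (cHom (⇑Q : (ι → F) → F)).comp (isoToGO Q)

theorem c0_apply (h : ↥(Cfsg.isometryGroup F (⇑Q : (ι → F) → F))) :
    c0 Q h = cHom (⇑Q : (ι → F) → F) (isoToGO Q h) := rfl

theorem psoAut_eq' :
    Cfsg.psoAut F (⇑Q : (ι → F) → F) = (isoDet (⇑Q : (ι → F) → F)).ker.map (c0 Q) := by
  rw [psoAut_eq]
  ext β
  simp only [Subgroup.mem_map, Subgroup.mem_subgroupOf, MonoidHom.mem_ker]
  constructor
  · rintro ⟨g, hg, rfl⟩
    exact ⟨⟨(g : GL ι F), hg.1⟩, hg.2, rfl⟩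
  · rintro ⟨h, hh, rfl⟩
    exact ⟨isoToGO Q h, ⟨h.2, hh⟩, rfl⟩

theorem inn_eq' :
    Cfsg.Inn (Cfsg.POmega F (⇑Q : (ι → F) → F)) =
      (Cfsg.Omega F (⇑Q : (ι → F) → F)).map (c0 Q) := by
  rw [inn_eq]
  ext β
  simp only [Subgroup.mem_map, Subgroup.mem_subgroupOf]
  constructor
  · rintro ⟨g, ⟨s, hs, hsg⟩, rfl⟩
    refine ⟨s, hs, ?_⟩
    rw [c0_apply]
    congr 1
    apply Subtype.ext
    exact hsg
  · rintro ⟨s, hs, rfl⟩
    exact ⟨isoToGO Q s, ⟨s, hs, rfl⟩, rfl⟩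

/-- the isometry `-1` -/
noncomputable def negI : ↥(Cfsg.isometryGroup F (⇑Q : (ι → F) → F)) :=
  ⟨-1, (mem_iso_iff' _ _).mpr (fun v => by
    rw [Units.val_neg, Units.val_one, Matrix.neg_mulVec, Matrix.one_mulVec, QuadraticMap.map_neg])⟩

theorem negI_coe : (((negI Q : ↥(Cfsg.isometryGroup F (⇑Q : (ι → F) → F))) : GL ι F) :
    Matrix ι ι F) = -1 := rfl

theorem isoDet_negI (m : ℕ) (hcard : Fintype.card ι = 2 * m) :
    isoDet (⇑Q : (ι → F) → F) (negI Q) = 1 := by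
  apply Units.ext
  rw [isoDet_coe, negI_coe, Matrix.det_neg, Matrix.det_one, mul_one, hcard, pow_mul]
  simp

theorem c0_ker_iff (h2 : (2 : F) ≠ 0) (hQ : (QuadraticMap.polarBilin Q).Nondegenerate)
    (hn : 4 ≤ Fintype.card ι) (h : ↥(Cfsg.isometryGroup F (⇑Q : (ι → F) → F))) :
    h ∈ (c0 Q).ker ↔ h = 1 ∨ h = negI Q := by
  have hne := exists_ne_zero Q h2 hQ (by omega)
  rw [MonoidHom.mem_ker, c0_apply, cHom_eq_one_iff h2 Q hQ hn]
  constructor
  · rintro ⟨a, ha⟩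
    have h1 := mult_of_scalar Q hne (isoToGO Q h) a ha
    rw [mult_iso Q hne, Units.val_one] at h1
    have h3 : a = 1 ∨ a = -1 := by
      have : (a - 1) * (a + 1) = 0 := by linear_combination -h1
      rcases mul_eq_zero.mp this with h | h
      · left; linear_combination h
      · right; linear_combination h
    rcases h3 with rfl | rfl
    · left
      apply iso_ext'
      rw [one_smul] at ha
      exact ha
    · right
      apply iso_ext'
      rw [negI_coe]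
      rw [neg_smul, one_smul] at ha
      exact ha
  · rintro (rfl | rfl)
    · exact ⟨1, by rw [one_smul]; rfl⟩
    · exact ⟨-1, by rw [neg_smul, one_smul]; rfl⟩

theorem chi_prod' (χ : ↥(Cfsg.isometryGroup F (⇑Q : (ι → F) → F)) →* ℤˣ) (κ : ℤˣ)
    (hχ : ∀ (v : ι → F) (hv : Q v ≠ 0), χ (reflG Q v hv) = κ * sqSign (Q v))
    (ws : List (ι → F)) (hws : ∀ v ∈ ws, Q v ≠ 0) :
    χ (ws.map (reflG' Q)).prod = κ ^ ws.length * sqSign (ws.map (fun v => Q v)).prod := by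
  induction ws with
  | nil => simp [sqSign]
  | cons v ws ih =>
    have hv := hws v List.mem_cons_self
    have hws' : ∀ w ∈ ws, Q w ≠ 0 := fun w hw => hws w (List.mem_cons_of_mem _ hw)
    rw [List.map_cons, List.prod_cons, map_mul, ih hws', reflG'_eq Q v hv, hχ v hv,
      List.map_cons, List.prod_cons, sqSign_mul hv (prod_Q_ne_zero Q ws hws'), List.length_cons,
      pow_succ]
    rw [mul_mul_mul_comm, mul_comm κ]

theorem mem_omega_iff' (h2 : (2 : F) ≠ 0) (hQ : (QuadraticMap.polarBilin Q).Nondegenerate)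
    (χ : ↥(Cfsg.isometryGroup F (⇑Q : (ι → F) → F)) →* ℤˣ) (κ : ℤˣ)
    (hχ : ∀ (v : ι → F) (hv : Q v ≠ 0), χ (reflG Q v hv) = κ * sqSign (Q v))
    (g : ↥(Cfsg.isometryGroup F (⇑Q : (ι → F) → F))) :
    g ∈ Cfsg.Omega F (⇑Q : (ι → F) → F) ↔ isoDet (⇑Q : (ι → F) → F) g = 1 ∧ χ g = 1 := by
  constructor
  · intro hg
    exact ⟨omega_le_ker (⇑Q) (isoDet (⇑Q : (ι → F) → F)) hg, omega_le_ker (⇑Q) χ hg⟩
  · rintro ⟨hd, hc⟩
    obtain ⟨vs, hvs, rfl⟩ := exists_list' Q h2 hQ g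
    rw [isoDet_prod Q vs hvs] at hd
    have heven : Even vs.length := by
      rcases Nat.even_or_odd vs.length with he | ho
      · exact he
      · rw [ho.neg_one_pow] at hd
        exact absurd hd (neg_one_ne_one h2)
    rw [chi_prod' Q χ κ hχ vs hvs] at hc
    obtain ⟨m, hm⟩ := heven
    have hκ : κ ^ vs.length = 1 := by
      rw [hm, ← two_mul, pow_mul, pow_two, Int.units_mul_self, one_pow]
    rw [hκ, one_mul] at hc
    apply master_backward h2 Q vs hvs ⟨m, hm⟩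
    exact (sqSign_eq_one_iff _).mp hc

theorem index_SO (h2 : (2 : F) ≠ 0) (hQ : (QuadraticMap.polarBilin Q).Nondegenerate)
    (hne : ∃ v, Q v ≠ 0) : (isoDet (⇑Q : (ι → F) → F)).ker.index = 2 := by
  obtain ⟨v, hv⟩ := hne
  rw [Subgroup.index_eq_two_iff]
  refine ⟨reflG Q v hv, fun b => ?_⟩
  rw [MonoidHom.mem_ker, MonoidHom.mem_ker, map_mul, isoDet_reflG]
  rcases isoDet_pm' Q h2 hQ b with hb | hb
  · rw [hb]
    right
    exact ⟨rfl, by rw [one_mul]; exact neg_one_ne_one h2⟩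
  · rw [hb]
    left
    exact ⟨by simp, neg_one_ne_one h2⟩

/-- the index of the inner automorphisms in the image of the special orthogonal group -/
theorem relIndex_inn_pso (h2 : (2 : F) ≠ 0) (hQ : (QuadraticMap.polarBilin Q).Nondegenerate)
    (hn : 4 ≤ Fintype.card ι) (m : ℕ) (hcard : Fintype.card ι = 2 * m) :
    ((∃ g : ↥(Cfsg.isometryGroup F (⇑Q : (ι → F) → F)), g ∈ Cfsg.Omega F (⇑Q : (ι → F) → F) ∧
        ((g : GL ι F) : Matrix ι ι F) = -1) →
      (Cfsg.Inn (Cfsg.POmega F (⇑Q : (ι → F) → F))).relIndex (Cfsg.psoAut F (⇑Q : (ι → F) → F)) = 2) ∧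
    ((¬ ∃ g : ↥(Cfsg.isometryGroup F (⇑Q : (ι → F) → F)), g ∈ Cfsg.Omega F (⇑Q : (ι → F) → F) ∧
        ((g : GL ι F) : Matrix ι ι F) = -1) →
      (Cfsg.Inn (Cfsg.POmega F (⇑Q : (ι → F) → F))).relIndex (Cfsg.psoAut F (⇑Q : (ι → F) → F)) = 1) := by
  have hne := exists_ne_zero Q h2 hQ (by omega)
  have hΩSO : Cfsg.Omega F (⇑Q : (ι → F) → F) ≤ (isoDet (⇑Q : (ι → F) → F)).ker :=
    omega_le_ker (⇑Q) _
  rw [psoAut_eq', inn_eq', Subgroup.relIndex_map_map]
  constructor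
  · rintro ⟨g, hgΩ, hg⟩
    have hg' : g = negI Q := iso_ext' _ _ _ (by rw [hg, negI_coe])
    have hker : (c0 Q).ker ≤ Cfsg.Omega F (⇑Q : (ι → F) → F) := by
      intro h hh
      rcases (c0_ker_iff Q h2 hQ hn h).mp hh with rfl | rfl
      · exact Subgroup.one_mem _
      · rw [← hg']; exact hgΩ
    rw [sup_eq_left.mpr hker, sup_eq_left.mpr (le_trans hker hΩSO)]
    have h1 := Subgroup.relIndex_mul_index hΩSO
    rw [index_SO Q h2 hQ hne, RI.index_omega_general h2 (by omega) Q hQ] at h1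
    omega
  · intro hno
    rw [Subgroup.relIndex_eq_one]
    apply sup_le _ le_sup_right
    intro h hh
    rw [MonoidHom.mem_ker] at hh
    obtain ⟨χ, κ, hχ⟩ := spin_char_formula h2 Q
    have hnegχ : χ (negI Q) = -1 := by
      rcases Int.units_eq_one_or (χ (negI Q)) with h1 | h1
      · exfalso
        apply hno
        exact ⟨negI Q, (mem_omega_iff' Q h2 hQ χ κ hχ _).mpr ⟨isoDet_negI Q m hcard, h1⟩,
          negI_coe Q⟩
      · exact h1
    have hnegker : negI Q ∈ (c0 Q).ker := (c0_ker_iff Q h2 hQ hn _).mpr (Or.inr rfl)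
    rcases Int.units_eq_one_or (χ h) with h1 | h1
    · exact Subgroup.mem_sup_left ((mem_omega_iff' Q h2 hQ χ κ hχ _).mpr ⟨hh, h1⟩)
    · have h3 : h * negI Q ∈ Cfsg.Omega F (⇑Q : (ι → F) → F) := by
        rw [mem_omega_iff' Q h2 hQ χ κ hχ]
        constructor
        · rw [map_mul, hh, isoDet_negI Q m hcard, one_mul]
        · rw [map_mul, h1, hnegχ]; rfl
      have h4 : h = (h * negI Q) * (negI Q)⁻¹ := by group
      rw [h4]
      exact Subgroup.mul_mem_sup h3 (Subgroup.inv_mem _ hnegker)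

end Cfsg.Agent.Lib.Lead.OA
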