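import Mathlib
import Cfsg.Agent.Lib.Lead.OrthAut6
import Cfsg.Agent.Lib.Helper18.Dihedral8

set_option autoImplicit false
set_option linter.unusedSectionVars false

namespace Cfsg.Agent.Lib.Lead.OA

open Cfsg Cfsg.Agent.Lib.Helper16 Cfsg.Agent.Lib.helper6 Module Matrix

variable {ι : Type} [Fintype ι] [DecidableEq ι] {F : Type*} [Field F] [Fintype F]
variable (Q : QuadraticForm F (ι → F))

/-- a similarity conjugates the reflection in `v` to the reflection in `g v` -/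
theorem sim_refl_conj (g : ↥(GOq Q)) (v : ι → F) (hv : Q v ≠ 0) :
    ((g : GL ι F) : Matrix ι ι F) * Cfsg.reflectionMatrix ⇑Q v * (((g : GL ι F)⁻¹ : GL ι F) : Matrix ι ι F) =
      Cfsg.reflectionMatrix ⇑Q (((g : GL ι F) : Matrix ι ι F) *ᵥ v) := by
  have h1 : ((g : GL ι F) : Matrix ι ι F) * Cfsg.reflectionMatrix ⇑Q v =
      Cfsg.reflectionMatrix ⇑Q (((g : GL ι F) : Matrix ι ι F) *ᵥ v) * ((g : GL ι F) : Matrix ι ι F) := by
    rw [Matrix.ext_iff_mulVec]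
    intro x
    rw [← Matrix.mulVec_mulVec, ← Matrix.mulVec_mulVec, reflectionMatrix_mulVec,
      reflectionMatrix_mulVec, polar_sim, mult_spec, Matrix.mulVec_sub, Matrix.mulVec_smul]
    congr 2
    have hl : (mult Q g : F) ≠ 0 := Units.ne_zero _
    field_simp
  rw [h1, Matrix.mul_assoc, ← Units.val_mul, mul_inv_cancel, Units.val_one, Matrix.mul_one]

set_option maxHeartbeats 4000000 in
/-- in the case `-1 ∈ Ω` the quotient of the image of the similarity group by the inner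
automorphisms is dihedral of order 8 -/
theorem dihedral_quot (h2 : (2 : F) ≠ 0) (hQ : (QuadraticMap.polarBilin Q).Nondegenerate)
    (hn : 4 ≤ Fintype.card ι) (m : ℕ) (hcard : Fintype.card ι = 2 * m)
    (hne : ∃ v, Q v ≠ 0) (g₁ : ↥(GOq Q))
    (hg₁ : ¬ IsSquare (mult Q g₁ : F)) (hg₁e : eps Q hne m g₁ = 1)
    (hneg : ∃ g : ↥(Cfsg.isometryGroup F (⇑Q : (ι → F) → F)),
      g ∈ Cfsg.Omega F (⇑Q : (ι → F) → F) ∧ ((g : GL ι F) : Matrix ι ι F) = -1) :
    ∃ φ : ↥(cHom (⇑Q : (ι → F) → F)).range →* DihedralGroup 4,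
      Function.Surjective φ ∧
      φ.ker = (Cfsg.Inn (Cfsg.POmega F (⇑Q : (ι → F) → F))).subgroupOf
        (cHom (⇑Q : (ι → F) → F)).range := by
  classical
  have hΩSO : Cfsg.Omega F (⇑Q : (ι → F) → F) ≤ (isoDet (⇑Q : (ι → F) → F)).ker :=
    omega_le_ker (⇑Q) _
  obtain ⟨χ, κ, hχ⟩ := spin_char_formula h2 Q
  have hker : (c0 Q).ker ≤ Cfsg.Omega F (⇑Q : (ι → F) → F) := by
    obtain ⟨g, hgΩ, hg⟩ := hneg
    have hg' : g = negI Q := iso_ext' _ _ _ (by rw [hg, negI_coe])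
    intro h hh
    rcases (c0_ker_iff Q h2 hQ hn h).mp hh with rfl | rfl
    · exact Subgroup.one_mem _
    · rw [← hg']; exact hgΩ
  -- membership in Inn
  have hI : ∀ t : ↥(Cfsg.isometryGroup F (⇑Q : (ι → F) → F)),
      c0 Q t ∈ Cfsg.Inn (Cfsg.POmega F (⇑Q : (ι → F) → F)) → t ∈ Cfsg.Omega F (⇑Q : (ι → F) → F) := by
    intro t ht
    rw [inn_eq'] at ht
    obtain ⟨s, hs, hst⟩ := ht
    have h1 : s⁻¹ * t ∈ (c0 Q).ker := by
      rw [MonoidHom.mem_ker, map_mul, map_inv, hst]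
      exact inv_mul_cancel _
    have h3 : t = s * (s⁻¹ * t) := by group
    rw [h3]
    exact Subgroup.mul_mem _ hs (hker h1)
  set I : Subgroup ↥(cHom (⇑Q : (ι → F) → F)).range :=
    (Cfsg.Inn (Cfsg.POmega F (⇑Q : (ι → F) → F))).subgroupOf (cHom (⇑Q : (ι → F) → F)).range with hIdef
  have hInnN : (Cfsg.Inn (Cfsg.POmega F (⇑Q : (ι → F) → F))).Normal := inn_normal _
  have hIN : I.Normal := Subgroup.normal_subgroupOf
  set p : ↥(GOq Q) →* ↥(cHom (⇑Q : (ι → F) → F)).range := (cHom (⇑Q : (ι → F) → F)).rangeRestrict with hp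
  have hpI : ∀ t : ↥(Cfsg.isometryGroup F (⇑Q : (ι → F) → F)),
      (QuotientGroup.mk (p (isoToGO Q t)) : ↥(cHom (⇑Q : (ι → F) → F)).range ⧸ I) = 1 →
      t ∈ Cfsg.Omega F (⇑Q : (ι → F) → F) := by
    intro t ht
    rw [QuotientGroup.eq_one_iff] at ht
    exact hI t ht
  -- the order of the quotient
  have hcard8 : Nat.card (↥(cHom (⇑Q : (ι → F) → F)).range ⧸ I) = 8 := by
    have h1 : (Cfsg.Inn (Cfsg.POmega F (⇑Q : (ι → F) → F))).relIndex (Cfsg.psoAut F (⇑Q : (ι → F) → F)) = 2 :=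
      (relIndex_inn_pso Q h2 hQ hn m hcard).1 hneg
    obtain ⟨φ, hφs, hφk⟩ := klein_quot Q h2 hQ hn m hcard hne g₁ hg₁ hg₁e
    rw [← psoAut_eq] at hφk
    have h4 : (Cfsg.psoAut F (⇑Q : (ι → F) → F)).relIndex (cHom (⇑Q : (ι → F) → F)).range = 4 := by
      show ((Cfsg.psoAut F (⇑Q : (ι → F) → F)).subgroupOf (cHom (⇑Q : (ι → F) → F)).range).index = 4
      rw [← hφk, Subgroup.index_ker, MonoidHom.range_eq_top.mpr hφs, Subgroup.card_top]
      simp
    have hle1 : Cfsg.Inn (Cfsg.POmega F (⇑Q : (ι → F) → F)) ≤ Cfsg.psoAut F (⇑Q : (ι → F) → F) := by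
      rw [inn_eq', psoAut_eq']
      exact Subgroup.map_mono hΩSO
    have hle2 : Cfsg.psoAut F (⇑Q : (ι → F) → F) ≤ (cHom (⇑Q : (ι → F) → F)).range := by
      rw [psoAut_eq]
      exact Subgroup.map_le_range _ _
    have h5 := Subgroup.relIndex_mul_relIndex _ _ _ hle1 hle2
    rw [h1, h4] at h5
    show I.index = 8
    show (Cfsg.Inn (Cfsg.POmega F (⇑Q : (ι → F) → F))).relIndex (cHom (⇑Q : (ι → F) → F)).range = 8
    rw [← h5]
  -- test vectors
  obtain ⟨δ, hδ0, hδ⟩ := OI.exists_nonsquare (F := F) h2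
  obtain ⟨v, hv⟩ := exists_norm Q h2 hQ hn 1 one_ne_zero
  obtain ⟨w, hw⟩ := exists_norm Q h2 hQ hn δ hδ0
  have hv0 : Q v ≠ 0 := by rw [hv]; exact one_ne_zero
  have hw0 : Q w ≠ 0 := by rw [hw]; exact hδ0
  have hsq1 : sqSign (1 : F) = 1 := (sqSign_eq_one_iff _).mpr ⟨1, by simp⟩
  have hsqδ : sqSign δ = -1 := by
    rcases Int.units_eq_one_or (sqSign δ) with h | h
    · exact absurd ((sqSign_eq_one_iff _).mp h) hδ
    · exact h
  have hχv : χ (reflG Q v hv0) = κ := by rw [hχ, hv, hsq1, mul_one]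
  have hχw : χ (reflG Q w hw0) = -κ := by rw [hχ, hw, hsqδ, mul_neg, mul_one]
  have hmk : ∀ a b : ↥(GOq Q), (QuotientGroup.mk (p a) : ↥(cHom (⇑Q : (ι → F) → F)).range ⧸ I) *
      QuotientGroup.mk (p b) = QuotientGroup.mk (p (a * b)) := by
    intro a b
    rw [← QuotientGroup.mk_mul, ← map_mul p a b]
  have hna : ∃ a b : ↥(cHom (⇑Q : (ι → F) → F)).range ⧸ I, a * b ≠ b * a := by
    refine ⟨QuotientGroup.mk (p g₁), QuotientGroup.mk (p (isoToGO Q (reflG Q v hv0))), ?_⟩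
    intro hab
    have hgv : Q (((g₁ : GL ι F) : Matrix ι ι F) *ᵥ v) ≠ 0 := by
      rw [mult_spec, hv, mul_one]; exact Units.ne_zero _
    have h1 : g₁ * isoToGO Q (reflG Q v hv0) * g₁⁻¹ * (isoToGO Q (reflG Q v hv0))⁻¹ =
        isoToGO Q (reflG Q _ hgv * reflG Q v hv0) := by
      rw [← map_inv, reflG_inv]
      apply Subtype.ext
      apply Units.ext
      show ((g₁ : GL ι F) : Matrix ι ι F) * Cfsg.reflectionMatrix ⇑Q v *
        (((g₁ : GL ι F)⁻¹ : GL ι F) : Matrix ι ι F) * Cfsg.reflectionMatrix ⇑Q v = _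
      rw [sim_refl_conj Q g₁ v hv0]
      rfl
    have h3 : (QuotientGroup.mk (p (g₁ * isoToGO Q (reflG Q v hv0) * g₁⁻¹ *
        (isoToGO Q (reflG Q v hv0))⁻¹)) : ↥(cHom (⇑Q : (ι → F) → F)).range ⧸ I) = 1 := by
      rw [← hmk, ← hmk, ← hmk, hab, map_inv, map_inv, QuotientGroup.mk_inv, QuotientGroup.mk_inv]
      group
    rw [h1] at h3
    have h4 := hpI _ h3
    rw [mem_omega_iff' Q h2 hQ χ κ hχ] at h4
    have h5 := h4.2
    rw [map_mul, hχ, hχ, mult_spec, hv, mul_one, hsq1, mul_one] at h5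
    have h6 : sqSign (mult Q g₁ : F) = -1 := by
      rcases Int.units_eq_one_or (sqSign (mult Q g₁ : F)) with h | h
      · exact absurd ((sqSign_eq_one_iff _).mp h) hg₁
      · exact h
    rw [h6, mul_neg, mul_one, neg_mul, Int.units_mul_self] at h5
    exact absurd h5 (by decide)
  have hnu : ¬ ∃ z : ↥(cHom (⇑Q : (ι → F) → F)).range ⧸ I, ∀ a, orderOf a = 2 → a = z := by
    rintro ⟨z, hz⟩
    have hord : ∀ (u : ι → F) (hu : Q u ≠ 0),
        orderOf (QuotientGroup.mk (p (isoToGO Q (reflG Q u hu))) :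
          ↥(cHom (⇑Q : (ι → F) → F)).range ⧸ I) = 2 := by
      intro u hu
      apply orderOf_eq_prime
      · rw [pow_two, hmk, ← map_mul, reflG_mul_self, map_one, map_one]; rfl
      · intro h1
        have h3 := hpI _ h1
        have h4 := hΩSO h3
        rw [MonoidHom.mem_ker, isoDet_reflG] at h4
        exact neg_one_ne_one h2 h4
    have hx := hz _ (hord v hv0)
    have hy := hz _ (hord w hw0)
    have hxy : (QuotientGroup.mk (p (isoToGO Q (reflG Q v hv0 * (reflG Q w hw0)⁻¹))) :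
        ↥(cHom (⇑Q : (ι → F) → F)).range ⧸ I) = 1 := by
      rw [map_mul, ← hmk, map_inv, map_inv, QuotientGroup.mk_inv, hx, hy, mul_inv_cancel]
    have h4 := hpI _ hxy
    rw [mem_omega_iff' Q h2 hQ χ κ hχ] at h4
    have h5 := h4.2
    rw [map_mul, map_inv, hχv, hχw, inv_neg, mul_neg, mul_inv_cancel] at h5
    exact absurd h5 (by decide)
  obtain ⟨-, -, -, -, -, -, ⟨e⟩⟩ := Cfsg.Agent.Lib.Helper18.dihedral_of_card_eight hcard8 hna hnu
  exact lemmaB I e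


theorem inn_le_pso : Cfsg.Inn (Cfsg.POmega F (⇑Q : (ι → F) → F)) ≤ Cfsg.psoAut F (⇑Q : (ι → F) → F) := by
  rw [inn_eq', psoAut_eq']
  exact Subgroup.map_mono (omega_le_ker (⇑Q) _)

theorem inn_eq_pso_of_not (h2 : (2 : F) ≠ 0) (hQ : (QuadraticMap.polarBilin Q).Nondegenerate)
    (hn : 4 ≤ Fintype.card ι) (m : ℕ) (hcard : Fintype.card ι = 2 * m)
    (hno : ¬ ∃ g : ↥(Cfsg.isometryGroup F (⇑Q : (ι → F) → F)),
      g ∈ Cfsg.Omega F (⇑Q : (ι → F) → F) ∧ ((g : GL ι F) : Matrix ι ι F) = -1) :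
    Cfsg.Inn (Cfsg.POmega F (⇑Q : (ι → F) → F)) = Cfsg.psoAut F (⇑Q : (ι → F) → F) :=
  le_antisymm (inn_le_pso Q)
    (Subgroup.relIndex_eq_one.mp ((relIndex_inn_pso Q h2 hQ hn m hcard).2 hno))

end Cfsg.Agent.Lib.Lead.OA
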