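import Mathlib
import Cfsg.Agent.Lib.Lead.OrthAut7
import Cfsg.Agent.Lib.Helper16.PlusFam

set_option autoImplicit false
set_option linter.unusedSectionVars false

namespace Cfsg.Agent.Lib.Lead.OAP

open Cfsg Cfsg.Agent.Lib.Helper16 Cfsg.Agent.Lib.Lead.OA Matrix

variable {F : Type*} [Field F] [Fintype F] {m : ℕ}

theorem two_ne_zero_of_odd (hodd : Odd (Fintype.card F)) : (2 : F) ≠ 0 := by
  intro h
  have : CharP F 2 := CharTwo.of_one_ne_zero_of_two_eq_zero one_ne_zero h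
  have hchar : ringChar F = 2 := ringChar.eq F 2
  have heven := FiniteField.even_card_of_char_two hchar
  rw [Nat.odd_iff] at hodd
  omega

/-- the diagonal similarity `diag(c, 1)` -/
noncomputable def dPlus (c : Fˣ) : GL (Fin m ⊕ Fin m) F :=
  ⟨Matrix.diagonal (Sum.elim (fun _ => (c : F)) (fun _ => 1)),
    Matrix.diagonal (Sum.elim (fun _ => ((c⁻¹ : Fˣ) : F)) (fun _ => 1)),
    by
      rw [Matrix.diagonal_mul_diagonal, ← Matrix.diagonal_one]
      congr 1
      funext i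
      rcases i with i | i <;> simp,
    by
      rw [Matrix.diagonal_mul_diagonal, ← Matrix.diagonal_one]
      congr 1
      funext i
      rcases i with i | i <;> simp⟩

theorem dPlus_coe (c : Fˣ) :
    ((dPlus (m := m) c : GL (Fin m ⊕ Fin m) F) : Matrix (Fin m ⊕ Fin m) (Fin m ⊕ Fin m) F) =
    Matrix.diagonal (Sum.elim (fun _ => (c : F)) (fun _ => 1)) := rfl

theorem dPlus_spec (c : Fˣ) (v : Fin m ⊕ Fin m → F) :
    qfPlus m F (((dPlus (m := m) c : GL (Fin m ⊕ Fin m) F) :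
      Matrix (Fin m ⊕ Fin m) (Fin m ⊕ Fin m) F) *ᵥ v) =
      (c : F) * qfPlus m F v := by
  rw [qfPlus_coe, dPlus_coe]
  unfold Cfsg.quadFormPlus
  rw [Finset.mul_sum]
  apply Finset.sum_congr rfl
  intro i _
  rw [Matrix.mulVec_diagonal, Matrix.mulVec_diagonal]
  simp only [Sum.elim_inl, Sum.elim_inr, one_mul]
  ring

theorem dPlus_mem (c : Fˣ) : dPlus (m := m) c ∈ GOq (qfPlus m F) := ⟨c, dPlus_spec c⟩

theorem card_plus : Fintype.card (Fin m ⊕ Fin m) = 2 * m := by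
  simp only [Fintype.card_sum, Fintype.card_fin]; ring

theorem mult_dPlus (hne : ∃ v, qfPlus m F v ≠ 0) (c : Fˣ) :
    mult (qfPlus m F) ⟨dPlus c, dPlus_mem c⟩ = c :=
  mult_unique _ hne _ c (dPlus_spec c)

theorem eps_dPlus (hne : ∃ v, qfPlus m F v ≠ 0) (c : Fˣ) :
    eps (qfPlus m F) hne m ⟨dPlus c, dPlus_mem c⟩ = 1 := by
  rw [eps_apply, mult_dPlus hne]
  have h1 : detGO (qfPlus m F) ⟨dPlus c, dPlus_mem c⟩ = c ^ m := by
    apply Units.ext
    rw [detGO_coe]
    show (Matrix.diagonal (Sum.elim (fun _ => (c : F)) (fun _ => 1))).det = _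
    rw [Matrix.det_diagonal, Fintype.prod_sum_type]
    simp
  rw [h1]
  exact mul_inv_cancel _

theorem pow_mod_four_iff (q m : ℕ) (hq : q % 2 = 1) :
    q ^ m % 4 = 1 ↔ ¬ (Odd m ∧ q % 4 = 3) := by
  have hq4 : q % 4 = 1 ∨ q % 4 = 3 := by omega
  have hsq : q ^ 2 % 4 = 1 := by
    rcases hq4 with h | h <;> simp [Nat.pow_mod, h]
  rcases Nat.even_or_odd' m with ⟨k, rfl | rfl⟩
  · have h1 : q ^ (2 * k) % 4 = 1 := by
      rw [pow_mul, Nat.pow_mod, hsq]; simp
    constructor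
    · intro _ h
      exact (Nat.not_odd_iff_even.mpr ⟨k, by ring⟩) h.1
    · intro _; exact h1
  · have h1 : q ^ (2 * k + 1) % 4 = q % 4 := by
      rw [pow_succ, pow_mul, Nat.mul_mod, Nat.pow_mod, hsq]; simp
    rw [h1]
    constructor
    · intro h h'
      omega
    · intro h
      rcases hq4 with h' | h'
      · exact h'
      · exact absurd ⟨⟨k, rfl⟩, h'⟩ h
theorem pow_mod_four_iff3 (q m : ℕ) (hq : q % 2 = 1) :
    q ^ m % 4 = 3 ↔ (Odd m ∧ q % 4 = 3) := by
  have h := pow_mod_four_iff q m hq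
  have hodd : q ^ m % 2 = 1 := by
    rw [Nat.pow_mod, hq]; simp
  constructor
  · intro h3
    by_contra hc
    have := h.mpr hc
    omega
  · intro h3
    have : ¬ q ^ m % 4 = 1 := fun h1 => (h.mp h1) h3
    omega

end Cfsg.Agent.Lib.Lead.OAP
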