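import Mathlib
import Cfsg.Agent.Lib.Lead.OrthAutPlus
import Cfsg.Agent.Lib.Helper16.SpinG2

set_option autoImplicit false
set_option linter.unusedSectionVars false

namespace Cfsg.Agent.Lib.Lead.OAM

open Cfsg Cfsg.Agent.Lib.Helper16 Cfsg.Agent.Lib.Lead.OA Matrix

variable {F : Type*} [Field F] [Fintype F] {m : ℕ} (a b : F)

theorem exists_norm_binary (h2 : (2 : F) ≠ 0)
    (hab : ∀ z₁ z₂ : F, z₁ ^ 2 + a * z₁ * z₂ + b * z₂ ^ 2 = 0 → z₁ = 0 ∧ z₂ = 0)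
    (δ : F) (hδ : δ ≠ 0) : ∃ w₁ w₂ : F, w₁ ^ 2 + a * w₁ * w₂ + b * w₂ ^ 2 = δ := by
  have h4 : (4 : F) ≠ 0 := by
    have : (4 : F) = 2 * 2 := by norm_num
    rw [this]; exact mul_ne_zero h2 h2
  have hD : b - a ^ 2 / 4 ≠ 0 := by
    intro hD
    have e : (-a / 2) ^ 2 + a * (-a / 2) * 1 + b * 1 ^ 2 = b - a ^ 2 / 4 := by
      field_simp
      ring
    have h1 := hab (-a / 2) 1 (by rw [e]; exact hD)
    exact one_ne_zero h1.2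
  obtain ⟨s, t, hst⟩ := exists_sq_sum h2 (a := δ⁻¹) (b := (b - a ^ 2 / 4) * δ⁻¹)
    (inv_ne_zero hδ) (mul_ne_zero hD (inv_ne_zero hδ))
  refine ⟨s - a / 2 * t, t, ?_⟩
  have h5 : s ^ 2 + (b - a ^ 2 / 4) * t ^ 2 = δ := by
    field_simp at hst
    field_simp
    linear_combination hst
  rw [← h5]
  field_simp
  ring

/-- the matrix of the similarity -/
def mMinus (c w₁ w₂ : F) :
    Matrix ((Fin m ⊕ Fin m) ⊕ Fin 2) ((Fin m ⊕ Fin m) ⊕ Fin 2) F :=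
  Matrix.fromBlocks (Matrix.diagonal (Sum.elim (fun _ => c) (fun _ => 1))) 0 0
    !![w₁, -b * w₂; w₂, w₁ + a * w₂]

theorem mMinus_spec (c w₁ w₂ : F) (hc : w₁ ^ 2 + a * w₁ * w₂ + b * w₂ ^ 2 = c)
    (v : (Fin m ⊕ Fin m) ⊕ Fin 2 → F) :
    Cfsg.quadFormMinus m F a b (mMinus (m := m) a b c w₁ w₂ *ᵥ v) =
      c * Cfsg.quadFormMinus m F a b v := by
  unfold Cfsg.quadFormMinus mMinus
  rw [Matrix.fromBlocks_mulVec]
  simp only [Sum.elim_inl, Sum.elim_inr, Matrix.zero_mulVec, add_zero, zero_add]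
  have h1 : ∀ i : Fin m, (Matrix.diagonal (Sum.elim (fun _ => c) (fun _ => (1 : F))) *ᵥ
      (v ∘ Sum.inl)) (Sum.inl i) = c * v (Sum.inl (Sum.inl i)) := by
    intro i
    rw [Matrix.mulVec_diagonal]; rfl
  have h2 : ∀ i : Fin m, (Matrix.diagonal (Sum.elim (fun _ => c) (fun _ => (1 : F))) *ᵥ
      (v ∘ Sum.inl)) (Sum.inr i) = v (Sum.inl (Sum.inr i)) := by
    intro i
    rw [Matrix.mulVec_diagonal]
    simp
  have h3 : (!![w₁, -b * w₂; w₂, w₁ + a * w₂] *ᵥ (v ∘ Sum.inr)) 0 =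
      w₁ * v (Sum.inr 0) + -b * w₂ * v (Sum.inr 1) := by
    simp [Matrix.mulVec, dotProduct, Fin.sum_univ_two]
  have h4 : (!![w₁, -b * w₂; w₂, w₁ + a * w₂] *ᵥ (v ∘ Sum.inr)) 1 =
      w₂ * v (Sum.inr 0) + (w₁ + a * w₂) * v (Sum.inr 1) := by
    simp [Matrix.mulVec, dotProduct, Fin.sum_univ_two]
  simp only [h1, h2, h3, h4]
  have hR : c * (∑ i : Fin m, v (Sum.inl (Sum.inl i)) * v (Sum.inl (Sum.inr i)) +
      (v (Sum.inr 0) ^ 2 + a * v (Sum.inr 0) * v (Sum.inr 1) + b * v (Sum.inr 1) ^ 2)) =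
      ∑ i : Fin m, c * (v (Sum.inl (Sum.inl i)) * v (Sum.inl (Sum.inr i))) +
      c * (v (Sum.inr 0) ^ 2 + a * v (Sum.inr 0) * v (Sum.inr 1) + b * v (Sum.inr 1) ^ 2) := by
    rw [mul_add, Finset.mul_sum]
  rw [hR]
  congr 1
  · apply Finset.sum_congr rfl
    intro i _
    ring
  · rw [← hc]; ring

theorem det_mMinus (c w₁ w₂ : F) :
    (mMinus (m := m) a b c w₁ w₂).det = c ^ m * (w₁ ^ 2 + a * w₁ * w₂ + b * w₂ ^ 2) := by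
  unfold mMinus
  rw [Matrix.det_fromBlocks_zero₂₁, Matrix.det_diagonal, Fintype.prod_sum_type, Matrix.det_fin_two_of]
  simp
  left
  ring

/-- the similarity with multiplier `c` -/
noncomputable def dMinus (c : Fˣ) (w₁ w₂ : F) (hc : w₁ ^ 2 + a * w₁ * w₂ + b * w₂ ^ 2 = (c : F)) :
    GL ((Fin m ⊕ Fin m) ⊕ Fin 2) F :=
  Matrix.GeneralLinearGroup.mkOfDetNeZero (mMinus (m := m) a b c w₁ w₂) (by
    rw [det_mMinus, hc]
    exact mul_ne_zero (pow_ne_zero _ (Units.ne_zero _)) (Units.ne_zero _))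

theorem dMinus_coe (c : Fˣ) (w₁ w₂ : F) (hc : w₁ ^ 2 + a * w₁ * w₂ + b * w₂ ^ 2 = (c : F)) :
    ((dMinus (m := m) a b c w₁ w₂ hc : GL ((Fin m ⊕ Fin m) ⊕ Fin 2) F) :
      Matrix ((Fin m ⊕ Fin m) ⊕ Fin 2) ((Fin m ⊕ Fin m) ⊕ Fin 2) F) = mMinus a b c w₁ w₂ := rfl

theorem dMinus_spec (c : Fˣ) (w₁ w₂ : F) (hc : w₁ ^ 2 + a * w₁ * w₂ + b * w₂ ^ 2 = (c : F))
    (v : (Fin m ⊕ Fin m) ⊕ Fin 2 → F) :
    qfMinus m F a b (((dMinus (m := m) a b c w₁ w₂ hc : GL ((Fin m ⊕ Fin m) ⊕ Fin 2) F) :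
      Matrix ((Fin m ⊕ Fin m) ⊕ Fin 2) ((Fin m ⊕ Fin m) ⊕ Fin 2) F) *ᵥ v) =
      (c : F) * qfMinus m F a b v := by
  rw [qfMinus_coe, dMinus_coe]
  exact mMinus_spec a b c w₁ w₂ hc v

theorem dMinus_mem (c : Fˣ) (w₁ w₂ : F) (hc : w₁ ^ 2 + a * w₁ * w₂ + b * w₂ ^ 2 = (c : F)) :
    dMinus (m := m) a b c w₁ w₂ hc ∈ GOq (qfMinus m F a b) := ⟨c, dMinus_spec a b c w₁ w₂ hc⟩

theorem card_minus : Fintype.card ((Fin m ⊕ Fin m) ⊕ Fin 2) = 2 * (m + 1) := by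
  simp only [Fintype.card_sum, Fintype.card_fin]; ring

theorem mult_dMinus (hne : ∃ v, qfMinus m F a b v ≠ 0) (c : Fˣ) (w₁ w₂ : F)
    (hc : w₁ ^ 2 + a * w₁ * w₂ + b * w₂ ^ 2 = (c : F)) :
    mult (qfMinus m F a b) ⟨dMinus a b c w₁ w₂ hc, dMinus_mem a b c w₁ w₂ hc⟩ = c :=
  mult_unique _ hne _ c (dMinus_spec a b c w₁ w₂ hc)

theorem eps_dMinus (hne : ∃ v, qfMinus m F a b v ≠ 0) (c : Fˣ) (w₁ w₂ : F)
    (hc : w₁ ^ 2 + a * w₁ * w₂ + b * w₂ ^ 2 = (c : F)) :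
    eps (qfMinus m F a b) hne (m + 1) ⟨dMinus a b c w₁ w₂ hc, dMinus_mem a b c w₁ w₂ hc⟩ = 1 := by
  rw [eps_apply, mult_dMinus a b hne]
  have h1 : detGO (qfMinus m F a b) ⟨dMinus a b c w₁ w₂ hc, dMinus_mem a b c w₁ w₂ hc⟩ =
      c ^ (m + 1) := by
    apply Units.ext
    rw [detGO_coe]
    show (mMinus (m := m) a b c w₁ w₂).det = _
    rw [det_mMinus, hc, Units.val_pow_eq_pow_val, pow_succ]
  rw [h1]
  exact mul_inv_cancel _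

end Cfsg.Agent.Lib.Lead.OAM
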