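import Mathlib
import Cfsg.Agent.Lib.Helper10.C3E.Defs
import Cfsg.Agent.Lib.Helper16.Symplectic
import Cfsg.Agent.Lib.helper6.Symp

set_option autoImplicit false
set_option linter.unusedVariables false
set_option linter.unusedSectionVars false

/-! # Project S5975, row EMB: `Sp_{2n'}(K)` embeds in `SpB F B` -/

namespace Cfsg.Agent.Lib.Helper10.C3E

open Module Matrix Cfsg.Agent.Lib.helper8.C3S

/-- a symplectic matrix as a linear automorphism of the standard space -/
noncomputable def c3eemb_lin (n : ℕ) (K : Type*) [Field K] (A : Matrix.symplecticGroup (Fin n) K) :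
    (Fin n ⊕ Fin n → K) ≃ₗ[K] (Fin n ⊕ Fin n → K) :=
  LinearEquiv.ofLinearMap (Matrix.toLin' (A : Matrix (Fin n ⊕ Fin n) (Fin n ⊕ Fin n) K))
    (Matrix.toLin' ((A⁻¹ : Matrix.symplecticGroup (Fin n) K) : Matrix (Fin n ⊕ Fin n) (Fin n ⊕ Fin n) K))
    (by
      rw [← Matrix.toLin'_mul]
      have h : A * A⁻¹ = 1 := mul_inv_cancel A
      have h2 : (A : Matrix (Fin n ⊕ Fin n) (Fin n ⊕ Fin n) K) *
          ((A⁻¹ : Matrix.symplecticGroup (Fin n) K) : Matrix (Fin n ⊕ Fin n) (Fin n ⊕ Fin n) K) = 1 :=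
        congrArg Subtype.val h
      rw [h2, Matrix.toLin'_one])
    (by
      rw [← Matrix.toLin'_mul]
      have h : A⁻¹ * A = 1 := inv_mul_cancel A
      have h2 : ((A⁻¹ : Matrix.symplecticGroup (Fin n) K) : Matrix (Fin n ⊕ Fin n) (Fin n ⊕ Fin n) K) *
          (A : Matrix (Fin n ⊕ Fin n) (Fin n ⊕ Fin n) K) = 1 :=
        congrArg Subtype.val h
      rw [h2, Matrix.toLin'_one])

theorem c3eemb_lin_apply (n : ℕ) (K : Type*) [Field K] (A : Matrix.symplecticGroup (Fin n) K)
    (u : Fin n ⊕ Fin n → K) :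
    c3eemb_lin n K A u = (A : Matrix (Fin n ⊕ Fin n) (Fin n ⊕ Fin n) K) *ᵥ u := by
  show Matrix.toLin' _ u = _
  rw [Matrix.toLin'_apply]

variable {F K V : Type*} [Field F] [Field K] [Algebra F K] [AddCommGroup V] [Module F V] [Module K V]
  [IsScalarTower F K V]

theorem c3e_emb [FiniteDimensional K V] (B : V →ₗ[K] V →ₗ[K] K) (hB0 : ∀ x, B x x = 0)
    (hBn : ∀ x, x ≠ 0 → ∃ y, B x y ≠ 0) {n' : ℕ} (hV : finrank K V = 2 * n') :
    ∃ φ : Matrix.symplecticGroup (Fin n') K →* (V ≃ₗ[F] V), Function.Injective φ ∧ ∀ A, φ A ∈ SpB F B := by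
  classical
  have halt : LinearMap.BilinForm.IsAlt B := hB0
  have hskew : ∀ x y, B x y = - B y x := fun x y => (halt.neg_eq y x).symm
  have hnd : LinearMap.BilinForm.Nondegenerate B := by
    constructor
    · intro x hx
      by_contra hne
      obtain ⟨y, hy⟩ := hBn x hne
      exact hy (hx y)
    · intro y hy
      by_contra hne
      obtain ⟨z, hz⟩ := hBn y hne
      apply hz
      rw [hskew, hy z, neg_zero]
  obtain ⟨b, hb⟩ := Cfsg.Agent.Lib.Helper16.symplectic_basis hV B halt hnd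
  obtain ⟨ψ, hψ⟩ : ∃ ψ : (Fin n' ⊕ Fin n' → K) ≃ₗ[K] V, ψ = b.equivFun.symm := ⟨_, rfl⟩
  have hform : ∀ u v, B (ψ u) (ψ v) = Cfsg.sympForm n' K u v := by
    intro u v
    rw [hψ, ← LinearMap.BilinForm.dotProduct_toMatrix_mulVec b B u v, hb]
    rfl
  let φ : Matrix.symplecticGroup (Fin n') K →* (V ≃ₗ[F] V) :=
    { toFun := fun A => ((ψ.symm.trans (c3eemb_lin n' K A)).trans ψ).restrictScalars F
      map_one' := by
        apply LinearEquiv.ext
        intro x
        show ψ (c3eemb_lin n' K 1 (ψ.symm x)) = x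
        rw [c3eemb_lin_apply]
        show ψ ((1 : Matrix (Fin n' ⊕ Fin n') (Fin n' ⊕ Fin n') K) *ᵥ ψ.symm x) = x
        rw [Matrix.one_mulVec, LinearEquiv.apply_symm_apply]
      map_mul' := by
        intro A A'
        apply LinearEquiv.ext
        intro x
        show ψ (c3eemb_lin n' K (A * A') (ψ.symm x)) =
          ψ (c3eemb_lin n' K A (ψ.symm (ψ (c3eemb_lin n' K A' (ψ.symm x)))))
        rw [LinearEquiv.symm_apply_apply, c3eemb_lin_apply, c3eemb_lin_apply, c3eemb_lin_apply,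
          Matrix.mulVec_mulVec]
        rfl }
  have hφ : ∀ A x, φ A x = ψ ((A : Matrix (Fin n' ⊕ Fin n') (Fin n' ⊕ Fin n') K) *ᵥ ψ.symm x) := by
    intro A x
    show ψ (c3eemb_lin n' K A (ψ.symm x)) = _
    rw [c3eemb_lin_apply]
  refine ⟨φ, ?_, ?_⟩
  · intro A A' hAA
    apply Subtype.ext
    apply Matrix.toLin'.injective
    apply LinearMap.ext
    intro u
    have h1 := LinearEquiv.congr_fun hAA (ψ u)
    rw [hφ, hφ, LinearEquiv.symm_apply_apply] at h1
    rw [Matrix.toLin'_apply, Matrix.toLin'_apply]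
    exact ψ.injective h1
  · intro A
    rw [mem_SpB]
    constructor
    · intro a x
      rw [hφ, hφ, map_smul, Matrix.mulVec_smul, map_smul]
    · intro x y
      rw [hφ, hφ, hform]
      rw [(Cfsg.Agent.Lib.helper6.mem_symplecticGroup_iff_sympForm n' _).mp A.2, ← hform,
        LinearEquiv.apply_symm_apply, LinearEquiv.apply_symm_apply]

end Cfsg.Agent.Lib.Helper10.C3E
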