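import Mathlib
import Cfsg.Prelude.Def_ClassicalGeometry
import Cfsg.Agent.S0245
import Cfsg.Agent.Lib.helper6.Symp
import Cfsg.Agent.Lib.helper14.PolC

set_option autoImplicit false

/-!
# TSD row EXODD (second write by lead)

An element of odd prime order `r ≠ p` of `Sp_{2d}(q)` whose support has dimension at most
`lcm 2 (ord_r q)`.  Route: the order formula `Cfsg.Agent.S0245.result`, Cauchy in `Sp_{2 j₀}(q)`
with `2 j₀ = lcm 2 (ord_r q)`, and the block embedding `Cfsg.Agent.Lib.helper14.PolC.emb`.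
-/

namespace Cfsg.Agent.Lib.helper4.TSD

open Matrix Cfsg.Agent.Lib.helper14 Cfsg.Agent.Lib.helper6

/-- `spGL d F` and Mathlib's symplectic group have the same number of elements. -/
theorem tsdexodd_lead_card {F : Type*} [Field F] (d : ℕ) :
    Nat.card (Cfsg.spGL d F) = Nat.card (Matrix.symplecticGroup (Fin d) F) := by
  classical
  apply Nat.card_congr
  refine
    { toFun := fun A => ⟨((A : Matrix.GeneralLinearGroup (Fin d ⊕ Fin d) F) :
          Matrix (Fin d ⊕ Fin d) (Fin d ⊕ Fin d) F),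
          (mem_symplecticGroup_iff_sympForm d _).mpr (fun u v => A.2 u v)⟩
      invFun := fun g => ⟨⟨g.1, (g⁻¹).1, by
          have : g * g⁻¹ = 1 := mul_inv_cancel g
          exact congrArg Subtype.val this, by
          have : g⁻¹ * g = 1 := inv_mul_cancel g
          exact congrArg Subtype.val this⟩, by
        intro u v
        exact (mem_symplecticGroup_iff_sympForm d g.1).mp g.2 u v⟩
      left_inv := ?_
      right_inv := ?_ }
  · intro A
    apply Subtype.ext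
    apply Units.ext
    rfl
  · intro g
    apply Subtype.ext
    rfl

/-- arithmetic: from `r ∣ |Sp_{2d}(q)|`, `r ∤ q`, get `j₀` with `2 j₀ = lcm 2 (ord_r q)`, `1 ≤ j₀ ≤ d`,
`r ∣ q^(2 j₀) - 1`. -/
theorem tsdexodd_lead_arith (q d r : ℕ) [hrP : Fact r.Prime] (hq : 1 ≤ q) (hrq : ¬ r ∣ q)
    (hr : r ∣ q ^ (d ^ 2) * ∏ i ∈ Finset.range d, (q ^ (2 * (i + 1)) - 1)) :
    ∃ j₀ : ℕ, 1 ≤ j₀ ∧ j₀ ≤ d ∧ 2 * j₀ = Nat.lcm 2 (orderOf ((q : ℕ) : ZMod r)) ∧
      r ∣ q ^ (2 * j₀) - 1 := by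
  have hp : r.Prime := hrP.out
  have hr2 : r ∣ ∏ i ∈ Finset.range d, (q ^ (2 * (i + 1)) - 1) := by
    rcases (Nat.Prime.dvd_mul hp).mp hr with h | h
    · exact absurd (hp.dvd_of_dvd_pow h) hrq
    · exact h
  obtain ⟨i, hi, hdiv⟩ := (Prime.dvd_finsetProd_iff (Nat.Prime.prime hp) _).mp hr2
  have hid : i < d := Finset.mem_range.mp hi
  have hpow1 : ∀ n : ℕ, r ∣ q ^ n - 1 ↔ ((q : ℕ) : ZMod r) ^ n = 1 := by
    intro n
    have h1 : 1 ≤ q ^ n := Nat.one_le_pow _ _ hq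
    rw [← ZMod.natCast_eq_zero_iff, Nat.cast_sub h1, Nat.cast_pow, Nat.cast_one, sub_eq_zero]
  have ho : orderOf ((q : ℕ) : ZMod r) ∣ 2 * (i + 1) :=
    orderOf_dvd_of_pow_eq_one ((hpow1 _).mp hdiv)
  have hc : Nat.lcm 2 (orderOf ((q : ℕ) : ZMod r)) ∣ 2 * (i + 1) :=
    Nat.lcm_dvd (dvd_mul_right 2 (i + 1)) ho
  obtain ⟨j₀, hj₀⟩ : 2 ∣ Nat.lcm 2 (orderOf ((q : ℕ) : ZMod r)) := Nat.dvd_lcm_left _ _
  have hj₀dvd : j₀ ∣ i + 1 := by
    rw [hj₀] at hc
    exact (Nat.mul_dvd_mul_iff_left (by norm_num : 0 < 2)).mp hc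
  have hj₀le : j₀ ≤ i + 1 := Nat.le_of_dvd (Nat.succ_pos i) hj₀dvd
  have hj₀pos : 1 ≤ j₀ := Nat.pos_of_dvd_of_pos hj₀dvd (Nat.succ_pos i)
  refine ⟨j₀, hj₀pos, by omega, hj₀.symm, ?_⟩
  rw [hpow1, ← hj₀]
  obtain ⟨t, ht⟩ := Nat.dvd_lcm_right 2 (orderOf ((q : ℕ) : ZMod r))
  rw [ht, pow_mul, pow_orderOf_eq_one, one_pow]

theorem tsdexodd_lead_toLin'_pow {F : Type*} [Field F] {n : Type*} [Fintype n] [DecidableEq n]
    (M : Matrix n n F) (k : ℕ) : Matrix.toLin' (M ^ k) = (Matrix.toLin' M) ^ k := by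
  induction k with
  | zero => rw [pow_zero, pow_zero, Matrix.toLin'_one]; rfl
  | succ k ih => rw [pow_succ, pow_succ, Matrix.toLin'_mul, ih]; rfl

/-- EXODD, second write. Same statement as `tsd_exists_odd` of `helper4/TSD/Skel.lean.txt`. -/
theorem tsdexodd_lead_exists_odd {F : Type*} [Field F] [Fintype F] (d : ℕ) (r : ℕ) [Fact r.Prime]
    (hr2 : r ≠ 2) (hrq : ¬ r ∣ Fintype.card F)
    (hr : r ∣ Nat.card (Cfsg.spGL d F)) :
    ∃ x ∈ Cfsg.spGL d F, (x : Matrix (Fin d ⊕ Fin d) (Fin d ⊕ Fin d) F) ^ r = 1 ∧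
      (x : Matrix (Fin d ⊕ Fin d) (Fin d ⊕ Fin d) F) ≠ 1 ∧
      ((x : Matrix (Fin d ⊕ Fin d) (Fin d ⊕ Fin d) F) - 1).rank ≤
        Nat.lcm 2 (orderOf ((Fintype.card F : ℕ) : ZMod r)) := by
  classical
  have hrP : r.Prime := Fact.out
  have hq1 : 1 ≤ Fintype.card F := Fintype.card_pos
  rw [tsdexodd_lead_card, Cfsg.Agent.S0245.result (rfl : Fintype.card F = Fintype.card F) d] at hr
  obtain ⟨j, hj1, hjd, hlcm, hjdiv⟩ := tsdexodd_lead_arith (Fintype.card F) d r hq1 hrq hr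
  rw [← hlcm]
  -- Cauchy in Sp_{2j}
  have hcard : r ∣ Nat.card (Matrix.symplecticGroup (Fin j) F) := by
    rw [Cfsg.Agent.S0245.result (rfl : Fintype.card F = Fintype.card F) j]
    apply dvd_mul_of_dvd_right
    apply dvd_trans _ (Finset.dvd_prod_of_mem _ (Finset.mem_range.mpr (show j - 1 < j by omega)))
    have : 2 * (j - 1 + 1) = 2 * j := by omega
    rw [this]
    exact hjdiv
  obtain ⟨x₁, hx₁⟩ := exists_prime_orderOf_dvd_card' r hcard
  let a : Module.End F (Fin j ⊕ Fin j → F) :=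
    Matrix.toLin' (x₁ : Matrix (Fin j ⊕ Fin j) (Fin j ⊕ Fin j) F)
  have har : a ^ r = 1 := by
    have h1 : x₁ ^ r = 1 := hx₁ ▸ pow_orderOf_eq_one x₁
    have h2 : (x₁ : Matrix (Fin j ⊕ Fin j) (Fin j ⊕ Fin j) F) ^ r = 1 := by
      rw [← SubmonoidClass.coe_pow, h1]
      rfl
    show (Matrix.toLin' (x₁ : Matrix (Fin j ⊕ Fin j) (Fin j ⊕ Fin j) F)) ^ r = 1
    rw [← tsdexodd_lead_toLin'_pow, h2, Matrix.toLin'_one]
    rfl
  have ha1 : a ≠ 1 := by
    intro h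
    have h1 : (x₁ : Matrix (Fin j ⊕ Fin j) (Fin j ⊕ Fin j) F) = 1 := by
      apply Matrix.toLin'.injective
      rw [Matrix.toLin'_one]
      exact h
    have h2 : x₁ = 1 := Subtype.ext h1
    rw [h2, orderOf_one] at hx₁
    exact hrP.one_lt.ne hx₁
  have hasymp : ∀ y y', Cfsg.sympForm j F (a y) (a y') = Cfsg.sympForm j F y y' := by
    intro y y'
    show Cfsg.sympForm j F (Matrix.toLin' _ y) (Matrix.toLin' _ y') = _
    rw [Matrix.toLin'_apply, Matrix.toLin'_apply]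
    exact (mem_symplecticGroup_iff_sympForm j _).mp x₁.2 y y'
  obtain ⟨k, rfl⟩ : ∃ k, d = j + k := Nat.exists_eq_add_of_le hjd
  let X : Module.End F (Fin (j + k) ⊕ Fin (j + k) → F) := PolC.emb j k a
  have hXr : X ^ r = 1 := by
    show PolC.emb j k a ^ r = 1
    rw [← PolC.emb_pow, har, PolC.emb_one]
  let M : Matrix (Fin (j + k) ⊕ Fin (j + k)) (Fin (j + k) ⊕ Fin (j + k)) F := LinearMap.toMatrix' X
  have hM : Matrix.toLin' M = X := Matrix.toLin'_toMatrix' X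
  have hMr : M ^ r = 1 := by
    apply Matrix.toLin'.injective
    rw [tsdexodd_lead_toLin'_pow, hM, hXr, Matrix.toLin'_one]
    rfl
  have hMsymp : ∀ u v, Cfsg.sympForm (j + k) F (M *ᵥ u) (M *ᵥ v) = Cfsg.sympForm (j + k) F u v := by
    intro u v
    rw [← Matrix.toLin'_apply, ← Matrix.toLin'_apply, hM]
    exact PolC.symp_emb j k a hasymp u v
  have hr0 : r - 1 + 1 = r := Nat.sub_add_cancel hrP.one_lt.le
  let x : Matrix.GeneralLinearGroup (Fin (j + k) ⊕ Fin (j + k)) F :=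
    ⟨M, M ^ (r - 1), by rw [← pow_succ', hr0, hMr], by rw [← pow_succ, hr0, hMr]⟩
  have hxM : (x : Matrix (Fin (j + k) ⊕ Fin (j + k)) (Fin (j + k) ⊕ Fin (j + k)) F) = M := rfl
  refine ⟨x, ?_, ?_, ?_, ?_⟩
  · intro u v
    exact hMsymp u v
  · rw [hxM]; exact hMr
  · rw [hxM]
    intro h1
    apply ha1
    -- X = 1, so a = pr ∘ X ∘ io = 1
    have hX1 : X = 1 := by
      rw [← hM, h1, Matrix.toLin'_one]
      rfl
    apply LinearMap.ext
    intro y
    have h2 : PolC.emb j k a (PolC.io j k y) = PolC.io j k (a y) := PolC.emb_io j k a y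
    have h3 : PolC.emb j k a (PolC.io j k y) = PolC.io j k y := by
      show X (PolC.io j k y) = _
      rw [hX1]
      rfl
    have h4 : PolC.io j k (a y) = PolC.io j k y := by rw [← h2, h3]
    have h5 := congrArg (PolC.pr j k) h4
    rw [PolC.pr_io, PolC.pr_io] at h5
    rw [h5]
    rfl
  · rw [hxM]
    -- M - 1 = toMatrix' (io ∘ (a - 1) ∘ pr)
    have hM1 : M - 1 = LinearMap.toMatrix' (PolC.io j k ∘ₗ (a - 1) ∘ₗ PolC.pr j k) := by
      have : (1 : Matrix (Fin (j + k) ⊕ Fin (j + k)) (Fin (j + k) ⊕ Fin (j + k)) F) =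
          LinearMap.toMatrix' (1 : Module.End F (Fin (j + k) ⊕ Fin (j + k) → F)) :=
        (LinearMap.toMatrix'_one).symm
      rw [this]
      show LinearMap.toMatrix' X - _ = _
      rw [← map_sub]
      congr 1
      show PolC.emb j k a - 1 = _
      unfold PolC.emb
      abel
    rw [hM1]
    show Module.finrank F (LinearMap.range
      (LinearMap.toMatrix' (PolC.io j k ∘ₗ (a - 1) ∘ₗ PolC.pr j k)).mulVecLin) ≤ 2 * j
    rw [← Matrix.toLin'_apply', Matrix.toLin'_toMatrix']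
    calc Module.finrank F (LinearMap.range (PolC.io j k ∘ₗ (a - 1) ∘ₗ PolC.pr j k))
        ≤ Module.finrank F (LinearMap.range (PolC.io (F := F) j k)) :=
          Submodule.finrank_mono (LinearMap.range_comp_le_range _ _)
      _ ≤ Module.finrank F (Fin j ⊕ Fin j → F) := LinearMap.finrank_range_le _
      _ = 2 * j := by
          rw [Module.finrank_fintype_fun_eq_card, Fintype.card_sum, Fintype.card_fin]
          ring

end Cfsg.Agent.Lib.helper4.TSD
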