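import Mathlib
import Cfsg.Agent.Lib.Helper22.C3L.Defs
import Cfsg.Agent.Lib.Helper10.C3O.Defs

set_option autoImplicit false
set_option linter.unusedVariables false
set_option linter.unusedSectionVars false

namespace Cfsg.Agent.Lib.Helper10.C3O

open Module Cfsg.Agent.Lib.Helper22.C3L

variable {F K V : Type*} [Field F] [Field K] [Algebra F K] [AddCommGroup V] [Module F V] [Module K V]
  [IsScalarTower F K V]

theorem lo_zero (B : V →ₗ[K] V →ₗ[K] K) (H : Subgroup (V ≃ₗ[F] V)) (v : V) : (0 : V →ₗ[F] K) ∈ LO B H v := by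
  refine ⟨1, H.one_mem, fun a => rfl, fun x _ => ?_⟩
  simp

theorem lo_add (B : V →ₗ[K] V →ₗ[K] K) (H : Subgroup (V ≃ₗ[F] V)) (v : V) {θ θ' : V →ₗ[F] K}
    (hθ : θ ∈ LO B H v) (hθ' : θ' ∈ LO B H v) : θ + θ' ∈ LO B H v := by
  obtain ⟨g, hg, hgf, hgx⟩ := hθ
  obtain ⟨g', hg', hgf', hgx'⟩ := hθ'
  refine ⟨g * g', H.mul_mem hg hg', fun a => ?_, fun x hx => ?_⟩
  · rw [LinearEquiv.mul_apply, hgf', hgf]
  · rw [LinearEquiv.mul_apply, hgx' x hx, map_add, hgx x hx, hgf, LinearMap.add_apply, add_smul, add_assoc]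

theorem lo_neg (B : V →ₗ[K] V →ₗ[K] K) (H : Subgroup (V ≃ₗ[F] V)) (v : V) {θ : V →ₗ[F] K}
    (hθ : θ ∈ LO B H v) : -θ ∈ LO B H v := by
  obtain ⟨g, hg, hgf, hgx⟩ := hθ
  have hinv : ∀ y : V, g (g⁻¹ y) = y := fun y => by
    rw [← LinearEquiv.mul_apply, mul_inv_cancel]
    rfl
  refine ⟨g⁻¹, H.inv_mem hg, fun a => ?_, fun x hx => ?_⟩
  · apply g.injective
    rw [hinv, hgf]
  · apply g.injective
    rw [hinv, map_add, hgx x hx, hgf, LinearMap.neg_apply, neg_smul]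
    abel

end Cfsg.Agent.Lib.Helper10.C3O
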