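import Mathlib
import Cfsg.Agent.Lib.Helper22.C3L.Defs
import Cfsg.Agent.Lib.Helper10.C3O.Defs
import Cfsg.Agent.Lib.helper3.C3OPERP

set_option autoImplicit false
set_option linter.unusedVariables false
set_option linter.unusedSectionVars false

namespace Cfsg.Agent.Lib.Helper10.C3O

open Module Cfsg.Agent.Lib.Helper22.C3L

variable {F K V : Type*} [Field F] [Field K] [Algebra F K] [AddCommGroup V] [Module F V] [Module K V]
  [IsScalarTower F K V]

theorem lo_conj [Finite K] (B : V →ₗ[K] V →ₗ[K] K) (hBs : ∀ x y, B x y = B y x) (H : Subgroup (V ≃ₗ[F] V))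
    (hH : H ≤ Of F B) {v : V} (hv : v ≠ 0) {g₀ : V ≃ₗ[F] V} (hg₀ : g₀ ∈ H) (α : K →ₗ[F] K)
    (hα : ∀ a : K, g₀ (a • v) = α a • v) {θ : V →ₗ[F] K} (hθ : θ ∈ LO B H v) :
    α ∘ₗ θ ∘ₗ (g₀.symm : V →ₗ[F] V) ∈ LO B H v := by
  classical
  haveI : Finite F := Finite.of_injective (algebraMap F K) (algebraMap F K).injective
  haveI : FiniteDimensional F K := Module.Finite.of_finite
  haveI : Algebra.IsSeparable F K := inferInstance
  obtain ⟨g, hg, hgf, hgx⟩ := hθ
  have hαinj : Function.Injective α := by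
    rw [injective_iff_map_eq_zero]
    intro a ha
    have h1 := hα a
    rw [ha, zero_smul] at h1
    have h0 : a • v = 0 := by
      apply g₀.injective
      rw [h1, map_zero]
    exact (smul_eq_zero.mp h0).resolve_right hv
  have hαsurj : Function.Surjective α := LinearMap.surjective_of_injective hαinj
  have hsymm : ∀ a : K, ∃ b : K, α b = a ∧ g₀.symm (a • v) = b • v := by
    intro a
    obtain ⟨b, hb⟩ := hαsurj a
    refine ⟨b, hb, ?_⟩
    apply g₀.injective
    rw [LinearEquiv.apply_symm_apply, hα, hb]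
  refine ⟨g₀ * g * g₀⁻¹, H.mul_mem (H.mul_mem hg₀ hg) (H.inv_mem hg₀), fun a => ?_, fun x hx => ?_⟩
  · obtain ⟨b, hb, hs⟩ := hsymm a
    show g₀ (g (g₀.symm (a • v))) = a • v
    rw [hs, hgf, hα, hb]
  · show g₀ (g (g₀.symm x)) = x + (α ∘ₗ θ ∘ₗ (g₀.symm : V →ₗ[F] V)) x • v
    have hx' : B (g₀.symm x) v = 0 := by
      rw [perp_iff (F := F)]
      intro k
      have hOf := hH hg₀
      have hB1 : B (k • g₀.symm x) v = B (g₀.symm x) (k • v) := by
        rw [map_smul, LinearMap.smul_apply, map_smul]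
      have hB2 : B x (α k • v) = 0 := by
        rw [map_smul, hx, smul_zero]
      have h1 : tf F B (k • g₀.symm x) v = tf F B (g₀.symm x) (k • v) := by
        rw [tf_def, tf_def, hB1]
      rw [h1, ← hOf (g₀.symm x) (k • v), LinearEquiv.apply_symm_apply, hα, tf_def, hB2, map_zero]
    rw [hgx _ hx', map_add, LinearEquiv.apply_symm_apply, hα]
    rfl

end Cfsg.Agent.Lib.Helper10.C3O
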