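import Mathlib
import Cfsg.Agent.Lib.Helper22.C3L.Defs
import Cfsg.Agent.Lib.Helper10.C3O.Defs
import Cfsg.Agent.Lib.Helper10.C3OKSG
import Cfsg.Agent.Lib.Helper10.C3OKTOR
import Cfsg.Agent.Lib.helper3.C3OHYP
import Cfsg.Agent.Lib.Lead.C3OLO1

set_option autoImplicit false
set_option linter.unusedVariables false
set_option linter.unusedSectionVars false

namespace Cfsg.Agent.Lib.Helper10.C3O

open Module Cfsg.Agent.Lib.Helper22.C3L

variable {F K V : Type*} [Field F] [Field K] [Algebra F K] [AddCommGroup V] [Module F V] [Module K V]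
  [IsScalarTower F K V]

theorem lo_siegel (h2 : (2 : F) ≠ 0) (B : V →ₗ[K] V →ₗ[K] K) (hBs : ∀ x y, B x y = B y x)
    (hBn : ∀ x, x ≠ 0 → ∃ y, B x y ≠ 0) (H : Subgroup (V ≃ₗ[F] V)) (hC : OmB F B ≤ H) {v y : V}
    (hv0 : B v v = 0) (hvy : B v y = 0) : ∃ θ ∈ LO B H v, ∀ x : V, θ x = - B x y := by
  obtain ⟨g, hg, hgx⟩ := ksg_mem h2 B hBs hBn hv0 hvy
  refine ⟨-((B.flip y).restrictScalars F), ⟨g, hC hg, fun a => ?_, fun x hx => ?_⟩, fun x => rfl⟩
  · rw [hgx]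
    unfold ksg
    have h1 : B (a • v) v = 0 := by rw [map_smul, LinearMap.smul_apply, hv0, smul_zero]
    have h3 : B (a • v) y = 0 := by rw [map_smul, LinearMap.smul_apply, hvy, smul_zero]
    rw [h1, h3]
    simp
  · rw [hgx]
    unfold ksg
    rw [hx]
    simp only [zero_smul, mul_zero, add_zero, sub_zero, LinearMap.neg_apply,
      LinearMap.coe_restrictScalars, LinearMap.flip_apply, neg_smul]
    abel

/-- `LO` is stable under left multiplication by a non-zero square. -/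
theorem c3olok_sq (h2 : (2 : F) ≠ 0) (B : V →ₗ[K] V →ₗ[K] K) (hBs : ∀ x y, B x y = B y x)
    (hBn : ∀ x, x ≠ 0 → ∃ y, B x y ≠ 0) (H : Subgroup (V ≃ₗ[F] V)) (hC : OmB F B ≤ H) {v : V} (hv : v ≠ 0)
    (hv0 : B v v = 0) {s : K} (hs : s ≠ 0) {θ : V →ₗ[F] K} (hθ : θ ∈ LO B H v) :
    LinearMap.mulLeft F (s * s) ∘ₗ θ ∈ LO B H v := by
  obtain ⟨g, hg, hgf, hgx⟩ := hθ
  obtain ⟨t, ht, htv, htx⟩ := ktor_ex h2 B hBs hBn hv hv0 hs
  have htH : t ∈ H := hC ht
  have htOB := OmB_le_OB B ht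
  have hss : s * s ≠ 0 := mul_ne_zero hs hs
  have hinv : ∀ y : V, t (t⁻¹ y) = y := fun y => by
    rw [← LinearEquiv.mul_apply, mul_inv_cancel]
    rfl
  have hθv : ∀ a : K, θ (a • v) = 0 := by
    intro a
    have h1 := hgx (a • v) (by rw [map_smul, LinearMap.smul_apply, hv0, smul_zero])
    rw [hgf] at h1
    have h3 : θ (a • v) • v = 0 := by
      have h4 : a • v + θ (a • v) • v = a • v + 0 := by rw [← h1, add_zero]
      exact add_left_cancel h4
    exact (smul_eq_zero.mp h3).resolve_right hv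
  refine ⟨t * g * t⁻¹, H.mul_mem (H.mul_mem htH hg) (H.inv_mem htH), fun a => ?_, fun x hx => ?_⟩
  · have h1 : t (((s * s)⁻¹ * a) • v) = a • v := by
      rw [htv]
      congr 1
      field_simp
    have h3 : t⁻¹ (a • v) = ((s * s)⁻¹ * a) • v := by
      apply t.injective
      rw [h1, hinv]
    show t (g (t⁻¹ (a • v))) = a • v
    rw [h3, hgf, h1]
  · have htx' : t (t⁻¹ x) = x := hinv x
    have hx'v : B (t⁻¹ x) v = 0 := by
      have h1 := htOB.2 (t⁻¹ x) v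
      rw [htx'] at h1
      have htv1 : t v = (s * s) • v := by
        have := htv 1
        rwa [one_smul, mul_one] at this
      rw [htv1, map_smul, hx, smul_zero] at h1
      exact h1.symm
    obtain ⟨a, ha⟩ := htx (t⁻¹ x) hx'v
    have hxx' : t⁻¹ x = x - a • v := by
      rw [htx'] at ha
      exact eq_sub_of_add_eq ha.symm
    have hθx' : θ (t⁻¹ x) = θ x := by rw [hxx', map_sub, hθv, sub_zero]
    show t (g (t⁻¹ x)) = x + (LinearMap.mulLeft F (s * s) ∘ₗ θ) x • v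
    rw [hgx _ hx'v, map_add, htx', htv, hθx']
    rfl

theorem lo_smul (h2 : (2 : F) ≠ 0) (B : V →ₗ[K] V →ₗ[K] K) (hBs : ∀ x y, B x y = B y x)
    (hBn : ∀ x, x ≠ 0 → ∃ y, B x y ≠ 0) (H : Subgroup (V ≃ₗ[F] V)) (hC : OmB F B ≤ H) {v : V} (hv : v ≠ 0)
    (hv0 : B v v = 0) (k : K) {θ : V →ₗ[F] K} (hθ : θ ∈ LO B H v) :
    LinearMap.mulLeft F k ∘ₗ θ ∈ LO B H v := by
  have h2K : (2 : K) ≠ 0 := c3ohyp_two_ne h2
  have hsq : ∀ s : K, LinearMap.mulLeft F (s * s) ∘ₗ θ ∈ LO B H v := by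
    intro s
    by_cases hs : s = 0
    · rw [hs, mul_zero]
      have : LinearMap.mulLeft F (0 : K) ∘ₗ θ = 0 := by
        ext x
        simp
      rw [this]
      exact lo_zero B H v
    · exact c3olok_sq h2 B hBs hBn H hC hv hv0 hs hθ
  have hk : k = (k + 1) / 2 * ((k + 1) / 2) - (k - 1) / 2 * ((k - 1) / 2) := by
    field_simp
    ring
  have hdec : LinearMap.mulLeft F k ∘ₗ θ =
      LinearMap.mulLeft F ((k + 1) / 2 * ((k + 1) / 2)) ∘ₗ θ +
        -(LinearMap.mulLeft F ((k - 1) / 2 * ((k - 1) / 2)) ∘ₗ θ) := by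
    ext x
    simp only [LinearMap.comp_apply, LinearMap.mulLeft_apply, LinearMap.add_apply, LinearMap.neg_apply]
    rw [← neg_mul, ← add_mul, ← sub_eq_add_neg, ← hk]
  rw [hdec]
  exact lo_add B H v (hsq _) (lo_neg B H v (hsq _))

end Cfsg.Agent.Lib.Helper10.C3O
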