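import Mathlib
import Cfsg.Agent.Lib.Helper22.C3L.Defs
import Cfsg.Agent.Lib.Helper10.C3O.Defs
import Cfsg.Agent.Lib.helper3.C3OPERP
import Cfsg.Agent.Lib.helper2.C3OFSG

set_option autoImplicit false
set_option linter.unusedVariables false
set_option linter.unusedSectionVars false

/-!
# C3O row COMM : `comm_center` (the commutator of two elements of `H ∩ R_ℓ` is a long root element)
-/

namespace Cfsg.Agent.Lib.Helper10.C3O

open Module Cfsg.Agent.Lib.Helper22.C3L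

variable {F K V : Type*} [Field F] [Field K] [Algebra F K] [AddCommGroup V] [Module F V] [Module K V]
  [IsScalarTower F K V]

/-- `v^⊥` is closed under `x ↦ x + c • z`, `z ∈ K v`, `c ∈ F` (`v` singular). -/
theorem c3ocomm_W_add (B : V →ₗ[K] V →ₗ[K] K) {v : V} (hv0 : B v v = 0) {x z : V} (hx : B x v = 0)
    (hz : z ∈ Kl F K v) (c : F) : B (x + c • z) v = 0 := by
  obtain ⟨a, rfl⟩ := (mem_Kl F K).mp hz
  rw [map_add, LinearMap.add_apply, hx, zero_add, ← algebraMap_smul K c (a • v), map_smul, map_smul,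
    LinearMap.smul_apply, LinearMap.smul_apply, hv0, smul_zero, smul_zero]

/-- `K v ⊥ v^⊥` for `f`. -/
theorem c3ocomm_perp (B : V →ₗ[K] V →ₗ[K] K) {v : V} {x z : V} (hx : B x v = 0)
    (hz : z ∈ Kl F K v) : tf F B x z = 0 := by
  obtain ⟨a, rfl⟩ := (mem_Kl F K).mp hz
  rw [tf_def, map_smul, hx, smul_zero, map_zero]

/-- `(v^⊥)^⊥ ⊆ v^⊥` (`v` singular). -/
theorem c3ocomm_in [FiniteDimensional F K] [Algebra.IsSeparable F K] (B : V →ₗ[K] V →ₗ[K] K) {v : V}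
    (hv0 : B v v = 0) {u : V} (hu : ∀ y : V, B y v = 0 → tf F B u y = 0) : B u v = 0 := by
  rw [perp_iff (F := F)]
  intro k
  have h1 : B (k • u) v = B u (k • v) := by
    rw [map_smul, LinearMap.smul_apply, map_smul]
  have h3 : B (k • v) v = 0 := by
    rw [map_smul, LinearMap.smul_apply, hv0, smul_zero]
  have h4 := hu (k • v) h3
  rw [tf_def] at h4 ⊢
  rw [h1, h4]

/-- the remainder `g x - x - f x z • y₀` is `f`-orthogonal to `v^⊥`. -/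
theorem c3ocomm_rem (B : V →ₗ[K] V →ₗ[K] K) (hBs : ∀ x y, B x y = B y x) {v : V} (hv0 : B v v = 0)
    {g : V ≃ₗ[F] V} (hg : g ∈ Of F B) {z y₀ : V} (hz : z ∈ Kl F K v) (hy₀ : B y₀ v = 0)
    (h1 : ∀ x ∈ Kl F K v, g x = x) (h1' : ∀ x : V, B x v = 0 → g x = x - tf F B x y₀ • z) (x : V)
    {y : V} (hy : B y v = 0) : tf F B (g x - x - tf F B x z • y₀) y = 0 := by
  have hy' : B (y + tf F B y y₀ • z) v = 0 := c3ocomm_W_add B hv0 hy hz _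
  have hzy₀ : tf F B z y₀ = 0 := by
    rw [c3ofsg_symm B hBs]
    exact c3ocomm_perp B hy₀ hz
  have hgy' : g (y + tf F B y y₀ • z) = y := by
    rw [h1' _ hy', c3ofsg_add_left, c3ofsg_smul_left, hzy₀, mul_zero, add_zero]
    abel
  have h3 : tf F B (g x) y = tf F B x (y + tf F B y y₀ • z) := by
    rw [← hg x (y + tf F B y y₀ • z), hgy']
  rw [c3ofsg_sub_left, c3ofsg_sub_left, c3ofsg_smul_left, h3, c3ofsg_add_right, c3ofsg_smul_right,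
    c3ofsg_symm B hBs y₀ y]
  ring

/-- `g₁ (g₂ x) = g₁ x + g₂ x - x - (f x z₂ * f y₂ y₁) • z₁`. -/
theorem c3ocomm_prod [FiniteDimensional F K] [Algebra.IsSeparable F K] (B : V →ₗ[K] V →ₗ[K] K)
    (hBs : ∀ x y, B x y = B y x) {v : V} (hv0 : B v v = 0)
    {g₁ g₂ : V ≃ₗ[F] V} (hg₂ : g₂ ∈ Of F B) {z₁ z₂ y₁ y₂ : V}
    (hz₁ : z₁ ∈ Kl F K v) (hz₂ : z₂ ∈ Kl F K v) (hy₁ : B y₁ v = 0) (hy₂ : B y₂ v = 0)
    (h1' : ∀ x : V, B x v = 0 → g₁ x = x - tf F B x y₁ • z₁)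
    (h2' : ∀ x ∈ Kl F K v, g₂ x = x) (h2'' : ∀ x : V, B x v = 0 → g₂ x = x - tf F B x y₂ • z₂) (x : V) :
    g₁ (g₂ x) = g₁ x + g₂ x - x - (tf F B x z₂ * tf F B y₂ y₁) • z₁ := by
  have hr : ∀ y : V, B y v = 0 → tf F B (g₂ x - x - tf F B x z₂ • y₂) y = 0 := fun y hy =>
    c3ocomm_rem B hBs hv0 hg₂ hz₂ hy₂ h2' h2'' x hy
  have hrW : B (g₂ x - x - tf F B x z₂ • y₂) v = 0 := c3ocomm_in B hv0 hr
  have hgr : g₁ (g₂ x - x - tf F B x z₂ • y₂) = g₂ x - x - tf F B x z₂ • y₂ := by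
    rw [h1' _ hrW, hr y₁ hy₁, zero_smul, sub_zero]
  have hdec : g₂ x = x + tf F B x z₂ • y₂ + (g₂ x - x - tf F B x z₂ • y₂) := by abel
  have h3 : g₁ (g₂ x) = g₁ x + tf F B x z₂ • g₁ y₂ + (g₂ x - x - tf F B x z₂ • y₂) := by
    conv_lhs => rw [hdec]
    rw [map_add, map_add, map_smul, hgr]
  rw [h3, h1' y₂ hy₂, smul_sub, smul_smul]
  abel

theorem comm_center [Finite K] [FiniteDimensional K V] (h2 : (2 : F) ≠ 0) (B : V →ₗ[K] V →ₗ[K] K)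
    (hBs : ∀ x y, B x y = B y x) (hBn : ∀ x, x ≠ 0 → ∃ y, B x y ≠ 0) {v : V} (hv0 : B v v = 0)
    {g₁ g₂ : V ≃ₗ[F] V} (hg₁ : g₁ ∈ Of F B) (hg₂ : g₂ ∈ Of F B) {z₁ z₂ y₁ y₂ : V}
    (hz₁ : z₁ ∈ Kl F K v) (hz₂ : z₂ ∈ Kl F K v) (hy₁ : B y₁ v = 0) (hy₂ : B y₂ v = 0)
    (h1 : ∀ x ∈ Kl F K v, g₁ x = x) (h1' : ∀ x : V, B x v = 0 → g₁ x = x - tf F B x y₁ • z₁)
    (h2' : ∀ x ∈ Kl F K v, g₂ x = x) (h2'' : ∀ x : V, B x v = 0 → g₂ x = x - tf F B x y₂ • z₂) :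
    ∀ x : V, (g₁ * g₂ * g₁⁻¹ * g₂⁻¹) x = x + tf F B y₁ y₂ • (tf F B z₁ x • z₂ - tf F B z₂ x • z₁) := by
  classical
  haveI : Finite F := Finite.of_injective (algebraMap F K) (algebraMap F K).injective
  haveI : FiniteDimensional F K := Module.Finite.of_finite
  haveI : Algebra.IsSeparable F K := inferInstance
  intro x
  have hx : x = g₂ (g₁ (g₁⁻¹ (g₂⁻¹ x))) := by
    show x = g₂ (g₁ (g₁.symm (g₂.symm x)))
    rw [LinearEquiv.apply_symm_apply, LinearEquiv.apply_symm_apply]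
  set x' := g₁⁻¹ (g₂⁻¹ x) with hx'
  have hz : ∀ z ∈ Kl F K v, tf F B z x = tf F B z x' := by
    intro z hzz
    have h3 : g₂ (g₁ z) = z := by rw [h1 z hzz, h2' z hzz]
    conv_lhs => rw [hx, ← h3]
    rw [hg₂, hg₁]
  show g₁ (g₂ x') = x + tf F B y₁ y₂ • (tf F B z₁ x • z₂ - tf F B z₂ x • z₁)
  rw [hz z₁ hz₁, hz z₂ hz₂]
  have hA := c3ocomm_prod B hBs hv0 hg₂ hz₁ hz₂ hy₁ hy₂ h1' h2' h2'' x'
  have hB := c3ocomm_prod B hBs hv0 hg₁ hz₂ hz₁ hy₂ hy₁ h2'' h1 h1' x'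
  rw [hA]
  conv_rhs => rw [hx, hB]
  rw [c3ofsg_symm B hBs z₁ x', c3ofsg_symm B hBs z₂ x', c3ofsg_symm B hBs y₂ y₁]
  module

end Cfsg.Agent.Lib.Helper10.C3O
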