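import Mathlib
import Cfsg.Agent.Lib.Helper10.C6P.Defs

set_option autoImplicit false
set_option linter.unusedVariables false
set_option linter.unusedSectionVars false

/-! # Project C6P (S6000), row WPMUL (`pauli_mul`) -/

namespace Cfsg.Agent.Lib.Helper10.C6P

open Polynomial Matrix

variable {F : Type*} [Field F]

theorem c6pwpmul_D1D2 : (pD1 : M4 F) * pD2 = pD2 * pD1 := by
  ext i j; fin_cases i <;> fin_cases j <;> simp [pD1, pD2, Matrix.mul_apply, Fin.sum_univ_four]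

theorem c6pwpmul_D1X2 : (pD1 : M4 F) * pX2 = pX2 * pD1 := by
  ext i j; fin_cases i <;> fin_cases j <;> simp [pD1, pX2, Matrix.mul_apply, Fin.sum_univ_four]

theorem c6pwpmul_X1D2 : (pX1 : M4 F) * pD2 = pD2 * pX1 := by
  ext i j; fin_cases i <;> fin_cases j <;> simp [pX1, pD2, Matrix.mul_apply, Fin.sum_univ_four]

theorem c6pwpmul_X1X2 : (pX1 : M4 F) * pX2 = pX2 * pX1 := by
  ext i j; fin_cases i <;> fin_cases j <;> simp [pX1, pX2, Matrix.mul_apply, Fin.sum_univ_four]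

theorem c6pwpmul_X1D1 : (pX1 : M4 F) * pD1 = -(pD1 * pX1) := by
  ext i j; fin_cases i <;> fin_cases j <;> simp [pX1, pD1, Matrix.mul_apply, Fin.sum_univ_four]

theorem c6pwpmul_X2D2 : (pX2 : M4 F) * pD2 = -(pD2 * pX2) := by
  ext i j; fin_cases i <;> fin_cases j <;> simp [pX2, pD2, Matrix.mul_apply, Fin.sum_univ_four]

theorem c6pwpmul_D1sq : (pD1 : M4 F) * pD1 = 1 := by
  ext i j; fin_cases i <;> fin_cases j <;> simp [pD1, Matrix.mul_apply, Fin.sum_univ_four]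

theorem c6pwpmul_D2sq : (pD2 : M4 F) * pD2 = 1 := by
  ext i j; fin_cases i <;> fin_cases j <;> simp [pD2, Matrix.mul_apply, Fin.sum_univ_four]

theorem c6pwpmul_X1sq : (pX1 : M4 F) * pX1 = 1 := by
  ext i j; fin_cases i <;> fin_cases j <;> simp [pX1, Matrix.mul_apply, Fin.sum_univ_four]

theorem c6pwpmul_X2sq : (pX2 : M4 F) * pX2 = 1 := by
  ext i j; fin_cases i <;> fin_cases j <;> simp [pX2, Matrix.mul_apply, Fin.sum_univ_four]

/-- anticommuting matrices: `A ^ m * B ^ n = (-1) ^ (m * n) • (B ^ n * A ^ m)` -/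
theorem c6pwpmul_anti {A B : M4 F} (h : A * B = -(B * A)) (m n : ℕ) :
    A ^ m * B ^ n = (-1 : F) ^ (m * n) • (B ^ n * A ^ m) := by
  have h1 : ∀ n : ℕ, A * B ^ n = (-1 : F) ^ n • (B ^ n * A) := by
    intro n
    induction n with
    | zero => simp
    | succ n ih =>
      rw [pow_succ, ← Matrix.mul_assoc, ih, Matrix.smul_mul, Matrix.mul_assoc, h, Matrix.mul_neg,
        ← Matrix.mul_assoc, pow_succ, smul_neg, mul_neg_one, neg_smul]
  induction m with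
  | zero => simp
  | succ m ih =>
    rw [pow_succ, Matrix.mul_assoc, h1, Matrix.mul_smul, ← Matrix.mul_assoc, ih, Matrix.smul_mul,
      smul_smul, Matrix.mul_assoc, ← pow_succ]
    congr 1
    rw [← pow_add]
    congr 1
    ring

theorem pauli_mul (i : F) (hi : i * i = -1) (a b c d e a' b' c' d' e' : ℕ) :
    ∃ a'' b'' c'' d'' e'' : ℕ, pauliM i a b c d e * pauliM i a' b' c' d' e' = pauliM i a'' b'' c'' d'' e'' := by
  refine ⟨a + a' + 2 * (c * b' + e * d'), b + b', c + c', d + d', e + e', ?_⟩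
  unfold pauliM
  have cD1D2 : Commute (pD1 : M4 F) pD2 := c6pwpmul_D1D2
  have cD1X2 : Commute (pD1 : M4 F) pX2 := c6pwpmul_D1X2
  have cX1D2 : Commute (pX1 : M4 F) pD2 := c6pwpmul_X1D2
  have cX1X2 : Commute (pX1 : M4 F) pX2 := c6pwpmul_X1X2
  have e1 : (pX2 : M4 F) ^ e * pD1 ^ b' = pD1 ^ b' * pX2 ^ e := ((cD1X2.pow_pow b' e).eq).symm
  have e2 : (pD2 : M4 F) ^ d * pD1 ^ b' = pD1 ^ b' * pD2 ^ d := ((cD1D2.pow_pow b' d).eq).symm
  have e3 : (pX1 : M4 F) ^ c * pD1 ^ b' = (-1 : F) ^ (c * b') • (pD1 ^ b' * pX1 ^ c) :=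
    c6pwpmul_anti c6pwpmul_X1D1 c b'
  have e4 : (pX2 : M4 F) ^ e * pX1 ^ c' = pX1 ^ c' * pX2 ^ e := ((cX1X2.pow_pow c' e).eq).symm
  have e5 : (pD2 : M4 F) ^ d * pX1 ^ c' = pX1 ^ c' * pD2 ^ d := ((cX1D2.pow_pow c' d).eq).symm
  have e6 : (pX2 : M4 F) ^ e * pD2 ^ d' = (-1 : F) ^ (e * d') • (pD2 ^ d' * pX2 ^ e) :=
    c6pwpmul_anti c6pwpmul_X2D2 e d'
  have hneg : (-1 : F) = i ^ 2 := by rw [sq, hi]
  have key : ((pD1 : M4 F) ^ b * pX1 ^ c * pD2 ^ d * pX2 ^ e) * (pD1 ^ b' * pX1 ^ c' * pD2 ^ d' * pX2 ^ e') =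
      ((-1 : F) ^ (c * b') * (-1 : F) ^ (e * d')) •
        ((pD1 : M4 F) ^ (b + b') * pX1 ^ (c + c') * pD2 ^ (d + d') * pX2 ^ (e + e')) := by
    calc ((pD1 : M4 F) ^ b * pX1 ^ c * pD2 ^ d * pX2 ^ e) * (pD1 ^ b' * pX1 ^ c' * pD2 ^ d' * pX2 ^ e')
        = pD1 ^ b * pX1 ^ c * pD2 ^ d * (pX2 ^ e * pD1 ^ b') * pX1 ^ c' * pD2 ^ d' * pX2 ^ e' := by
          simp only [Matrix.mul_assoc]
      _ = pD1 ^ b * pX1 ^ c * (pD2 ^ d * pD1 ^ b') * pX2 ^ e * pX1 ^ c' * pD2 ^ d' * pX2 ^ e' := by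
          rw [e1]; simp only [Matrix.mul_assoc]
      _ = pD1 ^ b * (pX1 ^ c * pD1 ^ b') * pD2 ^ d * pX2 ^ e * pX1 ^ c' * pD2 ^ d' * pX2 ^ e' := by
          rw [e2]; simp only [Matrix.mul_assoc]
      _ = (-1 : F) ^ (c * b') • (pD1 ^ (b + b') * pX1 ^ c * pD2 ^ d * (pX2 ^ e * pX1 ^ c') * pD2 ^ d' * pX2 ^ e') := by
          rw [e3, pow_add]
          simp only [Matrix.mul_assoc, Matrix.smul_mul, Matrix.mul_smul]
      _ = (-1 : F) ^ (c * b') • (pD1 ^ (b + b') * pX1 ^ c * (pD2 ^ d * pX1 ^ c') * pX2 ^ e * pD2 ^ d' * pX2 ^ e') := by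
          rw [e4]; simp only [Matrix.mul_assoc]
      _ = (-1 : F) ^ (c * b') • (pD1 ^ (b + b') * pX1 ^ (c + c') * pD2 ^ d * (pX2 ^ e * pD2 ^ d') * pX2 ^ e') := by
          rw [e5, pow_add (pX1 : M4 F) c c']; simp only [Matrix.mul_assoc]
      _ = ((-1 : F) ^ (c * b') * (-1 : F) ^ (e * d')) •
            ((pD1 : M4 F) ^ (b + b') * pX1 ^ (c + c') * pD2 ^ (d + d') * pX2 ^ (e + e')) := by
          rw [e6, pow_add (pD2 : M4 F) d d', pow_add (pX2 : M4 F) e e']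
          simp only [Matrix.mul_assoc, Matrix.smul_mul, Matrix.mul_smul, smul_smul]
  rw [Matrix.smul_mul, Matrix.mul_smul, key, smul_smul, smul_smul]
  congr 1
  rw [hneg, ← pow_mul, ← pow_mul, ← pow_add, ← pow_add, ← pow_add]
  congr 1
  ring

end Cfsg.Agent.Lib.Helper10.C6P
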