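import Mathlib
import Cfsg.Agent.Lib.Helper10.C6P.Defs
import Cfsg.Agent.Lib.Lead.C6PWPMUL

set_option autoImplicit false
set_option linter.unusedVariables false
set_option linter.unusedSectionVars false

/-! # Project C6P (S6000), row WNRM (`nrm_of_gens`) -/

namespace Cfsg.Agent.Lib.Helper10.C6P

open Polynomial Matrix

variable {F : Type*} [Field F]

/-- the set of Pauli words -/
def c6pwnrm_P (i : F) : Set (M4 F) := {X | ∃ a b c d e : ℕ, X = pauliM i a b c d e}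

theorem c6pwnrm_one_mem (i : F) : (1 : M4 F) ∈ c6pwnrm_P i :=
  ⟨0, 0, 0, 0, 0, by simp [pauliM]⟩

theorem c6pwnrm_mul_mem {i : F} (hi : i * i = -1) {X Y : M4 F} (hX : X ∈ c6pwnrm_P i)
    (hY : Y ∈ c6pwnrm_P i) : X * Y ∈ c6pwnrm_P i := by
  obtain ⟨a, b, c, d, e, rfl⟩ := hX
  obtain ⟨a', b', c', d', e', rfl⟩ := hY
  obtain ⟨a'', b'', c'', d'', e'', h⟩ := pauli_mul i hi a b c d e a' b' c' d' e'
  exact ⟨a'', b'', c'', d'', e'', h⟩

theorem c6pwnrm_pow_mem {i : F} (hi : i * i = -1) {X : M4 F} (hX : X ∈ c6pwnrm_P i) (k : ℕ) :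
    X ^ k ∈ c6pwnrm_P i := by
  induction k with
  | zero => rw [pow_zero]; exact c6pwnrm_one_mem i
  | succ k ih => rw [pow_succ]; exact c6pwnrm_mul_mem hi ih hX

theorem c6pwnrm_scal_mem (i : F) (a : ℕ) : (i ^ a • (1 : M4 F)) ∈ c6pwnrm_P i :=
  ⟨a, 0, 0, 0, 0, by simp [pauliM]⟩

/-- reduction of the exponents -/
theorem c6pwnrm_mod {i : F} (hi : i * i = -1) (a b c d e : ℕ) :
    pauliM i a b c d e = pauliM i (a % 4) (b % 2) (c % 2) (d % 2) (e % 2) := by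
  have hi4 : i ^ 4 = 1 := by
    have : i ^ 4 = (i * i) * (i * i) := by ring
    rw [this, hi]; ring
  have hD1 : (pD1 : M4 F) ^ 2 = 1 := by rw [sq]; exact c6pwpmul_D1sq
  have hX1 : (pX1 : M4 F) ^ 2 = 1 := by rw [sq]; exact c6pwpmul_X1sq
  have hD2 : (pD2 : M4 F) ^ 2 = 1 := by rw [sq]; exact c6pwpmul_D2sq
  have hX2 : (pX2 : M4 F) ^ 2 = 1 := by rw [sq]; exact c6pwpmul_X2sq
  unfold pauliM
  rw [pow_eq_pow_mod a hi4, pow_eq_pow_mod b hD1, pow_eq_pow_mod c hX1, pow_eq_pow_mod d hD2,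
    pow_eq_pow_mod e hX2]

theorem c6pwnrm_P_finite {i : F} (hi : i * i = -1) : (c6pwnrm_P i).Finite := by
  have hsub : c6pwnrm_P i ⊆ Set.range (fun t : Fin 4 × Fin 2 × Fin 2 × Fin 2 × Fin 2 =>
      pauliM i (t.1 : ℕ) (t.2.1 : ℕ) (t.2.2.1 : ℕ) (t.2.2.2.1 : ℕ) (t.2.2.2.2 : ℕ)) := by
    rintro X ⟨a, b, c, d, e, rfl⟩
    refine ⟨(⟨a % 4, Nat.mod_lt _ (by norm_num)⟩, ⟨b % 2, Nat.mod_lt _ (by norm_num)⟩,
      ⟨c % 2, Nat.mod_lt _ (by norm_num)⟩, ⟨d % 2, Nat.mod_lt _ (by norm_num)⟩,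
      ⟨e % 2, Nat.mod_lt _ (by norm_num)⟩), ?_⟩
    exact (c6pwnrm_mod hi a b c d e).symm
  exact (Set.finite_range _).subset hsub

theorem c6pwnrm_R_finite {i : F} {R : Subgroup (GL (Fin 4) F)} (h : IsStd i R) :
    (R : Set (GL (Fin 4) F)).Finite := by
  have himg : ((fun g : GL (Fin 4) F => (g : M4 F)) '' (R : Set (GL (Fin 4) F))).Finite := by
    apply (c6pwnrm_P_finite h.1).subset
    rintro X ⟨g, hg, rfl⟩
    exact (h.2 g).mp hg
  apply Set.Finite.of_finite_image himg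
  intro g _ g' _ hgg
  exact Units.ext hgg

/-- transport of a power through an intertwining relation -/
theorem c6pwnrm_pow_rel {M A W : M4 F} (h : M * A = W * M) (k : ℕ) : M * A ^ k = W ^ k * M := by
  induction k with
  | zero => simp
  | succ k ih => rw [pow_succ, ← Matrix.mul_assoc, ih, Matrix.mul_assoc, h, ← Matrix.mul_assoc, ← pow_succ]

theorem nrm_of_gens {i : F} {R : Subgroup (GL (Fin 4) F)} (h : IsStd i R) (M Minv : M4 F) (h1 : M * Minv = 1)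
    (hD1 : ∃ a b c d e : ℕ, M * pD1 = pauliM i a b c d e * M) (hX1 : ∃ a b c d e : ℕ, M * pX1 = pauliM i a b c d e * M)
    (hD2 : ∃ a b c d e : ℕ, M * pD2 = pauliM i a b c d e * M) (hX2 : ∃ a b c d e : ℕ, M * pX2 = pauliM i a b c d e * M) :
    Nrm R M := by
  have hi := h.1
  have h2 : Minv * M = 1 := mul_eq_one_comm.mp h1
  let n : GL (Fin 4) F := ⟨M, Minv, h1, h2⟩
  refine ⟨n, rfl, ?_⟩
  obtain ⟨a1, b1, c1, d1, e1, r1⟩ := hD1
  obtain ⟨a2, b2, c2, d2, e2, r2⟩ := hX1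
  obtain ⟨a3, b3, c3, d3, e3, r3⟩ := hD2
  obtain ⟨a4, b4, c4, d4, e4, r4⟩ := hX2
  have w1 : pauliM i a1 b1 c1 d1 e1 ∈ c6pwnrm_P i := ⟨_, _, _, _, _, rfl⟩
  have w2 : pauliM i a2 b2 c2 d2 e2 ∈ c6pwnrm_P i := ⟨_, _, _, _, _, rfl⟩
  have w3 : pauliM i a3 b3 c3 d3 e3 ∈ c6pwnrm_P i := ⟨_, _, _, _, _, rfl⟩
  have w4 : pauliM i a4 b4 c4 d4 e4 ∈ c6pwnrm_P i := ⟨_, _, _, _, _, rfl⟩
  -- conjugation maps `R` into `R`
  have hA : ∀ g ∈ R, n * g * n⁻¹ ∈ R := by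
    intro g hg
    obtain ⟨a, b, c, d, e, hgw⟩ := (h.2 g).mp hg
    rw [h.2]
    have hconj : ((n * g * n⁻¹ : GL (Fin 4) F) : M4 F) = M * (g : M4 F) * Minv := rfl
    have key : M * (g : M4 F) = (i ^ a • (1 : M4 F)) * (pauliM i a1 b1 c1 d1 e1 ^ b *
        pauliM i a2 b2 c2 d2 e2 ^ c * pauliM i a3 b3 c3 d3 e3 ^ d * pauliM i a4 b4 c4 d4 e4 ^ e) * M := by
      rw [hgw]
      unfold pauliM
      rw [Matrix.mul_smul, Matrix.smul_mul, Matrix.one_mul, Matrix.smul_mul]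
      congr 1
      rw [← Matrix.mul_assoc, ← Matrix.mul_assoc, ← Matrix.mul_assoc, c6pwnrm_pow_rel r1 b,
        Matrix.mul_assoc _ M, c6pwnrm_pow_rel r2 c, ← Matrix.mul_assoc, Matrix.mul_assoc _ M,
        c6pwnrm_pow_rel r3 d, ← Matrix.mul_assoc, Matrix.mul_assoc _ M, c6pwnrm_pow_rel r4 e,
        ← Matrix.mul_assoc]
      rfl
    have hmem : M * (g : M4 F) * Minv ∈ c6pwnrm_P i := by
      rw [key, Matrix.mul_assoc, h1, Matrix.mul_one]
      exact c6pwnrm_mul_mem hi (c6pwnrm_scal_mem i a)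
        (c6pwnrm_mul_mem hi (c6pwnrm_mul_mem hi (c6pwnrm_mul_mem hi (c6pwnrm_pow_mem hi w1 b)
          (c6pwnrm_pow_mem hi w2 c)) (c6pwnrm_pow_mem hi w3 d)) (c6pwnrm_pow_mem hi w4 e))
    rw [hconj]
    exact hmem
  -- finiteness gives the converse
  have hfin : Finite R := (c6pwnrm_R_finite h).to_subtype
  let φ : R → R := fun g => ⟨n * g * n⁻¹, hA g g.2⟩
  have hφinj : Function.Injective φ := by
    intro g g' hgg
    have := congrArg (fun x : R => (x : GL (Fin 4) F)) hgg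
    simp only [φ] at this
    apply Subtype.ext
    have h3 := mul_right_cancel this
    exact mul_left_cancel h3
  have hφsurj : Function.Surjective φ := Finite.injective_iff_surjective.mp hφinj
  show n ∈ Subgroup.normalizer (R : Set (GL (Fin 4) F))
  rw [Subgroup.mem_set_normalizer_iff]
  intro g
  constructor
  · intro hg
    exact hA g hg
  · intro hg
    obtain ⟨g', hg'⟩ := hφsurj ⟨n * g * n⁻¹, hg⟩
    have := congrArg (fun x : R => (x : GL (Fin 4) F)) hg'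
    simp only [φ] at this
    have h3 := mul_left_cancel (mul_right_cancel this)
    rw [← h3]
    exact g'.2

end Cfsg.Agent.Lib.Helper10.C6P
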