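import Mathlib
import Cfsg.Prelude.Def_GeometricClasses
import Cfsg.Agent.Lib.Helper27.ASC.Defs
import Cfsg.Agent.Lib.helper23.ASCO.Defs
import Cfsg.Agent.Lib.Helper19.ASG.Defs
import Cfsg.Agent.Lib.Helper1.ASGCLIF3
import Cfsg.Agent.Lib.Helper25.ASO.Defs
import Cfsg.Agent.Lib.helper23.ASE.Defs
import Cfsg.Agent.Lib.Helper10.ASCIRRNS
import Cfsg.Agent.Lib.Helper21.ASCES3

/-!
# Project ASE (leader helper23), piece D1INV : an absolutely irreducible group of isometries of a quadratic form with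
scalar commutator subgroup contains a non-scalar involution, and the characteristic is odd. (`lead`)
-/

set_option autoImplicit false
set_option linter.unusedVariables false
set_option linter.unusedSectionVars false

namespace Cfsg.Agent.Lib.helper23.ASE

open Cfsg Cfsg.Geo Cfsg.Agent.Lib.Helper27.ASC Cfsg.Agent.Lib.helper23.ASCO Cfsg.Agent.Lib.Helper19.ASG
  Cfsg.Agent.Lib.Helper25.ASO
open scoped MatrixGroups Matrix Kronecker
open scoped commutatorElement

variable {n : ℕ} {F : Type*} [Field F] [Fintype F]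

/-- some vector is non-singular -/
theorem ased1inv_exists_nonsing (hn : 0 < n) (Q : QuadraticForm F (Fin n → F))
    (hQ : (QuadraticMap.polarBilin Q).Nondegenerate) : ∃ v : Fin n → F, Q v ≠ 0 := by
  classical
  by_contra hcon
  push Not at hcon
  have he : (Pi.single (⟨0, hn⟩ : Fin n) (1 : F) : Fin n → F) ≠ 0 := by
    intro h
    have := congrFun h ⟨0, hn⟩
    simp at this
  apply he
  apply hQ.1
  intro y
  rw [QuadraticMap.polarBilin_apply_apply]
  unfold QuadraticMap.polar
  rw [hcon, hcon, hcon]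
  ring

/-- `-1` is central in `GL` -/
theorem ased1inv_neg_one_comm (h : GL (Fin n) F) : (-1 : GL (Fin n) F) * h = h * (-1) := by
  rw [neg_mul, mul_neg, one_mul, mul_one]

/-- a scalar isometry is `± 1` -/
theorem ased1inv_scalar_iso (Q : QuadraticForm F (Fin n → F)) {v : Fin n → F} (hv : Q v ≠ 0)
    (g : GL (Fin n) F) (hs : g ∈ scalars (Fin n) F) (hO : g ∈ isometryGroup F (⇑Q)) : g = 1 ∨ g = -1 := by
  obtain ⟨c, hc⟩ := (mem_scalars_iff g).mp hs
  have h1 : Q ((g : Matrix (Fin n) (Fin n) F) *ᵥ v) = Q v := hO v v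
  rw [hc, Matrix.smul_mulVec, Matrix.one_mulVec, QuadraticMap.map_smul, smul_eq_mul] at h1
  have hcc : ((c : F) - 1) * ((c : F) + 1) = 0 := by
    have : ((c : F) * c - 1) * Q v = 0 := by linear_combination h1
    rcases mul_eq_zero.mp this with h | h
    · linear_combination h
    · exact absurd h hv
  rcases mul_eq_zero.mp hcc with h | h
  · left
    apply Units.ext
    rw [hc, Units.val_one, sub_eq_zero.mp h, one_smul]
  · right
    apply Units.ext
    rw [hc, Units.val_neg, Units.val_one, eq_neg_of_add_eq_zero_left h, neg_smul, one_smul]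

/-- an element commuting with an absolutely irreducible group is scalar -/
theorem ased1inv_central_scalar {N : Subgroup (GL (Fin n) F)} (hA : AbsIrr N) (z : GL (Fin n) F)
    (hz : ∀ y ∈ N, z * y = y * z) : z ∈ scalars (Fin n) F := by
  rw [mem_scalars_iff]
  by_cases hn : n = 0
  · subst hn
    exact ⟨1, Subsingleton.elim _ _⟩
  obtain ⟨c, hc⟩ := hA.2 (z : Matrix (Fin n) (Fin n) F) (by
    rintro s ⟨b, hb, rfl⟩
    have := hz b hb
    have h2 := congrArg (fun g : GL (Fin n) F => (g : Matrix (Fin n) (Fin n) F)) this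
    simpa using h2)
  have hc0 : c ≠ 0 := by
    intro h0
    have hdet : (z : Matrix (Fin n) (Fin n) F).det ≠ 0 := by
      have := (Matrix.GeneralLinearGroup.det z).ne_zero
      simpa using this
    apply hdet
    rw [hc, h0, zero_smul]
    haveI : Nonempty (Fin n) := ⟨⟨0, Nat.pos_of_ne_zero hn⟩⟩
    exact Matrix.det_zero
  exact ⟨Units.mk0 c hc0, by simpa using hc⟩

section main

variable (Q : QuadraticForm F (Fin n → F)) {v : Fin n → F} (hv : Q v ≠ 0)
  {N : Subgroup (GL (Fin n) F)} (hNO : N ≤ isometryGroup F (⇑Q)) (hab : ⁅N, N⁆ ≤ scalars (Fin n) F)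

include hv hNO hab in
/-- two elements commute or anticommute -/
theorem ased1inv_comm_or (x y : GL (Fin n) F) (hx : x ∈ N) (hy : y ∈ N) :
    x * y = y * x ∨ x * y = -(y * x) := by
  have hc : ⁅x, y⁆ ∈ ⁅N, N⁆ := Subgroup.commutator_mem_commutator hx hy
  have hO : ⁅x, y⁆ ∈ isometryGroup F (⇑Q) := hNO ((Subgroup.commutator_le_self N) hc)
  have e : x * y = ⁅x, y⁆ * (y * x) := by
    rw [commutatorElement_def]; group
  rcases ased1inv_scalar_iso Q hv _ (hab hc) hO with h | h
  · left
    rw [e, h, one_mul]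
  · right
    rw [e, h, neg_mul, one_mul]

include hv hNO hab in
/-- squares are `± 1` -/
theorem ased1inv_sq (hA : AbsIrr N) (x : GL (Fin n) F) (hx : x ∈ N) : x * x = 1 ∨ x * x = -1 := by
  have hcen : ∀ y ∈ N, (x * x) * y = y * (x * x) := by
    intro y hy
    rcases ased1inv_comm_or Q hv hNO hab x y hx hy with h | h
    · rw [mul_assoc, h, ← mul_assoc, h, mul_assoc]
    · rw [mul_assoc, h, mul_neg, ← mul_assoc, h, neg_mul, neg_neg, mul_assoc]
  exact ased1inv_scalar_iso Q hv _ (ased1inv_central_scalar hA _ hcen) (hNO (N.mul_mem hx hx))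

end main

/-- D1INV : an absolutely irreducible group of isometries with scalar commutator subgroup contains a non-scalar involution, and
the characteristic is odd. -/
theorem ed1_involution (hn : 5 ≤ n) (Q : QuadraticForm F (Fin n → F))
    (hQ : (QuadraticMap.polarBilin Q).Nondegenerate) {N : Subgroup (GL (Fin n) F)}
    (hNO : N ≤ isometryGroup F (⇑Q)) (hA : AbsIrr N) (hab : ⁅N, N⁆ ≤ scalars (Fin n) F) :
    (2 : F) ≠ 0 ∧ ∃ x ∈ N, x * x = 1 ∧ x ∉ scalars (Fin n) F := by
  classical
  obtain ⟨v, hv⟩ := ased1inv_exists_nonsing (by omega) Q hQ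
  have hv0 : v ≠ 0 := by
    rintro rfl
    exact hv (map_zero Q)
  have hns : ¬ N ≤ scalars (Fin n) F := irr_not_scalar (by omega) hA.1
  have h2 : (2 : F) ≠ 0 := by
    intro h2
    apply hns
    apply asces3_comm_scalar _ (Or.inr hA)
    intro a ha b hb
    rcases ased1inv_comm_or Q hv hNO hab a b ha hb with h | h
    · exact h
    · rw [h]
      apply Units.ext
      rw [Units.val_neg]
      have h1 : (-1 : F) = 1 := by linear_combination (-1 : F) * h2
      rw [← neg_one_smul F, h1, one_smul]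
  refine ⟨h2, ?_⟩
  obtain ⟨x, hxN, hxZ⟩ := SetLike.not_le_iff_exists.mp hns
  rcases ased1inv_sq Q hv hNO hab hA x hxN with hxx | hxx
  · exact ⟨x, hxN, hxx, hxZ⟩
  -- now `x * x = -1`
  by_contra hcon
  push Not at hcon
  -- (*) : elements commuting with `x` are scalar, or scalar multiples of `x⁻¹`
  have hstar : ∀ y ∈ N, x * y = y * x → y ∈ scalars (Fin n) F ∨ x * y ∈ scalars (Fin n) F := by
    intro y hy hxy
    by_contra hne
    push Not at hne
    rcases ased1inv_sq Q hv hNO hab hA y hy with hyy | hyy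
    · exact hne.1 (hcon y hy hyy)
    · apply hne.2
      apply hcon (x * y) (N.mul_mem hxN hy)
      calc x * y * (x * y) = x * (y * x) * y := by group
        _ = x * (x * y) * y := by rw [hxy]
        _ = (x * x) * (y * y) := by group
        _ = 1 := by rw [hxx, hyy, neg_mul_neg, one_mul]
  -- `x` is not central
  have hnc : ∃ y₀ ∈ N, x * y₀ ≠ y₀ * x := by
    by_contra hall
    push Not at hall
    exact hxZ (ased1inv_central_scalar hA x hall)
  obtain ⟨y₀, hy₀N, hy₀⟩ := hnc
  have hy₀' : x * y₀ = -(y₀ * x) := by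
    rcases ased1inv_comm_or Q hv hNO hab x y₀ hxN hy₀N with h | h
    · exact absurd h hy₀
    · exact h
  have hinv : x * y₀⁻¹ = -(y₀⁻¹ * x) := by
    calc x * y₀⁻¹ = y₀⁻¹ * (y₀ * x) * y₀⁻¹ := by group
      _ = y₀⁻¹ * (-(x * y₀)) * y₀⁻¹ := by rw [hy₀', neg_neg]
      _ = -(y₀⁻¹ * (x * y₀) * y₀⁻¹) := by rw [mul_neg, neg_mul]
      _ = -(y₀⁻¹ * x) := by
        congr 1
        group
  -- the four coset representatives
  let m : Fin 4 → GL (Fin n) F := ![1, x⁻¹, y₀, y₀ * x⁻¹]
  have hmN : ∀ i, m i ∈ N := by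
    intro i
    fin_cases i
    · exact N.one_mem
    · exact N.inv_mem hxN
    · exact hy₀N
    · exact N.mul_mem hy₀N (N.inv_mem hxN)
  have hcover : ∀ g ∈ N, ∃ i : Fin 4, ∃ z ∈ scalars (Fin n) F, g = m i * z := by
    intro g hg
    rcases ased1inv_comm_or Q hv hNO hab x g hxN hg with h | h
    · rcases hstar g hg h with h1 | h1
      · exact ⟨0, g, h1, by simp [m]⟩
      · refine ⟨1, x * g, h1, ?_⟩
        simp [m]
    · have hg' : y₀⁻¹ * g ∈ N := N.mul_mem (N.inv_mem hy₀N) hg
      have hcomm : x * (y₀⁻¹ * g) = y₀⁻¹ * g * x := by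
        calc x * (y₀⁻¹ * g) = (x * y₀⁻¹) * g := by group
          _ = -(y₀⁻¹ * (x * g)) := by rw [hinv, neg_mul, mul_assoc]
          _ = y₀⁻¹ * g * x := by rw [h, mul_neg, neg_neg, mul_assoc]
      rcases hstar _ hg' hcomm with h1 | h1
      · refine ⟨2, y₀⁻¹ * g, h1, ?_⟩
        simp [m]
      · refine ⟨3, x * (y₀⁻¹ * g), h1, ?_⟩
        simp only [m]
        show g = y₀ * x⁻¹ * (x * (y₀⁻¹ * g))
        group
  -- the invariant subspace
  let b : Fin 4 → (Fin n → F) := fun i => (m i : Matrix (Fin n) (Fin n) F) *ᵥ v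
  let W : Submodule F (Fin n → F) := Submodule.span F (Set.range b)
  have hWinv : ∀ s ∈ matrixSet N, W.map (Matrix.toLin' s) ≤ W := by
    rintro s ⟨g, hg, rfl⟩
    rw [Submodule.map_span_le]
    rintro _ ⟨i, rfl⟩
    rw [Matrix.toLin'_apply]
    obtain ⟨j, z, hz, hgz⟩ := hcover (g * m i) (N.mul_mem hg (hmN i))
    obtain ⟨c, hc⟩ := (mem_scalars_iff z).mp hz
    have e : (g : Matrix (Fin n) (Fin n) F) *ᵥ b i = (c : F) • b j := by
      simp only [b]
      rw [Matrix.mulVec_mulVec, ← Units.val_mul, hgz, Units.val_mul, hc, Matrix.mul_smul, Matrix.mul_one,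
        Matrix.smul_mulVec]
    rw [e]
    exact W.smul_mem _ (Submodule.subset_span ⟨j, rfl⟩)
  have hvW : v ∈ W := by
    have : b 0 = v := by
      simp [b, m]
    rw [← this]
    exact Submodule.subset_span ⟨0, rfl⟩
  rcases hA.1 W hWinv with hW | hW
  · rw [hW, Submodule.mem_bot] at hvW
    exact hv0 hvW
  · have h1 : Module.finrank F W ≤ 4 := by
      have := finrank_range_le_card (R := F) b
      simpa [Set.finrank] using this
    rw [hW, finrank_top, Module.finrank_fin_fun] at h1
    omega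

end Cfsg.Agent.Lib.helper23.ASE
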