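import Mathlib
import Cfsg.Agent.Lib.Helper18.ONE.Defs
import Cfsg.Agent.Lib.Lead.ONETYUNIQ
import Cfsg.Agent.Lib.Lead.ONEFROZEN

set_option autoImplicit false
set_option linter.unusedVariables false
set_option linter.unusedSectionVars false

/-!
# Project ONE (designer helper18), row NDTSTD: CORE (written by lead)
`fty_iff` with the conclusion of TYCLASS (`ty_class`) for `stdO d F`, `W` as a hypothesis.
Wrapper: `fty_iff h2 d W hW hev s hs := onendtstd_core h2 d W s hs (ty_class h2 (stdO d F) (stdO_facts h2 d).1 W hW hev)`.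
-/

namespace Cfsg.Agent.Lib.Helper18.ONE

open Polynomial Module Cfsg.Agent.Lib.Helper13.S5955 Cfsg.Agent.Lib.helper15.S5972

theorem onendtstd_core {F : Type*} [Field F] [Fintype F] (h2 : (2 : F) ≠ 0) (d : ℕ)
    (W : Submodule F (Unit ⊕ (Fin d ⊕ Fin d) → F)) (s : ℤ) (hs : s = 1 ∨ s = -1)
    (hclass : (SHyp (stdO d F) W ∧ OTy (stdO d F) W 1) ∨ (¬ SHyp (stdO d F) W ∧ OTy (stdO d F) W (-1))) :
    FTy d s W ↔ OTy (stdO d F) W s := by
  have hfr := (frozen_iff h2 d W).2
  unfold FTy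
  rcases hs with rfl | rfl
  · constructor
    · rintro (⟨_, hp⟩ | ⟨h, _⟩)
      · rcases hclass with ⟨_, h1⟩ | ⟨hn, _⟩
        · exact h1
        · exact absurd (hfr.1 hp) hn
      · exact absurd h (by norm_num)
    · intro h1
      left
      refine ⟨rfl, ?_⟩
      rcases hclass with ⟨hh, _⟩ | ⟨_, hm⟩
      · exact hfr.2 hh
      · exact (ty_uniq _ _ h1 hm).elim
  · constructor
    · rintro (⟨h, _⟩ | ⟨_, hp⟩)
      · exact absurd h (by norm_num)
      · rcases hclass with ⟨hh, _⟩ | ⟨_, hm⟩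
        · exact absurd (hfr.2 hh) hp
        · exact hm
    · intro hm
      right
      refine ⟨rfl, ?_⟩
      rcases hclass with ⟨_, h1⟩ | ⟨hn, _⟩
      · exact (ty_uniq _ _ h1 hm).elim
      · exact fun hp => hn (hfr.1 hp)

end Cfsg.Agent.Lib.Helper18.ONE
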