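import Mathlib
import Cfsg.Agent.Lib.helper17.SLP.Defs
import Cfsg.Agent.Lib.helper3.SP4.Defs
import Cfsg.Prelude.Def_Classical

/-! Project SP4 (designer helper3), row E1 `cell8_n1` (written by lead). -/

set_option autoImplicit false

namespace Cfsg.Agent.Lib.helper3.SP4

open Cfsg.Agent.Lib.helper17.SLP
open Polynomial

universe u v

section E

variable {G : Type u} [Group G]

/-- ascending step: `b' * n1 * x * m' * b₂` lies in the cell of `n1 * m'`. -/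
theorem sp4e1_asc (B : Subgroup G) (X1 : Set G) (n1 n2 : G)
    (hf1 : ∀ g ∈ B, ∃ β ∈ B, ∃ a ∈ X1, g = β * a ∧ n1 * β * n1⁻¹ ∈ B)
    (m' : G) (hcell : n1 * m' ∈ cells8 n1 n2) (hconj : ∀ a ∈ X1, m'⁻¹ * a * m' ∈ B)
    (x : G) (hx : x ∈ B) (b' : G) (hb' : b' ∈ B) (b₂ : G) (hb₂ : b₂ ∈ B) :
    b' * n1 * x * m' * b₂ ∈ Cell8 B n1 n2 := by
  obtain ⟨β, hβ, a, ha, rfl, hnβ⟩ := hf1 x hx
  refine ⟨n1 * m', hcell, b' * (n1 * β * n1⁻¹), B.mul_mem hb' hnβ, (m'⁻¹ * a * m') * b₂,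
    B.mul_mem (hconj a ha) hb₂, ?_⟩
  group

/-- descending step. -/
theorem sp4e1_desc (B : Subgroup G) (X1 : Set G) (n1 n2 : G) (h1 : n1 ^ 2 ∈ B)
    (hf1 : ∀ g ∈ B, ∃ β ∈ B, ∃ a ∈ X1, g = β * a ∧ n1 * β * n1⁻¹ ∈ B)
    (hr1 : ∀ a ∈ X1, n1 * a * n1⁻¹ ∈ B ∨ ∃ b₁ ∈ B, ∃ b₂ ∈ B, n1 * a * n1⁻¹ = b₁ * n1 * b₂)
    (m' : G) (hm' : m' ∈ cells8 n1 n2) (hcell : n1 * m' ∈ cells8 n1 n2)
    (hconj : ∀ a ∈ X1, m'⁻¹ * a * m' ∈ B)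
    (b₁ : G) (hb₁ : b₁ ∈ B) (b₂ : G) (hb₂ : b₂ ∈ B) :
    n1 * (b₁ * (n1 * m') * b₂) ∈ Cell8 B n1 n2 := by
  obtain ⟨β, hβ, a, ha, rfl, hnβ⟩ := hf1 b₁ hb₁
  have e0 : n1 * (β * a * (n1 * m') * b₂)
      = (n1 * β * n1⁻¹) * (n1 * a * n1⁻¹) * n1 ^ 2 * m' * b₂ := by group
  rcases hr1 a ha with h | ⟨c₁, hc₁, c₂, hc₂, h⟩
  · refine ⟨m', hm', (n1 * β * n1⁻¹) * (n1 * a * n1⁻¹) * n1 ^ 2,
      B.mul_mem (B.mul_mem hnβ h) h1, b₂, hb₂, ?_⟩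
    rw [e0]
  · have e1 : n1 * (β * a * (n1 * m') * b₂)
        = ((n1 * β * n1⁻¹) * c₁) * n1 * (c₂ * n1 ^ 2) * m' * b₂ := by
      rw [e0, h]
      group
    rw [e1]
    exact sp4e1_asc B X1 n1 n2 hf1 m' hcell hconj (c₂ * n1 ^ 2) (B.mul_mem hc₂ h1)
      ((n1 * β * n1⁻¹) * c₁) (B.mul_mem hnβ hc₁) b₂ hb₂

/-- E1 [M]  `g = b₁ * m * b₂`, `b₁ = β * a` (`hf1`): `n1 * g = (n1 β n1⁻¹) * n1 * a * m * b₂`.  ASCENDING `m ∈ {1, n2, n2 n1, n2 n1 n2}`: `a * m = m * (m⁻¹ a m)` with `m⁻¹ a m ∈ B` (`hm1`; `m = 1`: `hX1`): cell `n1 * m`.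
DESCENDING `m = n1 * m'`, `m' ∈ {1, n2, n2 n1, n2 n1 n2}`: `n1 * a * n1 * m' = (n1 a n1⁻¹) * n1² * m'`; `hr1`: either in `B` — cell `m'` (`n1² ∈ B`) — or `b₁' * n1 * (b₂' * n1²) * m'`, the ascending case for `m'`. -/
theorem cell8_n1 (B : Subgroup G) (X1 : Set G) (n1 n2 : G) (h1 : n1 ^ 2 ∈ B) (hX1 : X1 ⊆ (B : Set G))
    (hf1 : ∀ g ∈ B, ∃ β ∈ B, ∃ a ∈ X1, g = β * a ∧ n1 * β * n1⁻¹ ∈ B)
    (hr1 : ∀ a ∈ X1, n1 * a * n1⁻¹ ∈ B ∨ ∃ b₁ ∈ B, ∃ b₂ ∈ B, n1 * a * n1⁻¹ = b₁ * n1 * b₂)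
    (hm1 : ∀ a ∈ X1, ∀ m ∈ ({n2, n2 * n1, n2 * n1 * n2} : Set G), m⁻¹ * a * m ∈ B) :
    ∀ g ∈ Cell8 B n1 n2, n1 * g ∈ Cell8 B n1 n2 := by
  -- the four ascending representatives
  have c0 : n1 * (1 : G) ∈ cells8 n1 n2 := by simp [cells8]
  have c1 : n1 * n2 ∈ cells8 n1 n2 := by simp [cells8]
  have c2 : n1 * (n2 * n1) ∈ cells8 n1 n2 := by rw [← mul_assoc]; simp [cells8]
  have c3 : n1 * (n2 * n1 * n2) ∈ cells8 n1 n2 := by rw [← mul_assoc, ← mul_assoc]; simp [cells8]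
  have d0 : (1 : G) ∈ cells8 n1 n2 := by simp [cells8]
  have d1 : n2 ∈ cells8 n1 n2 := by simp [cells8]
  have d2 : n2 * n1 ∈ cells8 n1 n2 := by simp [cells8]
  have d3 : n2 * n1 * n2 ∈ cells8 n1 n2 := by simp [cells8]
  have k0 : ∀ a ∈ X1, (1 : G)⁻¹ * a * 1 ∈ B := by
    intro a ha
    simpa using hX1 ha
  have k1 : ∀ a ∈ X1, n2⁻¹ * a * n2 ∈ B := fun a ha => hm1 a ha n2 (by simp)
  have k2 : ∀ a ∈ X1, (n2 * n1)⁻¹ * a * (n2 * n1) ∈ B := fun a ha => hm1 a ha (n2 * n1) (by simp)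
  have k3 : ∀ a ∈ X1, (n2 * n1 * n2)⁻¹ * a * (n2 * n1 * n2) ∈ B :=
    fun a ha => hm1 a ha (n2 * n1 * n2) (by simp)
  intro g hg
  obtain ⟨m, hm, b₁, hb₁, b₂, hb₂, rfl⟩ := hg
  simp only [cells8, Set.mem_insert_iff, Set.mem_singleton_iff] at hm
  rcases hm with h | h | h | h | h | h | h | h
  · -- m = 1
    rw [h]
    have e : n1 * (b₁ * 1 * b₂) = 1 * n1 * b₁ * 1 * b₂ := by group
    rw [e]
    exact sp4e1_asc B X1 n1 n2 hf1 1 c0 k0 b₁ hb₁ 1 B.one_mem b₂ hb₂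
  · -- m = n1 = n1 * 1
    rw [h]
    have e : n1 * (b₁ * n1 * b₂) = n1 * (b₁ * (n1 * 1) * b₂) := by group
    rw [e]
    exact sp4e1_desc B X1 n1 n2 h1 hf1 hr1 1 d0 c0 k0 b₁ hb₁ b₂ hb₂
  · -- m = n2
    rw [h]
    have e : n1 * (b₁ * n2 * b₂) = 1 * n1 * b₁ * n2 * b₂ := by group
    rw [e]
    exact sp4e1_asc B X1 n1 n2 hf1 n2 c1 k1 b₁ hb₁ 1 B.one_mem b₂ hb₂
  · -- m = n1 * n2
    rw [h]
    exact sp4e1_desc B X1 n1 n2 h1 hf1 hr1 n2 d1 c1 k1 b₁ hb₁ b₂ hb₂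
  · -- m = n2 * n1
    rw [h]
    have e : n1 * (b₁ * (n2 * n1) * b₂) = 1 * n1 * b₁ * (n2 * n1) * b₂ := by group
    rw [e]
    exact sp4e1_asc B X1 n1 n2 hf1 (n2 * n1) c2 k2 b₁ hb₁ 1 B.one_mem b₂ hb₂
  · -- m = n1 * n2 * n1
    rw [h]
    have e : n1 * (b₁ * (n1 * n2 * n1) * b₂) = n1 * (b₁ * (n1 * (n2 * n1)) * b₂) := by group
    rw [e]
    exact sp4e1_desc B X1 n1 n2 h1 hf1 hr1 (n2 * n1) d2 c2 k2 b₁ hb₁ b₂ hb₂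
  · -- m = n2 * n1 * n2
    rw [h]
    have e : n1 * (b₁ * (n2 * n1 * n2) * b₂) = 1 * n1 * b₁ * (n2 * n1 * n2) * b₂ := by group
    rw [e]
    exact sp4e1_asc B X1 n1 n2 hf1 (n2 * n1 * n2) c3 k3 b₁ hb₁ 1 B.one_mem b₂ hb₂
  · -- m = n1 * n2 * n1 * n2
    rw [h]
    have e : n1 * (b₁ * (n1 * n2 * n1 * n2) * b₂) = n1 * (b₁ * (n1 * (n2 * n1 * n2)) * b₂) := by
      group
    rw [e]
    exact sp4e1_desc B X1 n1 n2 h1 hf1 hr1 (n2 * n1 * n2) d3 c3 k3 b₁ hb₁ b₂ hb₂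

end E

end Cfsg.Agent.Lib.helper3.SP4
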