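import Mathlib
import Cfsg.Agent.Lib.helper17.SLP.Defs
import Cfsg.Agent.Lib.helper3.SP4.Defs
import Cfsg.Prelude.Def_Classical

/-! Project SP4 (designer helper3), row E2 `cell8_n2` (written by lead). -/

set_option autoImplicit false

namespace Cfsg.Agent.Lib.helper3.SP4

open Cfsg.Agent.Lib.helper17.SLP
open Polynomial

universe u v

section E

variable {G : Type u} [Group G]

/-- ascending step: `b' * n2 * x * m' * b₂` lies in the cell of `n2 * m'` (given up to a left factor in `B`). -/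
theorem sp4e2_asc (B : Subgroup G) (X2 : Set G) (n1 n2 : G)
    (hf2 : ∀ g ∈ B, ∃ β ∈ B, ∃ a ∈ X2, g = β * a ∧ n2 * β * n2⁻¹ ∈ B)
    (m' : G) (hcell : ∃ c ∈ B, ∃ m'' ∈ cells8 n1 n2, n2 * m' = c * m'')
    (hconj : ∀ a ∈ X2, m'⁻¹ * a * m' ∈ B)
    (x : G) (hx : x ∈ B) (b' : G) (hb' : b' ∈ B) (b₂ : G) (hb₂ : b₂ ∈ B) :
    b' * n2 * x * m' * b₂ ∈ Cell8 B n1 n2 := by
  obtain ⟨β, hβ, a, ha, rfl, hnβ⟩ := hf2 x hx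
  obtain ⟨c, hc, m'', hm'', e⟩ := hcell
  refine ⟨m'', hm'', b' * (n2 * β * n2⁻¹) * c, B.mul_mem (B.mul_mem hb' hnβ) hc,
    (m'⁻¹ * a * m') * b₂, B.mul_mem (hconj a ha) hb₂, ?_⟩
  have e2 : b' * (n2 * β * n2⁻¹) * c * m'' * (m'⁻¹ * a * m' * b₂)
      = b' * (n2 * β * n2⁻¹) * (c * m'') * (m'⁻¹ * a * m' * b₂) := by group
  rw [e2, ← e]
  group

/-- descending step. -/
theorem sp4e2_desc (B : Subgroup G) (X2 : Set G) (n1 n2 : G) (h2 : n2 ^ 2 ∈ B)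
    (hf2 : ∀ g ∈ B, ∃ β ∈ B, ∃ a ∈ X2, g = β * a ∧ n2 * β * n2⁻¹ ∈ B)
    (hr2 : ∀ a ∈ X2, n2 * a * n2⁻¹ ∈ B ∨ ∃ b₁ ∈ B, ∃ b₂ ∈ B, n2 * a * n2⁻¹ = b₁ * n2 * b₂)
    (m' : G) (hm' : m' ∈ cells8 n1 n2) (hcell : ∃ c ∈ B, ∃ m'' ∈ cells8 n1 n2, n2 * m' = c * m'')
    (hconj : ∀ a ∈ X2, m'⁻¹ * a * m' ∈ B)
    (b₁ : G) (hb₁ : b₁ ∈ B) (b₂ : G) (hb₂ : b₂ ∈ B) :
    n2 * (b₁ * (n2 * m') * b₂) ∈ Cell8 B n1 n2 := by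
  obtain ⟨β, hβ, a, ha, rfl, hnβ⟩ := hf2 b₁ hb₁
  have e0 : n2 * (β * a * (n2 * m') * b₂)
      = (n2 * β * n2⁻¹) * (n2 * a * n2⁻¹) * n2 ^ 2 * m' * b₂ := by group
  rcases hr2 a ha with h | ⟨c₁, hc₁, c₂, hc₂, h⟩
  · refine ⟨m', hm', (n2 * β * n2⁻¹) * (n2 * a * n2⁻¹) * n2 ^ 2,
      B.mul_mem (B.mul_mem hnβ h) h2, b₂, hb₂, ?_⟩
    rw [e0]
  · have e1 : n2 * (β * a * (n2 * m') * b₂)
        = ((n2 * β * n2⁻¹) * c₁) * n2 * (c₂ * n2 ^ 2) * m' * b₂ := by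
      rw [e0, h]
      group
    rw [e1]
    exact sp4e2_asc B X2 n1 n2 hf2 m' hcell hconj (c₂ * n2 ^ 2) (B.mul_mem hc₂ h2)
      ((n2 * β * n2⁻¹) * c₁) (B.mul_mem hnβ hc₁) b₂ hb₂

/-- E2 [M]  the same for `n2`.  ASCENDING `m ∈ {1, n1, n1 n2, n1 n2 n1}`; for `m = n1 n2 n1` the product `n2 n1 n2 n1` is `b * (n1 n2 n1 n2)` (`hbr`).  DESCENDING `m = n2 * m'`, `m' ∈ {1, n1, n1 n2}`, and
`m = n1 n2 n1 n2 = b⁻¹ * n2 * (n1 n2 n1)` (`hbr`), `m' = n1 n2 n1`. -/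
theorem cell8_n2 (B : Subgroup G) (X2 : Set G) (n1 n2 : G) (h2 : n2 ^ 2 ∈ B) (hX2 : X2 ⊆ (B : Set G))
    (hf2 : ∀ g ∈ B, ∃ β ∈ B, ∃ a ∈ X2, g = β * a ∧ n2 * β * n2⁻¹ ∈ B)
    (hr2 : ∀ a ∈ X2, n2 * a * n2⁻¹ ∈ B ∨ ∃ b₁ ∈ B, ∃ b₂ ∈ B, n2 * a * n2⁻¹ = b₁ * n2 * b₂)
    (hm2 : ∀ a ∈ X2, ∀ m ∈ ({n1, n1 * n2, n1 * n2 * n1} : Set G), m⁻¹ * a * m ∈ B)
    (hbr : ∃ b ∈ B, n2 * n1 * n2 * n1 = b * (n1 * n2 * n1 * n2)) :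
    ∀ g ∈ Cell8 B n1 n2, n2 * g ∈ Cell8 B n1 n2 := by
  obtain ⟨b, hb, hbr⟩ := hbr
  have c0 : ∃ c ∈ B, ∃ m'' ∈ cells8 n1 n2, n2 * (1 : G) = c * m'' :=
    ⟨1, B.one_mem, n2, by simp [cells8], by group⟩
  have c1 : ∃ c ∈ B, ∃ m'' ∈ cells8 n1 n2, n2 * n1 = c * m'' :=
    ⟨1, B.one_mem, n2 * n1, by simp [cells8], by group⟩
  have c2 : ∃ c ∈ B, ∃ m'' ∈ cells8 n1 n2, n2 * (n1 * n2) = c * m'' :=
    ⟨1, B.one_mem, n2 * n1 * n2, by simp [cells8], by group⟩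
  have c3 : ∃ c ∈ B, ∃ m'' ∈ cells8 n1 n2, n2 * (n1 * n2 * n1) = c * m'' := by
    refine ⟨b, hb, n1 * n2 * n1 * n2, by simp [cells8], ?_⟩
    rw [← hbr]
    group
  have d0 : (1 : G) ∈ cells8 n1 n2 := by simp [cells8]
  have d1 : n1 ∈ cells8 n1 n2 := by simp [cells8]
  have d2 : n1 * n2 ∈ cells8 n1 n2 := by simp [cells8]
  have d3 : n1 * n2 * n1 ∈ cells8 n1 n2 := by simp [cells8]
  have k0 : ∀ a ∈ X2, (1 : G)⁻¹ * a * 1 ∈ B := by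
    intro a ha
    simpa using hX2 ha
  have k1 : ∀ a ∈ X2, n1⁻¹ * a * n1 ∈ B := fun a ha => hm2 a ha n1 (by simp)
  have k2 : ∀ a ∈ X2, (n1 * n2)⁻¹ * a * (n1 * n2) ∈ B := fun a ha => hm2 a ha (n1 * n2) (by simp)
  have k3 : ∀ a ∈ X2, (n1 * n2 * n1)⁻¹ * a * (n1 * n2 * n1) ∈ B :=
    fun a ha => hm2 a ha (n1 * n2 * n1) (by simp)
  intro g hg
  obtain ⟨m, hm, b₁, hb₁, b₂, hb₂, rfl⟩ := hg
  simp only [cells8, Set.mem_insert_iff, Set.mem_singleton_iff] at hm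
  rcases hm with h | h | h | h | h | h | h | h
  · -- m = 1
    rw [h]
    have e : n2 * (b₁ * 1 * b₂) = 1 * n2 * b₁ * 1 * b₂ := by group
    rw [e]
    exact sp4e2_asc B X2 n1 n2 hf2 1 c0 k0 b₁ hb₁ 1 B.one_mem b₂ hb₂
  · -- m = n1
    rw [h]
    have e : n2 * (b₁ * n1 * b₂) = 1 * n2 * b₁ * n1 * b₂ := by group
    rw [e]
    exact sp4e2_asc B X2 n1 n2 hf2 n1 c1 k1 b₁ hb₁ 1 B.one_mem b₂ hb₂
  · -- m = n2 = n2 * 1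
    rw [h]
    have e : n2 * (b₁ * n2 * b₂) = n2 * (b₁ * (n2 * 1) * b₂) := by group
    rw [e]
    exact sp4e2_desc B X2 n1 n2 h2 hf2 hr2 1 d0 c0 k0 b₁ hb₁ b₂ hb₂
  · -- m = n1 * n2
    rw [h]
    have e : n2 * (b₁ * (n1 * n2) * b₂) = 1 * n2 * b₁ * (n1 * n2) * b₂ := by group
    rw [e]
    exact sp4e2_asc B X2 n1 n2 hf2 (n1 * n2) c2 k2 b₁ hb₁ 1 B.one_mem b₂ hb₂
  · -- m = n2 * n1
    rw [h]
    exact sp4e2_desc B X2 n1 n2 h2 hf2 hr2 n1 d1 c1 k1 b₁ hb₁ b₂ hb₂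
  · -- m = n1 * n2 * n1
    rw [h]
    have e : n2 * (b₁ * (n1 * n2 * n1) * b₂) = 1 * n2 * b₁ * (n1 * n2 * n1) * b₂ := by group
    rw [e]
    exact sp4e2_asc B X2 n1 n2 hf2 (n1 * n2 * n1) c3 k3 b₁ hb₁ 1 B.one_mem b₂ hb₂
  · -- m = n2 * n1 * n2 = n2 * (n1 * n2)
    rw [h]
    have e : n2 * (b₁ * (n2 * n1 * n2) * b₂) = n2 * (b₁ * (n2 * (n1 * n2)) * b₂) := by group
    rw [e]
    exact sp4e2_desc B X2 n1 n2 h2 hf2 hr2 (n1 * n2) d2 c2 k2 b₁ hb₁ b₂ hb₂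
  · -- m = n1 * n2 * n1 * n2 = b⁻¹ * (n2 * (n1 * n2 * n1))
    rw [h]
    have e' : n1 * n2 * n1 * n2 = b⁻¹ * (n2 * (n1 * n2 * n1)) := by
      have : n2 * (n1 * n2 * n1) = b * (n1 * n2 * n1 * n2) := by
        rw [← hbr]
        group
      rw [this]
      group
    have e : n2 * (b₁ * (n1 * n2 * n1 * n2) * b₂)
        = n2 * ((b₁ * b⁻¹) * (n2 * (n1 * n2 * n1)) * b₂) := by
      rw [e']
      group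
    rw [e]
    exact sp4e2_desc B X2 n1 n2 h2 hf2 hr2 (n1 * n2 * n1) d3 c3 k3 (b₁ * b⁻¹)
      (B.mul_mem hb₁ (B.inv_mem hb)) b₂ hb₂

end E

end Cfsg.Agent.Lib.helper3.SP4
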