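import Mathlib
import Cfsg.Prelude.Def_LieTypeChar
import Cfsg.Prelude.Def_ChevStructure
import Cfsg.Agent.Lib.helper14.SQD.Defs

/-! Project SQD (designer helper14), row G1 `lev_conj_sieg` (written by lead). -/

set_option autoImplicit false

namespace Cfsg.Agent.Lib.helper14.SQD

open Cfsg Cfsg.Lie Matrix

universe u v

section G
variable {k : ℕ} {F : Type u} [Field F]

/-- G1 [M]. `Units.ext`; `levHom_coe`, `siegHom_coe`, `(levHom τ g)⁻¹ = levHom τ g⁻¹` (`map_inv`),
`Matrix.fromBlocks_multiply`, `tadj_mul`, `tadj_one`. -/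
theorem lev_conj_sieg (τ : F →+* F) (g : GL (Fin k) F) (S : Matrix (Fin k) (Fin k) F) :
    levHom τ g * siegHom (Multiplicative.ofAdd S) * (levHom τ g)⁻¹ =
      siegHom (Multiplicative.ofAdd ((g : Matrix (Fin k) (Fin k) F) * S *
        tadj τ (g : Matrix (Fin k) (Fin k) F))) := by
  rw [← map_inv]
  apply Units.ext
  rw [Units.val_mul, Units.val_mul, levHom_coe, levHom_coe, siegHom_coe, siegHom_coe]
  have h1 : ((g : Matrix (Fin k) (Fin k) F)) * ((g⁻¹ : GL (Fin k) F) : Matrix (Fin k) (Fin k) F) = 1 := by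
    rw [← Units.val_mul, mul_inv_cancel, Units.val_one]
  have h2 : tadj τ ((g⁻¹ : GL (Fin k) F) : Matrix (Fin k) (Fin k) F) *
      tadj τ ((g : GL (Fin k) F) : Matrix (Fin k) (Fin k) F) = 1 := by
    rw [← tadj_mul, h1, tadj_one]
  simp only [Matrix.fromBlocks_multiply, toAdd_ofAdd, Matrix.mul_one, Matrix.mul_zero, Matrix.zero_mul,
    add_zero, zero_add, h1, h2, inv_inv]

end G

end Cfsg.Agent.Lib.helper14.SQD
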