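import Mathlib
import Cfsg.Prelude.Def_Classical
import Cfsg.Agent.Lib.Helper16.SpinE1
import Cfsg.Agent.Lib.helper6.WittQuad

set_option autoImplicit false

namespace Cfsg.Agent.Lib.Lead.DK

open Cfsg Cfsg.Agent.Lib.Helper16 Cfsg.Agent.Lib.helper6 Module Matrix

variable {ι : Type} [Fintype ι] [DecidableEq ι] {F : Type*} [Field F]

/-- fixed space of a matrix -/
def fixSub (M : Matrix ι ι F) : Submodule F (ι → F) :=
  LinearMap.ker (Matrix.mulVecLin (M - 1))

theorem mem_fixSub (M : Matrix ι ι F) (x : ι → F) : x ∈ fixSub M ↔ M *ᵥ x = x := by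
  unfold fixSub
  rw [LinearMap.mem_ker, Matrix.mulVecLin_apply, Matrix.sub_mulVec, Matrix.one_mulVec, sub_eq_zero]

theorem finrank_inf_ker {V : Type*} [AddCommGroup V] [Module F V] [FiniteDimensional F V]
    (C : Submodule F V) (φ : V →ₗ[F] F) (c : V) (hc : c ∈ C) (hφ : φ c ≠ 0) :
    finrank F ↥(C ⊓ LinearMap.ker φ) + 1 = finrank F ↥C := by
  set f : ↥C →ₗ[F] F := φ.comp C.subtype with hf
  have hsurj : LinearMap.range f = ⊤ := by
    rw [LinearMap.range_eq_top]
    intro a
    refine ⟨(a / φ c) • ⟨c, hc⟩, ?_⟩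
    rw [map_smul, hf, LinearMap.comp_apply, Submodule.subtype_apply, smul_eq_mul,
      div_mul_cancel₀ a hφ]
  have h1 := LinearMap.finrank_range_add_finrank_ker f
  rw [hsurj, finrank_top, finrank_self] at h1
  have h2 : LinearMap.ker f = Submodule.comap C.subtype (LinearMap.ker φ) := by
    rw [hf, LinearMap.ker_comp]
  have h3 : finrank F ↥(LinearMap.ker f) = finrank F ↥(C ⊓ LinearMap.ker φ) := by
    rw [h2, ← Submodule.finrank_map_subtype_eq C, Submodule.map_comap_subtype]
  rw [h3] at h1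
  omega

section char2
variable [CharP F 2]

theorem refl_apply2 (Q : QuadraticForm F (ι → F)) (v x : ι → F) :
    Cfsg.reflectionMatrix ⇑Q v *ᵥ x = x - ((Q v)⁻¹ * QuadraticMap.polar (⇑Q) v x) • v :=
  reflectionMatrix_mulVec Q v x

theorem polar_self2 (Q : QuadraticForm F (ι → F)) (x : ι → F) : QuadraticMap.polar ⇑Q x x = 0 := by
  rw [QuadraticMap.polar_self, nsmul_eq_mul]
  push_cast
  rw [CharTwo.two_eq_zero, zero_mul]

theorem fix_parity (Q : QuadraticForm F (ι → F)) (hQ : (QuadraticMap.polarBilin Q).Nondegenerate)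
    (g : ↥(Cfsg.isometryGroup F ⇑Q)) (v : ι → F) (hv : Q v ≠ 0) :
    finrank F ↥(fixSub (((g : Matrix.GeneralLinearGroup ι F) : Matrix ι ι F) *
        Cfsg.reflectionMatrix ⇑Q v)) =
      finrank F ↥(fixSub ((g : Matrix.GeneralLinearGroup ι F) : Matrix ι ι F)) + 1 ∨
    finrank F ↥(fixSub (((g : Matrix.GeneralLinearGroup ι F) : Matrix ι ι F) *
        Cfsg.reflectionMatrix ⇑Q v)) + 1 =
      finrank F ↥(fixSub ((g : Matrix.GeneralLinearGroup ι F) : Matrix ι ι F)) := by
  set G := ((g : Matrix.GeneralLinearGroup ι F) : Matrix ι ι F) with hG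
  set R := Cfsg.reflectionMatrix ⇑Q v with hR
  set A := fixSub G with hA
  set C := fixSub (G * R) with hC
  set φ : (ι → F) →ₗ[F] F := QuadraticMap.polarBilin Q v with hφ
  have hφ_apply : ∀ x, φ x = QuadraticMap.polar ⇑Q v x := fun x => rfl
  have hGQ : ∀ x, Q (G *ᵥ x) = Q x := fun x => iso_pres (⇑Q) g x
  have hGB : ∀ x y, QuadraticMap.polar ⇑Q (G *ᵥ x) (G *ᵥ y) = QuadraticMap.polar ⇑Q x y :=
    fun x y => polar_iso' Q g x y
  have hRH : ∀ x, φ x = 0 → R *ᵥ x = x := by
    intro x hx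
    rw [hR, refl_apply2, ← hφ_apply, hx, mul_zero, zero_smul, sub_zero]
  have hAH : A ⊓ LinearMap.ker φ = C ⊓ LinearMap.ker φ := by
    ext x
    simp only [Submodule.mem_inf, LinearMap.mem_ker]
    constructor
    · rintro ⟨h1, h2⟩
      refine ⟨?_, h2⟩
      rw [hC, mem_fixSub, ← Matrix.mulVec_mulVec, hRH x h2]
      exact (mem_fixSub G x).mp h1
    · rintro ⟨h1, h2⟩
      refine ⟨?_, h2⟩
      rw [hA, mem_fixSub]
      have := (mem_fixSub (G * R) x).mp h1
      rw [← Matrix.mulVec_mulVec, hRH x h2] at this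
      exact this
  by_cases hAex : ∃ x ∈ A, φ x ≠ 0
  · by_cases hCex : ∃ y ∈ C, φ y ≠ 0
    · exfalso
      obtain ⟨x, hxA, hx⟩ := hAex
      obtain ⟨y, hyC, hy⟩ := hCex
      set x' := (Q v / φ x) • x with hx'
      set y' := (Q v / φ y) • y with hy'
      have hφx' : φ x' = Q v := by
        rw [hx', map_smul, smul_eq_mul, div_mul_cancel₀ _ hx]
      have hφy' : φ y' = Q v := by
        rw [hy', map_smul, smul_eq_mul, div_mul_cancel₀ _ hy]
      have hGx' : G *ᵥ x' = x' := by
        rw [hx', Matrix.mulVec_smul, (mem_fixSub G x).mp hxA]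
      have hGRy' : G *ᵥ (R *ᵥ y') = y' := by
        rw [hy', Matrix.mulVec_smul, Matrix.mulVec_smul, Matrix.mulVec_mulVec,
          (mem_fixSub (G * R) y).mp hyC]
      have hRy' : R *ᵥ y' = y' - v := by
        rw [hR, refl_apply2, ← hφ_apply, hφy', inv_mul_cancel₀ hv, one_smul]
      rw [hRy'] at hGRy'
      have h1 : G *ᵥ (x' + y' - v) = x' + y' := by
        rw [add_sub_assoc, Matrix.mulVec_add, hGx', hGRy']
      have h2 := hGQ (x' + y' - v)
      rw [h1, Q_sub', QuadraticMap.polar_comm, QuadraticMap.polar_add_right, ← hφ_apply,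
        ← hφ_apply, hφx', hφy'] at h2
      have h3 : Q v + Q v = 0 := CharTwo.add_self_eq_zero _
      apply hv
      have : Q (x' + y') = Q (x' + y') + Q v - (Q v + Q v) := h2
      rw [h3, sub_zero] at this
      have h4 : Q v = (Q (x' + y') + Q v) - Q (x' + y') := by ring
      rw [h4, ← this, sub_self]
    · right
      obtain ⟨x, hxA, hx⟩ := hAex
      have hCle : C ≤ LinearMap.ker φ := by
        intro y hy
        by_contra hne
        exact hCex ⟨y, hy, hne⟩
      have h1 := finrank_inf_ker A φ x hxA hx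
      rw [hAH, inf_eq_left.mpr hCle] at h1
      exact h1
  · by_cases hCex : ∃ y ∈ C, φ y ≠ 0
    · left
      obtain ⟨y, hyC, hy⟩ := hCex
      have hAle : A ≤ LinearMap.ker φ := by
        intro y hy
        by_contra hne
        exact hAex ⟨y, hy, hne⟩
      have h1 := finrank_inf_ker C φ y hyC hy
      rw [← hAH, inf_eq_left.mpr hAle] at h1
      exact h1.symm
    · exfalso
      have hAle : A ≤ LinearMap.ker φ := by
        intro y hy
        by_contra hne
        exact hAex ⟨y, hy, hne⟩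
      have hCle : C ≤ LinearMap.ker φ := by
        intro y hy
        by_contra hne
        exact hCex ⟨y, hy, hne⟩
      set T : (ι → F) →ₗ[F] (ι → F) := Matrix.mulVecLin (G - 1) with hT
      have hTapp : ∀ x, T x = G *ᵥ x - x := fun x => by
        rw [hT, Matrix.mulVecLin_apply, Matrix.sub_mulVec, Matrix.one_mulVec]
      have hmem : φ ∈ (LinearMap.ker T).dualAnnihilator := by
        rw [Submodule.mem_dualAnnihilator]
        intro x hx
        exact hAle hx
      rw [← LinearMap.range_dualMap_eq_dualAnnihilator_ker] at hmem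
      obtain ⟨ψ, hψ⟩ := hmem
      have hψ' : ∀ x, ψ (T x) = φ x := fun x => by
        rw [← hψ]; rfl
      set Bf : LinearMap.BilinForm F (ι → F) := QuadraticMap.polarBilin Q with hBf
      set w := (LinearMap.BilinForm.toDual Bf hQ).symm ψ with hw
      have hwψ : ∀ z, QuadraticMap.polar ⇑Q w z = ψ z := by
        intro z
        have := LinearMap.BilinForm.apply_toDual_symm_apply (B := Bf) (hB := hQ) ψ z
        exact this
      set Gi := (((g⁻¹ : ↥(Cfsg.isometryGroup F ⇑Q)) : Matrix.GeneralLinearGroup ι F) : Matrix ι ι F)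
        with hGi
      have hGGi : G * Gi = 1 := by
        rw [hG, hGi, ← iso_mul_coe, mul_inv_cancel]
        rfl
      set u := Gi *ᵥ w with hu
      have hGu : G *ᵥ u = w := by
        rw [hu, Matrix.mulVec_mulVec, hGGi, Matrix.one_mulVec]
      have hveq : v = u - w := by
        have hsep := hQ.1
        have : v - (u - w) = 0 := by
          apply hsep
          intro x
          show QuadraticMap.polar ⇑Q (v - (u - w)) x = 0
          rw [QuadraticMap.polar_sub_left, QuadraticMap.polar_sub_left, ← hφ_apply, ← hψ' x,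
            hTapp, map_sub, ← hwψ, ← hwψ, ← hGu, hGB, hGu]
          ring
        exact sub_eq_zero.mp this
      have hGu' : G *ᵥ u = u - v := by
        rw [hGu, hveq]; abel
      have hφu : φ u = Q v := by
        have h2 := hGQ u
        rw [hGu', Q_sub', QuadraticMap.polar_comm] at h2
        rw [hφ_apply]
        have : Q u = Q u + Q v - QuadraticMap.polar ⇑Q v u := h2.symm ▸ rfl
        linear_combination this
      have hRu : R *ᵥ u = u - v := by
        rw [hR, refl_apply2, ← hφ_apply, hφu, inv_mul_cancel₀ hv, one_smul]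
      have hRR : R * R = 1 := refl_mul_self Q v hv
      have hxC : (u - v) ∈ C := by
        rw [hC, mem_fixSub]
        calc (G * R) *ᵥ (u - v) = (G * R) *ᵥ (R *ᵥ u) := by rw [hRu]
          _ = G *ᵥ ((R * R) *ᵥ u) := by
            rw [← Matrix.mulVec_mulVec, ← Matrix.mulVec_mulVec u R R]
          _ = u - v := by rw [hRR, Matrix.one_mulVec, hGu']
      have h5 := hCle hxC
      rw [LinearMap.mem_ker, map_sub, hφu, hφ_apply, polar_self2, sub_zero] at h5
      exact hv h5


/-- the generation hypothesis: every isometry is a product of reflections -/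
def GenByRefl (Q : QuadraticForm F (ι → F)) : Prop :=
  ∀ g : ↥(Cfsg.isometryGroup F ⇑Q), ∃ vs : List (ι → F),
    (∀ v ∈ vs, Q v ≠ 0) ∧ g = (vs.map (reflG' Q)).prod

/-- dimension of the fixed space -/
noncomputable def fixDim (Q : QuadraticForm F (ι → F)) (g : ↥(Cfsg.isometryGroup F ⇑Q)) : ℕ :=
  finrank F ↥(fixSub ((g : Matrix.GeneralLinearGroup ι F) : Matrix ι ι F))

/-- the Dickson sign `(-1)^(rank (g - 1))` -/
noncomputable def dk (Q : QuadraticForm F (ι → F)) (g : ↥(Cfsg.isometryGroup F ⇑Q)) : ℤˣ :=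
  (-1) ^ (fixDim Q g + Fintype.card ι)

theorem fixDim_one (Q : QuadraticForm F (ι → F)) : fixDim Q 1 = Fintype.card ι := by
  unfold fixDim
  have : fixSub (((1 : ↥(Cfsg.isometryGroup F ⇑Q)) : Matrix.GeneralLinearGroup ι F) :
      Matrix ι ι F) = ⊤ := by
    rw [eq_top_iff]
    intro x _
    rw [mem_fixSub, iso_one_coe, Matrix.one_mulVec]
  rw [this, finrank_top, Module.finrank_fintype_fun_eq_card]

theorem dk_one (Q : QuadraticForm F (ι → F)) : dk Q 1 = 1 := by
  unfold dk
  rw [fixDim_one, ← two_mul, pow_mul]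
  simp

theorem dk_mul_refl (Q : QuadraticForm F (ι → F)) (hQ : (QuadraticMap.polarBilin Q).Nondegenerate)
    (g : ↥(Cfsg.isometryGroup F ⇑Q)) (v : ι → F) (hv : Q v ≠ 0) :
    dk Q (g * reflG Q v hv) = - dk Q g := by
  unfold dk fixDim
  rw [iso_mul_coe, reflG_coe]
  rcases fix_parity Q hQ g v hv with h | h
  · rw [h, add_right_comm, pow_succ, mul_neg_one]
  · rw [← h, add_right_comm, pow_succ, mul_neg_one, neg_neg]

theorem dk_mul_list (Q : QuadraticForm F (ι → F)) (hQ : (QuadraticMap.polarBilin Q).Nondegenerate)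
    (vs : List (ι → F)) (hvs : ∀ v ∈ vs, Q v ≠ 0) (g : ↥(Cfsg.isometryGroup F ⇑Q)) :
    dk Q (g * (vs.map (reflG' Q)).prod) = dk Q g * (-1) ^ vs.length := by
  induction vs generalizing g with
  | nil => simp
  | cons v vs ih =>
    have hv := hvs v List.mem_cons_self
    have hvs' : ∀ w ∈ vs, Q w ≠ 0 := fun w hw => hvs w (List.mem_cons_of_mem _ hw)
    rw [List.map_cons, List.prod_cons, ← mul_assoc, ih hvs', reflG'_eq Q v hv,
      dk_mul_refl Q hQ g v hv, List.length_cons, pow_succ]
    simp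

theorem dk_list (Q : QuadraticForm F (ι → F)) (hQ : (QuadraticMap.polarBilin Q).Nondegenerate)
    (vs : List (ι → F)) (hvs : ∀ v ∈ vs, Q v ≠ 0) :
    dk Q (vs.map (reflG' Q)).prod = (-1) ^ vs.length := by
  have := dk_mul_list Q hQ vs hvs 1
  rw [one_mul, dk_one, one_mul] at this
  exact this

theorem dk_mul (Q : QuadraticForm F (ι → F)) (hQ : (QuadraticMap.polarBilin Q).Nondegenerate)
    (hG : GenByRefl Q) (g h : ↥(Cfsg.isometryGroup F ⇑Q)) : dk Q (g * h) = dk Q g * dk Q h := by
  obtain ⟨vs, hvs, rfl⟩ := hG h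
  rw [dk_mul_list Q hQ vs hvs g, dk_list Q hQ vs hvs]

/-- the Dickson homomorphism (given generation by reflections) -/
noncomputable def dkHom (Q : QuadraticForm F (ι → F))
    (hQ : (QuadraticMap.polarBilin Q).Nondegenerate) (hG : GenByRefl Q) :
    ↥(Cfsg.isometryGroup F ⇑Q) →* ℤˣ :=
  MonoidHom.mk' (dk Q) (dk_mul Q hQ hG)

theorem dkHom_refl (Q : QuadraticForm F (ι → F))
    (hQ : (QuadraticMap.polarBilin Q).Nondegenerate) (hG : GenByRefl Q) (v : ι → F) (hv : Q v ≠ 0) :
    dkHom Q hQ hG (reflG Q v hv) = -1 := by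
  show dk Q (reflG Q v hv) = -1
  have := dk_mul_refl Q hQ 1 v hv
  rw [one_mul, dk_one] at this
  exact this

end char2

/-! ### isometries from linear equivalences, conjugacy of reflections -/

theorem exists_of_linearEquiv (Q : QuadraticForm F (ι → F)) (d : (ι → F) ≃ₗ[F] (ι → F))
    (hd : ∀ x, Q (d x) = Q x) :
    ∃ D : ↥(Cfsg.isometryGroup F ⇑Q), ∀ x,
      ((D : Matrix.GeneralLinearGroup ι F) : Matrix ι ι F) *ᵥ x = d x := by
  let M : Matrix ι ι F := LinearMap.toMatrix' (d : (ι → F) →ₗ[F] (ι → F))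
  let M' : Matrix ι ι F := LinearMap.toMatrix' (d.symm : (ι → F) →ₗ[F] (ι → F))
  have hMv : ∀ v, M *ᵥ v = d v := fun v => by
    show (LinearMap.toMatrix' _) *ᵥ v = _
    rw [LinearMap.toMatrix'_mulVec]; rfl
  have hM'v : ∀ v, M' *ᵥ v = d.symm v := fun v => by
    show (LinearMap.toMatrix' _) *ᵥ v = _
    rw [LinearMap.toMatrix'_mulVec]; rfl
  have h1 : M * M' = 1 := by
    rw [Matrix.ext_iff_mulVec]
    intro v
    rw [← Matrix.mulVec_mulVec, hM'v, hMv, LinearEquiv.apply_symm_apply, Matrix.one_mulVec]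
  have h2 : M' * M = 1 := by
    rw [Matrix.ext_iff_mulVec]
    intro v
    rw [← Matrix.mulVec_mulVec, hMv, hM'v, LinearEquiv.symm_apply_apply, Matrix.one_mulVec]
  refine ⟨⟨⟨M, M', h1, h2⟩, ?_⟩, hMv⟩
  rw [mem_iso_iff]
  intro x
  show Q (M *ᵥ x) = Q x
  rw [hMv, hd]

/-- Witt: the isometry group is transitive on vectors of a given non-zero norm -/
theorem exists_map (Q : QuadraticForm F (ι → F)) (hQ : (QuadraticMap.polarBilin Q).Nondegenerate)
    (u v : ι → F) (hu : Q u ≠ 0) (huv : Q u = Q v) :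
    ∃ D : ↥(Cfsg.isometryGroup F ⇑Q),
      ((D : Matrix.GeneralLinearGroup ι F) : Matrix ι ι F) *ᵥ u = v := by
  have hu0 : u ≠ 0 := by
    rintro rfl
    exact hu (QuadraticMap.map_zero _)
  have hv0 : v ≠ 0 := by
    rintro rfl
    rw [QuadraticMap.map_zero] at huv
    exact hu huv
  let e1 := LinearEquiv.toSpanNonzeroSingleton F (ι → F) u hu0
  let e2 := LinearEquiv.toSpanNonzeroSingleton F (ι → F) v hv0
  let φ : ↥(Submodule.span F {u}) ≃ₗ[F] ↥(Submodule.span F {v}) := e1.symm.trans e2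
  have hφ : ∀ x : ↥(Submodule.span F {u}), Q (φ x : ι → F) = Q (x : ι → F) := by
    intro x
    obtain ⟨a, rfl⟩ := e1.surjective x
    have h1 : φ (e1 a) = e2 a := by
      show e2 (e1.symm (e1 a)) = e2 a
      rw [LinearEquiv.symm_apply_apply]
    rw [h1]
    have h2 : ((e1 a : ↥(Submodule.span F {u})) : ι → F) = a • u := rfl
    have h3 : ((e2 a : ↥(Submodule.span F {v})) : ι → F) = a • v := rfl
    rw [h2, h3, QuadraticMap.map_smul, QuadraticMap.map_smul, huv]
  obtain ⟨g, hg, hgX⟩ := Cfsg.Agent.Lib.helper6.Witt.witt_quad Q hQ _ _ φ hφ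
  obtain ⟨D, hD⟩ := exists_of_linearEquiv Q g hg
  refine ⟨D, ?_⟩
  rw [hD]
  have h4 := hgX (e1 1)
  have h5 : ((e1 1 : ↥(Submodule.span F {u})) : ι → F) = u := by
    show (1 : F) • u = u
    rw [one_smul]
  have h6 : ((φ (e1 1) : ↥(Submodule.span F {v})) : ι → F) = v := by
    have : φ (e1 1) = e2 1 := by
      show e2 (e1.symm (e1 1)) = e2 1
      rw [LinearEquiv.symm_apply_apply]
    rw [this]
    show (1 : F) • v = v
    rw [one_smul]
  rw [h5, h6] at h4
  exact h4

section finite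
variable [Fintype F] [CharP F 2]

/-- in characteristic two over a finite field all reflections are conjugate -/
theorem refl_conj_all (Q : QuadraticForm F (ι → F)) (hQ : (QuadraticMap.polarBilin Q).Nondegenerate)
    (u v : ι → F) (hu : Q u ≠ 0) (hv : Q v ≠ 0) :
    ∃ k : ↥(Cfsg.isometryGroup F ⇑Q), k * reflG Q u hu * k⁻¹ = reflG Q v hv := by
  have hchar : ringChar F = 2 := ringChar.eq F 2
  obtain ⟨t, ht⟩ := FiniteField.isSquare_of_char_two hchar (Q v / Q u)
  have ht0 : t ≠ 0 := by
    rintro rfl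
    rw [mul_zero] at ht
    exact (div_ne_zero hv hu) ht
  have hQt : Q (t • u) = Q v := by
    rw [QuadraticMap.map_smul, smul_eq_mul, ← ht, div_mul_cancel₀ _ hu]
  have htu : Q (t • u) ≠ 0 := by rw [hQt]; exact hv
  obtain ⟨D, hD⟩ := exists_map Q hQ (t • u) v htu hQt
  refine ⟨D, ?_⟩
  have h1 : reflG Q u hu = reflG Q (t • u) htu := by
    apply iso_ext'
    rw [reflG_coe, reflG_coe, refl_smul Q u t ht0 hu]
  have hx : Q (((D : Matrix.GeneralLinearGroup ι F) : Matrix ι ι F) *ᵥ (t • u)) ≠ 0 := by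
    rw [hD]; exact hv
  rw [h1, refl_conj Q D (t • u) htu hx]
  apply iso_ext'
  rw [reflG_coe, reflG_coe, hD]

theorem pair_mem_omega (Q : QuadraticForm F (ι → F)) (hQ : (QuadraticMap.polarBilin Q).Nondegenerate)
    (u v : ι → F) (hu : Q u ≠ 0) (hv : Q v ≠ 0) :
    reflG Q u hu * reflG Q v hv ∈ Cfsg.Omega F ⇑Q := by
  obtain ⟨k, hk⟩ := refl_conj_all Q hQ u v hu hv
  rw [← hk]
  have h1 := Subgroup.commutator_mem_commutator (H₁ := (⊤ : Subgroup ↥(Cfsg.isometryGroup F ⇑Q)))
    (H₂ := (⊤ : Subgroup ↥(Cfsg.isometryGroup F ⇑Q))) (Subgroup.mem_top (reflG Q u hu))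
    (Subgroup.mem_top k)
  rw [commutatorElement_def, reflG_inv] at h1
  have h2 : reflG Q u hu * (k * reflG Q u hu * k⁻¹) = reflG Q u hu * k * reflG Q u hu * k⁻¹ := by
    group
  rw [h2]
  exact h1

theorem even_list_mem_omega (Q : QuadraticForm F (ι → F))
    (hQ : (QuadraticMap.polarBilin Q).Nondegenerate) :
    ∀ (k : ℕ) (vs : List (ι → F)), vs.length = 2 * k → (∀ v ∈ vs, Q v ≠ 0) →
      (vs.map (reflG' Q)).prod ∈ Cfsg.Omega F ⇑Q := by
  intro k
  induction k with
  | zero =>
    intro vs hlen _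
    have : vs = [] := List.length_eq_zero_iff.mp (by omega)
    rw [this]
    simp
  | succ k ih =>
    intro vs hlen hvs
    match vs, hlen, hvs with
    | a :: b :: rest, hlen, hvs =>
      have ha := hvs a (by simp)
      have hb := hvs b (by simp)
      have hrest : ∀ w ∈ rest, Q w ≠ 0 := fun w hw => hvs w (by simp [hw])
      have hl : rest.length = 2 * k := by
        simp only [List.length_cons] at hlen; omega
      rw [List.map_cons, List.map_cons, List.prod_cons, List.prod_cons, ← mul_assoc,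
        reflG'_eq Q a ha, reflG'_eq Q b hb]
      exact Subgroup.mul_mem _ (pair_mem_omega Q hQ a b ha hb) (ih rest hl hrest)
    | [], hlen, _ => simp at hlen
    | [a], hlen, _ => simp at hlen; omega

theorem omega_eq_ker (Q : QuadraticForm F (ι → F)) (hQ : (QuadraticMap.polarBilin Q).Nondegenerate)
    (hG : GenByRefl Q) : Cfsg.Omega F ⇑Q = (dkHom Q hQ hG).ker := by
  apply le_antisymm
  · exact omega_le_ker (⇑Q) _
  · intro g hg
    rw [MonoidHom.mem_ker] at hg
    obtain ⟨vs, hvs, rfl⟩ := hG g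
    have h1 : dk Q (vs.map (reflG' Q)).prod = 1 := hg
    rw [dk_list Q hQ vs hvs] at h1
    have heven : Even vs.length := by
      rcases Nat.even_or_odd vs.length with he | ho
      · exact he
      · rw [ho.neg_one_pow] at h1
        exact absurd h1 (by decide)
    obtain ⟨k, hk⟩ := heven
    exact even_list_mem_omega Q hQ k vs (by omega) hvs

theorem exists_aniso (Q : QuadraticForm F (ι → F)) (hQ : (QuadraticMap.polarBilin Q).Nondegenerate)
    (hn : 1 ≤ Fintype.card ι) : ∃ v, Q v ≠ 0 := by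
  by_contra hcon
  push Not at hcon
  have hne : Nonempty ι := by
    rw [← Fintype.card_pos_iff]; omega
  obtain ⟨i⟩ := hne
  have hx0 : (Pi.single i 1 : ι → F) ≠ 0 := by
    intro h
    have := congrFun h i
    simp at this
  apply hx0
  apply hQ.1
  intro y
  show QuadraticMap.polar ⇑Q _ y = 0
  unfold QuadraticMap.polar
  rw [hcon, hcon, hcon]
  ring

/-- given generation by reflections, `Ω` has index 2 (characteristic two) -/
theorem index_omega (Q : QuadraticForm F (ι → F)) (hQ : (QuadraticMap.polarBilin Q).Nondegenerate)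
    (hn : 1 ≤ Fintype.card ι) (hG : GenByRefl Q) : (Cfsg.Omega F ⇑Q).index = 2 := by
  rw [omega_eq_ker Q hQ hG, Subgroup.index_ker]
  have hsurj : Function.Surjective (dkHom Q hQ hG) := by
    obtain ⟨v, hv⟩ := exists_aniso Q hQ hn
    intro a
    rcases Int.units_eq_one_or a with rfl | rfl
    · exact ⟨1, map_one _⟩
    · exact ⟨reflG Q v hv, dkHom_refl Q hQ hG v hv⟩
  rw [MonoidHom.range_eq_top.mpr hsurj, Nat.card_congr (Subgroup.topEquiv (G := ℤˣ)).toEquiv]
  simp

end finite

end Cfsg.Agent.Lib.Lead.DK
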