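import Mathlib
import Cfsg.Prelude.Def_Classical
import Cfsg.Agent.Lib.Lead.Dickson

set_option autoImplicit false

/-! Centraliser of `Ω` in the isometry group in characteristic two is trivial. -/

namespace Cfsg.Agent.Lib.Lead.OC2

open Cfsg Cfsg.Agent.Lib.Helper16 Cfsg.Agent.Lib.helper6 Module Matrix

variable {ι : Type} [Fintype ι] [DecidableEq ι] {F : Type*} [Field F]

theorem finrank_span_singleton_le' (x : ι → F) : finrank F ↥(Submodule.span F {x}) ≤ 1 := by
  classical
  have h1 := finrank_span_finset_le_card (R := F) ({x} : Finset (ι → F))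
  rw [Finset.coe_singleton, Finset.card_singleton] at h1
  exact h1

/-- a nonsingular vector outside a subspace of codimension at least two (any field) -/
theorem exists_nonsing_not_mem (Q : QuadraticForm F (ι → F)) (u : ι → F) (hu : Q u ≠ 0)
    (P : Submodule F (ι → F)) (hP : finrank F ↥P + 2 ≤ Fintype.card ι) :
    ∃ w, Q w ≠ 0 ∧ w ∉ P := by
  by_contra hcon
  push Not at hcon
  have huP : u ∈ P := hcon u hu
  have hlt : P < ⊤ := by
    rw [lt_top_iff_ne_top]
    intro h
    rw [h, finrank_top, Module.finrank_fintype_fun_eq_card] at hP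
    omega
  obtain ⟨x, -, hx⟩ := SetLike.exists_of_lt hlt
  have hlt2 : P ⊔ Submodule.span F {x} < ⊤ := by
    rw [lt_top_iff_ne_top]
    intro h
    have h1 := Submodule.finrank_add_le_finrank_add_finrank P (Submodule.span F {x})
    have h2 : finrank F ↥(Submodule.span F {x}) ≤ 1 := finrank_span_singleton_le' x
    rw [h, finrank_top, Module.finrank_fintype_fun_eq_card] at h1
    omega
  obtain ⟨x', -, hx'⟩ := SetLike.exists_of_lt hlt2
  have hx'P : x' ∉ P := fun h => hx' (Submodule.mem_sup_left h)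
  have hxx' : x + x' ∉ P := by
    intro h
    apply hx'
    have : x' = (x + x') + (-1 : F) • x := by module
    rw [this]
    exact Submodule.add_mem _ (Submodule.mem_sup_left h)
      (Submodule.mem_sup_right (Submodule.smul_mem _ _ (Submodule.mem_span_singleton_self x)))
  have key : ∀ a, a ∉ P → QuadraticMap.polar ⇑Q a u = - Q u := by
    intro a ha
    have h1 : Q a = 0 := by
      by_contra h
      exact ha (hcon a h)
    have h2 : Q (a + u) = 0 := by
      by_contra h
      apply ha
      have h3 := hcon _ h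
      have : a = (a + u) - u := by abel
      rw [this]
      exact Submodule.sub_mem _ h3 huP
    unfold QuadraticMap.polar
    rw [h2, h1]; ring
  have k1 := key x hx
  have k2 := key x' hx'P
  have k3 := key (x + x') hxx'
  rw [QuadraticMap.polar_add_left, k1, k2] at k3
  apply hu
  linear_combination -k3

/-- a nonsingular vector orthogonal to a given vector (dimension at least three) -/
theorem exists_nonsing_perp (Q : QuadraticForm F (ι → F))
    (hQ : (QuadraticMap.polarBilin Q).Nondegenerate) (hn : 3 ≤ Fintype.card ι) (x : ι → F) :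
    ∃ w, Q w ≠ 0 ∧ QuadraticMap.polar ⇑Q x w = 0 := by
  by_contra hcon
  push Not at hcon
  set Bf : LinearMap.BilinForm F (ι → F) := QuadraticMap.polarBilin Q with hBf
  have hBf_apply : ∀ a b, Bf a b = QuadraticMap.polar ⇑Q a b := fun a b => rfl
  have hS : ∀ a b, Bf a b = Bf b a := fun a b => by
    rw [hBf_apply, hBf_apply, QuadraticMap.polar_comm]
  have hrefl : Bf.IsRefl := fun a b h => by rw [hS]; exact h
  set H : Submodule F (ι → F) := LinearMap.ker (Bf x) with hH
  have hsing : ∀ w ∈ H, Q w = 0 := by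
    intro w hw
    by_contra h
    exact hcon w h (by rw [← hBf_apply]; exact LinearMap.mem_ker.mp hw)
  have hle : H ≤ LinearMap.BilinForm.orthogonal Bf H := by
    intro h hh
    rw [LinearMap.BilinForm.mem_orthogonal_iff]
    intro h' hh'
    show Bf h' h = 0
    rw [hBf_apply]
    unfold QuadraticMap.polar
    rw [hsing _ (H.add_mem hh' hh), hsing _ hh', hsing _ hh]; ring
  have hfin : finrank F ↥(LinearMap.BilinForm.orthogonal Bf H) = Fintype.card ι - finrank F ↥H := by
    rw [LinearMap.BilinForm.finrank_orthogonal hQ, Module.finrank_fintype_fun_eq_card]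
  have h1 := Submodule.finrank_mono hle
  have h2 := LinearMap.finrank_range_add_finrank_ker (Bf x)
  rw [Module.finrank_fintype_fun_eq_card, ← hH] at h2
  have h3 : finrank F ↥(LinearMap.range (Bf x)) ≤ 1 := by
    have := Submodule.finrank_le (LinearMap.range (Bf x))
    rw [finrank_self] at this
    exact this
  omega

section char2
variable [Fintype F] [CharP F 2]

theorem refl_fix_perp (Q : QuadraticForm F (ι → F)) (v x : ι → F)
    (h : QuadraticMap.polar ⇑Q v x = 0) : Cfsg.reflectionMatrix ⇑Q v *ᵥ x = x := by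
  rw [DK.refl_apply2, h, mul_zero, zero_smul, sub_zero]

/-- an isometry commuting with `r_u r_v` (`u, v` independent) preserves `{u, v}^⊥` -/
theorem pres_perp (Q : QuadraticForm F (ι → F)) (u v : ι → F) (hu : Q u ≠ 0) (hv : Q v ≠ 0)
    (hind : v ∉ Submodule.span F {u})
    (z : ↥(Cfsg.isometryGroup F ⇑Q)) (hz : z * (reflG Q u hu * reflG Q v hv) =
      reflG Q u hu * reflG Q v hv * z) (x : ι → F)
    (hxu : QuadraticMap.polar ⇑Q u x = 0) (hxv : QuadraticMap.polar ⇑Q v x = 0) :
    QuadraticMap.polar ⇑Q u (((z : Matrix.GeneralLinearGroup ι F) : Matrix ι ι F) *ᵥ x) = 0 ∧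
    QuadraticMap.polar ⇑Q v (((z : Matrix.GeneralLinearGroup ι F) : Matrix ι ι F) *ᵥ x) = 0 := by
  set y := ((z : Matrix.GeneralLinearGroup ι F) : Matrix ι ι F) *ᵥ x with hy
  have hc := congrArg (fun g : ↥(Cfsg.isometryGroup F ⇑Q) =>
    ((g : Matrix.GeneralLinearGroup ι F) : Matrix ι ι F) *ᵥ x) hz
  simp only [iso_mul_coe, reflG_coe] at hc
  rw [← Matrix.mulVec_mulVec, ← Matrix.mulVec_mulVec, ← Matrix.mulVec_mulVec, ← Matrix.mulVec_mulVec,
    refl_fix_perp Q v x hxv, refl_fix_perp Q u x hxu, ← hy] at hc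
  -- hc : y = r_u (r_v y)
  rw [DK.refl_apply2 Q v y, DK.refl_apply2 Q u] at hc
  set α := (Q v)⁻¹ * QuadraticMap.polar (⇑Q) v y with hα
  set β := (Q u)⁻¹ * QuadraticMap.polar (⇑Q) u (y - α • v) with hβ
  have h1 : α • v = (-β) • u := by
    have : y - (y - α • v - β • u) = 0 := by rw [← hc]; abel
    have h2 : α • v + β • u = y - (y - α • v - β • u) := by abel
    rw [this] at h2
    rw [neg_smul]
    exact eq_neg_of_add_eq_zero_left h2
  have hα0 : α = 0 := by
    by_contra hne
    apply hind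
    rw [Submodule.mem_span_singleton]
    refine ⟨α⁻¹ * (-β), ?_⟩
    rw [mul_smul, ← h1, smul_smul, inv_mul_cancel₀ hne, one_smul]
  have hv0 : QuadraticMap.polar (⇑Q) v y = 0 := by
    rcases mul_eq_zero.mp hα0 with h | h
    · exact absurd h (inv_ne_zero hv)
    · exact h
  have hu0' : u ≠ 0 := by
    rintro rfl
    exact hu (map_zero Q)
  have hβ0 : β = 0 := by
    rw [hα0, zero_smul] at h1
    have := h1.symm
    rw [smul_eq_zero] at this
    rcases this with h | h
    · exact neg_eq_zero.mp h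
    · exact absurd h hu0'
  refine ⟨?_, hv0⟩
  rw [hβ, hα0, zero_smul, sub_zero] at hβ0
  rcases mul_eq_zero.mp hβ0 with h | h
  · exact absurd h (inv_ne_zero hu)
  · exact h

/-- an isometry centralising `Ω` maps `u` into `span {u, v}` -/
theorem mem_span_pair_of_central (Q : QuadraticForm F (ι → F))
    (hQ : (QuadraticMap.polarBilin Q).Nondegenerate)
    (z : ↥(Cfsg.isometryGroup F ⇑Q)) (hz : ∀ t ∈ Cfsg.Omega F ⇑Q, z * t = t * z)
    (u v : ι → F) (hu : Q u ≠ 0) (hv : Q v ≠ 0) (hind : v ∉ Submodule.span F {u}) :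
    ∃ a b : F, ((z : Matrix.GeneralLinearGroup ι F) : Matrix ι ι F) *ᵥ u = a • u + b • v := by
  set Bf : LinearMap.BilinForm F (ι → F) := QuadraticMap.polarBilin Q with hBf
  have hBf_apply : ∀ a b, Bf a b = QuadraticMap.polar ⇑Q a b := fun a b => rfl
  have hS : ∀ a b, Bf a b = Bf b a := fun a b => by
    rw [hBf_apply, hBf_apply, QuadraticMap.polar_comm]
  have hrefl : Bf.IsRefl := fun a b h => by rw [hS]; exact h
  set P : Submodule F (ι → F) := Submodule.span F {u, v} with hP
  have hPP : LinearMap.BilinForm.orthogonal Bf (LinearMap.BilinForm.orthogonal Bf P) = P :=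
    LinearMap.BilinForm.orthogonal_orthogonal hQ hrefl P
  have huP : u ∈ P := Submodule.subset_span (by simp)
  have hvP : v ∈ P := Submodule.subset_span (by simp)
  -- `z⁻¹` also centralises `Ω`
  have hzi : z⁻¹ * (reflG Q u hu * reflG Q v hv) = reflG Q u hu * reflG Q v hv * z⁻¹ := by
    have := hz _ (DK.pair_mem_omega Q hQ u v hu hv)
    rw [eq_mul_inv_iff_mul_eq, mul_assoc, ← this, ← mul_assoc, inv_mul_cancel, one_mul]
  have hmem : ((z : Matrix.GeneralLinearGroup ι F) : Matrix ι ι F) *ᵥ u ∈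
      LinearMap.BilinForm.orthogonal Bf (LinearMap.BilinForm.orthogonal Bf P) := by
    rw [LinearMap.BilinForm.mem_orthogonal_iff]
    intro x hx
    rw [LinearMap.BilinForm.mem_orthogonal_iff] at hx
    have hxu : QuadraticMap.polar ⇑Q u x = 0 := hx u huP
    have hxv : QuadraticMap.polar ⇑Q v x = 0 := hx v hvP
    obtain ⟨h1, -⟩ := pres_perp Q u v hu hv hind z⁻¹ hzi x hxu hxv
    show Bf x _ = 0
    rw [hBf_apply]
    have h2 := polar_iso' Q z ((((z⁻¹ : ↥(Cfsg.isometryGroup F ⇑Q)) : Matrix.GeneralLinearGroup ι F) :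
      Matrix ι ι F) *ᵥ x) u
    have h3 : ((z : Matrix.GeneralLinearGroup ι F) : Matrix ι ι F) *ᵥ
        ((((z⁻¹ : ↥(Cfsg.isometryGroup F ⇑Q)) : Matrix.GeneralLinearGroup ι F) :
          Matrix ι ι F) *ᵥ x) = x := by
      rw [Matrix.mulVec_mulVec, ← iso_mul_coe, mul_inv_cancel, iso_one_coe, Matrix.one_mulVec]
    rw [h3] at h2
    rw [h2, QuadraticMap.polar_comm]
    exact h1
  rw [hPP, hP, Submodule.mem_span_pair] at hmem
  obtain ⟨a, b, hab⟩ := hmem
  exact ⟨a, b, hab.symm⟩

/-- an isometry centralising `Ω` fixes every nonsingular line -/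
theorem fix_line (Q : QuadraticForm F (ι → F))
    (hQ : (QuadraticMap.polarBilin Q).Nondegenerate) (hn : 4 ≤ Fintype.card ι)
    (z : ↥(Cfsg.isometryGroup F ⇑Q)) (hz : ∀ t ∈ Cfsg.Omega F ⇑Q, z * t = t * z)
    (u : ι → F) (hu : Q u ≠ 0) :
    ∃ a : F, ((z : Matrix.GeneralLinearGroup ι F) : Matrix ι ι F) *ᵥ u = a • u := by
  classical
  have h1 : finrank F ↥(Submodule.span F {u}) + 2 ≤ Fintype.card ι := by
    have := finrank_span_singleton_le' (F := F) u
    omega
  obtain ⟨v, hv, hvu⟩ := exists_nonsing_not_mem Q u hu _ h1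
  have h2 : finrank F ↥(Submodule.span F {u, v}) + 2 ≤ Fintype.card ι := by
    have h3 := finrank_span_finset_le_card (R := F) ({u, v} : Finset (ι → F))
    rw [Finset.coe_pair] at h3
    have h4 : finrank F ↥(Submodule.span F {u, v}) ≤ 2 := le_trans h3 Finset.card_le_two
    omega
  obtain ⟨w, hw, hwuv⟩ := exists_nonsing_not_mem Q u hu _ h2
  have hwu : w ∉ Submodule.span F {u} := by
    intro h
    apply hwuv
    exact Submodule.span_mono (by simp) h
  obtain ⟨a, b, hab⟩ := mem_span_pair_of_central Q hQ z hz u v hu hv hvu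
  obtain ⟨a', b', hab'⟩ := mem_span_pair_of_central Q hQ z hz u w hu hw hwu
  refine ⟨a', ?_⟩
  have hb' : b' = 0 := by
    by_contra hne
    apply hwuv
    rw [Submodule.mem_span_pair]
    refine ⟨b'⁻¹ * (a - a'), b'⁻¹ * b, ?_⟩
    have h4 : b' • w = (a - a') • u + b • v := by
      have : a • u + b • v = a' • u + b' • w := by rw [← hab, ← hab']
      have h5 : b' • w = (a • u + b • v) - a' • u := by rw [this]; abel
      rw [h5]; module
    rw [mul_smul, mul_smul, ← smul_add, ← h4, smul_smul, inv_mul_cancel₀ hne, one_smul]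
  rw [hab', hb', zero_smul, add_zero]

/-- an isometry centralising `Ω` fixes every nonsingular vector -/
theorem fix_nonsing (Q : QuadraticForm F (ι → F))
    (hQ : (QuadraticMap.polarBilin Q).Nondegenerate) (hn : 4 ≤ Fintype.card ι)
    (z : ↥(Cfsg.isometryGroup F ⇑Q)) (hz : ∀ t ∈ Cfsg.Omega F ⇑Q, z * t = t * z)
    (u : ι → F) (hu : Q u ≠ 0) :
    ((z : Matrix.GeneralLinearGroup ι F) : Matrix ι ι F) *ᵥ u = u := by
  obtain ⟨a, ha⟩ := fix_line Q hQ hn z hz u hu
  have h1 := iso_pres (⇑Q) z u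
  rw [ha, QuadraticMap.map_smul, smul_eq_mul] at h1
  have h2 : (a * a - 1) * Q u = 0 := by rw [sub_mul, h1, one_mul, sub_self]
  have h3 : a * a - 1 = 0 := by
    rcases mul_eq_zero.mp h2 with h | h
    · exact h
    · exact absurd h hu
  have h4 : (a - 1) * (a - 1) = 0 := by
    have : (a - 1) * (a - 1) = (a * a - 1) - 2 * (a - 1) := by ring
    rw [this, h3, CharTwo.two_eq_zero, zero_mul, sub_zero]
  have h5 : a = 1 := by
    rcases mul_eq_zero.mp h4 with h | h <;> exact sub_eq_zero.mp h
  rw [ha, h5, one_smul]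

/-- the centraliser of `Ω` in the isometry group is trivial in characteristic two -/
theorem central_eq_one (Q : QuadraticForm F (ι → F))
    (hQ : (QuadraticMap.polarBilin Q).Nondegenerate) (hn : 4 ≤ Fintype.card ι)
    (z : ↥(Cfsg.isometryGroup F ⇑Q)) (hz : ∀ t ∈ Cfsg.Omega F ⇑Q, z * t = t * z) : z = 1 := by
  apply iso_ext'
  rw [Matrix.ext_iff_mulVec]
  intro x
  rw [iso_one_coe, Matrix.one_mulVec]
  by_cases hx : Q x ≠ 0
  · exact fix_nonsing Q hQ hn z hz x hx
  · push Not at hx
    obtain ⟨w, hw, hxw⟩ := exists_nonsing_perp Q hQ (by omega) x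
    have hxw' : Q (x + w) ≠ 0 := by
      have : Q (x + w) = Q x + Q w + QuadraticMap.polar ⇑Q x w := by
        unfold QuadraticMap.polar; ring
      rw [this, hx, hxw, zero_add, add_zero]
      exact hw
    have h1 := fix_nonsing Q hQ hn z hz (x + w) hxw'
    have h2 := fix_nonsing Q hQ hn z hz w hw
    rw [Matrix.mulVec_add, h2] at h1
    exact add_right_cancel h1

/-- the centre of `Ω` is trivial in characteristic two -/
theorem center_eq_bot (Q : QuadraticForm F (ι → F))
    (hQ : (QuadraticMap.polarBilin Q).Nondegenerate) (hn : 4 ≤ Fintype.card ι) :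
    Subgroup.center ↥(Cfsg.Omega F ⇑Q) = ⊥ := by
  rw [eq_bot_iff]
  rintro ⟨z, hzΩ⟩ hz
  rw [Subgroup.mem_bot]
  have hcomm : ∀ t ∈ Cfsg.Omega F ⇑Q, z * t = t * z := by
    intro t ht
    have := Subgroup.mem_center_iff.mp hz ⟨t, ht⟩
    have h3 := congrArg Subtype.val this
    exact h3.symm
  apply Subtype.ext
  exact central_eq_one Q hQ hn z hcomm

end char2

end Cfsg.Agent.Lib.Lead.OC2
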