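import Mathlib

set_option autoImplicit false

/-! A concrete computable field with four elements, and its embedding in any field of
characteristic two containing a primitive cube root of unity. -/

namespace Cfsg.Agent.Lib.Lead.F4

/-- the field with four elements: `0`, `1`, `ω`, `ω + 1` -/
inductive F4c : Type
  | z | o | w | v
  deriving DecidableEq

instance instFintypeF4c : Fintype F4c :=
  ⟨⟨[F4c.z, F4c.o, F4c.w, F4c.v], by decide⟩, fun x => by cases x <;> decide⟩

namespace F4c

/-- addition -/
def add : F4c → F4c → F4c
  | z, x => x
  | x, z => x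
  | o, o => z
  | o, w => v
  | o, v => w
  | w, o => v
  | w, w => z
  | w, v => o
  | v, o => w
  | v, w => o
  | v, v => z

/-- multiplication -/
def mul : F4c → F4c → F4c
  | z, _ => z
  | _, z => z
  | o, x => x
  | x, o => x
  | w, w => v
  | w, v => o
  | v, w => o
  | v, v => w

/-- inverse -/
def inv : F4c → F4c
  | z => z
  | o => o
  | w => v
  | v => w

instance instZeroF4c : Zero F4c := ⟨z⟩
instance instOneF4c : One F4c := ⟨o⟩
instance instAddF4c : Add F4c := ⟨add⟩
instance instMulF4c : Mul F4c := ⟨mul⟩
instance instNegF4c : Neg F4c := ⟨id⟩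
instance instInvF4c : Inv F4c := ⟨inv⟩

instance instCommRingF4c : CommRing F4c where
  add_assoc := by decide
  zero_add := by decide
  add_zero := by decide
  add_comm := by decide
  neg_add_cancel := by decide
  mul_assoc := by decide
  one_mul := by decide
  mul_one := by decide
  left_distrib := by decide
  right_distrib := by decide
  zero_mul := by decide
  mul_zero := by decide
  mul_comm := by decide
  nsmul := nsmulRec
  zsmul := zsmulRec

instance instFieldF4c : Field F4c where
  exists_pair_ne := ⟨z, o, by decide⟩
  mul_inv_cancel := by decide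
  inv_zero := rfl
  nnqsmul := _
  nnqsmul_def := fun _ _ => rfl
  qsmul := _
  qsmul_def := fun _ _ => rfl

theorem two_eq_zero : (2 : F4c) = 0 := by decide

end F4c

section embed
variable {F : Type*} [Field F]

/-- the underlying map of the embedding determined by `ω` -/
def toF (ω : F) : F4c → F
  | .z => 0
  | .o => 1
  | .w => ω
  | .v => ω + 1

/-- the embedding of `F4c` determined by a root `ω` of `x² = x + 1` in characteristic two -/
def toFHom (ω : F) (h2 : (2 : F) = 0) (hω : ω * ω = ω + 1) : F4c →+* F where
  toFun := toF ω
  map_one' := rfl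
  map_zero' := rfl
  map_mul' := by
    intro a b
    cases a <;> cases b <;>
      first
        | (show (0 : F) = _; simp [toF])
        | (show (1 : F) = _; simp only [toF]; linear_combination (-1 : F) * hω - ω * h2)
        | (show ω = _; simp only [toF]; linear_combination (-1 : F) * hω - (ω + 1) * h2)
        | (show ω = _; simp [toF])
        | (show ω + 1 = _; simp only [toF]; linear_combination (-1 : F) * hω)
        | (show ω + 1 = _; simp [toF])
        | (show (1 : F) = _; simp [toF])
  map_add' := by
    intro a b
    cases a <;> cases b <;>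
      first
        | (show (0 : F) = _; simp only [toF]; linear_combination (-1 : F) * h2)
        | (show (0 : F) = _; simp only [toF]; linear_combination (-ω) * h2)
        | (show (0 : F) = _; simp only [toF]; linear_combination (-(ω + 1)) * h2)
        | (show (0 : F) = _; simp [toF])
        | (show (1 : F) = _; simp only [toF]; linear_combination (-ω) * h2)
        | (show (1 : F) = _; simp [toF])
        | (show ω = _; simp only [toF]; linear_combination (-1 : F) * h2)
        | (show ω = _; simp [toF])
        | (show ω + 1 = _; simp [toF]; ring_nf)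
        | (show ω + 1 = _; simp [toF])

theorem toFHom_apply (ω : F) (h2 : (2 : F) = 0) (hω : ω * ω = ω + 1) (x : F4c) :
    toFHom ω h2 hω x = toF ω x := rfl

theorem toFHom_injective (ω : F) (h2 : (2 : F) = 0) (hω : ω * ω = ω + 1) :
    Function.Injective (toFHom ω h2 hω) := RingHom.injective _

/-- squaring is intertwined -/
theorem toFHom_sq (ω : F) (h2 : (2 : F) = 0) (hω : ω * ω = ω + 1) (x : F4c) :
    (toFHom ω h2 hω x) ^ 2 = toFHom ω h2 hω (x * x) := by
  rw [map_mul, sq]

end embed

section exists_root
variable {F : Type*} [Field F] [Fintype F]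

theorem char_two_of_card (hF : Fintype.card F = 4) : (2 : F) = 0 := by
  have h22 : Fintype.card F = 2 ^ 2 := by rw [hF]; norm_num
  haveI : Fact (Nat.Prime 2) := ⟨Nat.prime_two⟩
  haveI : CharP F 2 := charP_of_card_eq_prime_pow h22
  have := CharP.cast_eq_zero F 2
  exact_mod_cast this

theorem exists_omega (hF : Fintype.card F = 4) : ∃ ω : F, ω * ω = ω + 1 := by
  classical
  have h2 := char_two_of_card hF
  obtain ⟨x, hx0, hx1⟩ : ∃ x : F, x ≠ 0 ∧ x ≠ 1 := by
    by_contra hcon
    push Not at hcon
    have hsub : (Finset.univ : Finset F) ⊆ {0, 1} := by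
      intro y _
      by_cases hy : y = 0
      · simp [hy]
      · simp [hcon y hy]
    have := Finset.card_le_card hsub
    rw [Finset.card_univ, hF] at this
    have h3 : ({0, 1} : Finset F).card ≤ 2 := Finset.card_le_two
    omega
  have hx3 : x ^ 3 = 1 := by
    have := FiniteField.pow_card_sub_one_eq_one x hx0
    rwa [hF] at this
  refine ⟨x, ?_⟩
  have hfac : (x - 1) * (x * x - (x + 1)) = 0 := by
    have : (x - 1) * (x * x - (x + 1)) = x ^ 3 - 1 - 2 * x * x + 2 := by ring
    rw [this, hx3, h2]; ring
  rcases mul_eq_zero.mp hfac with h | h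
  · exact absurd (sub_eq_zero.mp h) hx1
  · exact sub_eq_zero.mp h

end exists_root

end Cfsg.Agent.Lib.Lead.F4
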