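import Mathlib
import Cfsg.Agent.Lib.helper15.St2
import Cfsg.Agent.Lib.helper3.STC.Defs

/-!
# STC rows W6, W8, W11 (lead): the `C₂` computations for the Weyl elements

`cj_ws_anb` (W6), `cj_ws_ana` (W8), `cj_wl_al` (W11), verbatim against `helper3/STC/Skel1.lean.txt`.
Own-name copies of the block B facts used (`stcw6_*`), so the module waits for nothing.
-/

set_option autoImplicit false

namespace Cfsg.Agent.Lib.helper3.STC

open Cfsg.Agent.Lib.helper15.St2

theorem stcw6_ng_ng {ι : Type*} (a : ι ⊕ ι) : ng (ng a) = a := by cases a <;> rfl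

theorem stcw6_ng_ne {ι : Type*} (a : ι ⊕ ι) : ng a ≠ a := by cases a <;> simp [ng]

theorem stcw6_ne_ng {ι : Type*} (a : ι ⊕ ι) : a ≠ ng a := fun h => stcw6_ng_ne a h.symm

theorem stcw6_ng_inj {ι : Type*} {a b : ι ⊕ ι} (h : ng a = ng b) : a = b := by
  have := congrArg ng h
  rwa [stcw6_ng_ng, stcw6_ng_ng] at this

theorem stcw6_nga_ne {ι : Type*} {a b : ι ⊕ ι} (h : a ≠ ng b) : ng a ≠ b :=
  fun h' => h (by rw [← h', stcw6_ng_ng])

theorem stcw6_sg_ng {ι : Type*} {K : Type*} [Field K] (a : ι ⊕ ι) : (sg (ng a) : K) = -sg a := by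
  cases a <;> simp [ng, sg]

theorem stcw6_sg_sq {ι : Type*} {K : Type*} [Field K] (a : ι ⊕ ι) : (sg a : K) * sg a = 1 := by
  cases a <;> simp [sg]

/-- `(sg a * sg b)² = 1` in the form used below -/
theorem stcw6_eps_sq {ι : Type*} {K : Type*} [Field K] (a b : ι ⊕ ι) (r : K) :
    (sg a : K) * sg b * (sg a * sg b * r) = r := by
  have h1 := stcw6_sg_sq (K := K) a
  have h2 := stcw6_sg_sq (K := K) b
  calc (sg a : K) * sg b * (sg a * sg b * r) = (sg a * sg a) * (sg b * sg b) * r := by ring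
    _ = r := by rw [h1, h2]; ring

namespace SysC

variable {K : Type*} [Field K] {ι : Type*} {G : Type*} [Group G] (S : SysC K ι G)

theorem stcw6_x_zero (a b : ι ⊕ ι) : S.x a b 0 = 1 := by
  by_cases hab : a = b
  · subst hab; exact S.diag a 0
  · have h := S.add a b hab 0 0
    rw [add_zero] at h
    exact mul_eq_left.mp h

theorem stcw6_x_neg (a b : ι ⊕ ι) (t : K) : S.x a b (-t) = (S.x a b t)⁻¹ := by
  by_cases hab : a = b
  · subst hab; rw [S.diag, S.diag, inv_one]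
  · exact eq_inv_of_mul_eq_one_left (by rw [S.add a b hab, neg_add_cancel, S.stcw6_x_zero])

theorem stcw6_add_neg (a b : ι ⊕ ι) (t : K) : S.x a b t * S.x a b (-t) = 1 := by
  rw [S.stcw6_x_neg, mul_inv_cancel]

theorem stcw6_cj_comm {a b c d : ι ⊕ ι} (hab : a ≠ b) (hcd : c ≠ d) (hbc : b ≠ c) (had : a ≠ d)
    (hbd : b ≠ ng d) (hac : a ≠ ng c) (t u : K) : cj (S.x a b t) (S.x c d u) = S.x c d u := by
  unfold cj
  rw [S.comm a b c d hab hcd hbc had hbd hac t u, mul_assoc, mul_inv_cancel, mul_one]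

theorem stcw6_commute {a b c d : ι ⊕ ι} (hab : a ≠ b) (hcd : c ≠ d) (hbc : b ≠ c) (had : a ≠ d)
    (hbd : b ≠ ng d) (hac : a ≠ ng c) (t u : K) : Commute (S.x a b t) (S.x c d u) :=
  S.comm a b c d hab hcd hbc had hbd hac t u

/-- short, short -> long -/
theorem stcw6_cj_ssl {a b : ι ⊕ ι} (hab : a ≠ b) (hab' : a ≠ ng b) (t u : K) :
    cj (S.x a b t) (S.x b (ng a) u) = S.x a (ng a) (2 * t * u) * S.x b (ng a) u := by
  have h := S.ssl a b hab hab' t u
  unfold cj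
  rw [← h]; group

/-- long, short -/
theorem stcw6_cj_ls {a b : ι ⊕ ι} (hab : a ≠ b) (hab' : a ≠ ng b) (t u : K) :
    cj (S.x a (ng a) t) (S.x (ng a) b u) =
      S.x a b (t * u) * S.x (ng b) b (sg a * sg b * t * u ^ 2) * S.x (ng a) b u := by
  have h := S.ls a b hab hab' t u
  unfold cj
  rw [← h]; group

/-- the symmetry for the root `e_a + e_b` -/
theorem stcw6_sym_anb {a b : ι ⊕ ι} (hab' : a ≠ ng b) (r : K) :
    S.x a (ng b) r = S.x b (ng a) (sg a * sg b * r) := by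
  rw [S.sym a (ng b) hab' r, stcw6_ng_ng, stcw6_sg_ng]
  congr 1; ring

/-- the symmetry for a short root `e_b - e_a` -/
theorem stcw6_sym_ba {a b : ι ⊕ ι} (hab : a ≠ b) (r : K) :
    S.x b a r = S.x (ng a) (ng b) (-(sg a * sg b * r)) := by
  rw [S.sym b a hab.symm r]
  congr 1; ring

/-- short, long (the other order) -/
theorem stcw6_cj_sl {a b : ι ⊕ ι} (hab : a ≠ b) (hab' : a ≠ ng b) (t u : K) :
    cj (S.x b a u) (S.x a (ng a) t) =
      S.x b (ng a) (t * u) * S.x b (ng b) (sg a * sg b * t * u ^ 2) * S.x a (ng a) t := by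
  -- `ls` for the pair `(a, ng b)`
  have hanb : a ≠ ng b := hab'
  have hann : a ≠ ng (ng b) := by rw [stcw6_ng_ng]; exact hab
  have h := S.ls a (ng b) hanb hann t (-(sg a * sg b * u))
  rw [stcw6_ng_ng, stcw6_sg_ng] at h
  rw [← S.stcw6_sym_ba hab u] at h
  -- h : L * Y * L⁻¹ * Y⁻¹ = x a (ng b) (..) * x b (ng b) (..)
  have e1 : S.x a (ng b) (t * -(sg a * sg b * u)) = (S.x b (ng a) (t * u))⁻¹ := by
    rw [S.stcw6_sym_anb hab', ← S.stcw6_x_neg]
    congr 1
    have := stcw6_eps_sq (K := K) a b (t * u)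
    calc (sg a : K) * sg b * (t * -(sg a * sg b * u)) = -((sg a : K) * sg b * (sg a * sg b * (t * u))) := by ring
      _ = -(t * u) := by rw [this]
  have e2 : S.x b (ng b) (sg a * -sg b * t * (-(sg a * sg b * u)) ^ 2) =
      (S.x b (ng b) (sg a * sg b * t * u ^ 2))⁻¹ := by
    rw [← S.stcw6_x_neg]
    congr 1
    have h1 := stcw6_sg_sq (K := K) a
    have h2 := stcw6_sg_sq (K := K) b
    calc (sg a : K) * -sg b * t * (-(sg a * sg b * u)) ^ 2
        = -((sg a * sg a) * (sg b * sg b) * (sg a * sg b * t * u ^ 2)) := by ring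
      _ = -(sg a * sg b * t * u ^ 2) := by rw [h1, h2]; ring
  rw [e1, e2] at h
  have hc : Commute (S.x b (ng a) (t * u)) (S.x b (ng b) (sg a * sg b * t * u ^ 2)) := by
    refine S.stcw6_commute ?_ ?_ ?_ ?_ ?_ ?_ _ _
    · exact (stcw6_nga_ne hab').symm
    · exact stcw6_ne_ng b
    · exact stcw6_nga_ne hab'
    · exact stcw6_ne_ng b
    · rw [stcw6_ng_ng]; exact stcw6_nga_ne hab'
    · exact stcw6_ne_ng b
  unfold cj
  -- from h : L Y L⁻¹ Y⁻¹ = A⁻¹ B⁻¹ get Y L Y⁻¹ = B A L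
  have h2 : S.x b a u * S.x a (ng a) t * (S.x b a u)⁻¹ =
      S.x b (ng b) (sg a * sg b * t * u ^ 2) * S.x b (ng a) (t * u) * S.x a (ng a) t := by
    have h3 : S.x b a u * (S.x a (ng a) t)⁻¹ * (S.x b a u)⁻¹ =
        (S.x a (ng a) t)⁻¹ * ((S.x b (ng a) (t * u))⁻¹ * (S.x b (ng b) (sg a * sg b * t * u ^ 2))⁻¹) := by
      rw [← h]; group
    have h4 := congrArg (fun g => g⁻¹) h3
    simp only [mul_inv_rev, inv_inv] at h4
    rw [← h4]; group
  rw [h2, hc.eq]

/-- W6 [M]  the short Weyl element inverts the root subgroup of `e_a + e_b`. -/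
theorem cj_ws_anb {a b : ι ⊕ ι} (hab : a ≠ b) (hab' : a ≠ ng b) (u t : K) (hu : u ≠ 0) :
    cj (S.w a b u) (S.x a (ng b) t) = S.x a (ng b) (-t) := by
  have hnab : ng a ≠ b := stcw6_nga_ne hab'
  have hba' : b ≠ ng a := hnab.symm
  have hP : ∀ r : K, S.x a (ng b) (sg a * sg b * r) = S.x b (ng a) r := fun r => by
    rw [S.stcw6_sym_anb hab', stcw6_eps_sq]
  have F1 : ∀ r : K, cj (S.x a b u) (S.x b (ng a) r) =
      S.x a (ng a) (2 * u * r) * S.x b (ng a) r := fun r => S.stcw6_cj_ssl hab hab' u r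
  have F2 : ∀ r v : K, cj (S.x b a v) (S.x a (ng a) r) =
      S.x b (ng a) (r * v) * S.x b (ng b) (sg a * sg b * r * v ^ 2) * S.x a (ng a) r :=
    fun r v => S.stcw6_cj_sl hab hab' r v
  have F3 : ∀ r v : K, cj (S.x b a v) (S.x b (ng a) r) =
      S.x b (ng b) (2 * v * (sg a * sg b * r)) * S.x b (ng a) r := by
    intro r v
    have := S.stcw6_cj_ssl hab.symm hba' v (sg a * sg b * r)
    rwa [hP] at this
  have cLL : ∀ r r' : K, Commute (S.x a (ng a) r) (S.x b (ng b) r') := fun r r' => by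
    refine S.stcw6_commute (stcw6_ne_ng a) (stcw6_ne_ng b) hnab hab' ?_ hab' r r'
    rw [stcw6_ng_ng]; exact hnab
  have cLP : ∀ r r' : K, Commute (S.x a (ng a) r) (S.x b (ng a) r') := fun r r' => by
    refine S.stcw6_commute (stcw6_ne_ng a) hba' hnab (stcw6_ne_ng a) ?_ hab' r r'
    rw [stcw6_ng_ng]; exact stcw6_ng_ne a
  have cXL : ∀ r : K, cj (S.x a b u) (S.x a (ng a) r) = S.x a (ng a) r := fun r => by
    refine S.stcw6_cj_comm hab (stcw6_ne_ng a) hab.symm (stcw6_ne_ng a) ?_ (stcw6_ne_ng a) u r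
    rw [stcw6_ng_ng]; exact hab.symm
  rw [S.stcw6_sym_anb hab' t, S.stcw6_sym_anb hab' (-t)]
  set s : K := sg a * sg b * t with hs
  unfold w
  rw [← cj_cj, ← cj_cj, F1, cj_mul, F2, F3]
  -- parameters
  have p1 : 2 * u * s * -u⁻¹ = -(2 * s) := by field_simp
  have p2 : 2 * -u⁻¹ * (sg a * sg b * s) = -(sg a * sg b * (2 * u * s) * (-u⁻¹) ^ 2) := by
    field_simp
  rw [p1, p2]
  set c : K := sg a * sg b * (2 * u * s) * (-u⁻¹) ^ 2 with hc
  set m : K := 2 * u * s with hm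
  have mid : S.x b (ng a) (-(2 * s)) * S.x b (ng b) c * S.x a (ng a) m *
      (S.x b (ng b) (-c) * S.x b (ng a) s) = S.x b (ng a) (-s) * S.x a (ng a) m := by
    calc S.x b (ng a) (-(2 * s)) * S.x b (ng b) c * S.x a (ng a) m *
          (S.x b (ng b) (-c) * S.x b (ng a) s)
        = S.x b (ng a) (-(2 * s)) * (S.x b (ng b) c * S.x a (ng a) m) *
          S.x b (ng b) (-c) * S.x b (ng a) s := by group
      _ = S.x b (ng a) (-(2 * s)) * (S.x a (ng a) m * S.x b (ng b) c) *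
          S.x b (ng b) (-c) * S.x b (ng a) s := by rw [(cLL m c).eq]
      _ = S.x b (ng a) (-(2 * s)) * S.x a (ng a) m * (S.x b (ng b) c * S.x b (ng b) (-c)) *
          S.x b (ng a) s := by group
      _ = S.x b (ng a) (-(2 * s)) * (S.x a (ng a) m * S.x b (ng a) s) := by
          rw [S.stcw6_add_neg, mul_one, mul_assoc]
      _ = S.x b (ng a) (-(2 * s)) * (S.x b (ng a) s * S.x a (ng a) m) := by rw [(cLP m s).eq]
      _ = S.x b (ng a) (-s) * S.x a (ng a) m := by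
          rw [← mul_assoc, S.add b (ng a) hba']
          congr 2; ring
  rw [mid, cj_mul, F1, cXL]
  have p3 : 2 * u * -s = -m := by rw [hm]; ring
  rw [p3]
  calc S.x a (ng a) (-m) * S.x b (ng a) (-s) * S.x a (ng a) m
      = S.x a (ng a) (-m) * (S.x b (ng a) (-s) * S.x a (ng a) m) := by group
    _ = S.x a (ng a) (-m) * (S.x a (ng a) m * S.x b (ng a) (-s)) := by rw [(cLP m (-s)).eq]
    _ = S.x b (ng a) (-s) := by
        rw [← mul_assoc, S.add a (ng a) (stcw6_ne_ng a), neg_add_cancel, S.stcw6_x_zero, one_mul]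
    _ = S.x b (ng a) (sg a * sg b * -t) := by congr 1; rw [hs]; ring

/-- W8 [M]  the short Weyl element exchanges the long root subgroups `2 e_a` and `2 e_b`. -/
theorem cj_ws_ana {a b : ι ⊕ ι} (hab : a ≠ b) (hab' : a ≠ ng b) (u t : K) (hu : u ≠ 0) :
    cj (S.w a b u) (S.x a (ng a) t) = S.x b (ng b) (sg a * sg b * (u⁻¹ ^ 2 * t)) := by
  have hnab : ng a ≠ b := stcw6_nga_ne hab'
  have hba' : b ≠ ng a := hnab.symm
  have hP : ∀ r : K, S.x a (ng b) (sg a * sg b * r) = S.x b (ng a) r := fun r => by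
    rw [S.stcw6_sym_anb hab', stcw6_eps_sq]
  have F1 : ∀ r : K, cj (S.x a b u) (S.x b (ng a) r) =
      S.x a (ng a) (2 * u * r) * S.x b (ng a) r := fun r => S.stcw6_cj_ssl hab hab' u r
  have F2 : ∀ r v : K, cj (S.x b a v) (S.x a (ng a) r) =
      S.x b (ng a) (r * v) * S.x b (ng b) (sg a * sg b * r * v ^ 2) * S.x a (ng a) r :=
    fun r v => S.stcw6_cj_sl hab hab' r v
  have F4 : ∀ r : K, cj (S.x a b u) (S.x b (ng b) (sg a * sg b * r)) =
      S.x b (ng a) (r * u) * S.x a (ng a) (r * u ^ 2) * S.x b (ng b) (sg a * sg b * r) := by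
    intro r
    have h := S.stcw6_cj_sl hab.symm hba' (sg a * sg b * r) u
    have e1 : sg a * sg b * r * u = sg a * sg b * (r * u) := by ring
    have e2 : (sg b : K) * sg a * (sg a * sg b * r) * u ^ 2 = r * u ^ 2 := by
      have := stcw6_eps_sq (K := K) a b r
      calc (sg b : K) * sg a * (sg a * sg b * r) * u ^ 2
          = (sg a * sg b * (sg a * sg b * r)) * u ^ 2 := by ring
        _ = r * u ^ 2 := by rw [this]
    rw [e1, hP, e2] at h
    exact h
  have cLL : ∀ r r' : K, Commute (S.x a (ng a) r) (S.x b (ng b) r') := fun r r' => by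
    refine S.stcw6_commute (stcw6_ne_ng a) (stcw6_ne_ng b) hnab hab' ?_ hab' r r'
    rw [stcw6_ng_ng]; exact hnab
  have cXL : ∀ r : K, cj (S.x a b u) (S.x a (ng a) r) = S.x a (ng a) r := fun r => by
    refine S.stcw6_cj_comm hab (stcw6_ne_ng a) hab.symm (stcw6_ne_ng a) ?_ (stcw6_ne_ng a) u r
    rw [stcw6_ng_ng]; exact hab.symm
  unfold w
  rw [← cj_cj, ← cj_cj, cXL, F2, cj_mul, cj_mul, F1, cXL]
  have e3 : sg a * sg b * t * (-u⁻¹) ^ 2 = sg a * sg b * (t * (-u⁻¹) ^ 2) := by ring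
  rw [e3, F4]
  have p1 : 2 * u * (t * -u⁻¹) = -(2 * t) := by field_simp
  have p2 : t * (-u⁻¹) ^ 2 * u = -(t * -u⁻¹) := by field_simp
  have p3 : t * (-u⁻¹) ^ 2 * u ^ 2 = t := by field_simp
  rw [p1, p2, p3]
  set r : K := t * -u⁻¹ with hr
  set L : G := S.x b (ng b) (sg a * sg b * (t * (-u⁻¹) ^ 2)) with hL
  calc S.x a (ng a) (-(2 * t)) * S.x b (ng a) r *
        (S.x b (ng a) (-r) * S.x a (ng a) t * L) * S.x a (ng a) t
      = S.x a (ng a) (-(2 * t)) * (S.x b (ng a) r * S.x b (ng a) (-r)) * S.x a (ng a) t *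
        (L * S.x a (ng a) t) := by group
    _ = S.x a (ng a) (-(2 * t)) * S.x a (ng a) t * (S.x a (ng a) t * L) := by
        rw [S.stcw6_add_neg, mul_one, hL, (cLL t _).eq]
    _ = L := by
        rw [S.add a (ng a) (stcw6_ne_ng a), ← mul_assoc, S.add a (ng a) (stcw6_ne_ng a)]
        have : -(2 * t) + t + t = 0 := by ring
        rw [this, S.stcw6_x_zero, one_mul]
    _ = S.x b (ng b) (sg a * sg b * (u⁻¹ ^ 2 * t)) := by
        rw [hL]; congr 1; ring

/-- W11 [M]  the long Weyl element `w a (ng a) u` on `x a l t`, `l ≠ ± a`. -/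
theorem cj_wl_al {a l : ι ⊕ ι} (hla : l ≠ a) (hla' : l ≠ ng a) (u t : K) (hu : u ≠ 0) :
    cj (S.w a (ng a) u) (S.x a l t) = S.x (ng a) l (-(u⁻¹ * t)) := by
  have hal : a ≠ l := hla.symm
  have hnal : ng a ≠ l := hla'.symm
  have hanl : a ≠ ng l := fun h => hla' (by rw [h, stcw6_ng_ng])
  have hnanl : ng a ≠ ng l := fun h => hal (stcw6_ng_inj h)
  -- G1
  have G1 : ∀ r : K, cj (S.x a (ng a) u) (S.x a l r) = S.x a l r := fun r =>
    S.stcw6_cj_comm (stcw6_ne_ng a) hal (stcw6_ng_ne a) hal hnanl (stcw6_ne_ng a) u r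
  -- G2
  have G2 : ∀ v r : K, cj (S.x (ng a) a v) (S.x a l r) =
      S.x (ng a) l (v * r) * S.x (ng l) l (-(sg a * sg l * v * r ^ 2)) * S.x a l r := by
    intro v r
    have h := S.stcw6_cj_ls (a := ng a) (b := l) hnal hnanl v r
    rw [stcw6_ng_ng, stcw6_sg_ng] at h
    rw [h]
    congr 3; ring
  -- G3
  have G3 : ∀ r : K, cj (S.x a (ng a) u) (S.x (ng a) l r) =
      S.x a l (u * r) * S.x (ng l) l (sg a * sg l * u * r ^ 2) * S.x (ng a) l r := fun r =>
    S.stcw6_cj_ls hal hanl u r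
  -- G4
  have G4 : ∀ r : K, cj (S.x a (ng a) u) (S.x (ng l) l r) = S.x (ng l) l r := fun r => by
    refine S.stcw6_cj_comm (stcw6_ne_ng a) (stcw6_ng_ne l) hnanl hal hnanl ?_ u r
    rw [stcw6_ng_ng]; exact hal
  -- G5
  have G5 : ∀ p q : K, cj (S.x a l p) (S.x (ng a) l q) =
      S.x (ng l) l (-(2 * (sg a * sg l * p) * q)) * S.x (ng a) l q := by
    intro p q
    have hs : S.x a l p = S.x (ng l) (ng a) (-(sg a * sg l * p)) := S.sym a l hal p
    have h := S.stcw6_cj_ssl (a := ng l) (b := ng a) hnanl.symm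
      (by rw [stcw6_ng_ng]; exact hanl.symm)
      (-(sg a * sg l * p)) q
    rw [stcw6_ng_ng] at h
    rw [hs, h]
    congr 2; ring
  have cZM : ∀ r r' : K, Commute (S.x (ng l) l r) (S.x a l r') := fun r r' =>
    S.stcw6_commute (stcw6_ng_ne l) hal hla (stcw6_ng_ne l) (stcw6_ne_ng l) hnanl.symm r r'
  have cZN : ∀ r r' : K, Commute (S.x (ng l) l r) (S.x (ng a) l r') := fun r r' => by
    refine S.stcw6_commute (stcw6_ng_ne l) hnal hla' (stcw6_ng_ne l) (stcw6_ne_ng l) ?_ r r'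
    rw [stcw6_ng_ng]; exact fun h => hanl h.symm
  unfold w
  rw [← cj_cj, ← cj_cj, G1, G2, cj_mul, cj_mul, G3, G4, G1]
  have p1 : u * (-u⁻¹ * t) = -t := by field_simp
  have p2 : sg a * sg l * u * (-u⁻¹ * t) ^ 2 = -(sg a * sg l * -u⁻¹ * t ^ 2) := by field_simp
  rw [p1, p2]
  set c : K := -(sg a * sg l * -u⁻¹ * t ^ 2) with hc
  set q : K := -u⁻¹ * t with hq
  calc S.x a l (-t) * S.x (ng l) l c * S.x (ng a) l q * S.x (ng l) l c * S.x a l t
      = (S.x a l (-t) * S.x (ng l) l c) * (S.x (ng a) l q * S.x (ng l) l c) * S.x a l t := by group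
    _ = (S.x (ng l) l c * S.x a l (-t)) * (S.x (ng l) l c * S.x (ng a) l q) * S.x a l t := by
        rw [(cZM c (-t)).eq, (cZN c q).eq]
    _ = S.x (ng l) l c * (S.x a l (-t) * S.x (ng l) l c) * S.x (ng a) l q * S.x a l t := by group
    _ = S.x (ng l) l c * (S.x (ng l) l c * S.x a l (-t)) * S.x (ng a) l q * S.x a l t := by
        rw [(cZM c (-t)).eq]
    _ = S.x (ng l) l c * S.x (ng l) l c * cj (S.x a l (-t)) (S.x (ng a) l q) := by
        rw [S.stcw6_x_neg a l t]; unfold cj; group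
    _ = S.x (ng a) l q := by
        rw [G5, ← mul_assoc, S.add (ng l) l (stcw6_ng_ne l), S.add (ng l) l (stcw6_ng_ne l)]
        have : c + c + -(2 * (sg a * sg l * -t) * q) = 0 := by
          rw [hc, hq]; field_simp; ring
        rw [this, S.stcw6_x_zero, one_mul]
    _ = S.x (ng a) l (-(u⁻¹ * t)) := by rw [hq]; congr 1; ring

end SysC

end Cfsg.Agent.Lib.helper3.STC
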