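import Cfsg.Agent.Lib.Lead.McL5
import Cfsg.Agent.Lib.helper4.ElemEnum

set_option autoImplicit false
set_option linter.unreachableTactic false
set_option linter.unusedTactic false

/-!
# Fixed points of two permutations of orders 11 and 7 on the 47104 points of the second Conway
group, with certificates
-/

open Cfsg
open Cfsg.Agent.Lib.Lead.LX Cfsg.Agent.Lib.Lead.CW Cfsg.Agent.Lib.Lead.CO Cfsg.Agent.Lib.Lead.CP
open Cfsg.Agent.Lib.helper3 Cfsg.Agent.Lib.helper4 Cfsg.Agent.S0398 Cfsg.Agent.S1571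
open Cfsg.Agent.Lib.Lead.LC Cfsg.Agent.Lib.Lead.LC3 Cfsg.Agent.Lib.Lead.HS
open Cfsg.Agent.Lib.Lead.HSG Cfsg.Agent.Lib.Lead.ML
open MulAction

namespace Cfsg.Agent.Lib.Lead.C2

abbrev tF (L : List ℕ) : GolayPt → GolayPt := Cfsg.Agent.Lib.Helper12.Golay.tblFun L
abbrev ix (p : GolayPt) : ℕ := Cfsg.Agent.Lib.Helper12.Golay.idx p

def L11 : List ℕ := [0, 2, 4, 6, 8, 10, 12, 14, 16, 18, 20, 22, 1, 3, 5, 7, 9, 11, 13, 15, 17, 19, 21, 23]
def L7 : List ℕ := [0, 13, 1, 17, 20, 18, 6, 10, 16, 21, 5, 22, 4, 7, 19, 11, 12, 15, 2, 3, 9, 8, 14, 23]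
def L4 : List ℕ := [0, 11, 18, 12, 3, 2, 19, 7, 13, 4, 22, 10, 20, 6, 8, 15, 21, 1, 16, 14, 9, 5, 17, 23]
def R11 : List ℕ := [0, 1, 1, 1, 1, 5, 1, 5, 1, 1, 5, 5, 1, 1, 5, 5, 1, 5, 1, 5, 5, 5, 5, 23]
def R7 : List ℕ := [0, 1, 1, 3, 4, 1, 6, 1, 4, 4, 1, 3, 4, 1, 3, 3, 4, 3, 1, 3, 4, 4, 3, 23]

theorem ok11 : Cfsg.Agent.Lib.Helper12.Golay.okK L11 = true := by decide
theorem ok7 : Cfsg.Agent.Lib.Helper12.Golay.okK L7 = true := by decide
theorem ok4 : Cfsg.Agent.Lib.Helper12.Golay.okK L4 = true := by decide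

theorem hR11 : ∀ p : GolayPt, ∃ n ∈ Finset.range 11, (tF L11)^[n] (tF R11 p) = p := by decide
theorem hR7 : ∀ p : GolayPt, ∃ n ∈ Finset.range 7, (tF L7)^[n] (tF R7 p) = p := by decide

theorem iter_fix (w : GolayPt → ℤ) (f : GolayPt → GolayPt) (h : ∀ p, w (f p) = w p) (n : ℕ)
    (p : GolayPt) : w (f^[n] p) = w p := by
  induction n generalizing p with
  | zero => rfl
  | succ n ih => rw [Function.iterate_succ_apply, ih, h]

def V11 (a b c1 c2 : ℤ) : GolayPt → ℤ := fun p =>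
  ([b, c1, c1, c1, c1, c2, c1, c2, c1, c1, c2, c2, c1, c1, c2, c2, c1, c2, c1, c2, c2, c2, c2, a] : List ℤ).getD (ix p) 0

def V7 (a b e c1 c2 c3 : ℤ) : GolayPt → ℤ := fun p =>
  ([b, c1, c1, c2, c3, c1, e, c1, c3, c3, c1, c2, c3, c1, c2, c2, c3, c2, c1, c2, c3, c3, c2, a] : List ℤ).getD (ix p) 0

theorem form11 (w : GolayPt → ℤ) (h : ∀ p, w (tF L11 p) = w p) :
    w = V11 (w none) (w (some 0)) (w (some 1)) (w (some 5)) := by
  funext p
  obtain ⟨n, -, hn⟩ := hR11 p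
  have h1 : w p = w (tF R11 p) := by
    conv_lhs => rw [← hn]
    exact iter_fix w _ h n _
  rw [h1]
  rcases p with _ | x
  · rfl
  · fin_cases x <;> rfl

theorem form7 (w : GolayPt → ℤ) (h : ∀ p, w (tF L7 p) = w p) :
    w = V7 (w none) (w (some 0)) (w (some 6)) (w (some 1)) (w (some 3)) (w (some 4)) := by
  funext p
  obtain ⟨n, -, hn⟩ := hR7 p
  have h1 : w p = w (tF R7 p) := by
    conv_lhs => rw [← hn]
    exact iter_fix w _ h n _
  rw [h1]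
  rcases p with _ | x
  · rfl
  · fin_cases x <;> rfl


theorem sumFin23 (F : Fin 23 → ℤ) : ∑ x, F x = F 0 + (F 1 + (F 2 + (F 3 + (F 4 + (F 5 + (F 6 + (F 7 + (F 8 + (F 9 + (F 10 + (F 11 + (F 12 + (F 13 + (F 14 + (F 15 + (F 16 + (F 17 + (F 18 + (F 19 + (F 20 + (F 21 + F 22))))))))))))))))))))) := by
  simp only [Fin.sum_univ_succ, Fin.sum_univ_zero, add_zero]
  rfl

theorem sum24 (F : GolayPt → ℤ) : ∑ p, F p = F none + (F (some 0) + (F (some 1) + (F (some 2) + (F (some 3) + (F (some 4) + (F (some 5) + (F (some 6) + (F (some 7) + (F (some 8) + (F (some 9) + (F (some 10) + (F (some 11) + (F (some 12) + (F (some 13) + (F (some 14) + (F (some 15) + (F (some 16) + (F (some 17) + (F (some 18) + (F (some 19) + (F (some 20) + (F (some 21) + F (some 22))))))))))))))))))))))) := by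
  rw [Fintype.sum_option]
  exact congrArg (F none + ·) (sumFin23 (fun x => F (some x)))

theorem V11_norm (a b c1 c2 : ℤ) :
    sqNorm (V11 a b c1 c2) = a ^ 2 + b ^ 2 + 11 * c1 ^ 2 + 11 * c2 ^ 2 := by
  unfold sqNorm
  rw [sum24]
  show a ^ 2 + (b ^ 2 + (c1 ^ 2 + (c1 ^ 2 + (c1 ^ 2 + (c1 ^ 2 + (c2 ^ 2 + (c1 ^ 2 + (c2 ^ 2 + (c1 ^ 2 + (c1 ^ 2 + (c2 ^ 2 + (c2 ^ 2 + (c1 ^ 2 + (c1 ^ 2 + (c2 ^ 2 + (c2 ^ 2 + (c1 ^ 2 + (c2 ^ 2 + (c1 ^ 2 + (c2 ^ 2 + (c2 ^ 2 + (c2 ^ 2 + (c2 ^ 2))))))))))))))))))))))) = _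
  ring

theorem V11_sum (a b c1 c2 : ℤ) : ∑ p, V11 a b c1 c2 p = a + b + 11 * c1 + 11 * c2 := by
  rw [sum24]
  show a + (b + (c1 + (c1 + (c1 + (c1 + (c2 + (c1 + (c2 + (c1 + (c1 + (c2 + (c2 + (c1 + (c1 + (c2 + (c2 + (c1 + (c2 + (c1 + (c2 + (c2 + (c2 + (c2))))))))))))))))))))))) = _
  ring

theorem V7_norm (a b e c1 c2 c3 : ℤ) :
    sqNorm (V7 a b e c1 c2 c3) = a ^ 2 + b ^ 2 + e ^ 2 + 7 * c1 ^ 2 + 7 * c2 ^ 2 + 7 * c3 ^ 2 := by
  unfold sqNorm
  rw [sum24]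
  show a ^ 2 + (b ^ 2 + (c1 ^ 2 + (c1 ^ 2 + (c2 ^ 2 + (c3 ^ 2 + (c1 ^ 2 + (e ^ 2 + (c1 ^ 2 + (c3 ^ 2 + (c3 ^ 2 + (c1 ^ 2 + (c2 ^ 2 + (c3 ^ 2 + (c1 ^ 2 + (c2 ^ 2 + (c2 ^ 2 + (c3 ^ 2 + (c2 ^ 2 + (c1 ^ 2 + (c2 ^ 2 + (c3 ^ 2 + (c3 ^ 2 + (c2 ^ 2))))))))))))))))))))))) = _
  ring

theorem V7_sum (a b e c1 c2 c3 : ℤ) :
    ∑ p, V7 a b e c1 c2 c3 p = a + b + e + 7 * c1 + 7 * c2 + 7 * c3 := by
  rw [sum24]
  show a + (b + (c1 + (c1 + (c2 + (c3 + (c1 + (e + (c1 + (c3 + (c3 + (c1 + (c2 + (c3 + (c1 + (c2 + (c2 + (c3 + (c2 + (c1 + (c2 + (c3 + (c3 + (c2))))))))))))))))))))))) = _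
  ring

theorem leech_facts (x : GolayPt → ℤ) (hx : x ∈ leechLattice) :
    (((∀ p, x p % 2 = 0) ∧ (∑ p, x p) % 8 = 0) ∨ ((∀ p, x p % 2 = 1) ∧ (∑ p, x p) % 8 = 4)) ∧
      ∀ k : ℤ, ind4 x k ∈ golayCode := by
  rw [mem_leechLattice_iff, mem_leechSet_iff] at hx
  obtain ⟨m, h1, h2, h3⟩ := hx
  refine ⟨?_, h3⟩
  have hm : m % 2 = 0 ∨ m % 2 = 1 := by omega
  unfold Int.ModEq at h2
  rcases hm with hm | hm
  · left
    refine ⟨fun p => ?_, by omega⟩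
    have := h1 p
    unfold Int.ModEq at this
    omega
  · right
    refine ⟨fun p => ?_, by omega⟩
    have := h1 p
    unfold Int.ModEq at this
    omega

theorem sq_bound1 (x : ℤ) (h : x ^ 2 ≤ 3) : -1 ≤ x ∧ x ≤ 1 := by
  constructor <;> nlinarith
theorem sq_bound2 (x : ℤ) (h : x ^ 2 ≤ 8) : -2 ≤ x ∧ x ≤ 2 := by
  constructor <;> nlinarith
theorem sq_bound5 (x : ℤ) (h : x ^ 2 ≤ 35) : -5 ≤ x ∧ x ≤ 5 := by
  constructor <;> nlinarith

theorem fix11_class (w : GolayPt → ℤ) (hw : w ∈ leechLattice) (hN : sqNorm w = 32)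
    (hs : w none + w (some 0) = -2) (h : ∀ p, w (tF L11 p) = w p) :
    w = w0v ∨ w = hV none := by
  have hform := form11 w h
  generalize w none = a at hform hs
  generalize w (some 0) = b at hform hs
  generalize w (some 1) = c1 at hform
  generalize w (some 5) = c2 at hform
  subst hform
  rw [V11_norm] at hN
  obtain ⟨hps, -⟩ := leech_facts _ hw
  rw [V11_sum] at hps
  have hb : b = -2 - a := by omega
  subst hb
  obtain ⟨a1, a2⟩ := sq_bound5 a (by nlinarith [sq_nonneg (-2 - a), sq_nonneg c1, sq_nonneg c2])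
  obtain ⟨c11, c12⟩ := sq_bound1 c1 (by nlinarith [sq_nonneg (-2 - a), sq_nonneg a, sq_nonneg c2])
  obtain ⟨c21, c22⟩ := sq_bound1 c2 (by nlinarith [sq_nonneg (-2 - a), sq_nonneg a, sq_nonneg c1])
  rcases hps with ⟨hpar, hsum⟩ | ⟨hpar, hsum⟩
  · have p1 : a % 2 = 0 := hpar none
    have p2 : c1 % 2 = 0 := hpar (some 1)
    have p3 : c2 % 2 = 0 := hpar (some 5)
    exfalso
    interval_cases c1 <;> interval_cases c2 <;> interval_cases a <;>
      first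
        | omega
        | (revert hN; norm_num; done)
  · have p1 : a % 2 = 1 := hpar none
    have p2 : c1 % 2 = 1 := hpar (some 1)
    have p3 : c2 % 2 = 1 := hpar (some 5)
    interval_cases c1 <;> interval_cases c2 <;> interval_cases a <;>
      first
        | omega
        | (exfalso; revert hN; norm_num; done)
        | decide


def t1 : GolayPt → ℤ := V7 (-2) 0 0 (-2) 0 0
def t2 : GolayPt → ℤ := V7 0 (-2) 0 0 (-2) 0
def t4 : GolayPt → ℤ := V7 (-1) (-1) (-3) (-1) (-1) 1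
def t5 : GolayPt → ℤ := V7 (-1) (-1) 3 (-1) (-1) (-1)
def t6 : GolayPt → ℤ := V7 (-3) 1 (-1) 1 1 (-1)

theorem sq_bound3 (x : ℤ) (h : x ^ 2 ≤ 15) : -3 ≤ x ∧ x ≤ 3 := by
  constructor <;> nlinarith

set_option maxHeartbeats 4000000 in
theorem fix7_class (w : GolayPt → ℤ) (hw : w ∈ leechLattice) (hN : sqNorm w = 32)
    (hs : w none + w (some 0) = -2) (h : ∀ p, w (tF L7 p) = w p) :
    w = w0v ∨ dotInt w0v w = 16 ∨ w = t1 ∨ w = t2 ∨ w = t4 ∨ w = t5 ∨ w = t6 := by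
  have hform := form7 w h
  generalize w none = a at hform hs
  generalize w (some 0) = b at hform hs
  generalize w (some 6) = e at hform
  generalize w (some 1) = c1 at hform
  generalize w (some 3) = c2 at hform
  generalize w (some 4) = c3 at hform
  subst hform
  rw [V7_norm] at hN
  obtain ⟨hps, hcode⟩ := leech_facts _ hw
  rw [V7_sum] at hps
  have hb : b = -2 - a := by omega
  subst hb
  have hc2 := (Cfsg.Agent.Lib.Helper12.Golay.mem_golayCode_iff _).1 (hcode 2)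
  have hc3 := (Cfsg.Agent.Lib.Helper12.Golay.mem_golayCode_iff _).1 (hcode 3)
  obtain ⟨a1, a2⟩ := sq_bound5 a (by nlinarith [sq_nonneg (-2 - a), sq_nonneg c1, sq_nonneg c2, sq_nonneg c3, sq_nonneg e])
  obtain ⟨e1, e2⟩ := sq_bound5 e (by nlinarith [sq_nonneg (-2 - a), sq_nonneg c1, sq_nonneg c2, sq_nonneg c3, sq_nonneg a])
  obtain ⟨c11, c12⟩ := sq_bound2 c1 (by nlinarith [sq_nonneg (-2 - a), sq_nonneg a, sq_nonneg c2, sq_nonneg c3, sq_nonneg e])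
  obtain ⟨c21, c22⟩ := sq_bound2 c2 (by nlinarith [sq_nonneg (-2 - a), sq_nonneg a, sq_nonneg c1, sq_nonneg c3, sq_nonneg e])
  obtain ⟨c31, c32⟩ := sq_bound2 c3 (by nlinarith [sq_nonneg (-2 - a), sq_nonneg a, sq_nonneg c1, sq_nonneg c2, sq_nonneg e])
  rcases hps with ⟨hpar, hsum⟩ | ⟨hpar, hsum⟩
  · have p1 : a % 2 = 0 := hpar none
    have p2 : c1 % 2 = 0 := hpar (some 1)
    have p3 : c2 % 2 = 0 := hpar (some 3)
    have p4 : c3 % 2 = 0 := hpar (some 4)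
    have p5 : e % 2 = 0 := hpar (some 6)
    have q1 : c1 = -2 ∨ c1 = 0 ∨ c1 = 2 := by omega
    have q2 : c2 = -2 ∨ c2 = 0 ∨ c2 = 2 := by omega
    have q3 : c3 = -2 ∨ c3 = 0 ∨ c3 = 2 := by omega
    have q4 : a = -4 ∨ a = -2 ∨ a = 0 ∨ a = 2 ∨ a = 4 := by omega
    have q5 : e = -4 ∨ e = -2 ∨ e = 0 ∨ e = 2 ∨ e = 4 := by omega
    rcases q1 with rfl | rfl | rfl <;> rcases q2 with rfl | rfl | rfl <;>
      rcases q3 with rfl | rfl | rfl <;> rcases q4 with rfl | rfl | rfl | rfl | rfl <;>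
      rcases q5 with rfl | rfl | rfl | rfl | rfl <;>
      first
        | omega
        | (exfalso; revert hN; norm_num; done)
        | decide
        | (exfalso; revert hc2; decide)
  · have p1 : a % 2 = 1 := hpar none
    have p2 : c1 % 2 = 1 := hpar (some 1)
    have p3 : c2 % 2 = 1 := hpar (some 3)
    have p4 : c3 % 2 = 1 := hpar (some 4)
    have p5 : e % 2 = 1 := hpar (some 6)
    have q1 : c1 = -1 ∨ c1 = 1 := by omega
    have q2 : c2 = -1 ∨ c2 = 1 := by omega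
    have q3 : c3 = -1 ∨ c3 = 1 := by omega
    have q4 : a = -5 ∨ a = -3 ∨ a = -1 ∨ a = 1 ∨ a = 3 ∨ a = 5 := by omega
    have q5 : e = -5 ∨ e = -3 ∨ e = -1 ∨ e = 1 ∨ e = 3 ∨ e = 5 := by omega
    rcases q1 with rfl | rfl <;> rcases q2 with rfl | rfl <;>
      rcases q3 with rfl | rfl <;> rcases q4 with rfl | rfl | rfl | rfl | rfl | rfl <;>
      rcases q5 with rfl | rfl | rfl | rfl | rfl | rfl <;>
      first
        | omega
        | (exfalso; revert hN; norm_num; done)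
        | decide
        | (exfalso; revert hc3; decide)


/-! ### certificates -/

set_option maxRecDepth 100000 in
theorem cert1 : ¬ Cw 88 none ≠ 0 ∧ ¬ Cw 88 (some 0) ≠ 0 ∧ flip (Cw 88) t1 = t1 ∧
    dotInt w0v (flip (Cw 88) w0v) = 16 := by decide +kernel

set_option maxRecDepth 100000 in
theorem cert2 : ¬ Cw 116 none ≠ 0 ∧ ¬ Cw 116 (some 0) ≠ 0 ∧ flip (Cw 116) t2 = t2 ∧
    dotInt w0v (flip (Cw 116) w0v) = 16 := by decide +kernel

set_option maxRecDepth 100000 in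
theorem cert4 : dotInt t4 (fun p => t4 (tF L4 p)) = 16 := by decide +kernel

set_option maxRecDepth 100000 in
theorem cert5 : dotInt t5 (fun p => t5 (tF L11 p)) = 16 := by decide +kernel

set_option maxRecDepth 100000 in
theorem cert6 : dotInt t6 (fun p => t6 (tF L11 p)) = 16 := by decide +kernel

theorem tbl_facts : tF L11 none = none ∧ tF L11 (some 0) = some 0 ∧ tF L7 none = none ∧
    tF L7 (some 0) = some 0 ∧ tF L4 none = none ∧ tF L4 (some 0) = some 0 := by decide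

theorem ord11 : ∀ p, (tF L11)^[11] p = p := by decide

theorem ord7 : ∀ p, (tF L7)^[7] p = p := by decide

theorem t_ne : t1 ≠ w0v ∧ t2 ≠ w0v ∧ t4 ≠ w0v ∧ t5 ≠ w0v ∧ t6 ≠ w0v := by decide

end Cfsg.Agent.Lib.Lead.C2
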