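import Cfsg.Agent.Lib.Lead.ConwayHex

/-!
# Transitivity on pairs of minimal vectors with dot product `-8`

`oct_trans`: every ordered pair of minimal vectors with coordinate dot product `-8` is carried by
an automorphism to `(4e_∞ + 4e_0, (-3, 1^23))`.
-/

set_option autoImplicit false
open Cfsg

namespace Cfsg.Agent.Lib.Lead.CP

open Cfsg.Agent.Lib.Lead.LX Cfsg.Agent.Lib.Lead.CW Cfsg.Agent.Lib.Lead.CO
open Cfsg.Agent.Lib.helper3 Cfsg.Agent.Lib.helper4 Cfsg.Agent.S0398 Cfsg.Agent.S1571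

theorem octB (w : ↥leechLattice) (hN : sqNorm w.1 = 32) (h0 : w.1 none = -2)
    (h1 : w.1 (some 0) = 0) :
    ∃ h : ↥Co0, h.1 v32 = v32 ∧ (h.1 w).1 none = -3 ∧ (h.1 w).1 (some 0) = 1 := by
  have hc2 := cnt_two_eight w hN none (by rw [h0]; rfl)
  unfold cnt at hc2
  have m0 : none ∈ Finset.univ.filter (fun p => (w.1 p).natAbs = 2) :=
    Finset.mem_filter.2 ⟨Finset.mem_univ _, by rw [h0]; rfl⟩
  have hS' : 1 < ((Finset.univ.filter (fun p => (w.1 p).natAbs = 2)).erase none).card := by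
    rw [Finset.card_erase_of_mem m0, hc2]
    norm_num
  obtain ⟨p, hp, q, hq, hpq⟩ := Finset.one_lt_card.1 hS'
  rw [Finset.mem_erase, Finset.mem_filter] at hp hq
  obtain ⟨hp0, -, hpa⟩ := hp
  obtain ⟨hq0, -, hqa⟩ := hq
  have hp1 : p ≠ some 0 := by
    rintro rfl
    rw [h1] at hpa
    simp at hpa
  have hq1 : q ≠ some 0 := by
    rintro rfl
    rw [h1] at hqa
    simp at hqa
  obtain ⟨ε2, hε2, e2⟩ := exists_eps (w.1 p) 2 (by omega) 2 (Or.inl rfl)
  obtain ⟨ε3, hε3, e3⟩ := exists_eps (w.1 q) 2 (by omega) (-2) (Or.inr rfl)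
  obtain ⟨h, r1, r2, hv, hx⟩ := move p q hp0 hp1 hq0 hq1 hpq ε2 ε3 hε2 hε3
  obtain ⟨f0, f1, -, -⟩ := hx w
  refine ⟨h, hv, ?_, ?_⟩
  · rw [f0, h0, h1, e2, e3]
    norm_num
  · rw [f1, h0, h1, e2, e3]
    norm_num

theorem octC (w : ↥leechLattice) (hN : sqNorm w.1 = 32) (hod : ∀ p, w.1 p % 2 = 1)
    (h0 : w.1 none = -1) (h1 : w.1 (some 0) = -1) :
    ∃ h : ↥Co0, h.1 v32 = v32 ∧ (h.1 w).1 none = -3 ∧ (h.1 w).1 (some 0) = 1 := by
  obtain ⟨c3, hsh⟩ := odd_shape w hN hod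
  have hpos : 0 < cnt w.1 3 := by omega
  unfold cnt at hpos
  obtain ⟨p, hp⟩ := Finset.card_pos.1 hpos
  rw [Finset.mem_filter] at hp
  have hp3 := hp.2
  have hp0 : p ≠ none := by
    rintro rfl
    rw [h0] at hp3
    simp at hp3
  have hp1 : p ≠ some 0 := by
    rintro rfl
    rw [h1] at hp3
    simp at hp3
  obtain ⟨q, hq0, hq1, hqp⟩ := exists_fourth none (some 0) p
  have hq : (w.1 q).natAbs = 1 := by
    rcases hsh q with h | h
    · exact h
    · exact absurd (eq_of_cnt_one w.1 3 c3 p q hp3 h) hqp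
  obtain ⟨ε2, hε2, e2⟩ := exists_eps (w.1 p) 3 (by omega) 3 (Or.inl rfl)
  obtain ⟨ε3, hε3, e3⟩ := exists_eps (w.1 q) 1 (by omega) (-1) (Or.inr rfl)
  obtain ⟨h, r1, r2, hv, hx⟩ := move p q hp0 hp1 hq0 hq1 (Ne.symm hqp) ε2 ε3 hε2 hε3
  obtain ⟨f0, f1, -, -⟩ := hx w
  refine ⟨h, hv, ?_, ?_⟩
  · rw [f0, h0, h1, e2, e3]
    norm_num
  · rw [f1, h0, h1, e2, e3]
    norm_num

theorem octFinal (w : ↥leechLattice) (hN : sqNorm w.1 = 32) (h0 : w.1 none = -3)
    (h1 : w.1 (some 0) = 1) : RelF w W1 := by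
  have hod : ∀ p, w.1 p % 2 = 1 := by
    rcases parity_cases w.1 w.2 with hev | hod
    · have := hev none
      omega
    · exact hod
  obtain ⟨c3, hsh⟩ := odd_shape w hN hod
  have hone : ∀ r, r ≠ none → w.1 r = 1 ∨ w.1 r = -1 := by
    intro r hr
    rcases hsh r with h | h
    · omega
    · exact absurd (eq_of_cnt_one w.1 3 c3 none r (by rw [h0]; rfl) h) hr
  have hw := w.2
  rw [mem_leechLattice_iff, mem_leechSet_iff] at hw
  obtain ⟨m, -, -, hcode⟩ := hw
  have hc := hcode 3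
  have c0 : ¬ ind4 w.1 3 none ≠ 0 := by
    rw [Cfsg.Agent.Lib.Lead.LC.ind4_ne_zero_iff, h0]
    decide
  have c1 : ¬ ind4 w.1 3 (some 0) ≠ 0 := by
    rw [Cfsg.Agent.Lib.Lead.LC.ind4_ne_zero_iff, h1]
    decide
  apply RelF.of_step ⟨flipE _ hc, flipE_mem _ hc⟩ (flip_fix _ hc c0 c1)
  have : (flipE _ hc) w = W1 := by
    apply Subtype.ext
    funext p
    show (if ind4 w.1 3 p ≠ 0 then -(w.1 p) else w.1 p) = x0 p
    unfold x0
    by_cases hp : p = none
    · subst hp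
      rw [if_neg c0, h0, if_pos rfl]
    · rw [if_neg hp]
      rcases hone p hp with h | h
      · have : ¬ ind4 w.1 3 p ≠ 0 := by
          rw [Cfsg.Agent.Lib.Lead.LC.ind4_ne_zero_iff, h]
          decide
        rw [if_neg this, h]
      · have : ind4 w.1 3 p ≠ 0 := by
          rw [Cfsg.Agent.Lib.Lead.LC.ind4_ne_zero_iff, h]
          decide
        rw [if_pos this, h]
        norm_num
  show RelF ((flipE _ hc) w) W1
  rw [this]
  exact RelF.refl _

theorem oct_main (w : ↥leechLattice) (hN : sqNorm w.1 = 32)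
    (hs : w.1 none + w.1 (some 0) = -2) : RelF w W1 := by
  -- the three target-reaching moves
  have finish : ∀ w' : ↥leechLattice, sqNorm w'.1 = 32 →
      (∃ h : ↥Co0, h.1 v32 = v32 ∧ (h.1 w').1 none = -3 ∧ (h.1 w').1 (some 0) = 1) →
      RelF w' W1 := by
    intro w' hN' ⟨h, hv, f0, f1⟩
    apply RelF.of_step h hv
    exact octFinal _ (by rw [h.2.2]; exact hN') f0 f1
  have hb := sq_le_norm w.1 none (some 0) (by simp)
  rw [hN] at hb
  rcases parity_cases w.1 w.2 with hev | hod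
  · have e0 := hev none
    have e1 := hev (some 0)
    have hr : -5 ≤ w.1 none ∧ w.1 none ≤ 3 := by
      have : w.1 (some 0) = -2 - w.1 none := by omega
      rw [this] at hb
      constructor <;> nlinarith
    have hcases : (w.1 none = -2 ∧ w.1 (some 0) = 0) ∨ (w.1 none = 0 ∧ w.1 (some 0) = -2) ∨
        (w.1 none = -4 ∧ w.1 (some 0) = 2) ∨ (w.1 none = 2 ∧ w.1 (some 0) = -4) := by omega
    rcases hcases with ⟨a, b⟩ | ⟨a, b⟩ | ⟨a, b⟩ | ⟨a, b⟩
    · exact finish w hN (octB w hN a b)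
    · obtain ⟨g, hg, hx⟩ := swap_move
      apply RelF.of_step g hg
      have hN' : sqNorm (g.1 w).1 = 32 := by rw [g.2.2]; exact hN
      apply finish _ hN'
      apply octB _ hN'
      · rw [(hx w).1]; exact b
      · rw [(hx w).2]; exact a
    · exfalso
      obtain ⟨k, hk, hk4, hz⟩ := pair_shape w hN none (by rw [a]; rfl)
      by_cases hk0 : k = some 0
      · rw [hk0, b] at hk4
        simp at hk4
      · have := hz (some 0) (by simp) (Ne.symm hk0)
        omega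
    · exfalso
      obtain ⟨k, hk, hk4, hz⟩ := pair_shape w hN (some 0) (by rw [b]; rfl)
      by_cases hk0 : k = none
      · rw [hk0, a] at hk4
        simp at hk4
      · have := hz none (by simp) (Ne.symm hk0)
        omega
  · obtain ⟨c3, hsh⟩ := odd_shape w hN hod
    have hA := hsh none
    have hB := hsh (some 0)
    have hcases : (w.1 none = -1 ∧ w.1 (some 0) = -1) ∨ (w.1 none = -3 ∧ w.1 (some 0) = 1) ∨
        (w.1 none = 1 ∧ w.1 (some 0) = -3) := by omega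
    rcases hcases with ⟨a, b⟩ | ⟨a, b⟩ | ⟨a, b⟩
    · exact finish w hN (octC w hN hod a b)
    · exact octFinal w hN a b
    · obtain ⟨g, hg, hx⟩ := swap_move
      apply RelF.of_step g hg
      have hN' : sqNorm (g.1 w).1 = 32 := by rw [g.2.2]; exact hN
      apply octFinal _ hN'
      · rw [(hx w).1]; exact b
      · rw [(hx w).2]; exact a

/-- ordered pairs of minimal vectors with dot product `-8` form one orbit -/
theorem oct_trans (v w : ↥leechLattice) (hv : sqNorm v.1 = 32) (hw : sqNorm w.1 = 32)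
    (hd : dotInt v.1 w.1 = -8) : ∃ g : ↥Co0, g.1 v = v32 ∧ g.1 w = W1 := by
  obtain ⟨g0, hg0⟩ := trans32 v hv
  have h1 : dotInt v32.1 (g0.1 w).1 = -8 := by
    rw [← hg0, dot_map]
    exact hd
  rw [dot_v32] at h1
  obtain ⟨k, hk1, hk2⟩ := oct_main (g0.1 w) (by rw [g0.2.2]; exact hw) (by omega)
  refine ⟨k * g0, ?_, hk2⟩
  show k.1 (g0.1 v) = v32
  rw [hg0, hk1]

end Cfsg.Agent.Lib.Lead.CP
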