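import Mathlib

set_option autoImplicit false

namespace Cfsg.Agent.Lib.Lead.CQ

/-- If `φ : G ↠ H` and `π : G ↠ P` are surjective with `ker φ ≤ ker π ≤ Z(G)` and `Z(P) = 1`,
then `H / Z(H) ≃* P`. -/
theorem pquot_equiv {G H P : Type*} [Group G] [Group H] [Group P] (φ : G →* H)
    (hφ : Function.Surjective φ) (π : G →* P) (hπ : Function.Surjective π)
    (hker : φ.ker ≤ π.ker) (hπc : π.ker ≤ Subgroup.center G)
    (hP : Subgroup.center P = ⊥) :
    Nonempty (H ⧸ Subgroup.center H ≃* P) := by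
  set ψ : G →* H ⧸ Subgroup.center H := (QuotientGroup.mk' (Subgroup.center H)).comp φ with hψ
  have hψs : Function.Surjective ψ :=
    (QuotientGroup.mk'_surjective _).comp hφ
  have hk : ψ.ker = π.ker := by
    ext g
    rw [MonoidHom.mem_ker, MonoidHom.mem_ker, hψ, MonoidHom.comp_apply, QuotientGroup.mk'_apply,
      QuotientGroup.eq_one_iff]
    constructor
    · intro hg
      have : π g ∈ Subgroup.center P := by
        rw [Subgroup.mem_center_iff]
        intro y
        obtain ⟨x, rfl⟩ := hπ y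
        have h1 : x * g * (g * x)⁻¹ ∈ φ.ker := by
          rw [MonoidHom.mem_ker, map_mul, map_inv, map_mul, map_mul,
            Subgroup.mem_center_iff.mp hg (φ x), mul_inv_cancel]
        have h2 := hker h1
        rw [MonoidHom.mem_ker, map_mul, map_inv, mul_inv_eq_one, map_mul, map_mul] at h2
        exact h2
      rw [hP, Subgroup.mem_bot] at this
      exact this
    · intro hg
      have hc := hπc hg
      rw [Subgroup.mem_center_iff]
      intro y
      obtain ⟨x, rfl⟩ := hφ y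
      rw [← map_mul, ← map_mul, Subgroup.mem_center_iff.mp hc x]
  exact ⟨((QuotientGroup.quotientKerEquivOfSurjective ψ hψs).symm.trans
    (QuotientGroup.quotientMulEquivOfEq hk)).trans
    (QuotientGroup.quotientKerEquivOfSurjective π hπ)⟩

/-- Grün's lemma: for a perfect group `G`, the centre of `G / Z(G)` is trivial. -/
theorem center_quot_of_perfect {G : Type*} [Group G] (h : commutator G = ⊤) :
    Subgroup.center (G ⧸ Subgroup.center G) = ⊥ := by
  rw [eq_bot_iff]
  intro z hz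
  rw [Subgroup.mem_bot]
  induction z using QuotientGroup.induction_on with
  | H g =>
    rw [QuotientGroup.eq_one_iff]
    have hc : ∀ x : G, g * x * g⁻¹ * x⁻¹ ∈ Subgroup.center G := by
      intro x
      have := Subgroup.mem_center_iff.mp hz (QuotientGroup.mk x)
      rw [← QuotientGroup.mk_mul, ← QuotientGroup.mk_mul, QuotientGroup.eq] at this
      have hcen := Subgroup.mem_center_iff.mp this
      have e : g * x * g⁻¹ * x⁻¹ = (x * g)⁻¹ * (g * x) := by
        calc g * x * g⁻¹ * x⁻¹ = (x * g) * ((x * g)⁻¹ * (g * x)) * (g⁻¹ * x⁻¹) := by group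
          _ = ((x * g)⁻¹ * (g * x)) * (x * g) * (g⁻¹ * x⁻¹) := by rw [hcen (x * g)]
          _ = (x * g)⁻¹ * (g * x) := by group
      rw [e]
      exact this
    have hmul : ∀ x y : G, g * (x * y) * g⁻¹ * (x * y)⁻¹ =
        (g * x * g⁻¹ * x⁻¹) * (g * y * g⁻¹ * y⁻¹) := by
      intro x y
      have hcen := Subgroup.mem_center_iff.mp (hc y) x
      calc g * (x * y) * g⁻¹ * (x * y)⁻¹
          = (g * x * g⁻¹ * x⁻¹) * (x * (g * y * g⁻¹ * y⁻¹)) * x⁻¹ := by group
        _ = (g * x * g⁻¹ * x⁻¹) * ((g * y * g⁻¹ * y⁻¹) * x) * x⁻¹ := by rw [hcen]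
        _ = _ := by group
    have hone : g * 1 * g⁻¹ * 1⁻¹ = 1 := by group
    have hinv : ∀ a : G, g * a⁻¹ * g⁻¹ * a⁻¹⁻¹ = (g * a * g⁻¹ * a⁻¹)⁻¹ := by
      intro a
      apply eq_inv_of_mul_eq_one_right
      rw [← hmul, mul_inv_cancel, hone]
    have hcm : ∀ a b : G, (g * a * g⁻¹ * a⁻¹) * (g * b * g⁻¹ * b⁻¹) =
        (g * b * g⁻¹ * b⁻¹) * (g * a * g⁻¹ * a⁻¹) := by
      intro a b
      exact (Subgroup.mem_center_iff.mp (hc b) _)
    have hk : commutator G ≤ Subgroup.centralizer {g} := by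
      rw [commutator_eq_closure, Subgroup.closure_le]
      rintro _ ⟨a, b, rfl⟩
      rw [SetLike.mem_coe, Subgroup.mem_centralizer_iff]
      intro y hy
      rw [Set.mem_singleton_iff] at hy
      subst hy
      rw [commutatorElement_def]
      have h1 : y * (a * b * a⁻¹ * b⁻¹) * y⁻¹ * (a * b * a⁻¹ * b⁻¹)⁻¹ = 1 := by
        have e1 := hmul (a * b * a⁻¹) b⁻¹
        have e2 := hmul (a * b) a⁻¹
        have e3 := hmul a b
        rw [e1, e2, e3, hinv, hinv]
        have hPQ := hcm a b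
        generalize y * a * y⁻¹ * a⁻¹ = P at hPQ ⊢
        generalize y * b * y⁻¹ * b⁻¹ = Q at hPQ ⊢
        calc P * Q * P⁻¹ * Q⁻¹ = Q * P * P⁻¹ * Q⁻¹ := by rw [hPQ]
          _ = 1 := by group
      calc y * (a * b * a⁻¹ * b⁻¹)
          = (y * (a * b * a⁻¹ * b⁻¹) * y⁻¹ * (a * b * a⁻¹ * b⁻¹)⁻¹) * ((a * b * a⁻¹ * b⁻¹) * y) := by
            group
        _ = (a * b * a⁻¹ * b⁻¹) * y := by rw [h1, one_mul]
    rw [h] at hk
    rw [Subgroup.mem_center_iff]
    intro x
    have := Subgroup.mem_centralizer_iff.mp (hk (Subgroup.mem_top x)) g (Set.mem_singleton g)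
    exact this.symm

end Cfsg.Agent.Lib.Lead.CQ
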