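import Mathlib
import Cfsg.Prelude.Def_Classical
import Cfsg.Agent.Lib.Lead.Dickson
import Cfsg.Agent.Lib.Helper16.Char2H

set_option autoImplicit false

namespace Cfsg.Agent.Lib.Lead.DK

open Cfsg Cfsg.Agent.Lib.Helper16 Cfsg.Agent.Lib.helper6 Module Matrix

variable {ι : Type} [Fintype ι] [DecidableEq ι] {F : Type*} [Field F]

theorem reflG'_inv (Q : QuadraticForm F (ι → F)) (v : ι → F) :
    (reflG' Q v)⁻¹ = reflG' Q v := by
  by_cases h : Q v ≠ 0
  · rw [reflG'_eq Q v h, reflG_inv]
  · unfold reflG'
    rw [dif_neg h, inv_one]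

theorem prod_inv_reverse (Q : QuadraticForm F (ι → F)) (vs : List (ι → F)) :
    ((vs.map (reflG' Q)).prod)⁻¹ = ((vs.reverse).map (reflG' Q)).prod := by
  induction vs with
  | nil => simp
  | cons a t ih =>
    rw [List.map_cons, List.prod_cons, _root_.mul_inv_rev, ih, reflG'_inv, List.reverse_cons,
      List.map_append, List.prod_append]
    simp

/-- closure of the reflections being everything gives the list form of generation -/
theorem genByRefl_of_closure (Q : QuadraticForm F (ι → F))
    (h : Subgroup.closure (CDG.Rset Q) = ⊤) : GenByRefl Q := by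
  intro g
  have hg : g ∈ Subgroup.closure (CDG.Rset Q) := by rw [h]; exact Subgroup.mem_top g
  induction hg using Subgroup.closure_induction with
  | mem x hx =>
    obtain ⟨v, hv, hxv⟩ := hx
    refine ⟨[v], ?_, ?_⟩
    · intro w hw
      rw [List.mem_singleton] at hw
      rw [hw]; exact hv
    · rw [List.map_cons, List.map_nil, List.prod_cons, List.prod_nil, mul_one, reflG'_eq Q v hv]
      apply iso_ext'
      rw [reflG_coe]
      exact hxv
  | one => exact ⟨[], by simp, by simp⟩
  | mul x y _ _ hx hy =>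
    obtain ⟨vs, hvs, rfl⟩ := hx
    obtain ⟨ws, hws, rfl⟩ := hy
    refine ⟨vs ++ ws, ?_, ?_⟩
    · intro w hw
      rcases List.mem_append.mp hw with h1 | h1
      · exact hvs w h1
      · exact hws w h1
    · rw [List.map_append, List.prod_append]
  | inv x _ hx =>
    obtain ⟨vs, hvs, rfl⟩ := hx
    refine ⟨vs.reverse, ?_, prod_inv_reverse Q vs⟩
    intro w hw
    exact hvs w (List.mem_reverse.mp hw)

/-- generation by reflections in characteristic two, outside `O⁺₄(2)`-size -/
theorem genByRefl [Fintype F] [CharP F 2] (Q : QuadraticForm F (ι → F))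
    (hQ : (QuadraticMap.polarBilin Q).Nondegenerate)
    (h : Fintype.card F ≠ 2 ∨ Fintype.card ι ≠ 4) : GenByRefl Q :=
  genByRefl_of_closure Q (C2.generation Q hQ h)

/-- `Ω` has index two in characteristic two -/
theorem index_omega_char2 [Fintype F] [CharP F 2] (Q : QuadraticForm F (ι → F))
    (hQ : (QuadraticMap.polarBilin Q).Nondegenerate) (hn : 1 ≤ Fintype.card ι)
    (h : Fintype.card F ≠ 2 ∨ Fintype.card ι ≠ 4) : (Cfsg.Omega F ⇑Q).index = 2 :=
  index_omega Q hQ hn (genByRefl Q hQ h)

end Cfsg.Agent.Lib.Lead.DK
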