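import Mathlib
import Cfsg.Prelude.Def_Classical
import Cfsg.Agent.Lib.Lead.Reindex

set_option autoImplicit false

namespace Cfsg.Agent.Lib.Lead.PO3

open Cfsg Matrix

variable {F : Type*} [Field F]

/-- the adjoint action of `2×2` matrices on traceless matrices `[[a,b],[c,-a]]`, in coordinates `(a,b,c)` -/
def R3 (A : Matrix (Fin 2) (Fin 2) F) : Matrix (Fin 3) (Fin 3) F :=
  !![A 0 0 * A 1 1 + A 0 1 * A 1 0, -(A 0 0 * A 1 0), A 0 1 * A 1 1;
     -(2 * A 0 0 * A 0 1), A 0 0 ^ 2, -(A 0 1 ^ 2);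
     2 * A 1 0 * A 1 1, -(A 1 0 ^ 2), A 1 1 ^ 2]

theorem R3_one : R3 (1 : Matrix (Fin 2) (Fin 2) F) = 1 := by
  ext i j
  fin_cases i <;> fin_cases j <;> simp [R3]

theorem R3_mul (A B : Matrix (Fin 2) (Fin 2) F) : R3 (A * B) = R3 A * R3 B := by
  ext i j
  fin_cases i <;> fin_cases j <;>
    simp [R3, Matrix.mul_apply, Fin.sum_univ_two, Fin.sum_univ_three] <;> ring

/-- the quadratic form `a² + bc` on `Fin 3 → F` -/
def Q3 (w : Fin 3 → F) : F := w 0 ^ 2 + w 1 * w 2

theorem Q3_R3 (A : Matrix (Fin 2) (Fin 2) F) (w : Fin 3 → F) :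
    Q3 (R3 A *ᵥ w) = A.det ^ 2 * Q3 w := by
  simp only [Q3, R3, Matrix.mulVec, dotProduct, Fin.sum_univ_three, Matrix.det_fin_two]
  simp
  ring

/-- `R3` as a monoid hom -/
def R3hom : Matrix (Fin 2) (Fin 2) F →* Matrix (Fin 3) (Fin 3) F where
  toFun := R3
  map_one' := R3_one
  map_mul' := R3_mul

/-- the index equivalence -/
def e3 : Fin 3 ≃ Unit ⊕ (Fin 1 ⊕ Fin 1) where
  toFun i := if i = 0 then Sum.inl () else if i = 1 then Sum.inr (Sum.inl 0) else Sum.inr (Sum.inr 0)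
  invFun x := match x with
    | Sum.inl _ => 0
    | Sum.inr (Sum.inl _) => 1
    | Sum.inr (Sum.inr _) => 2
  left_inv i := by fin_cases i <;> rfl
  right_inv x := by
    rcases x with u | x | x
    · rfl
    · have : x = 0 := Subsingleton.elim _ _
      subst this; rfl
    · have : x = 0 := Subsingleton.elim _ _
      subst this; rfl

theorem quadFormOdd_comp (y : Fin 3 → F) :
    Cfsg.quadFormOdd 1 F (y ∘ e3.symm) = Q3 y := by
  simp [Cfsg.quadFormOdd, Q3, e3]

/-- `SL₂(F) → GL₃(F)` (indexed by `Unit ⊕ (Fin 1 ⊕ Fin 1)`) -/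
noncomputable def rhoGL : Matrix.SpecialLinearGroup (Fin 2) F →* GL (Unit ⊕ (Fin 1 ⊕ Fin 1)) F :=
  ((RI.glReindex (F := F) e3).toMonoidHom.comp (Units.map R3hom)).comp
    Matrix.SpecialLinearGroup.toGL

theorem rhoGL_coe (A : Matrix.SpecialLinearGroup (Fin 2) F) :
    ((rhoGL A : GL (Unit ⊕ (Fin 1 ⊕ Fin 1)) F) : Matrix _ _ F) =
      Matrix.reindex e3 e3 (R3 (A : Matrix (Fin 2) (Fin 2) F)) := rfl

theorem rhoGL_mem (A : Matrix.SpecialLinearGroup (Fin 2) F) :
    rhoGL A ∈ Cfsg.isometryGroup F (Cfsg.quadFormOdd 1 F) := by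
  rw [RI.mem_iso_iff']
  intro x
  rw [rhoGL_coe, RI.reindex_mulVec, quadFormOdd_comp, Q3_R3, A.det_coe, one_pow, one_mul,
    ← quadFormOdd_comp]
  congr 1
  funext i; simp

/-- `SL₂(F) → GO₃(F)` -/
noncomputable def rho : Matrix.SpecialLinearGroup (Fin 2) F →*
    ↥(Cfsg.isometryGroup F (Cfsg.quadFormOdd 1 F)) :=
  rhoGL.codRestrict _ rhoGL_mem

theorem rho_eq_one_iff (A : Matrix.SpecialLinearGroup (Fin 2) F) :
    rho A = 1 ↔ R3 (A : Matrix (Fin 2) (Fin 2) F) = 1 := by
  rw [Subtype.ext_iff]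
  change rhoGL A = 1 ↔ _
  unfold rhoGL
  rw [MonoidHom.comp_apply, MonoidHom.comp_apply]
  change (RI.glReindex (F := F) e3) _ = 1 ↔ _
  rw [MulEquiv.map_eq_one_iff, Units.ext_iff]
  rfl

theorem R3_eq_one_iff (A : Matrix.SpecialLinearGroup (Fin 2) F) :
    R3 (A : Matrix (Fin 2) (Fin 2) F) = 1 ↔
      A ∈ Subgroup.center (Matrix.SpecialLinearGroup (Fin 2) F) := by
  rw [Matrix.SpecialLinearGroup.mem_center_iff]
  constructor
  · intro h
    have h11 : (A : Matrix (Fin 2) (Fin 2) F) 0 0 ^ 2 = 1 := by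
      have := congrFun (congrFun h 1) 1
      simpa [R3] using this
    have h12 : (A : Matrix (Fin 2) (Fin 2) F) 0 1 ^ 2 = 0 := by
      have := congrFun (congrFun h 1) 2
      simpa [R3] using this
    have h21 : (A : Matrix (Fin 2) (Fin 2) F) 1 0 ^ 2 = 0 := by
      have := congrFun (congrFun h 2) 1
      simpa [R3] using this
    have h00 : (A : Matrix (Fin 2) (Fin 2) F) 0 0 * (A : Matrix (Fin 2) (Fin 2) F) 1 1 +
        (A : Matrix (Fin 2) (Fin 2) F) 0 1 * (A : Matrix (Fin 2) (Fin 2) F) 1 0 = 1 := by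
      have := congrFun (congrFun h 0) 0
      simpa [R3] using this
    have e12 : (A : Matrix (Fin 2) (Fin 2) F) 0 1 = 0 := by simpa using h12
    have e21 : (A : Matrix (Fin 2) (Fin 2) F) 1 0 = 0 := by simpa using h21
    refine ⟨(A : Matrix (Fin 2) (Fin 2) F) 0 0, by simpa using h11, ?_⟩
    rw [e12, zero_mul, add_zero] at h00
    have e11 : (A : Matrix (Fin 2) (Fin 2) F) 1 1 = (A : Matrix (Fin 2) (Fin 2) F) 0 0 := by
      have hne : (A : Matrix (Fin 2) (Fin 2) F) 0 0 ≠ 0 := by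
        intro h0; rw [h0, zero_mul] at h00; exact zero_ne_one h00
      apply mul_left_cancel₀ hne
      rw [h00, ← sq, h11]
    ext i j
    fin_cases i <;> fin_cases j <;> simp [e12, e21, e11]
  · rintro ⟨r, hr, hA⟩
    have hr2 : r ^ 2 = 1 := by simpa using hr
    have hr3 : r * r = 1 := by rw [← sq]; exact hr2
    rw [← hA]
    ext i j
    fin_cases i <;> fin_cases j <;> simp [R3, hr2, hr3]

theorem ker_rho : (rho (F := F)).ker = Subgroup.center (Matrix.SpecialLinearGroup (Fin 2) F) := by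
  ext A
  rw [MonoidHom.mem_ker, rho_eq_one_iff, R3_eq_one_iff]

/-- if `mk (x g) = mk (g x)` in `PSL₂`, then `g x = ε x g` with `ε² = 1` -/
theorem comm_mod_center (g x : Matrix.SpecialLinearGroup (Fin 2) F)
    (h : (QuotientGroup.mk (x * g) : Matrix.ProjectiveSpecialLinearGroup (Fin 2) F) =
      QuotientGroup.mk (g * x)) :
    ∃ ε : F, ε ^ 2 = 1 ∧ ((g * x : Matrix.SpecialLinearGroup (Fin 2) F) : Matrix (Fin 2) (Fin 2) F) =
      ε • ((x * g : Matrix.SpecialLinearGroup (Fin 2) F) : Matrix (Fin 2) (Fin 2) F) := by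
  rw [QuotientGroup.eq, Matrix.SpecialLinearGroup.mem_center_iff] at h
  obtain ⟨ε, hε, hs⟩ := h
  refine ⟨ε, by simpa using hε, ?_⟩
  have h1 : ((g * x : Matrix.SpecialLinearGroup (Fin 2) F) : Matrix (Fin 2) (Fin 2) F) =
      ((x * g : Matrix.SpecialLinearGroup (Fin 2) F) : Matrix (Fin 2) (Fin 2) F) *
        (((x * g)⁻¹ * (g * x) : Matrix.SpecialLinearGroup (Fin 2) F) : Matrix (Fin 2) (Fin 2) F) := by
    rw [← Matrix.SpecialLinearGroup.coe_mul, mul_inv_cancel_left]
  rw [h1, ← hs, Matrix.scalar_apply, ← Matrix.smul_one_eq_diagonal, Matrix.mul_smul, Matrix.mul_one]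

theorem field_aux (p q r s ε : F) (hdet : p * s - q * r = 1)
    (e1 : p = ε * (p + r)) (e2 : p + q = ε * (q + s)) (e3 : r = ε * r) :
    r = 0 ∧ s = p := by
  have hε : ε = 1 := by
    by_contra hne
    have hne' : (1 - ε) ≠ 0 := fun h => hne (sub_eq_zero.mp h).symm
    have hr : r = 0 := by
      have : (1 - ε) * r = 0 := by linear_combination e3
      rcases mul_eq_zero.mp this with h | h
      · exact absurd h hne'
      · exact h
    have hp : p = 0 := by
      have : (1 - ε) * p = 0 := by rw [hr] at e1; linear_combination e1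
      rcases mul_eq_zero.mp this with h | h
      · exact absurd h hne'
      · exact h
    rw [hr, hp] at hdet
    simp at hdet
  subst hε
  refine ⟨?_, ?_⟩
  · linear_combination (-1 : F) * e1
  · linear_combination (-1 : F) * e2

theorem center_psl2 :
    Subgroup.center (Matrix.ProjectiveSpecialLinearGroup (Fin 2) F) = ⊥ := by
  rw [eq_bot_iff]
  intro z hz
  rw [Subgroup.mem_bot]
  induction z using QuotientGroup.induction_on with
  | H g =>
    rw [QuotientGroup.eq_one_iff]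
    have hcomm : ∀ x : Matrix.SpecialLinearGroup (Fin 2) F,
        (QuotientGroup.mk (x * g) : Matrix.ProjectiveSpecialLinearGroup (Fin 2) F) =
          QuotientGroup.mk (g * x) := by
      intro x
      have := Subgroup.mem_center_iff.mp hz (QuotientGroup.mk x)
      rw [QuotientGroup.mk_mul, QuotientGroup.mk_mul]
      exact this
    have h01 : (0 : Fin 2) ≠ 1 := by decide
    have h10 : (1 : Fin 2) ≠ 0 := by decide
    have hdet : (g : Matrix (Fin 2) (Fin 2) F) 0 0 * (g : Matrix (Fin 2) (Fin 2) F) 1 1 -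
        (g : Matrix (Fin 2) (Fin 2) F) 0 1 * (g : Matrix (Fin 2) (Fin 2) F) 1 0 = 1 := by
      rw [← Matrix.det_fin_two]; exact g.det_coe
    obtain ⟨ε, -, hε⟩ := comm_mod_center g (Matrix.SpecialLinearGroup.transvection h01 1) (hcomm _)
    obtain ⟨δ, -, hδ⟩ := comm_mod_center g (Matrix.SpecialLinearGroup.transvection h10 1) (hcomm _)
    rw [Matrix.SpecialLinearGroup.coe_mul, Matrix.SpecialLinearGroup.coe_mul,
      Matrix.SpecialLinearGroup.transvection_coe] at hε hδ
    have a1 := congrFun (congrFun hε 0) 0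
    have a2 := congrFun (congrFun hε 0) 1
    have a3 := congrFun (congrFun hε 1) 0
    have b1 := congrFun (congrFun hδ 1) 1
    have b2 := congrFun (congrFun hδ 1) 0
    have b3 := congrFun (congrFun hδ 0) 1
    simp [Matrix.mul_apply, Fin.sum_univ_two, Matrix.add_apply, Matrix.single_apply] at a1 a2 a3 b1 b2 b3
    obtain ⟨hr, hs⟩ := field_aux _ _ _ _ ε hdet a1 a2 a3
    obtain ⟨hq, -⟩ := field_aux ((g : Matrix (Fin 2) (Fin 2) F) 1 1)
      ((g : Matrix (Fin 2) (Fin 2) F) 1 0) ((g : Matrix (Fin 2) (Fin 2) F) 0 1)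
      ((g : Matrix (Fin 2) (Fin 2) F) 0 0) δ (by linear_combination hdet)
      (by linear_combination b1) (by linear_combination b2) b3
    rw [Matrix.SpecialLinearGroup.mem_center_iff]
    refine ⟨(g : Matrix (Fin 2) (Fin 2) F) 0 0, ?_, ?_⟩
    · rw [hs, hq, zero_mul, sub_zero] at hdet
      simpa [sq] using hdet
    · ext i j
      fin_cases i <;> fin_cases j <;> simp [hr, hs, hq]

end Cfsg.Agent.Lib.Lead.PO3
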