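import Mathlib
import Cfsg.Prelude.Def_Classical
import Cfsg.Agent.Lib.Lead.Reindex

set_option autoImplicit false

namespace Cfsg.Agent.Lib.Lead.PO4

open Cfsg Matrix

variable {F : Type*} [Field F]

/-- the action `X ↦ A X C` on `2×2` matrices `X = [[w0, -w1],[w3, w2]]`, in coordinates `w` -/
def R4 (A C : Matrix (Fin 2) (Fin 2) F) : Matrix (Fin 4) (Fin 4) F :=
  !![A 0 0 * C 0 0, -(A 0 0 * C 1 0), A 0 1 * C 1 0, A 0 1 * C 0 0;
     -(A 0 0 * C 0 1), A 0 0 * C 1 1, -(A 0 1 * C 1 1), -(A 0 1 * C 0 1);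
     A 1 0 * C 0 1, -(A 1 0 * C 1 1), A 1 1 * C 1 1, A 1 1 * C 0 1;
     A 1 0 * C 0 0, -(A 1 0 * C 1 0), A 1 1 * C 1 0, A 1 1 * C 0 0]

theorem R4_one : R4 (1 : Matrix (Fin 2) (Fin 2) F) 1 = 1 := by
  ext i j
  fin_cases i <;> fin_cases j <;> simp [R4]

theorem R4_mul (A A' C C' : Matrix (Fin 2) (Fin 2) F) :
    R4 (A * A') (C' * C) = R4 A C * R4 A' C' := by
  ext i j
  fin_cases i <;> fin_cases j <;>
    simp [R4, Matrix.mul_apply, Fin.sum_univ_two, Fin.sum_univ_four] <;> ring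

/-- the quadratic form `w0 w2 + w1 w3` on `Fin 4 → F` -/
def Q4 (w : Fin 4 → F) : F := w 0 * w 2 + w 1 * w 3

theorem Q4_R4 (A C : Matrix (Fin 2) (Fin 2) F) (w : Fin 4 → F) :
    Q4 (R4 A C *ᵥ w) = A.det * C.det * Q4 w := by
  simp only [Q4, R4, Matrix.mulVec, dotProduct, Fin.sum_univ_four, Matrix.det_fin_two]
  simp
  ring

/-- `(A, B) ↦ R4 A Bᵀ` as a monoid hom -/
def R4hom : Matrix (Fin 2) (Fin 2) F × Matrix (Fin 2) (Fin 2) F →* Matrix (Fin 4) (Fin 4) F where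
  toFun p := R4 p.1 p.2ᵀ
  map_one' := by
    change R4 1 (1 : Matrix (Fin 2) (Fin 2) F)ᵀ = 1
    rw [Matrix.transpose_one, R4_one]
  map_mul' p p' := by
    change R4 (p.1 * p'.1) (p.2 * p'.2)ᵀ = R4 p.1 p.2ᵀ * R4 p'.1 p'.2ᵀ
    rw [Matrix.transpose_mul, R4_mul]

/-- the index equivalence -/
def e4 : Fin 4 ≃ Fin 2 ⊕ Fin 2 where
  toFun i := if i = 0 then Sum.inl 0 else if i = 1 then Sum.inl 1 else
    if i = 2 then Sum.inr 0 else Sum.inr 1
  invFun x := match x with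
    | Sum.inl i => if i = 0 then 0 else 1
    | Sum.inr i => if i = 0 then 2 else 3
  left_inv i := by fin_cases i <;> rfl
  right_inv x := by
    rcases x with x | x <;> fin_cases x <;> rfl

theorem quadFormPlus_comp (y : Fin 4 → F) :
    Cfsg.quadFormPlus 2 F (y ∘ e4.symm) = Q4 y := by
  simp [Cfsg.quadFormPlus, Q4, e4, Fin.sum_univ_two]

/-- `SL₂(F) × SL₂(F) → GL₄(F)` (indexed by `Fin 2 ⊕ Fin 2`) -/
noncomputable def rhoGL : Matrix.SpecialLinearGroup (Fin 2) F × Matrix.SpecialLinearGroup (Fin 2) F →*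
    GL (Fin 2 ⊕ Fin 2) F :=
  (RI.glReindex (F := F) e4).toMonoidHom.comp ((Units.map R4hom).comp
    (MulEquiv.prodUnits.symm.toMonoidHom.comp
      (MonoidHom.prodMap Matrix.SpecialLinearGroup.toGL Matrix.SpecialLinearGroup.toGL)))

theorem rhoGL_coe (p : Matrix.SpecialLinearGroup (Fin 2) F × Matrix.SpecialLinearGroup (Fin 2) F) :
    ((rhoGL p : GL (Fin 2 ⊕ Fin 2) F) : Matrix _ _ F) =
      Matrix.reindex e4 e4 (R4 (p.1 : Matrix (Fin 2) (Fin 2) F)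
        (p.2 : Matrix (Fin 2) (Fin 2) F)ᵀ) := rfl

theorem rhoGL_mem (p : Matrix.SpecialLinearGroup (Fin 2) F × Matrix.SpecialLinearGroup (Fin 2) F) :
    rhoGL p ∈ Cfsg.isometryGroup F (Cfsg.quadFormPlus 2 F) := by
  rw [RI.mem_iso_iff']
  intro x
  rw [rhoGL_coe, RI.reindex_mulVec, quadFormPlus_comp, Q4_R4, Matrix.det_transpose, p.1.det_coe,
    p.2.det_coe, one_mul, one_mul, ← quadFormPlus_comp]
  congr 1
  funext i; simp

/-- `SL₂(F) × SL₂(F) → GO₄⁺(F)` -/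
noncomputable def rho : Matrix.SpecialLinearGroup (Fin 2) F × Matrix.SpecialLinearGroup (Fin 2) F →*
    ↥(Cfsg.isometryGroup F (Cfsg.quadFormPlus 2 F)) :=
  rhoGL.codRestrict _ rhoGL_mem

theorem rho_eq_one_iff (p : Matrix.SpecialLinearGroup (Fin 2) F × Matrix.SpecialLinearGroup (Fin 2) F) :
    rho p = 1 ↔ R4 (p.1 : Matrix (Fin 2) (Fin 2) F) (p.2 : Matrix (Fin 2) (Fin 2) F)ᵀ = 1 := by
  rw [Subtype.ext_iff]
  change rhoGL p = 1 ↔ _
  unfold rhoGL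
  rw [MonoidHom.comp_apply]
  change (RI.glReindex (F := F) e4) _ = 1 ↔ _
  rw [MulEquiv.map_eq_one_iff, Units.ext_iff]
  rfl

theorem ker_scalar (A B : Matrix.SpecialLinearGroup (Fin 2) F)
    (h : R4 (A : Matrix (Fin 2) (Fin 2) F) (B : Matrix (Fin 2) (Fin 2) F)ᵀ = 1) :
    ∃ a : F, a ^ 2 = 1 ∧ Matrix.scalar (Fin 2) a = (A : Matrix (Fin 2) (Fin 2) F) ∧
      Matrix.scalar (Fin 2) a = (B : Matrix (Fin 2) (Fin 2) F) := by
  have h00 : (A : Matrix (Fin 2) (Fin 2) F) 0 0 * (B : Matrix (Fin 2) (Fin 2) F) 0 0 = 1 := by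
    have := congrFun (congrFun h 0) 0
    simpa [R4] using this
  have h01 : (A : Matrix (Fin 2) (Fin 2) F) 0 0 * (B : Matrix (Fin 2) (Fin 2) F) 0 1 = 0 := by
    have := congrFun (congrFun h 0) 1
    simpa [R4] using this
  have h03 : (A : Matrix (Fin 2) (Fin 2) F) 0 1 * (B : Matrix (Fin 2) (Fin 2) F) 0 0 = 0 := by
    have := congrFun (congrFun h 0) 3
    simpa [R4] using this
  have h10 : (A : Matrix (Fin 2) (Fin 2) F) 0 0 * (B : Matrix (Fin 2) (Fin 2) F) 1 0 = 0 := by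
    have := congrFun (congrFun h 1) 0
    simpa [R4] using this
  have h11 : (A : Matrix (Fin 2) (Fin 2) F) 0 0 * (B : Matrix (Fin 2) (Fin 2) F) 1 1 = 1 := by
    have := congrFun (congrFun h 1) 1
    simpa [R4] using this
  have h30 : (A : Matrix (Fin 2) (Fin 2) F) 1 0 * (B : Matrix (Fin 2) (Fin 2) F) 0 0 = 0 := by
    have := congrFun (congrFun h 3) 0
    simpa [R4] using this
  have h33 : (A : Matrix (Fin 2) (Fin 2) F) 1 1 * (B : Matrix (Fin 2) (Fin 2) F) 0 0 = 1 := by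
    have := congrFun (congrFun h 3) 3
    simpa [R4] using this
  have hA0 : (A : Matrix (Fin 2) (Fin 2) F) 0 0 ≠ 0 := by
    intro h0; rw [h0, zero_mul] at h00; exact zero_ne_one h00
  have hB0 : (B : Matrix (Fin 2) (Fin 2) F) 0 0 ≠ 0 := by
    intro h0; rw [h0, mul_zero] at h00; exact zero_ne_one h00
  have eA01 : (A : Matrix (Fin 2) (Fin 2) F) 0 1 = 0 := by
    rcases mul_eq_zero.mp h03 with h | h
    · exact h
    · exact absurd h hB0
  have eA10 : (A : Matrix (Fin 2) (Fin 2) F) 1 0 = 0 := by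
    rcases mul_eq_zero.mp h30 with h | h
    · exact h
    · exact absurd h hB0
  have eB01 : (B : Matrix (Fin 2) (Fin 2) F) 0 1 = 0 := by
    rcases mul_eq_zero.mp h01 with h | h
    · exact absurd h hA0
    · exact h
  have eB10 : (B : Matrix (Fin 2) (Fin 2) F) 1 0 = 0 := by
    rcases mul_eq_zero.mp h10 with h | h
    · exact absurd h hA0
    · exact h
  have eA11 : (A : Matrix (Fin 2) (Fin 2) F) 1 1 = (A : Matrix (Fin 2) (Fin 2) F) 0 0 := by
    apply mul_right_cancel₀ hB0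
    rw [h33, h00]
  have eB11 : (B : Matrix (Fin 2) (Fin 2) F) 1 1 = (B : Matrix (Fin 2) (Fin 2) F) 0 0 := by
    apply mul_left_cancel₀ hA0
    rw [h11, h00]
  have hdet : (A : Matrix (Fin 2) (Fin 2) F) 0 0 * (A : Matrix (Fin 2) (Fin 2) F) 1 1 -
      (A : Matrix (Fin 2) (Fin 2) F) 0 1 * (A : Matrix (Fin 2) (Fin 2) F) 1 0 = 1 := by
    rw [← Matrix.det_fin_two]; exact A.det_coe
  rw [eA11, eA01, zero_mul, sub_zero] at hdet
  have eB00 : (B : Matrix (Fin 2) (Fin 2) F) 0 0 = (A : Matrix (Fin 2) (Fin 2) F) 0 0 := by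
    apply mul_left_cancel₀ hA0
    rw [h00, hdet]
  refine ⟨(A : Matrix (Fin 2) (Fin 2) F) 0 0, by rw [sq]; exact hdet, ?_, ?_⟩
  · ext i j
    fin_cases i <;> fin_cases j <;> simp [eA01, eA10, eA11]
  · ext i j
    fin_cases i <;> fin_cases j <;> simp [eB01, eB10, eB11, eB00]

end Cfsg.Agent.Lib.Lead.PO4
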