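import Mathlib
import Cfsg.Agent.Lib.helper17.SLP.Defs
import Cfsg.Agent.Lib.helper3.SP4.Defs
import Cfsg.Prelude.Def_Classical
import Cfsg.Agent.S0245
import Cfsg.Agent.S0246

/-! Project SP4 (designer helper3), rows M6 `card_Sp4`, M7 `card_PSp4` (written by lead). -/

set_option autoImplicit false

namespace Cfsg.Agent.Lib.helper3.SP4

open Cfsg.Agent.Lib.helper17.SLP
open Polynomial

universe u v

section M

variable {F : Type u} [Field F]

theorem sp4m6_arith (q : ℕ) (hq : 1 ≤ q) :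
    q ^ (2 ^ 2) * ∏ i ∈ Finset.range 2, (q ^ (2 * (i + 1)) - 1) =
      (q - 1) ^ 2 * q ^ 4 * (1 + 2 * q + 2 * q ^ 2 + 2 * q ^ 3 + q ^ 4) := by
  obtain ⟨k, rfl⟩ : ∃ k, q = k + 1 := ⟨q - 1, by omega⟩
  rw [Finset.prod_range_succ, Finset.prod_range_one]
  have e1 : (k + 1) ^ (2 * (0 + 1)) - 1 = k * (k + 2) := by
    have : (k + 1) ^ (2 * (0 + 1)) = k * (k + 2) + 1 := by ring
    rw [this, Nat.add_sub_cancel]
  have e2 : (k + 1) ^ (2 * (1 + 1)) - 1 = k * (k + 2) * ((k + 1) ^ 2 + 1) := by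
    have : (k + 1) ^ (2 * (1 + 1)) = k * (k + 2) * ((k + 1) ^ 2 + 1) + 1 := by ring
    rw [this, Nat.add_sub_cancel]
  rw [e1, e2, Nat.add_sub_cancel]
  ring

/-- M6 [S-M]  `Cfsg.Agent.S0245.result` with `m = 2`: `q^4 * ((q^2 - 1) * (q^4 - 1))` (`Finset.prod_range_succ`); `q ≥ 2`; `(q-1)²(1+2q+2q²+2q³+q⁴) = (q²-1)(q⁴-1)` (work in `ℤ` or write `q = k + 1`). -/
theorem card_Sp4 [Fintype F] :
    Nat.card (Matrix.symplecticGroup (Fin 2) F) =
      (Fintype.card F - 1) ^ 2 * Fintype.card F ^ 4 *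
        (1 + 2 * Fintype.card F + 2 * Fintype.card F ^ 2 + 2 * Fintype.card F ^ 3 + Fintype.card F ^ 4) := by
  rw [Cfsg.Agent.S0245.result (F := F) rfl 2]
  exact sp4m6_arith _ Fintype.card_pos

/-- M7 [S-M]  `Cfsg.PSp 2 F = Sp ⧸ center`; `Subgroup.card_eq_card_quotient_mul_card_subgroup`, `Cfsg.Agent.S0246.result` (`m = 2`): `card center = gcd 2 (q - 1)`. -/
theorem card_PSp4 [Fintype F] :
    Nat.card (Cfsg.PSp 2 F) * Nat.gcd 2 (Fintype.card F - 1) = Nat.card (Matrix.symplecticGroup (Fin 2) F) := by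
  rw [← Cfsg.Agent.S0246.result (F := F) rfl 2 (by norm_num)]
  exact (Subgroup.card_eq_card_quotient_mul_card_subgroup
    (Subgroup.center (Matrix.symplecticGroup (Fin 2) F))).symm

end M

end Cfsg.Agent.Lib.helper3.SP4
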