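import Mathlib
import Cfsg.Agent.Lib.helper17.SLP.Defs
import Cfsg.Agent.Lib.helper3.SP4.Defs
import Cfsg.Prelude.Def_Classical

/-! Project SP4 (designer helper3), row E4 `bn_count8` (written by lead). -/

set_option autoImplicit false

namespace Cfsg.Agent.Lib.helper3.SP4

open Cfsg.Agent.Lib.helper17.SLP
open Polynomial

universe u v

section E

variable {G : Type u} [Group G]

/-- one more Weyl letter: `S * n * Y`. -/
def sp4e4_ext [DecidableEq G] (S : Finset G) (n : G) (Y : Finset G) : Finset G :=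
  (S ×ˢ Y).image (fun p => p.1 * n * p.2)

theorem sp4e4_card_ext [DecidableEq G] (S : Finset G) (n : G) (Y : Finset G) (k q : ℕ)
    (hS : S.card ≤ k) (hY : Y.card ≤ q) : (sp4e4_ext S n Y).card ≤ k * q := by
  unfold sp4e4_ext
  refine le_trans Finset.card_image_le ?_
  rw [Finset.card_product]
  exact Nat.mul_le_mul hS hY

theorem sp4e4_cover_ext [DecidableEq G] (B : Subgroup G) (S : Finset G) (w n : G) (X : Set G)
    (Y : Finset G) (hY : ∀ g, g ∈ Y ↔ g ∈ X)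
    (hc : ∀ g ∈ B, ∃ b ∈ B, ∃ y ∈ X, n * g = b * n * y)
    (hS : ∀ b₁ ∈ B, ∀ b₂ ∈ B, b₁ * w * b₂ ∈ S) :
    ∀ b₁ ∈ B, ∀ b₂ ∈ B, b₁ * (w * n) * b₂ ∈ sp4e4_ext S n Y := by
  intro b₁ h₁ b₂ h₂
  obtain ⟨b', hb', y, hy, e⟩ := hc b₂ h₂
  have e' : b₁ * (w * n) * b₂ = (b₁ * w * b') * n * y := by
    calc b₁ * (w * n) * b₂ = b₁ * w * (n * b₂) := by group
      _ = b₁ * w * (b' * n * y) := by rw [e]
      _ = (b₁ * w * b') * n * y := by group
  rw [e']
  unfold sp4e4_ext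
  exact Finset.mem_image.mpr ⟨(b₁ * w * b', y),
    Finset.mem_product.mpr ⟨hS b₁ h₁ b' hb', (hY y).mpr hy⟩, rfl⟩

/-- E4 [M]  Model: SL3 row `bn_count`.  Push `b₂` to the left with `hc1`, `hc2`: `b₁ * n1 * b₂ = (b₁ b) * n1 * y`; `b₁ * (n1 * n2) * b₂ = b₁ * n1 * (b * n2 * y₂) = (b₁ b') * n1 * y₁ * n2 * y₂`; … four steps for `n1 n2 n1 n2`.
So `G` is the union of the images of `B × Y` with `Y` a product of `ℓ(m)` factors `X1`/`X2`, `ℓ = 0,1,1,2,2,3,3,4` (`Set.ncard_image_le`, `Set.ncard_union_le`, or a surjection from a `Fintype` sum). -/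
theorem bn_count8 (B : Subgroup G) [Finite B] (n1 n2 : G) (X1 X2 : Set G) (q : ℕ)
    (hX1 : X1.Finite ∧ X1.ncard ≤ q) (hX2 : X2.Finite ∧ X2.ncard ≤ q)
    (hc1 : ∀ g ∈ B, ∃ b ∈ B, ∃ y ∈ X1, n1 * g = b * n1 * y)
    (hc2 : ∀ g ∈ B, ∃ b ∈ B, ∃ y ∈ X2, n2 * g = b * n2 * y)
    (hall : ∀ g : G, g ∈ Cell8 B n1 n2) :
    Finite G ∧ Nat.card G ≤ Nat.card B * (1 + 2 * q + 2 * q ^ 2 + 2 * q ^ 3 + q ^ 4) := by
  classical
  have hBfin : (B : Set G).Finite := Set.toFinite _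
  set Bf : Finset G := hBfin.toFinset with hBf
  set Y1 : Finset G := hX1.1.toFinset with hY1
  set Y2 : Finset G := hX2.1.toFinset with hY2
  have hBmem : ∀ g, g ∈ Bf ↔ g ∈ B := fun g => by rw [hBf, Set.Finite.mem_toFinset]; rfl
  have hY1mem : ∀ g, g ∈ Y1 ↔ g ∈ X1 := fun g => by rw [hY1, Set.Finite.mem_toFinset]
  have hY2mem : ∀ g, g ∈ Y2 ↔ g ∈ X2 := fun g => by rw [hY2, Set.Finite.mem_toFinset]
  have hBcard : Bf.card = Nat.card B := by
    rw [hBf, ← Set.ncard_eq_toFinset_card _ hBfin]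
    exact (Nat.card_coe_set_eq (B : Set G))
  have hY1card : Y1.card ≤ q := by
    rw [hY1, ← Set.ncard_eq_toFinset_card _ hX1.1]; exact hX1.2
  have hY2card : Y2.card ≤ q := by
    rw [hY2, ← Set.ncard_eq_toFinset_card _ hX2.1]; exact hX2.2
  set cB := Nat.card B with hcB
  -- covering sets
  have v0 : ∀ b₁ ∈ B, ∀ b₂ ∈ B, b₁ * 1 * b₂ ∈ Bf := by
    intro b₁ h₁ b₂ h₂
    rw [hBmem, mul_one]
    exact B.mul_mem h₁ h₂
  have k0 : Bf.card ≤ cB := le_of_eq hBcard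
  set S1 := sp4e4_ext Bf n1 Y1 with hS1
  set S2 := sp4e4_ext Bf n2 Y2 with hS2
  set S12 := sp4e4_ext S1 n2 Y2 with hS12
  set S21 := sp4e4_ext S2 n1 Y1 with hS21
  set S121 := sp4e4_ext S12 n1 Y1 with hS121
  set S212 := sp4e4_ext S21 n2 Y2 with hS212
  set S1212 := sp4e4_ext S121 n2 Y2 with hS1212
  have v1 : ∀ b₁ ∈ B, ∀ b₂ ∈ B, b₁ * n1 * b₂ ∈ S1 := by
    have := sp4e4_cover_ext B Bf 1 n1 X1 Y1 hY1mem hc1 v0
    simpa only [one_mul] using this
  have v2 : ∀ b₁ ∈ B, ∀ b₂ ∈ B, b₁ * n2 * b₂ ∈ S2 := by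
    have := sp4e4_cover_ext B Bf 1 n2 X2 Y2 hY2mem hc2 v0
    simpa only [one_mul] using this
  have v12 : ∀ b₁ ∈ B, ∀ b₂ ∈ B, b₁ * (n1 * n2) * b₂ ∈ S12 :=
    sp4e4_cover_ext B S1 n1 n2 X2 Y2 hY2mem hc2 v1
  have v21 : ∀ b₁ ∈ B, ∀ b₂ ∈ B, b₁ * (n2 * n1) * b₂ ∈ S21 :=
    sp4e4_cover_ext B S2 n2 n1 X1 Y1 hY1mem hc1 v2
  have v121 : ∀ b₁ ∈ B, ∀ b₂ ∈ B, b₁ * (n1 * n2 * n1) * b₂ ∈ S121 :=
    sp4e4_cover_ext B S12 (n1 * n2) n1 X1 Y1 hY1mem hc1 v12
  have v212 : ∀ b₁ ∈ B, ∀ b₂ ∈ B, b₁ * (n2 * n1 * n2) * b₂ ∈ S212 :=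
    sp4e4_cover_ext B S21 (n2 * n1) n2 X2 Y2 hY2mem hc2 v21
  have v1212 : ∀ b₁ ∈ B, ∀ b₂ ∈ B, b₁ * (n1 * n2 * n1 * n2) * b₂ ∈ S1212 :=
    sp4e4_cover_ext B S121 (n1 * n2 * n1) n2 X2 Y2 hY2mem hc2 v121
  have k1 : S1.card ≤ cB * q := sp4e4_card_ext Bf n1 Y1 cB q k0 hY1card
  have k2 : S2.card ≤ cB * q := sp4e4_card_ext Bf n2 Y2 cB q k0 hY2card
  have k12 : S12.card ≤ cB * q * q := sp4e4_card_ext S1 n2 Y2 (cB * q) q k1 hY2card
  have k21 : S21.card ≤ cB * q * q := sp4e4_card_ext S2 n1 Y1 (cB * q) q k2 hY1card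
  have k121 : S121.card ≤ cB * q * q * q := sp4e4_card_ext S12 n1 Y1 (cB * q * q) q k12 hY1card
  have k212 : S212.card ≤ cB * q * q * q := sp4e4_card_ext S21 n2 Y2 (cB * q * q) q k21 hY2card
  have k1212 : S1212.card ≤ cB * q * q * q * q :=
    sp4e4_card_ext S121 n2 Y2 (cB * q * q * q) q k121 hY2card
  let T : Finset G := Bf ∪ S1 ∪ S2 ∪ S12 ∪ S21 ∪ S121 ∪ S212 ∪ S1212
  have hcov : ∀ g : G, g ∈ T := by
    intro g
    obtain ⟨m, hm, b₁, h₁, b₂, h₂, hg⟩ := hall g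
    simp only [cells8, Set.mem_insert_iff, Set.mem_singleton_iff] at hm
    simp only [T, Finset.mem_union]
    rw [hg]
    rcases hm with hm | hm | hm | hm | hm | hm | hm | hm <;> rw [hm]
    · left; left; left; left; left; left; left
      exact v0 b₁ h₁ b₂ h₂
    · left; left; left; left; left; left; right
      exact v1 b₁ h₁ b₂ h₂
    · left; left; left; left; left; right
      exact v2 b₁ h₁ b₂ h₂
    · left; left; left; left; right
      exact v12 b₁ h₁ b₂ h₂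
    · left; left; left; right
      exact v21 b₁ h₁ b₂ h₂
    · left; left; right
      exact v121 b₁ h₁ b₂ h₂
    · left; right
      exact v212 b₁ h₁ b₂ h₂
    · right
      exact v1212 b₁ h₁ b₂ h₂
  have hfin : Finite G := by
    have : (Set.univ : Set G) ⊆ (T : Set G) := fun g _ => hcov g
    exact Set.finite_univ_iff.mp (Set.Finite.subset T.finite_toSet this)
  refine ⟨hfin, ?_⟩
  have hcard : Nat.card G ≤ T.card := by
    have : Fintype G := Fintype.ofFinite G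
    rw [Nat.card_eq_fintype_card, ← Finset.card_univ]
    exact Finset.card_le_card (fun g _ => hcov g)
  have hT : T.card ≤ Bf.card + S1.card + S2.card + S12.card + S21.card + S121.card + S212.card
      + S1212.card := by
    simp only [T]
    refine le_trans (Finset.card_union_le _ _) (Nat.add_le_add_right ?_ _)
    refine le_trans (Finset.card_union_le _ _) (Nat.add_le_add_right ?_ _)
    refine le_trans (Finset.card_union_le _ _) (Nat.add_le_add_right ?_ _)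
    refine le_trans (Finset.card_union_le _ _) (Nat.add_le_add_right ?_ _)
    refine le_trans (Finset.card_union_le _ _) (Nat.add_le_add_right ?_ _)
    refine le_trans (Finset.card_union_le _ _) (Nat.add_le_add_right ?_ _)
    exact Finset.card_union_le _ _
  calc Nat.card G ≤ T.card := hcard
    _ ≤ Bf.card + S1.card + S2.card + S12.card + S21.card + S121.card + S212.card
          + S1212.card := hT
    _ ≤ cB + cB * q + cB * q + cB * q * q + cB * q * q + cB * q * q * q + cB * q * q * q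
          + cB * q * q * q * q := by omega
    _ = cB * (1 + 2 * q + 2 * q ^ 2 + 2 * q ^ 3 + q ^ 4) := by ring

end E

end Cfsg.Agent.Lib.helper3.SP4
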