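import Mathlib
import Cfsg.Prelude.Def_GeometricClasses
import Cfsg.Agent.Lib.Helper27.ASC.Defs
import Cfsg.Agent.Lib.helper23.ASCO.Defs
import Cfsg.Agent.Lib.Helper19.ASG.Defs
import Cfsg.Agent.Lib.Helper1.ASGCLIF3
import Cfsg.Agent.Lib.Helper25.ASO.Defs
import Cfsg.Agent.Lib.helper23.ASE.Defs
import Cfsg.Agent.Lib.Helper20.ASE10M.Defs

set_option autoImplicit false
set_option linter.unusedVariables false
set_option linter.unusedSectionVars false

/-!
# E10M F5-J : `efield_j` (VERBATIM vs `Helper20/ASE10M/FieldSkel5.lean.txt`)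
-/

namespace Cfsg.Agent.Lib.Helper16.E10M

open Cfsg Cfsg.Geo Cfsg.Agent.Lib.Helper27.ASC Cfsg.Agent.Lib.helper23.ASCO Cfsg.Agent.Lib.Helper19.ASG
  Cfsg.Agent.Lib.Helper25.ASO
open scoped MatrixGroups Matrix Kronecker

variable {n : ℕ} {F : Type*} [Field F] [Fintype F]

theorem efield_j {r : ℕ} (Q : QuadraticForm F (Fin n → F)) (K : Subalgebra F (Matrix (Fin n) (Fin n) F))
    (hK : IsFieldSubalgebra r K) {ℓ : Matrix (Fin n) (Fin n) F →ₗ[F] F} {v w : Fin n → F}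
    {s β : Matrix (Fin n) (Fin n) F} (hc : EFieldCoord (⇑Q) K ℓ v w s β) :
    ∃ j : Matrix (Fin n) (Fin n) F, (∀ k ∈ K, j * k = k * j) ∧
      ∀ a ∈ K, ∀ b ∈ K, j *ᵥ (a *ᵥ v + b *ᵥ w) = (-(β * b)) *ᵥ v + (a + s * b) *ᵥ w := by
  classical
  let φ : (K × K) →ₗ[F] (Fin n → F) :=
    { toFun := fun p => (p.1 : Matrix (Fin n) (Fin n) F) *ᵥ v + (p.2 : Matrix (Fin n) (Fin n) F) *ᵥ w
      map_add' := by
        intro p p'
        simp only [Prod.fst_add, Prod.snd_add, Subalgebra.coe_add, Matrix.add_mulVec]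
        abel
      map_smul' := by
        intro c p
        simp only [Prod.smul_fst, Prod.smul_snd, Subalgebra.coe_smul, Matrix.smul_mulVec, RingHom.id_apply,
          smul_add] }
  have hφ : ∀ p : K × K, φ p = (p.1 : Matrix (Fin n) (Fin n) F) *ᵥ v + (p.2 : Matrix (Fin n) (Fin n) F) *ᵥ w :=
    fun p => rfl
  have hφinj : Function.Injective φ := by
    rw [injective_iff_map_eq_zero]
    intro p hp
    have h := hc.inj p.1 p.1.2 p.2 p.2.2 hp
    ext1
    · exact Subtype.ext h.1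
    · exact Subtype.ext h.2
  have hφsurj : Function.Surjective φ := by
    intro x
    obtain ⟨a, ha, b, hb, hx⟩ := hc.surj x
    exact ⟨(⟨a, ha⟩, ⟨b, hb⟩), hx.symm⟩
  let Φ : (K × K) ≃ₗ[F] (Fin n → F) := LinearEquiv.ofBijective φ ⟨hφinj, hφsurj⟩
  have hΦ : ∀ p, Φ p = φ p := fun p => rfl
  let sK : K := ⟨s, hc.hs⟩
  let βK : K := ⟨β, hc.hβ⟩
  let T : (K × K) →ₗ[F] (K × K) :=
    { toFun := fun p => (-(βK * p.2), p.1 + sK * p.2)
      map_add' := by
        intro p p'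
        ext1
        · simp only [Prod.fst_add, Prod.snd_add, mul_add, neg_add]
        · simp only [Prod.fst_add, Prod.snd_add, mul_add]
          abel
      map_smul' := by
        intro c p
        ext1
        · simp only [Prod.smul_fst, Prod.smul_snd, RingHom.id_apply, mul_smul_comm, smul_neg]
        · simp only [Prod.smul_fst, Prod.smul_snd, RingHom.id_apply, mul_smul_comm, smul_add] }
  have hT : ∀ p : K × K, T p = (-(βK * p.2), p.1 + sK * p.2) := fun p => rfl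
  let J : (Fin n → F) →ₗ[F] (Fin n → F) := (Φ : (K × K) →ₗ[F] (Fin n → F)).comp (T.comp (Φ.symm : (Fin n → F) →ₗ[F] (K × K)))
  have hJ : ∀ p : K × K, J (Φ p) = Φ (T p) := by
    intro p
    show Φ (T (Φ.symm (Φ p))) = Φ (T p)
    rw [LinearEquiv.symm_apply_apply]
  have hj : ∀ a ∈ K, ∀ b ∈ K, (LinearMap.toMatrix' J) *ᵥ (a *ᵥ v + b *ᵥ w) =
      (-(β * b)) *ᵥ v + (a + s * b) *ᵥ w := by
    intro a ha b hb
    have := hJ (⟨a, ha⟩, ⟨b, hb⟩)
    rw [hΦ, hΦ, hφ, hφ, hT] at this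
    rw [← Matrix.toLin'_apply, Matrix.toLin'_toMatrix']
    exact this
  refine ⟨LinearMap.toMatrix' J, ?_, hj⟩
  intro k hk
  apply Matrix.toLin'.injective
  apply LinearMap.ext
  intro x
  obtain ⟨a, ha, b, hb, hx⟩ := hc.surj x
  rw [Matrix.toLin'_apply, Matrix.toLin'_apply, ← Matrix.mulVec_mulVec, ← Matrix.mulVec_mulVec, hx, hj a ha b hb,
    Matrix.mulVec_add, Matrix.mulVec_mulVec, Matrix.mulVec_mulVec, hj (k * a) (K.mul_mem hk ha) (k * b) (K.mul_mem hk hb),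
    Matrix.mulVec_add, Matrix.mulVec_mulVec, Matrix.mulVec_mulVec]
  congr 2
  · rw [mul_neg, ← mul_assoc, ← mul_assoc, hK.comm k hk β hc.hβ]
  · rw [mul_add, ← mul_assoc, ← mul_assoc, hK.comm k hk s hc.hs]

end Cfsg.Agent.Lib.Helper16.E10M
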