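import Mathlib
import Cfsg.Prelude.Def_GeometricClasses
import Cfsg.Agent.Lib.Helper27.ASC.Defs
import Cfsg.Agent.Lib.helper23.ASCO.Defs
import Cfsg.Agent.Lib.Helper19.ASG.Defs
import Cfsg.Agent.Lib.Helper1.ASGCLIF3
import Cfsg.Agent.Lib.Helper25.ASO.Defs
import Cfsg.Agent.Lib.helper23.ASE.Defs
import Cfsg.Agent.Lib.Helper20.ASE10M.Defs

set_option autoImplicit false
set_option linter.unusedVariables false
set_option linter.unusedSectionVars false

/-!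
# E10M F5-REPR : `efield_repr` (VERBATIM vs `Helper20/ASE10M/FieldSkel5.lean.txt`)
-/

namespace Cfsg.Agent.Lib.Helper16.E10M

open Cfsg Cfsg.Geo Cfsg.Agent.Lib.Helper27.ASC Cfsg.Agent.Lib.helper23.ASCO Cfsg.Agent.Lib.Helper19.ASG
  Cfsg.Agent.Lib.Helper25.ASO
open scoped MatrixGroups Matrix Kronecker

variable {n : ℕ} {F : Type*} [Field F] [Fintype F]

theorem efield_repr {r : ℕ} (K : Subalgebra F (Matrix (Fin n) (Fin n) F)) (hK : IsFieldSubalgebra r K) (hr : 0 < r)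
    (ℓ : Matrix (Fin n) (Fin n) F →ₗ[F] F) (hℓ : ∃ k ∈ K, ℓ k ≠ 0) :
    (∀ c ∈ K, (∀ k ∈ K, ℓ (k * c) = 0) → c = 0) ∧
      ∀ φ : K →ₗ[F] F, ∃ d ∈ K, ∀ k : K, φ k = ℓ (d * (k : Matrix (Fin n) (Fin n) F)) := by
  classical
  have h1 : ∀ c ∈ K, (∀ k ∈ K, ℓ (k * c) = 0) → c = 0 := by
    intro c hc h
    by_contra hc0
    obtain ⟨y, hy, hcy⟩ := hK.inv c hc hc0
    obtain ⟨k₀, hk₀, hk₀ℓ⟩ := hℓ
    apply hk₀ℓ
    have := h (k₀ * y) (K.mul_mem hk₀ hy)
    rwa [mul_assoc, hK.comm y hy c hc, hcy, mul_one] at this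
  refine ⟨h1, ?_⟩
  intro φ
  let A : K →ₗ[F] F := ℓ.comp K.val.toLinearMap
  have hA : ∀ k : K, A k = ℓ (k : Matrix (Fin n) (Fin n) F) := fun k => rfl
  let Θ : K →ₗ[F] (K →ₗ[F] F) := (LinearMap.mul F K).compr₂ A
  have hΘ : ∀ d k : K, Θ d k = ℓ ((d : Matrix (Fin n) (Fin n) F) * (k : Matrix (Fin n) (Fin n) F)) :=
    fun d k => rfl
  have hinj : Function.Injective Θ := by
    rw [injective_iff_map_eq_zero]
    intro c hc
    apply Subtype.ext
    apply h1 (c : Matrix (Fin n) (Fin n) F) c.2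
    intro k hk
    rw [hK.comm k hk _ c.2]
    have := hΘ c ⟨k, hk⟩
    rw [hc] at this
    exact this.symm
  have hdim : Module.finrank F K = Module.finrank F (K →ₗ[F] F) := (Subspace.dual_finrank_eq).symm
  have hsurj : Function.Surjective Θ :=
    (LinearMap.injective_iff_surjective_of_finrank_eq_finrank hdim).1 hinj
  obtain ⟨d, hd⟩ := hsurj φ
  exact ⟨d, d.2, fun k => by rw [← hd, hΘ]⟩

end Cfsg.Agent.Lib.Helper16.E10M
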