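import Mathlib
import Cfsg.Prelude.Def_GeometricClasses
import Cfsg.Agent.Lib.Helper27.ASC.Defs
import Cfsg.Agent.Lib.helper23.ASCO.Defs
import Cfsg.Agent.Lib.Helper19.ASG.Defs
import Cfsg.Agent.Lib.Helper1.ASGCLIF3
import Cfsg.Agent.Lib.Helper25.ASO.Defs
import Cfsg.Agent.Lib.helper23.ASE.Defs
import Cfsg.Agent.Lib.Helper20.ASE10M.Defs

set_option autoImplicit false
set_option linter.unusedVariables false
set_option linter.unusedSectionVars false

/-!
# E10M F5-SURJ : `efield_surj` (VERBATIM vs `Helper20/ASE10M/FieldSkel5.lean.txt`)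
-/

namespace Cfsg.Agent.Lib.Helper16.E10M

open Cfsg Cfsg.Geo Cfsg.Agent.Lib.Helper27.ASC Cfsg.Agent.Lib.helper23.ASCO Cfsg.Agent.Lib.Helper19.ASG
  Cfsg.Agent.Lib.Helper25.ASO
open scoped MatrixGroups Matrix Kronecker

variable {n : ℕ} {F : Type*} [Field F] [Fintype F]

theorem efield_surj {r : ℕ} (hn : n = 2 * r) (K : Subalgebra F (Matrix (Fin n) (Fin n) F))
    (hfr : Module.finrank F K = r) (v w : Fin n → F)
    (hinj : ∀ a ∈ K, ∀ b ∈ K, a *ᵥ v + b *ᵥ w = 0 → a = 0 ∧ b = 0) (x : Fin n → F) :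
    ∃ a ∈ K, ∃ b ∈ K, x = a *ᵥ v + b *ᵥ w := by
  classical
  let φ : (K × K) →ₗ[F] (Fin n → F) :=
    { toFun := fun p => (p.1 : Matrix (Fin n) (Fin n) F) *ᵥ v + (p.2 : Matrix (Fin n) (Fin n) F) *ᵥ w
      map_add' := by
        intro p p'
        simp only [Prod.fst_add, Prod.snd_add, Subalgebra.coe_add, Matrix.add_mulVec]
        abel
      map_smul' := by
        intro c p
        simp only [Prod.smul_fst, Prod.smul_snd, Subalgebra.coe_smul, Matrix.smul_mulVec, RingHom.id_apply,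
          smul_add] }
  have hφinj : Function.Injective φ := by
    rw [injective_iff_map_eq_zero]
    intro p hp
    have h := hinj p.1 p.1.2 p.2 p.2.2 hp
    ext1
    · exact Subtype.ext h.1
    · exact Subtype.ext h.2
  have hdim : Module.finrank F (K × K) = Module.finrank F (Fin n → F) := by
    rw [Module.finrank_prod, hfr, Module.finrank_fin_fun, hn]
    omega
  have hφsurj : Function.Surjective φ :=
    (LinearMap.injective_iff_surjective_of_finrank_eq_finrank hdim).1 hφinj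
  obtain ⟨p, hp⟩ := hφsurj x
  exact ⟨p.1, p.1.2, p.2, p.2.2, hp.symm⟩

end Cfsg.Agent.Lib.Helper16.E10M
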