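import Mathlib
import Cfsg.Prelude.Def_GeometricClasses
import Cfsg.Agent.Lib.Helper27.ASC.Defs
import Cfsg.Agent.Lib.helper23.ASCO.Defs
import Cfsg.Agent.Lib.Helper19.ASG.Defs
import Cfsg.Agent.Lib.Helper1.ASGCLIF3
import Cfsg.Agent.Lib.Helper25.ASO.Defs
import Cfsg.Agent.Lib.helper23.ASE.Defs
import Cfsg.Agent.Lib.Lead.ASED1INV

/-!
# Project ASE (leader helper23), piece D1IDEM : for `N` absolutely irreducible of isometries with scalar commutator
subgroup and `x ∈ N` a non-scalar involution, the centraliser `M = C_N(x)` is normalised by `N` and the centre of its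
commutant contains the non-trivial idempotent `(1 + x) / 2`. (`lead`)
-/

set_option autoImplicit false
set_option linter.unusedVariables false
set_option linter.unusedSectionVars false

namespace Cfsg.Agent.Lib.helper23.ASE

open Cfsg Cfsg.Geo Cfsg.Agent.Lib.Helper27.ASC Cfsg.Agent.Lib.helper23.ASCO Cfsg.Agent.Lib.Helper19.ASG
  Cfsg.Agent.Lib.Helper25.ASO
open scoped MatrixGroups Matrix Kronecker
open scoped commutatorElement

variable {n : ℕ} {F : Type*} [Field F] [Fintype F]

/-- anticommuting with `h` means anticommuting with `h⁻¹` -/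
theorem ased1idem_anti_inv (x h : GL (Fin n) F) (hxh : x * h = -(h * x)) : x * h⁻¹ = -(h⁻¹ * x) := by
  calc x * h⁻¹ = h⁻¹ * (h * x) * h⁻¹ := by group
    _ = h⁻¹ * (-(x * h)) * h⁻¹ := by rw [hxh, neg_neg]
    _ = -(h⁻¹ * (x * h) * h⁻¹) := by rw [mul_neg, neg_mul]
    _ = -(h⁻¹ * x) := by
      congr 1
      group

/-- commuting with `h` means commuting with `h⁻¹` -/
theorem ased1idem_comm_inv (x h : GL (Fin n) F) (hxh : x * h = h * x) : x * h⁻¹ = h⁻¹ * x := by
  calc x * h⁻¹ = h⁻¹ * (h * x) * h⁻¹ := by group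
    _ = h⁻¹ * (x * h) * h⁻¹ := by rw [hxh]
    _ = h⁻¹ * x := by group

/-- D1IDEM -/
theorem ed1_idem (hn : 5 ≤ n) (Q : QuadraticForm F (Fin n → F))
    (hQ : (QuadraticMap.polarBilin Q).Nondegenerate) {N : Subgroup (GL (Fin n) F)}
    (hNO : N ≤ isometryGroup F (⇑Q)) (hA : AbsIrr N) (hab : ⁅N, N⁆ ≤ scalars (Fin n) F) :
    ∃ M : Subgroup (GL (Fin n) F), NormalIn M N ∧
      ∃ e₀ ∈ asgZ M, e₀ * e₀ = e₀ ∧ e₀ ≠ 0 ∧ e₀ ≠ 1 := by
  classical
  obtain ⟨h2, x, hxN, hxx, hxZ⟩ := ed1_involution hn Q hQ hNO hA hab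
  obtain ⟨v, hv⟩ := ased1inv_exists_nonsing (by omega) Q hQ
  set X : Matrix (Fin n) (Fin n) F := (x : Matrix (Fin n) (Fin n) F) with hX
  have hXX : X * X = 1 := by
    have := congrArg (fun g : GL (Fin n) F => (g : Matrix (Fin n) (Fin n) F)) hxx
    simpa using this
  let M : Subgroup (GL (Fin n) F) := N ⊓ Subgroup.centralizer {x}
  have hmemM : ∀ g, g ∈ M ↔ g ∈ N ∧ x * g = g * x := by
    intro g
    simp only [M, Subgroup.mem_inf, Subgroup.mem_centralizer_iff, Set.mem_singleton_iff, forall_eq]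
  have hxM : x ∈ M := (hmemM x).mpr ⟨hxN, rfl⟩
  refine ⟨M, ⟨inf_le_left, ?_⟩, ?_⟩
  · intro h hh g hg
    obtain ⟨hgN, hgx⟩ := (hmemM g).mp hg
    refine (hmemM _).mpr ⟨N.mul_mem (N.mul_mem hh hgN) (N.inv_mem hh), ?_⟩
    rcases ased1inv_comm_or Q hv hNO hab x h hxN hh with hc | hc
    · have hi := ased1idem_comm_inv x h hc
      calc x * (h * g * h⁻¹) = (x * h) * g * h⁻¹ := by group
        _ = h * (x * g) * h⁻¹ := by rw [hc]; group
        _ = h * g * (x * h⁻¹) := by rw [hgx]; group
        _ = h * g * h⁻¹ * x := by rw [hi]; group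
    · have hi := ased1idem_anti_inv x h hc
      calc x * (h * g * h⁻¹) = (x * h) * g * h⁻¹ := by group
        _ = -(h * (x * g) * h⁻¹) := by
          rw [hc, neg_mul, neg_mul]
          congr 1
          group
        _ = -(h * g * (x * h⁻¹)) := by
          rw [hgx]
          congr 1
          group
        _ = h * g * h⁻¹ * x := by
          rw [hi, mul_neg, neg_neg]
          group
  · refine ⟨(2 : F)⁻¹ • (1 + X), ?_, ?_, ?_, ?_⟩
    · rw [asgclif_mem_Z]
      constructor
      · rw [Subalgebra.mem_centralizer_iff]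
        rintro s ⟨g, hg, rfl⟩
        obtain ⟨-, hgx⟩ := (hmemM g).mp hg
        have hgX : X * (g : Matrix (Fin n) (Fin n) F) = (g : Matrix (Fin n) (Fin n) F) * X := by
          have := congrArg (fun g : GL (Fin n) F => (g : Matrix (Fin n) (Fin n) F)) hgx
          simpa using this
        rw [mul_smul_comm, smul_mul_assoc, mul_add, add_mul, mul_one, one_mul, hgX]
      · intro c hc
        rw [Subalgebra.mem_centralizer_iff] at hc
        have hcX : X * c = c * X := hc X ⟨x, hxM, rfl⟩
        rw [mul_smul_comm, smul_mul_assoc, mul_add, add_mul, mul_one, one_mul, hcX]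
    · have h1 : (1 + X) * (1 + X) = (2 : F) • (1 + X) := by
        rw [two_smul]
        calc (1 + X) * (1 + X) = 1 + X + X + X * X := by noncomm_ring
          _ = 1 + X + (1 + X) := by rw [hXX]; abel
      rw [smul_mul_smul_comm, h1, smul_smul]
      congr 1
      field_simp
    · intro h0
      have h1 : (1 : Matrix (Fin n) (Fin n) F) + X = 0 := by
        rcases smul_eq_zero.mp h0 with h | h
        · exact absurd h (inv_ne_zero h2)
        · exact h
      apply hxZ
      rw [mem_scalars_iff]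
      refine ⟨-1, ?_⟩
      have : X = -1 := eq_neg_of_add_eq_zero_right h1
      rw [← hX, this]
      simp
    · intro h0
      have h1 : (1 : Matrix (Fin n) (Fin n) F) + X = (2 : F) • 1 := by
        have := congrArg (fun Y : Matrix (Fin n) (Fin n) F => (2 : F) • Y) h0
        simp only [smul_smul, mul_inv_cancel₀ h2, one_smul] at this
        exact this
      apply hxZ
      have hX1 : X = 1 := by
        rw [two_smul] at h1
        exact add_left_cancel h1
      have : x = 1 := Units.ext (by rw [← hX, hX1]; rfl)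
      rw [this]
      exact (scalars (Fin n) F).one_mem

end Cfsg.Agent.Lib.helper23.ASE
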