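import Mathlib
import Cfsg.Agent.Lib.helper15.SL2Card

set_option autoImplicit false
set_option linter.unusedSectionVars false

/-! The subgroup `SL₂(F) ≀ Sₙ` of `Sp₂ₙ(F)` (block-monomial matrices with respect to the decomposition into
the hyperbolic planes `⟨eᵢ, fᵢ⟩`). -/

namespace Cfsg.Agent.Lib.Lead.SpW

open Matrix

variable {F : Type*} [Field F] {n : ℕ}

/-- weighted permutation matrix: column `i` has the entry `a i` in row `σ i` -/
def pm (σ : Equiv.Perm (Fin n)) (a : Fin n → F) : Matrix (Fin n) (Fin n) F :=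
  Matrix.of fun j i => if j = σ i then a i else 0

theorem pm_apply (σ : Equiv.Perm (Fin n)) (a : Fin n → F) (j i : Fin n) :
    pm σ a j i = if j = σ i then a i else 0 := rfl

theorem pm_mul (σ τ : Equiv.Perm (Fin n)) (a b : Fin n → F) :
    pm σ a * pm τ b = pm (σ * τ) (fun i => a (τ i) * b i) := by
  ext j i
  rw [Matrix.mul_apply, Finset.sum_eq_single (τ i)]
  · rw [pm_apply, pm_apply, pm_apply, if_pos rfl]
    by_cases h : j = σ (τ i)
    · rw [if_pos h, if_pos (by rw [Equiv.Perm.mul_apply]; exact h)]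
    · rw [if_neg h, if_neg (by rw [Equiv.Perm.mul_apply]; exact h), zero_mul]
  · intro k _ hk
    rw [pm_apply, pm_apply, if_neg hk, mul_zero]
  · intro h; exact absurd (Finset.mem_univ _) h

theorem pm_add (σ : Equiv.Perm (Fin n)) (a b : Fin n → F) :
    pm σ a + pm σ b = pm σ (fun i => a i + b i) := by
  ext j i
  rw [Matrix.add_apply, pm_apply, pm_apply, pm_apply]
  split_ifs <;> simp

theorem pm_transpose_mul (σ : Equiv.Perm (Fin n)) (a b : Fin n → F) :
    (pm σ a)ᵀ * pm σ b = Matrix.diagonal (fun i => a i * b i) := by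
  ext i i'
  rw [Matrix.mul_apply, Finset.sum_eq_single (σ i)]
  · rw [Matrix.transpose_apply, pm_apply, pm_apply, if_pos rfl, Matrix.diagonal_apply]
    by_cases h : i = i'
    · subst h; rw [if_pos rfl, if_pos rfl]
    · rw [if_neg h, if_neg (fun h' => h (σ.injective h')), mul_zero]
  · intro k _ hk
    rw [Matrix.transpose_apply, pm_apply, if_neg hk, zero_mul]
  · intro h; exact absurd (Finset.mem_univ _) h

theorem pm_one : pm (1 : Equiv.Perm (Fin n)) (fun _ => (1 : F)) = 1 := by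
  ext j i
  rw [pm_apply, Matrix.one_apply, Equiv.Perm.one_apply]

theorem pm_zero (σ : Equiv.Perm (Fin n)) : pm σ (fun _ => (0 : F)) = 0 := by
  ext j i
  rw [pm_apply]; simp

theorem pm_mul_diagonal (σ : Equiv.Perm (Fin n)) (a v : Fin n → F) :
    pm σ a * Matrix.diagonal v = pm σ (fun i => a i * v i) := by
  ext j i
  rw [Matrix.mul_diagonal, pm_apply, pm_apply]
  split_ifs <;> simp

theorem diagonal_mul_pm (σ : Equiv.Perm (Fin n)) (a v : Fin n → F) :
    Matrix.diagonal v * pm σ a = pm σ (fun i => v (σ i) * a i) := by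
  ext j i
  rw [Matrix.diagonal_mul, pm_apply, pm_apply]
  by_cases h : j = σ i
  · rw [if_pos h, if_pos h, h]
  · rw [if_neg h, if_neg h, mul_zero]

/-- the block-monomial matrix with permutation `σ` and local `2 × 2` blocks `A i` -/
def wMat (σ : Equiv.Perm (Fin n)) (A : Fin n → Matrix (Fin 2) (Fin 2) F) :
    Matrix (Fin n ⊕ Fin n) (Fin n ⊕ Fin n) F :=
  Matrix.fromBlocks (pm σ (fun i => A i 0 0)) (pm σ (fun i => A i 0 1))
    (pm σ (fun i => A i 1 0)) (pm σ (fun i => A i 1 1))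

theorem wMat_mul (σ τ : Equiv.Perm (Fin n)) (A B : Fin n → Matrix (Fin 2) (Fin 2) F) :
    wMat σ A * wMat τ B = wMat (σ * τ) (fun i => A (τ i) * B i) := by
  unfold wMat
  rw [Matrix.fromBlocks_multiply]
  simp only [pm_mul, pm_add, Matrix.mul_apply, Fin.sum_univ_two]

theorem wMat_one : wMat (1 : Equiv.Perm (Fin n)) (fun _ => (1 : Matrix (Fin 2) (Fin 2) F)) = 1 := by
  unfold wMat
  simp only [Matrix.one_apply_eq, Matrix.one_apply_ne (show (0 : Fin 2) ≠ 1 by decide),
    Matrix.one_apply_ne (show (1 : Fin 2) ≠ 0 by decide), pm_one, pm_zero]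
  exact Matrix.fromBlocks_one

theorem wMat_mem (σ : Equiv.Perm (Fin n)) (A : Fin n → Matrix (Fin 2) (Fin 2) F)
    (hA : ∀ i, (A i).det = 1) : wMat σ A ∈ Matrix.symplecticGroup (Fin n) F := by
  unfold wMat
  rw [SymplecticGroup.fromBlocks_mem_iff]
  refine ⟨?_, ?_, ?_⟩
  · rw [pm_transpose_mul, pm_transpose_mul]
    congr 1; funext i; ring
  · rw [pm_transpose_mul, pm_transpose_mul]
    congr 1; funext i; ring
  · rw [pm_transpose_mul, pm_transpose_mul, Matrix.diagonal_sub, ← Matrix.diagonal_one]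
    congr 1; funext i
    have := hA i
    rw [Matrix.det_fin_two] at this
    show A i 0 0 * A i 1 1 - A i 1 0 * A i 0 1 = 1
    linear_combination this

/-- the element of `Sp₂ₙ(F)` -/
def W (σ : Equiv.Perm (Fin n)) (A : Fin n → Matrix.SpecialLinearGroup (Fin 2) F) :
    Matrix.symplecticGroup (Fin n) F :=
  ⟨wMat σ (fun i => (A i).1), wMat_mem σ _ (fun i => (A i).2)⟩

theorem W_coe (σ : Equiv.Perm (Fin n)) (A : Fin n → Matrix.SpecialLinearGroup (Fin 2) F) :
    ((W σ A : Matrix.symplecticGroup (Fin n) F) : Matrix (Fin n ⊕ Fin n) (Fin n ⊕ Fin n) F) =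
      wMat σ (fun i => (A i).1) := rfl

theorem W_mul (σ τ : Equiv.Perm (Fin n)) (A B : Fin n → Matrix.SpecialLinearGroup (Fin 2) F) :
    W σ A * W τ B = W (σ * τ) (fun i => A (τ i) * B i) := by
  apply Subtype.ext
  rw [Submonoid.coe_mul, W_coe, W_coe, W_coe, wMat_mul]
  rfl

theorem W_one : W (1 : Equiv.Perm (Fin n)) (fun _ => (1 : Matrix.SpecialLinearGroup (Fin 2) F)) = 1 := by
  apply Subtype.ext
  rw [W_coe]
  exact wMat_one

theorem W_inv (σ : Equiv.Perm (Fin n)) (A : Fin n → Matrix.SpecialLinearGroup (Fin 2) F) :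
    (W σ A)⁻¹ = W σ⁻¹ (fun i => (A (σ⁻¹ i))⁻¹) := by
  symm
  apply eq_inv_of_mul_eq_one_right
  rw [W_mul]
  have h1 : σ * σ⁻¹ = 1 := mul_inv_cancel σ
  rw [h1]
  have h2 : (fun i => A (σ⁻¹ i) * (A (σ⁻¹ i))⁻¹) = fun _ => (1 : Matrix.SpecialLinearGroup (Fin 2) F) := by
    funext i; exact mul_inv_cancel _
  rw [h2, W_one]

/-- the subgroup `SL₂ ≀ Sₙ` -/
def H (F : Type*) [Field F] (n : ℕ) : Subgroup (Matrix.symplecticGroup (Fin n) F) where
  carrier := {M | ∃ σ A, M = W σ A}
  one_mem' := ⟨1, _, W_one.symm⟩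
  mul_mem' := by
    rintro _ _ ⟨σ, A, rfl⟩ ⟨τ, B, rfl⟩
    exact ⟨_, _, W_mul σ τ A B⟩
  inv_mem' := by
    rintro _ ⟨σ, A, rfl⟩
    exact ⟨_, _, W_inv σ A⟩

theorem mem_H (M : Matrix.symplecticGroup (Fin n) F) : M ∈ H F n ↔ ∃ σ A, M = W σ A := Iff.rfl

theorem W_injective : Function.Injective
    (fun p : Equiv.Perm (Fin n) × (Fin n → Matrix.SpecialLinearGroup (Fin 2) F) => W p.1 p.2) := by
  rintro ⟨σ, A⟩ ⟨τ, B⟩ h
  have h0 : wMat σ (fun i => (A i).1) = wMat τ (fun i => (B i).1) := congrArg Subtype.val h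
  have hστ : σ = τ := by
    ext i
    by_contra hne
    have hne' : σ i ≠ τ i := fun h' => hne (congrArg Fin.val h')
    have e1 := congrFun (congrFun h0 (Sum.inl (σ i))) (Sum.inl i)
    have e2 := congrFun (congrFun h0 (Sum.inr (σ i))) (Sum.inl i)
    simp only [wMat, Matrix.fromBlocks_apply₁₁, Matrix.fromBlocks_apply₂₁, pm_apply, if_true,
      if_neg hne'] at e1 e2
    have hd := (A i).2
    rw [Matrix.det_fin_two, e1, e2] at hd
    simp at hd
  subst hστ
  have hAB : A = B := by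
    funext i
    apply Subtype.ext
    ext x y
    fin_cases x <;> fin_cases y
    · have e := congrFun (congrFun h0 (Sum.inl (σ i))) (Sum.inl i)
      simpa [wMat, pm_apply] using e
    · have e := congrFun (congrFun h0 (Sum.inl (σ i))) (Sum.inr i)
      simpa [wMat, pm_apply] using e
    · have e := congrFun (congrFun h0 (Sum.inr (σ i))) (Sum.inl i)
      simpa [wMat, pm_apply] using e
    · have e := congrFun (congrFun h0 (Sum.inr (σ i))) (Sum.inr i)
      simpa [wMat, pm_apply] using e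
  rw [hAB]

theorem card_H [Fintype F] : Nat.card (H F n) =
    n.factorial * (Fintype.card F * (Fintype.card F ^ 2 - 1)) ^ n := by
  classical
  let f : Equiv.Perm (Fin n) × (Fin n → Matrix.SpecialLinearGroup (Fin 2) F) → H F n :=
    fun p => ⟨W p.1 p.2, p.1, p.2, rfl⟩
  have hf : Function.Bijective f := by
    constructor
    · intro p q hpq
      exact W_injective (congrArg Subtype.val hpq)
    · rintro ⟨M, σ, A, rfl⟩
      exact ⟨(σ, A), rfl⟩
  rw [← Nat.card_congr (Equiv.ofBijective f hf), Nat.card_prod, Nat.card_perm, Nat.card_fin,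
    Nat.card_fun, Nat.card_fin, Cfsg.Agent.Lib.helper15.card_SL2]

end Cfsg.Agent.Lib.Lead.SpW
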