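import Mathlib
import Cfsg.Agent.Lib.Lead.SpWreathA
import Cfsg.Agent.Lib.Lead.SympCount

set_option autoImplicit false
set_option linter.unusedSectionVars false

/-! `SL₂(q) ≀ Sₙ` has odd index in `Sp₂ₙ(q)` for `q` odd: it contains a Sylow 2-subgroup. -/

namespace Cfsg.Agent.Lib.Lead.SpW

open Matrix Cfsg.Agent.Lib.Lead

theorem v2_pow {q : ℕ} (hq : Odd q) (hq1 : 1 < q) (j : ℕ) (hj : j ≠ 0) :
    padicValNat 2 (q ^ (2 * j) - 1) = padicValNat 2 (q ^ 2 - 1) + padicValNat 2 j := by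
  have hx : ¬ 2 ∣ q := by
    rw [← even_iff_two_dvd, Nat.not_even_iff_odd]; exact hq
  have h1 := padicValNat.pow_two_sub_one hq1 hx (n := 2 * j) (by omega) ⟨j, by ring⟩
  have h2 := padicValNat.pow_two_sub_one hq1 hx (n := 2) (by omega) ⟨1, by ring⟩
  have : Fact (Nat.Prime 2) := ⟨Nat.prime_two⟩
  have h3 : padicValNat 2 (2 * j) = 1 + padicValNat 2 j := by
    rw [padicValNat.mul (by norm_num) hj, padicValNat_self]
  have h4 : padicValNat 2 2 = 1 := padicValNat_self
  omega

theorem v2_odd_pow {q : ℕ} (hq : Odd q) (k : ℕ) : padicValNat 2 (q ^ k) = 0 := by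
  apply padicValNat.eq_zero_of_not_dvd
  rw [← even_iff_two_dvd, Nat.not_even_iff_odd]
  exact hq.pow

theorem v2_prod {q : ℕ} (hq : Odd q) (hq1 : 1 < q) (n : ℕ) :
    padicValNat 2 (∏ i ∈ Finset.range n, ((q ^ (2 * (i + 1)) - 1) * q ^ (2 * (i + 1) - 1))) =
      n * padicValNat 2 (q ^ 2 - 1) + padicValNat 2 n.factorial := by
  have : Fact (Nat.Prime 2) := ⟨Nat.prime_two⟩
  have hpos : ∀ i, (q ^ (2 * (i + 1)) - 1) * q ^ (2 * (i + 1) - 1) ≠ 0 := by
    intro i
    have h1 : 1 < q ^ (2 * (i + 1)) := Nat.one_lt_pow (by omega) hq1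
    have h2 : 0 < q ^ (2 * (i + 1) - 1) := Nat.pos_of_ne_zero (by positivity)
    exact Nat.mul_ne_zero (by omega) (by omega)
  induction n with
  | zero => simp
  | succ n ih =>
    rw [Finset.prod_range_succ, padicValNat.mul (Finset.prod_ne_zero_iff.mpr (fun i _ => hpos i)) (hpos n),
      ih, padicValNat.mul (by
        have h1 : 1 < q ^ (2 * (n + 1)) := Nat.one_lt_pow (by omega) hq1
        omega) (by positivity), v2_pow hq hq1 (n + 1) (by omega), v2_odd_pow hq,
      Nat.factorial_succ, padicValNat.mul (by omega) (Nat.factorial_ne_zero n)]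
    ring

variable {F : Type*} [Field F] [Fintype F]

theorem prod_reindex (n : ℕ) (g : ℕ → ℕ) :
    ∏ i ∈ Finset.range n, g (n - i) = ∏ i ∈ Finset.range n, g (i + 1) := by
  rw [← Finset.prod_range_reflect]
  apply Finset.prod_congr rfl
  intro i hi
  rw [Finset.mem_range] at hi
  congr 1
  omega

theorem v2_card_Sp (hF : Odd (Fintype.card F)) (n : ℕ) :
    padicValNat 2 (Nat.card (Matrix.symplecticGroup (Fin n) F)) =
      n * padicValNat 2 (Fintype.card F ^ 2 - 1) + padicValNat 2 n.factorial := by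
  classical
  rw [card_Sp_eq_prod,
    prod_reindex n (fun j => (Fintype.card F ^ (2 * j) - 1) * Fintype.card F ^ (2 * j - 1))]
  exact v2_prod hF Fintype.one_lt_card n

theorem v2_card_H (hF : Odd (Fintype.card F)) (n : ℕ) :
    padicValNat 2 (Nat.card (H F n)) =
      n * padicValNat 2 (Fintype.card F ^ 2 - 1) + padicValNat 2 n.factorial := by
  have : Fact (Nat.Prime 2) := ⟨Nat.prime_two⟩
  have hq1 : 1 < Fintype.card F := Fintype.one_lt_card
  have h1 : 1 < Fintype.card F ^ 2 := Nat.one_lt_pow (by omega) hq1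
  have hne : Fintype.card F * (Fintype.card F ^ 2 - 1) ≠ 0 := Nat.mul_ne_zero (by omega) (by omega)
  rw [card_H, padicValNat.mul (Nat.factorial_ne_zero n) (pow_ne_zero _ hne), padicValNat.pow,
    padicValNat.mul (by omega) (by omega)]
  have := v2_odd_pow hF 1
  rw [pow_one] at this
  rw [this]
  ring

/-- some Sylow 2-subgroup of `Sp₂ₙ(q)` lies in `SL₂(q) ≀ Sₙ` -/
theorem exists_sylow_le_H (hF : Odd (Fintype.card F)) (n : ℕ) :
    ∃ P : Sylow 2 (Matrix.symplecticGroup (Fin n) F),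
      (P : Subgroup (Matrix.symplecticGroup (Fin n) F)) ≤ H F n := by
  have : Fact (Nat.Prime 2) := ⟨Nat.prime_two⟩
  obtain ⟨P0⟩ : Nonempty (Sylow 2 (H F n)) := inferInstance
  have hc : Nat.card ((P0 : Subgroup (H F n)).map (H F n).subtype) =
      2 ^ (Nat.card (Matrix.symplecticGroup (Fin n) F)).factorization 2 := by
    rw [Subgroup.card_map_of_injective (Subgroup.subtype_injective _), P0.card_eq_multiplicity,
      Nat.factorization_def _ Nat.prime_two, Nat.factorization_def _ Nat.prime_two,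
      v2_card_Sp hF, v2_card_H hF]
  refine ⟨Sylow.ofCard _ hc, ?_⟩
  rw [Sylow.coe_ofCard]
  exact Subgroup.map_subtype_le _

end Cfsg.Agent.Lib.Lead.SpW
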