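import Mathlib
import Cfsg.Prelude.Def_Classical
import Cfsg.Agent.Lib.Lead.Reindex
import Cfsg.Agent.Lib.Lead.SLn

set_option autoImplicit false

namespace Cfsg.Agent.Lib.Lead.PO6

open Cfsg Matrix

variable {F : Type*} [Field F]

/-- first index of the `k`-th oriented pair: pairs are `01, 02, 03, 23, 31, 12` -/
def pa : Fin 6 → Fin 4 := ![0, 0, 0, 2, 3, 1]
/-- second index of the `k`-th oriented pair -/
def pb : Fin 6 → Fin 4 := ![1, 2, 3, 3, 1, 2]

/-- the second exterior power of a `4×4` matrix, in the basis `e01, e02, e03, e23, e31, e12` -/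
def R6 (A : Matrix (Fin 4) (Fin 4) F) : Matrix (Fin 6) (Fin 6) F :=
  Matrix.of fun k l => A (pa k) (pa l) * A (pb k) (pb l) - A (pa k) (pb l) * A (pb k) (pa l)

theorem R6_one : R6 (1 : Matrix (Fin 4) (Fin 4) F) = 1 := by
  ext k l
  fin_cases k <;> fin_cases l <;> simp [R6, Matrix.one_apply, pa, pb]

theorem minor_mul (A B : Matrix (Fin 4) (Fin 4) F) (r1 r2 c1 c2 : Fin 4) :
    (A * B) r1 c1 * (A * B) r2 c2 - (A * B) r1 c2 * (A * B) r2 c1 =
      ∑ m : Fin 6, (A r1 (pa m) * A r2 (pb m) - A r1 (pb m) * A r2 (pa m)) *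
        (B (pa m) c1 * B (pb m) c2 - B (pa m) c2 * B (pb m) c1) := by
  simp only [Matrix.mul_apply, Fin.sum_univ_four, Fin.sum_univ_six, pa, pb]
  simp
  ring

theorem R6_mul (A B : Matrix (Fin 4) (Fin 4) F) : R6 (A * B) = R6 A * R6 B := by
  ext k l
  rw [Matrix.mul_apply]
  simp only [R6, Matrix.of_apply]
  exact minor_mul A B _ _ _ _

/-- the quadratic form `w0 w3 + w1 w4 + w2 w5` on `Fin 6 → F` -/
def Q6 (w : Fin 6 → F) : F := w 0 * w 3 + w 1 * w 4 + w 2 * w 5

theorem det4 (A : Matrix (Fin 4) (Fin 4) F) :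
    A.det = (A 0 0 * A 1 1 - A 0 1 * A 1 0) * (A 2 2 * A 3 3 - A 2 3 * A 3 2)
      - (A 0 0 * A 1 2 - A 0 2 * A 1 0) * (A 2 1 * A 3 3 - A 2 3 * A 3 1)
      + (A 0 0 * A 1 3 - A 0 3 * A 1 0) * (A 2 1 * A 3 2 - A 2 2 * A 3 1)
      + (A 0 1 * A 1 2 - A 0 2 * A 1 1) * (A 2 0 * A 3 3 - A 2 3 * A 3 0)
      - (A 0 1 * A 1 3 - A 0 3 * A 1 1) * (A 2 0 * A 3 2 - A 2 2 * A 3 0)
      + (A 0 2 * A 1 3 - A 0 3 * A 1 2) * (A 2 0 * A 3 1 - A 2 1 * A 3 0) := by
  rw [Matrix.det_succ_row_zero]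
  simp only [Fin.sum_univ_four, Matrix.det_fin_three]
  simp [Fin.succAbove]
  ring

theorem Q6_R6 (A : Matrix (Fin 4) (Fin 4) F) (w : Fin 6 → F) :
    Q6 (R6 A *ᵥ w) = A.det * Q6 w := by
  rw [det4]
  simp only [Q6, R6, Matrix.mulVec, dotProduct, Fin.sum_univ_six, Matrix.of_apply, pa, pb]
  simp
  ring

/-- `R6` as a monoid hom -/
def R6hom : Matrix (Fin 4) (Fin 4) F →* Matrix (Fin 6) (Fin 6) F where
  toFun := R6
  map_one' := R6_one
  map_mul' := R6_mul

/-- the index equivalence -/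
def e6 : Fin 6 ≃ Fin 3 ⊕ Fin 3 where
  toFun i := if i = 0 then Sum.inl 0 else if i = 1 then Sum.inl 1 else
    if i = 2 then Sum.inl 2 else if i = 3 then Sum.inr 0 else if i = 4 then Sum.inr 1 else Sum.inr 2
  invFun x := match x with
    | Sum.inl i => if i = 0 then 0 else if i = 1 then 1 else 2
    | Sum.inr i => if i = 0 then 3 else if i = 1 then 4 else 5
  left_inv i := by fin_cases i <;> rfl
  right_inv x := by
    rcases x with x | x <;> fin_cases x <;> rfl

theorem quadFormPlus_comp (y : Fin 6 → F) :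
    Cfsg.quadFormPlus 3 F (y ∘ e6.symm) = Q6 y := by
  simp [Cfsg.quadFormPlus, Q6, e6, Fin.sum_univ_three]

/-- `SL₄(F) → GL₆(F)` (indexed by `Fin 3 ⊕ Fin 3`) -/
noncomputable def rhoGL : Matrix.SpecialLinearGroup (Fin 4) F →* GL (Fin 3 ⊕ Fin 3) F :=
  ((RI.glReindex (F := F) e6).toMonoidHom.comp (Units.map R6hom)).comp
    Matrix.SpecialLinearGroup.toGL

theorem rhoGL_coe (A : Matrix.SpecialLinearGroup (Fin 4) F) :
    ((rhoGL A : GL (Fin 3 ⊕ Fin 3) F) : Matrix _ _ F) =
      Matrix.reindex e6 e6 (R6 (A : Matrix (Fin 4) (Fin 4) F)) := rfl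

theorem rhoGL_mem (A : Matrix.SpecialLinearGroup (Fin 4) F) :
    rhoGL A ∈ Cfsg.isometryGroup F (Cfsg.quadFormPlus 3 F) := by
  rw [RI.mem_iso_iff']
  intro x
  rw [rhoGL_coe, RI.reindex_mulVec, quadFormPlus_comp, Q6_R6, A.det_coe, one_mul,
    ← quadFormPlus_comp]
  congr 1
  funext i; simp

/-- `SL₄(F) → GO₆⁺(F)` -/
noncomputable def rho : Matrix.SpecialLinearGroup (Fin 4) F →*
    ↥(Cfsg.isometryGroup F (Cfsg.quadFormPlus 3 F)) :=
  rhoGL.codRestrict _ rhoGL_mem

theorem rho_eq_one_iff (A : Matrix.SpecialLinearGroup (Fin 4) F) :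
    rho A = 1 ↔ R6 (A : Matrix (Fin 4) (Fin 4) F) = 1 := by
  rw [Subtype.ext_iff]
  change rhoGL A = 1 ↔ _
  unfold rhoGL
  rw [MonoidHom.comp_apply, MonoidHom.comp_apply]
  change (RI.glReindex (F := F) e6) _ = 1 ↔ _
  rw [MulEquiv.map_eq_one_iff, Units.ext_iff]
  rfl

theorem minor_eq (M : Matrix (Fin 4) (Fin 4) F) (h : R6 M = 1) (k l : Fin 6) :
    M (pa k) (pa l) * M (pb k) (pb l) - M (pa k) (pb l) * M (pb k) (pa l) =
      (1 : Matrix (Fin 6) (Fin 6) F) k l := by
  have := congrFun (congrFun h k) l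
  simpa [R6] using this

/-- the kernel of `R6` on invertible matrices consists of scalars `a` with `a² = 1` -/
theorem ker_scalar (M : Matrix (Fin 4) (Fin 4) F) (h : R6 M = 1) :
    ∃ a : F, a ^ 2 = 1 ∧ Matrix.scalar (Fin 4) a = M := by
  have E00 : M 0 0 * M 1 1 - M 0 1 * M 1 0 = 1 := by
    have := minor_eq M h 0 0
    simpa [pa, pb, Matrix.one_apply] using this
  have E01 : M 0 0 * M 1 2 - M 0 2 * M 1 0 = 0 := by
    have := minor_eq M h 0 1
    simpa [pa, pb, Matrix.one_apply] using this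
  have E02 : M 0 0 * M 1 3 - M 0 3 * M 1 0 = 0 := by
    have := minor_eq M h 0 2
    simpa [pa, pb, Matrix.one_apply] using this
  have E04 : M 0 3 * M 1 1 - M 0 1 * M 1 3 = 0 := by
    have := minor_eq M h 0 4
    simpa [pa, pb, Matrix.one_apply] using this
  have E05 : M 0 1 * M 1 2 - M 0 2 * M 1 1 = 0 := by
    have := minor_eq M h 0 5
    simpa [pa, pb, Matrix.one_apply] using this
  have E10 : M 0 0 * M 2 1 - M 0 1 * M 2 0 = 0 := by
    have := minor_eq M h 1 0
    simpa [pa, pb, Matrix.one_apply] using this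
  have E11 : M 0 0 * M 2 2 - M 0 2 * M 2 0 = 1 := by
    have := minor_eq M h 1 1
    simpa [pa, pb, Matrix.one_apply] using this
  have E12 : M 0 0 * M 2 3 - M 0 3 * M 2 0 = 0 := by
    have := minor_eq M h 1 2
    simpa [pa, pb, Matrix.one_apply] using this
  have E15 : M 0 1 * M 2 2 - M 0 2 * M 2 1 = 0 := by
    have := minor_eq M h 1 5
    simpa [pa, pb, Matrix.one_apply] using this
  have E20 : M 0 0 * M 3 1 - M 0 1 * M 3 0 = 0 := by
    have := minor_eq M h 2 0
    simpa [pa, pb, Matrix.one_apply] using this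
  have E21 : M 0 0 * M 3 2 - M 0 2 * M 3 0 = 0 := by
    have := minor_eq M h 2 1
    simpa [pa, pb, Matrix.one_apply] using this
  have E22 : M 0 0 * M 3 3 - M 0 3 * M 3 0 = 1 := by
    have := minor_eq M h 2 2
    simpa [pa, pb, Matrix.one_apply] using this
  have E24 : M 0 3 * M 3 1 - M 0 1 * M 3 3 = 0 := by
    have := minor_eq M h 2 4
    simpa [pa, pb, Matrix.one_apply] using this
  have E31 : M 2 0 * M 3 2 - M 2 2 * M 3 0 = 0 := by
    have := minor_eq M h 3 1
    simpa [pa, pb, Matrix.one_apply] using this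
  have E32 : M 2 0 * M 3 3 - M 2 3 * M 3 0 = 0 := by
    have := minor_eq M h 3 2
    simpa [pa, pb, Matrix.one_apply] using this
  have E40 : M 3 0 * M 1 1 - M 3 1 * M 1 0 = 0 := by
    have := minor_eq M h 4 0
    simpa [pa, pb, Matrix.one_apply] using this
  have E42 : M 3 0 * M 1 3 - M 3 3 * M 1 0 = 0 := by
    have := minor_eq M h 4 2
    simpa [pa, pb, Matrix.one_apply] using this
  have E44 : M 3 3 * M 1 1 - M 3 1 * M 1 3 = 1 := by
    have := minor_eq M h 4 4
    simpa [pa, pb, Matrix.one_apply] using this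
  have E50 : M 1 0 * M 2 1 - M 1 1 * M 2 0 = 0 := by
    have := minor_eq M h 5 0
    simpa [pa, pb, Matrix.one_apply] using this
  have E51 : M 1 0 * M 2 2 - M 1 2 * M 2 0 = 0 := by
    have := minor_eq M h 5 1
    simpa [pa, pb, Matrix.one_apply] using this
  have E55 : M 1 1 * M 2 2 - M 1 2 * M 2 1 = 1 := by
    have := minor_eq M h 5 5
    simpa [pa, pb, Matrix.one_apply] using this
  have z01 : M 0 1 = 0 := by
    linear_combination -(M 0 1) * E55 + (M 1 1) * E15 - (M 2 1) * E05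
  have z02 : M 0 2 = 0 := by
    linear_combination -(M 0 2) * E55 - (M 2 2) * E05 + (M 1 2) * E15
  have z03 : M 0 3 = 0 := by
    linear_combination -(M 0 3) * E44 + (M 3 3) * E04 - (M 1 3) * E24
  have z10 : M 1 0 = 0 := by
    linear_combination -(M 1 0) * E11 + (M 0 0) * E51 + (M 2 0) * E01
  have z12 : M 1 2 = 0 := by
    linear_combination -(M 1 2) * E11 + (M 2 2) * E01 + (M 0 2) * E51
  have z13 : M 1 3 = 0 := by
    linear_combination -(M 1 3) * E22 + (M 3 3) * E02 - (M 0 3) * E42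
  have z20 : M 2 0 = 0 := by
    linear_combination -(M 2 0) * E00 - (M 0 0) * E50 + (M 1 0) * E10
  have z21 : M 2 1 = 0 := by
    linear_combination -(M 2 1) * E00 + (M 1 1) * E10 - (M 0 1) * E50
  have z23 : M 2 3 = 0 := by
    linear_combination -(M 2 3) * E22 + (M 3 3) * E12 + (M 0 3) * E32
  have z30 : M 3 0 = 0 := by
    linear_combination -(M 3 0) * E00 + (M 0 0) * E40 + (M 1 0) * E20
  have z31 : M 3 1 = 0 := by
    linear_combination -(M 3 1) * E00 + (M 1 1) * E20 + (M 0 1) * E40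
  have z32 : M 3 2 = 0 := by
    linear_combination -(M 3 2) * E11 + (M 2 2) * E21 - (M 0 2) * E31
  rw [z01, z10, mul_zero, sub_zero] at E00
  rw [z02, z20, mul_zero, sub_zero] at E11
  rw [z03, z30, mul_zero, sub_zero] at E22
  rw [z12, z21, mul_zero, sub_zero] at E55
  have h0 : M 0 0 ≠ 0 := by
    intro h0; rw [h0, zero_mul] at E00; exact zero_ne_one E00
  have e2 : M 2 2 = M 1 1 := mul_left_cancel₀ h0 (by rw [E11, E00])
  have e3 : M 3 3 = M 1 1 := mul_left_cancel₀ h0 (by rw [E22, E00])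
  rw [e2] at E55
  have h1 : M 1 1 ≠ 0 := by
    intro h1; rw [h1, zero_mul] at E55; exact zero_ne_one E55
  have e0 : M 0 0 = M 1 1 := mul_right_cancel₀ h1 (by rw [E00, E55])
  refine ⟨M 1 1, by rw [sq]; exact E55, ?_⟩
  ext i j
  fin_cases i <;> fin_cases j <;>
    simp [e0, e2, e3, z01, z02, z03, z10, z12, z13, z20, z21, z23, z30, z31, z32]

/-- if `mk (x g) = mk (g x)` in `PSL₄`, then `g x = ε x g` with `ε⁴ = 1` -/
theorem comm_mod_center (g x : Matrix.SpecialLinearGroup (Fin 4) F)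
    (h : (QuotientGroup.mk (x * g) : Matrix.ProjectiveSpecialLinearGroup (Fin 4) F) =
      QuotientGroup.mk (g * x)) :
    ∃ ε : F, ε ^ 4 = 1 ∧ ((g * x : Matrix.SpecialLinearGroup (Fin 4) F) : Matrix (Fin 4) (Fin 4) F) =
      ε • ((x * g : Matrix.SpecialLinearGroup (Fin 4) F) : Matrix (Fin 4) (Fin 4) F) := by
  rw [QuotientGroup.eq, Matrix.SpecialLinearGroup.mem_center_iff] at h
  obtain ⟨ε, hε, hs⟩ := h
  refine ⟨ε, by simpa using hε, ?_⟩
  have h1 : ((g * x : Matrix.SpecialLinearGroup (Fin 4) F) : Matrix (Fin 4) (Fin 4) F) =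
      ((x * g : Matrix.SpecialLinearGroup (Fin 4) F) : Matrix (Fin 4) (Fin 4) F) *
        (((x * g)⁻¹ * (g * x) : Matrix.SpecialLinearGroup (Fin 4) F) : Matrix (Fin 4) (Fin 4) F) := by
    rw [← Matrix.SpecialLinearGroup.coe_mul, mul_inv_cancel_left]
  rw [h1, ← hs, Matrix.scalar_apply, ← Matrix.smul_one_eq_diagonal, Matrix.mul_smul, Matrix.mul_one]

theorem eps_eq_one (ε : F) (h4 : ε ^ 4 = 1) (htr : (4 : F) = ε * 4) : ε = 1 := by
  by_cases h2 : (2 : F) = 0
  · have : (ε - 1) ^ 4 = 0 := by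
      have e : (ε - 1) ^ 4 = ε ^ 4 - 1 - 2 * (2 * ε ^ 3 - 3 * ε ^ 2 + 2 * ε - 1) := by ring
      rw [e, h4, h2]; ring
    exact sub_eq_zero.mp (pow_eq_zero_iff (by norm_num) |>.mp this)
  · have h4' : (4 : F) ≠ 0 := by
      have : (4 : F) = 2 * 2 := by norm_num
      rw [this]; exact mul_ne_zero h2 h2
    have : (1 - ε) * 4 = 0 := by linear_combination htr
    rcases mul_eq_zero.mp this with h | h
    · exact (sub_eq_zero.mp h).symm
    · exact absurd h h4'

theorem center_psl4 :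
    Subgroup.center (Matrix.ProjectiveSpecialLinearGroup (Fin 4) F) = ⊥ := by
  rw [eq_bot_iff]
  intro z hz
  rw [Subgroup.mem_bot]
  induction z using QuotientGroup.induction_on with
  | H g =>
    rw [QuotientGroup.eq_one_iff]
    have hcomm : ∀ x : Matrix.SpecialLinearGroup (Fin 4) F,
        (QuotientGroup.mk (x * g) : Matrix.ProjectiveSpecialLinearGroup (Fin 4) F) =
          QuotientGroup.mk (g * x) := by
      intro x
      have := Subgroup.mem_center_iff.mp hz (QuotientGroup.mk x)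
      rw [QuotientGroup.mk_mul, QuotientGroup.mk_mul]
      exact this
    -- `g` commutes with every transvection
    have htr : ∀ (i j : Fin 4) (hij : i ≠ j) (c : F),
        g * Matrix.SpecialLinearGroup.transvection hij c =
          Matrix.SpecialLinearGroup.transvection hij c * g := by
      intro i j hij c
      set x := Matrix.SpecialLinearGroup.transvection hij c with hx
      obtain ⟨ε, hε4, hε⟩ := comm_mod_center g x (hcomm x)
      have h1 : ε = 1 := by
        apply eps_eq_one ε hε4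
        -- trace of `g x g⁻¹` equals trace of `x`
        have e1 : ((g * x * g⁻¹ : Matrix.SpecialLinearGroup (Fin 4) F) :
            Matrix (Fin 4) (Fin 4) F) = ε • (x : Matrix (Fin 4) (Fin 4) F) := by
          rw [Matrix.SpecialLinearGroup.coe_mul, hε, Matrix.SpecialLinearGroup.coe_mul,
            Matrix.smul_mul, Matrix.mul_assoc, ← Matrix.SpecialLinearGroup.coe_mul,
            mul_inv_cancel, Matrix.SpecialLinearGroup.coe_one, Matrix.mul_one]
        have e2 : Matrix.trace ((g * x * g⁻¹ : Matrix.SpecialLinearGroup (Fin 4) F) :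
            Matrix (Fin 4) (Fin 4) F) = Matrix.trace (x : Matrix (Fin 4) (Fin 4) F) := by
          rw [Matrix.SpecialLinearGroup.coe_mul, Matrix.trace_mul_comm,
            ← Matrix.SpecialLinearGroup.coe_mul, inv_mul_cancel_left]
        have e3 : Matrix.trace (x : Matrix (Fin 4) (Fin 4) F) = 4 := by
          rw [hx, Matrix.SpecialLinearGroup.transvection_coe, Matrix.trace_add, Matrix.trace_one,
            Matrix.trace_single_eq_of_ne _ _ _ hij, add_zero]
          simp
        rw [e1, Matrix.trace_smul, e3, smul_eq_mul] at e2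
        exact e2.symm
      rw [h1, one_smul] at hε
      exact Subtype.ext hε
    rw [Subgroup.mem_center_iff]
    intro y
    refine SL_transvection_induction (fun y => y * g = g * y) ?_ ?_ y
    · intro i j hij c
      exact (htr i j hij c).symm
    · intro A B hA hB
      rw [mul_assoc, hB, ← mul_assoc, hA, mul_assoc]

end Cfsg.Agent.Lib.Lead.PO6
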