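import Mathlib
import Cfsg.Prelude.Def_Classical
import Cfsg.Agent.Lib.Lead.Reindex
import Cfsg.Agent.Lib.Lead.PSL4Orth
import Cfsg.Agent.Lib.Lead.PSL2Orth4

set_option autoImplicit false
set_option linter.unusedSectionVars false

namespace Cfsg.Agent.Lib.Lead.PO5

open Cfsg Matrix

variable {F : Type*} [Field F]

/-- reindexing `Fin 2 ⊕ Fin 2` to `Fin 4` -/
def toFin4 : Matrix (Fin 2 ⊕ Fin 2) (Fin 2 ⊕ Fin 2) F →* Matrix (Fin 4) (Fin 4) F :=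
  (Matrix.reindexAlgEquiv F F PO4.e4.symm).toMulEquiv.toMonoidHom

theorem toFin4_apply (A : Matrix (Fin 2 ⊕ Fin 2) (Fin 2 ⊕ Fin 2) F) (i j : Fin 4) :
    toFin4 A i j = A (PO4.e4 i) (PO4.e4 j) := rfl

theorem toFin4_injective :
    Function.Injective (toFin4 : Matrix (Fin 2 ⊕ Fin 2) (Fin 2 ⊕ Fin 2) F → _) :=
  (Matrix.reindexAlgEquiv F F PO4.e4.symm).injective

/-- the bivector of the symplectic form -/
def jv : Fin 6 → F := ![0, -1, 0, 0, 1, 0]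

theorem symp_entry (A : Matrix (Fin 2 ⊕ Fin 2) (Fin 2 ⊕ Fin 2) F)
    (h : A ∈ Matrix.symplecticGroup (Fin 2) F) (x y : Fin 2 ⊕ Fin 2) :
    (A x (Sum.inr 0) * A y (Sum.inl 0) - A x (Sum.inl 0) * A y (Sum.inr 0))
    + (A x (Sum.inr 1) * A y (Sum.inl 1) - A x (Sum.inl 1) * A y (Sum.inr 1)) =
      Matrix.J (Fin 2) F x y := by
  rw [SymplecticGroup.mem_iff] at h
  have := congrFun (congrFun h x) y
  rw [← this]
  simp [Matrix.mul_apply, Fintype.sum_sum_type, Fin.sum_univ_two, Matrix.J, Matrix.fromBlocks]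
  ring

/-- `Λ²A` fixes the bivector of the form when `A` is symplectic -/
theorem R6_jv (A : Matrix (Fin 2 ⊕ Fin 2) (Fin 2 ⊕ Fin 2) F)
    (h : A ∈ Matrix.symplecticGroup (Fin 2) F) :
    PO6.R6 (toFin4 A) *ᵥ jv = jv := by
  funext k
  fin_cases k
  · have := symp_entry A h (PO4.e4 0) (PO4.e4 1)
    simp [PO4.e4, Matrix.J, Matrix.fromBlocks] at this
    simp [PO6.R6, Matrix.mulVec, dotProduct, Fin.sum_univ_six, jv, PO6.pa, PO6.pb, toFin4_apply,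
      PO4.e4]
    linear_combination this
  · have := symp_entry A h (PO4.e4 0) (PO4.e4 2)
    simp [PO4.e4, Matrix.J, Matrix.fromBlocks] at this
    simp [PO6.R6, Matrix.mulVec, dotProduct, Fin.sum_univ_six, jv, PO6.pa, PO6.pb, toFin4_apply,
      PO4.e4]
    linear_combination this
  · have := symp_entry A h (PO4.e4 0) (PO4.e4 3)
    simp [PO4.e4, Matrix.J, Matrix.fromBlocks] at this
    simp [PO6.R6, Matrix.mulVec, dotProduct, Fin.sum_univ_six, jv, PO6.pa, PO6.pb, toFin4_apply,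
      PO4.e4]
    linear_combination this
  · have := symp_entry A h (PO4.e4 2) (PO4.e4 3)
    simp [PO4.e4, Matrix.J, Matrix.fromBlocks] at this
    simp [PO6.R6, Matrix.mulVec, dotProduct, Fin.sum_univ_six, jv, PO6.pa, PO6.pb, toFin4_apply,
      PO4.e4]
    linear_combination this
  · have := symp_entry A h (PO4.e4 3) (PO4.e4 1)
    simp [PO4.e4, Matrix.J, Matrix.fromBlocks] at this
    simp [PO6.R6, Matrix.mulVec, dotProduct, Fin.sum_univ_six, jv, PO6.pa, PO6.pb, toFin4_apply,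
      PO4.e4]
    linear_combination this
  · have := symp_entry A h (PO4.e4 1) (PO4.e4 2)
    simp [PO4.e4, Matrix.J, Matrix.fromBlocks] at this
    simp [PO6.R6, Matrix.mulVec, dotProduct, Fin.sum_univ_six, jv, PO6.pa, PO6.pb, toFin4_apply,
      PO4.e4]
    linear_combination this

theorem Q6_jv : PO6.Q6 (jv : Fin 6 → F) = -1 := by
  simp [PO6.Q6, jv]

/-- symplectic matrices have determinant one -/
theorem det_toFin4 (A : Matrix (Fin 2 ⊕ Fin 2) (Fin 2 ⊕ Fin 2) F)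
    (h : A ∈ Matrix.symplecticGroup (Fin 2) F) : (toFin4 A).det = 1 := by
  have h1 := PO6.Q6_R6 (toFin4 A) jv
  rw [R6_jv A h, Q6_jv] at h1
  linear_combination h1

/-- the polar form of `Q6` -/
def B6 (x y : Fin 6 → F) : F := PO6.Q6 (x + y) - PO6.Q6 x - PO6.Q6 y

theorem B6_R6 (M : Matrix (Fin 4) (Fin 4) F) (x y : Fin 6 → F) :
    B6 (PO6.R6 M *ᵥ x) (PO6.R6 M *ᵥ y) = M.det * B6 x y := by
  unfold B6
  rw [← Matrix.mulVec_add, PO6.Q6_R6, PO6.Q6_R6, PO6.Q6_R6]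
  ring

theorem B6_jv (w : Fin 6 → F) : B6 jv w = w 1 - w 4 := by
  simp [B6, PO6.Q6, jv]
  ring

/-- `Λ²A` preserves the hyperplane `w 1 = w 4` when `A` is symplectic -/
theorem R6_pres (A : Matrix (Fin 2 ⊕ Fin 2) (Fin 2 ⊕ Fin 2) F)
    (h : A ∈ Matrix.symplecticGroup (Fin 2) F) (w : Fin 6 → F) (hw : w 4 = w 1) :
    (PO6.R6 (toFin4 A) *ᵥ w) 4 = (PO6.R6 (toFin4 A) *ᵥ w) 1 := by
  have h1 := B6_R6 (toFin4 A) jv w
  rw [R6_jv A h, det_toFin4 A h, one_mul, B6_jv, B6_jv, hw, sub_self] at h1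
  exact (sub_eq_zero.mp h1).symm

/-- the coordinate embedding `ι5 → Fin 6` -/
def cidx : Unit ⊕ (Fin 2 ⊕ Fin 2) → Fin 6
  | Sum.inl _ => 1
  | Sum.inr (Sum.inl i) => if i = 0 then 0 else 2
  | Sum.inr (Sum.inr i) => if i = 0 then 3 else 5

/-- the inclusion of the 5-dimensional space as the hyperplane `w 1 = w 4` -/
def Ifun (v : Unit ⊕ (Fin 2 ⊕ Fin 2) → F) : Fin 6 → F :=
  ![v (Sum.inr (Sum.inl 0)), v (Sum.inl ()), v (Sum.inr (Sum.inl 1)), v (Sum.inr (Sum.inr 0)),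
    v (Sum.inl ()), v (Sum.inr (Sum.inr 1))]

theorem Ifun_comp (v : Unit ⊕ (Fin 2 ⊕ Fin 2) → F) : Ifun v ∘ cidx = v := by
  funext s
  rcases s with u | i | i
  · rfl
  · fin_cases i <;> rfl
  · fin_cases i <;> rfl

theorem Ifun_of_comp (w : Fin 6 → F) (hw : w 4 = w 1) : Ifun (w ∘ cidx) = w := by
  funext k
  fin_cases k <;> simp [Ifun, cidx, hw]

theorem Ifun_41 (v : Unit ⊕ (Fin 2 ⊕ Fin 2) → F) : Ifun v 4 = Ifun v 1 := rfl

theorem Q6_Ifun (v : Unit ⊕ (Fin 2 ⊕ Fin 2) → F) :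
    PO6.Q6 (Ifun v) = Cfsg.quadFormOdd 2 F v := by
  simp [PO6.Q6, Ifun, Cfsg.quadFormOdd, Fin.sum_univ_two]
  ring

/-- the `5×5` matrix of `Λ²A` restricted to the hyperplane -/
def R5 (M : Matrix (Fin 4) (Fin 4) F) :
    Matrix (Unit ⊕ (Fin 2 ⊕ Fin 2)) (Unit ⊕ (Fin 2 ⊕ Fin 2)) F :=
  Matrix.of fun s t => PO6.R6 M (cidx s) (cidx t) +
    (if t = Sum.inl () then PO6.R6 M (cidx s) 4 else 0)

theorem R5_mulVec (M : Matrix (Fin 4) (Fin 4) F) (v : Unit ⊕ (Fin 2 ⊕ Fin 2) → F) :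
    R5 M *ᵥ v = (PO6.R6 M *ᵥ Ifun v) ∘ cidx := by
  funext s
  simp only [R5, Matrix.mulVec, dotProduct, Fintype.sum_sum_type, Fin.sum_univ_two,
    Fin.sum_univ_six, Matrix.of_apply, Function.comp, Ifun, cidx]
  simp
  ring

theorem R5_one : R5 (1 : Matrix (Fin 4) (Fin 4) F) = 1 := by
  apply Matrix.mulVec_injective
  funext v
  rw [R5_mulVec, PO6.R6_one, Matrix.one_mulVec, Matrix.one_mulVec, Ifun_comp]

theorem R5_mul (A B : Matrix (Fin 2 ⊕ Fin 2) (Fin 2 ⊕ Fin 2) F)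
    (hB : B ∈ Matrix.symplecticGroup (Fin 2) F) :
    R5 (toFin4 (A * B)) = R5 (toFin4 A) * R5 (toFin4 B) := by
  apply Matrix.mulVec_injective
  funext v
  rw [← Matrix.mulVec_mulVec, R5_mulVec, R5_mulVec, R5_mulVec, map_mul, PO6.R6_mul,
    ← Matrix.mulVec_mulVec, Ifun_of_comp _ (R6_pres B hB _ (Ifun_41 v))]

/-- `Sp₄(F) → M₅(F)` -/
def rhoM : ↥(Matrix.symplecticGroup (Fin 2) F) →*
    Matrix (Unit ⊕ (Fin 2 ⊕ Fin 2)) (Unit ⊕ (Fin 2 ⊕ Fin 2)) F where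
  toFun A := R5 (toFin4 (A : Matrix (Fin 2 ⊕ Fin 2) (Fin 2 ⊕ Fin 2) F))
  map_one' := by
    change R5 (toFin4 (1 : Matrix (Fin 2 ⊕ Fin 2) (Fin 2 ⊕ Fin 2) F)) = 1
    rw [map_one, R5_one]
  map_mul' A B := by
    change R5 (toFin4 ((A : Matrix (Fin 2 ⊕ Fin 2) (Fin 2 ⊕ Fin 2) F) *
      (B : Matrix (Fin 2 ⊕ Fin 2) (Fin 2 ⊕ Fin 2) F))) = _
    exact R5_mul _ _ B.2

/-- `Sp₄(F) → GL₅(F)` -/
def rhoGL : ↥(Matrix.symplecticGroup (Fin 2) F) →* GL (Unit ⊕ (Fin 2 ⊕ Fin 2)) F :=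
  rhoM.toHomUnits

theorem rhoGL_coe (A : ↥(Matrix.symplecticGroup (Fin 2) F)) :
    ((rhoGL A : GL (Unit ⊕ (Fin 2 ⊕ Fin 2)) F) : Matrix _ _ F) =
      R5 (toFin4 (A : Matrix (Fin 2 ⊕ Fin 2) (Fin 2 ⊕ Fin 2) F)) := rfl

theorem rhoGL_mem (A : ↥(Matrix.symplecticGroup (Fin 2) F)) :
    rhoGL A ∈ Cfsg.isometryGroup F (Cfsg.quadFormOdd 2 F) := by
  rw [RI.mem_iso_iff']
  intro v
  rw [rhoGL_coe, R5_mulVec, ← Q6_Ifun, Ifun_of_comp _ (R6_pres _ A.2 _ (Ifun_41 v)), PO6.Q6_R6,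
    det_toFin4 _ A.2, one_mul, Q6_Ifun]

/-- `Sp₄(F) → GO₅(F)` -/
def rho : ↥(Matrix.symplecticGroup (Fin 2) F) →*
    ↥(Cfsg.isometryGroup F (Cfsg.quadFormOdd 2 F)) :=
  rhoGL.codRestrict _ rhoGL_mem

theorem rho_eq_one_iff (A : ↥(Matrix.symplecticGroup (Fin 2) F)) :
    rho A = 1 ↔ R5 (toFin4 (A : Matrix (Fin 2 ⊕ Fin 2) (Fin 2 ⊕ Fin 2) F)) = 1 := by
  rw [Subtype.ext_iff]
  change rhoGL A = 1 ↔ _
  rw [Units.ext_iff]
  rfl

/-- in odd characteristic the kernel consists of scalars `a` with `a² = 1` -/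
theorem ker_scalar (h2 : (2 : F) ≠ 0) (A : ↥(Matrix.symplecticGroup (Fin 2) F))
    (h : R5 (toFin4 (A : Matrix (Fin 2 ⊕ Fin 2) (Fin 2 ⊕ Fin 2) F)) = 1) :
    ∃ a : F, a ^ 2 = 1 ∧
      Matrix.scalar (Fin 2 ⊕ Fin 2) a = (A : Matrix (Fin 2 ⊕ Fin 2) (Fin 2 ⊕ Fin 2) F) := by
  set M := toFin4 (A : Matrix (Fin 2 ⊕ Fin 2) (Fin 2 ⊕ Fin 2) F) with hM
  -- `R6 M` fixes the hyperplane pointwise
  have hW : ∀ w : Fin 6 → F, w 4 = w 1 → PO6.R6 M *ᵥ w = w := by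
    intro w hw
    have h1 : R5 M *ᵥ (w ∘ cidx) = w ∘ cidx := by rw [h, Matrix.one_mulVec]
    rw [R5_mulVec, Ifun_of_comp w hw] at h1
    have h3 := R6_pres _ A.2 w hw
    rw [← Ifun_of_comp _ h3, h1, Ifun_of_comp w hw]
  have hj : PO6.R6 M *ᵥ jv = jv := R6_jv _ A.2
  have hall : PO6.R6 M = 1 := by
    apply Matrix.mulVec_injective
    funext w
    rw [Matrix.one_mulVec]
    -- decompose `w = w' + c jv`
    set c : F := (w 4 - w 1) / 2 with hc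
    have hw' : (w - c • (jv : Fin 6 → F)) 4 = (w - c • (jv : Fin 6 → F)) 1 := by
      simp [jv, hc]
      field_simp
      ring
    have e : w = (w - c • jv) + c • jv := by abel
    rw [e, Matrix.mulVec_add, hW _ hw', Matrix.mulVec_smul, hj]
  obtain ⟨a, ha, hA⟩ := PO6.ker_scalar M hall
  refine ⟨a, ha, ?_⟩
  apply toFin4_injective
  rw [← hM, ← hA]
  ext i j
  rw [toFin4_apply]
  simp only [Matrix.scalar_apply, Matrix.diagonal_apply, EmbeddingLike.apply_eq_iff_eq]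

end Cfsg.Agent.Lib.Lead.PO5
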