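import Mathlib
import Cfsg.Agent.Lib.Helper18.OPE.Defs
import Cfsg.Agent.Lib.Helper19.OPELEVI
import Cfsg.Agent.Lib.Helper19.OPETRANSVCOMM

set_option autoImplicit false
set_option linter.unusedVariables false
set_option linter.unusedSectionVars false
set_option linter.unusedSimpArgs false

/-!
# Project OPE (designer helper18), row UEX (`u_ex`), written by lead
The bad unipotent element of `Ω⁺_{2d}(q)`, all characteristics.
-/

namespace Cfsg.Agent.Lib.Helper18.OPE

open Polynomial Module Matrix

section abs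

variable {F : Type*} [Field F] {d k : ℕ}

/-- the nilpotent matrix `Σ_t E_{a t, b t}` -/
def opeuex_n (F : Type*) [Field F] {d k : ℕ} (a b : Fin k → Fin d) : Matrix (Fin d) (Fin d) F :=
  ∑ t, Matrix.single (a t) (b t) (1 : F)

theorem opeuex_n_sq (a b : Fin k → Fin d) (hab : ∀ s t, b s ≠ a t) :
    opeuex_n F a b * opeuex_n F a b = 0 := by
  unfold opeuex_n
  rw [Finset.sum_mul]
  refine Finset.sum_eq_zero (fun s _ => ?_)
  rw [Finset.mul_sum]
  refine Finset.sum_eq_zero (fun t _ => ?_)
  exact Matrix.single_mul_single_of_ne 1 (a s) (b s) (a t) (hab s t) 1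

theorem opeuex_n_mulVec (a b : Fin k → Fin d) (e : Fin d → F) (i : Fin d) :
    (opeuex_n F a b *ᵥ e) i = ∑ t, if a t = i then e (b t) else 0 := by
  unfold opeuex_n
  rw [Matrix.sum_mulVec, Finset.sum_apply]
  refine Finset.sum_congr rfl (fun t _ => ?_)
  rw [Matrix.single_mulVec, one_mul]
  by_cases h : a t = i
  · rw [if_pos h, ← h, Function.update_self]
  · rw [if_neg h, Function.update_of_ne (Ne.symm h), Pi.zero_apply]

theorem opeuex_nT_mulVec (a b : Fin k → Fin d) (f : Fin d → F) (j : Fin d) :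
    ((opeuex_n F a b)ᵀ *ᵥ f) j = ∑ t, if b t = j then f (a t) else 0 := by
  have : (opeuex_n F a b)ᵀ = opeuex_n F b a := by
    unfold opeuex_n
    rw [Matrix.transpose_sum]
    refine Finset.sum_congr rfl (fun t _ => ?_)
    rw [Matrix.transpose_single]
  rw [this, opeuex_n_mulVec]

/-- `(1 + n)^m = 1 + m • n` -/
theorem opeuex_pow {n : Matrix (Fin d) (Fin d) F} (hnn : n * n = 0) (m : ℕ) :
    (1 + n) ^ m = 1 + (m : F) • n := by
  induction m with
  | zero => simp
  | succ m ih =>
    have hz : ((m : F) • n) * n = 0 := by rw [Matrix.smul_mul, hnn, smul_zero]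
    rw [pow_succ, ih, Nat.cast_succ, add_smul, one_smul]
    simp only [add_mul, mul_add, one_mul, mul_one, hz, add_zero]
    abel

/-- the unit `1 + Σ_{t ∈ s} E_t` -/
noncomputable def opeuex_u (F : Type*) [Field F] {d k : ℕ} (a b : Fin k → Fin d) (hab : ∀ s t, b s ≠ a t)
    (s : Finset (Fin k)) : GL (Fin d) F :=
  ⟨1 + ∑ t ∈ s, Matrix.single (a t) (b t) (1 : F), 1 - ∑ t ∈ s, Matrix.single (a t) (b t) (1 : F), by
    have hz : (∑ t ∈ s, Matrix.single (a t) (b t) (1 : F)) * (∑ t ∈ s, Matrix.single (a t) (b t) (1 : F)) = 0 := by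
      rw [Finset.sum_mul]
      refine Finset.sum_eq_zero (fun s' _ => ?_)
      rw [Finset.mul_sum]
      refine Finset.sum_eq_zero (fun t _ => ?_)
      exact Matrix.single_mul_single_of_ne 1 (a s') (b s') (a t) (hab s' t) 1
    have : ∀ X : Matrix (Fin d) (Fin d) F, (1 + X) * (1 - X) = 1 - X * X := by
      intro X; noncomm_ring
    rw [this, hz, sub_zero], by
    have hz : (∑ t ∈ s, Matrix.single (a t) (b t) (1 : F)) * (∑ t ∈ s, Matrix.single (a t) (b t) (1 : F)) = 0 := by
      rw [Finset.sum_mul]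
      refine Finset.sum_eq_zero (fun s' _ => ?_)
      rw [Finset.mul_sum]
      refine Finset.sum_eq_zero (fun t _ => ?_)
      exact Matrix.single_mul_single_of_ne 1 (a s') (b s') (a t) (hab s' t) 1
    have : ∀ X : Matrix (Fin d) (Fin d) F, (1 - X) * (1 + X) = 1 - X * X := by
      intro X; noncomm_ring
    rw [this, hz, sub_zero]⟩

theorem opeuex_u_val (a b : Fin k → Fin d) (hab : ∀ s t, b s ≠ a t) (s : Finset (Fin k)) :
    ((opeuex_u F a b hab s : GL (Fin d) F) : Matrix (Fin d) (Fin d) F) =
      1 + ∑ t ∈ s, Matrix.single (a t) (b t) (1 : F) := rfl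

theorem opeuex_u_mem (a b : Fin k → Fin d) (hab : ∀ s t, b s ≠ a t) (hd : 3 ≤ d) (s : Finset (Fin k)) :
    opeuex_u F a b hab s ∈ commutator (GL (Fin d) F) := by
  classical
  induction s using Finset.induction_on with
  | empty =>
    have : opeuex_u F a b hab ∅ = 1 := by
      apply Units.ext
      rw [opeuex_u_val, Finset.sum_empty, add_zero, Units.val_one]
    rw [this]
    exact Subgroup.one_mem _
  | insert t s hts ih =>
    have hat : a t ≠ b t := fun h => hab t t h.symm
    have htv := transv_comm d (a t) (b t) hat hd (1 : F) (opetransvcomm_tv (a t) (b t) hat 1)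
      (opetransvcomm_tv_val _ _ hat 1)
    have : opeuex_u F a b hab (insert t s) = opeuex_u F a b hab s * opetransvcomm_tv (a t) (b t) hat 1 := by
      apply Units.ext
      rw [Units.val_mul, opeuex_u_val, opeuex_u_val, opetransvcomm_tv_val, Finset.sum_insert hts]
      show _ = _ * (1 + Matrix.single (a t) (b t) (1 : F))
      have hz : (∑ t' ∈ s, Matrix.single (a t') (b t') (1 : F)) * Matrix.single (a t) (b t) (1 : F) = 0 := by
        rw [Finset.sum_mul]
        refine Finset.sum_eq_zero (fun s' _ => ?_)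
        exact Matrix.single_mul_single_of_ne 1 (a s') (b s') (a t) (hab s' t) 1
      rw [add_mul, mul_add, mul_add, hz]
      simp only [one_mul, mul_one, add_zero]
      abel
    rw [this]
    exact Subgroup.mul_mem _ ih htv

/-- functions vanishing on the range of an injective map -/
theorem opeuex_finrank_ker {ι κ : Type*} [Fintype ι] [Fintype κ] (c : κ → ι) (hc : Function.Injective c) :
    finrank F (LinearMap.ker (LinearMap.funLeft F F c)) + Fintype.card κ = Fintype.card ι := by
  have h := LinearMap.finrank_range_add_finrank_ker (LinearMap.funLeft F F c)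
  have hr : LinearMap.range (LinearMap.funLeft F F c) = ⊤ :=
    LinearMap.range_eq_top.mpr (LinearMap.funLeft_surjective_of_injective F F c hc)
  rw [hr, finrank_top, Module.finrank_fintype_fun_eq_card, Module.finrank_fintype_fun_eq_card] at h
  omega

end abs

theorem u_ex {F : Type*} [Field F] [Fintype F] {p : ℕ} [Fact p.Prime] [CharP F p] (d : ℕ)
    (hd : 3 ≤ d) :
    ∃ x : GL (Fin d ⊕ Fin d) F, x ∈ Cfsg.Geo.omegaGL (Cfsg.quadFormPlus d F) ∧ x ^ p = 1 ∧
      (∀ z : F, (x : Matrix (Fin d ⊕ Fin d) (Fin d ⊕ Fin d) F) ≠ z • (1 : Matrix (Fin d ⊕ Fin d) (Fin d ⊕ Fin d) F)) ∧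
      (Matrix.toLin' (x : Matrix (Fin d ⊕ Fin d) (Fin d ⊕ Fin d) F) - 1) *
        (Matrix.toLin' (x : Matrix (Fin d ⊕ Fin d) (Fin d ⊕ Fin d) F) - 1) = 0 ∧
      (∀ v, Cfsg.quadFormPlus d F ((Matrix.toLin' (x : Matrix (Fin d ⊕ Fin d) (Fin d ⊕ Fin d) F) - 1) v) = 0) ∧
      finrank F (LinearMap.ker (Matrix.toLin' (x : Matrix (Fin d ⊕ Fin d) (Fin d ⊕ Fin d) F) - 1)) =
        finrank F (LinearMap.range (Matrix.toLin' (x : Matrix (Fin d ⊕ Fin d) (Fin d ⊕ Fin d) F) - 1)) +
          2 * (d % 2) := by
  classical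
  obtain ⟨k, hk⟩ : ∃ k, k = d / 2 := ⟨_, rfl⟩
  have hk2 : 2 * k ≤ d := by omega
  -- the index maps
  let a : Fin k → Fin d := fun t => ⟨2 * t.val, by have := t.2; omega⟩
  let b : Fin k → Fin d := fun t => ⟨2 * t.val + 1, by have := t.2; omega⟩
  have ha : Function.Injective a := by
    intro s t h
    have := congrArg Fin.val h
    simp only [a] at this
    exact Fin.ext (by omega)
  have hb : Function.Injective b := by
    intro s t h
    have := congrArg Fin.val h
    simp only [b] at this
    exact Fin.ext (by omega)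
  have hab : ∀ s t, b s ≠ a t := by
    intro s t h
    have := congrArg Fin.val h
    simp only [a, b] at this
    omega
  obtain ⟨n, hn⟩ : ∃ n : Matrix (Fin d) (Fin d) F, n = opeuex_n F a b := ⟨_, rfl⟩
  have hnn : n * n = 0 := by rw [hn]; exact opeuex_n_sq a b hab
  -- the element of GL_d
  obtain ⟨g0, hg0⟩ : ∃ g0 : GL (Fin d) F, g0 = opeuex_u F a b hab Finset.univ := ⟨_, rfl⟩
  have hg0v : (g0 : Matrix (Fin d) (Fin d) F) = 1 + n := by rw [hg0, opeuex_u_val, hn]; rfl
  have hg0i : ((g0⁻¹ : GL (Fin d) F) : Matrix (Fin d) (Fin d) F) = 1 - n := by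
    rw [hg0, hn]; rfl
  have hg0c : g0 ∈ commutator (GL (Fin d) F) := by rw [hg0]; exact opeuex_u_mem a b hab hd _
  obtain ⟨φ, hφ1, hφ2⟩ := levi (F := F) d
  obtain ⟨x, hx⟩ : ∃ x : GL (Fin d ⊕ Fin d) F,
      x = ((φ g0 : ↥(Cfsg.isometryGroup F (Cfsg.quadFormPlus d F))) : GL (Fin d ⊕ Fin d) F) := ⟨_, rfl⟩
  have hxv : (x : Matrix (Fin d ⊕ Fin d) (Fin d ⊕ Fin d) F) =
      Matrix.fromBlocks (1 + n) 0 0 (1 - nᵀ) := by
    rw [hx, hφ1, hg0v, hg0i, Matrix.transpose_sub, Matrix.transpose_one]
  have hp : p.Prime := Fact.out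
  have hpF : (p : F) = 0 := CharP.cast_eq_zero F p
  -- the nilpotent part
  obtain ⟨Nm, hNm⟩ : ∃ Nm : Matrix (Fin d ⊕ Fin d) (Fin d ⊕ Fin d) F,
      Nm = Matrix.fromBlocks n 0 0 (-nᵀ) := ⟨_, rfl⟩
  have hxN : (x : Matrix (Fin d ⊕ Fin d) (Fin d ⊕ Fin d) F) = 1 + Nm := by
    rw [hxv, hNm, ← Matrix.fromBlocks_one, Matrix.fromBlocks_add]
    congr 1 <;> simp [sub_eq_add_neg]
  have hNN : Nm * Nm = 0 := by
    rw [hNm, Matrix.fromBlocks_multiply]
    have hT : nᵀ * nᵀ = 0 := by rw [← Matrix.transpose_mul, hnn, Matrix.transpose_zero]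
    simp only [Matrix.mul_zero, Matrix.zero_mul, add_zero, zero_add, Matrix.neg_mul, Matrix.mul_neg, neg_neg,
      hnn, hT, neg_zero, Matrix.fromBlocks_zero]
  have hL : Matrix.toLin' (x : Matrix (Fin d ⊕ Fin d) (Fin d ⊕ Fin d) F) - 1 = Matrix.toLin' Nm := by
    rw [hxN, map_add, Matrix.toLin'_one]
    exact add_sub_cancel_left _ _
  -- coordinates of `Nm v`
  have hNl : ∀ (v : Fin d ⊕ Fin d → F) (i : Fin d),
      (Nm *ᵥ v) (Sum.inl i) = ∑ t, if a t = i then v (Sum.inl (b t)) else 0 := by
    intro v i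
    rw [hNm, Matrix.fromBlocks_mulVec, Sum.elim_inl, Matrix.zero_mulVec, add_zero, hn, opeuex_n_mulVec]
    rfl
  have hNr : ∀ (v : Fin d ⊕ Fin d → F) (j : Fin d),
      (Nm *ᵥ v) (Sum.inr j) = -∑ t, if b t = j then v (Sum.inr (a t)) else 0 := by
    intro v j
    rw [hNm, Matrix.fromBlocks_mulVec, Sum.elim_inr, Matrix.zero_mulVec, zero_add, Matrix.neg_mulVec,
      Pi.neg_apply, hn, opeuex_nT_mulVec]
    rfl
  refine ⟨x, ?_, ?_, ?_, ?_, ?_, ?_⟩
  · rw [hx]
    exact hφ2 g0 hg0c
  · apply Units.ext
    rw [Units.val_pow_eq_pow_val, hxN, Units.val_one]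
    have := opeuex_pow (F := F) (d := d) hnn p
    -- same computation on the big matrix
    have hbig : ∀ m : ℕ, (1 + Nm) ^ m = 1 + (m : F) • Nm := by
      intro m
      induction m with
      | zero => simp
      | succ m ih =>
        have hz : ((m : F) • Nm) * Nm = 0 := by rw [Matrix.smul_mul, hNN, smul_zero]
        rw [pow_succ, ih, Nat.cast_succ, add_smul, one_smul]
        simp only [add_mul, mul_add, one_mul, mul_one, hz, add_zero]
        abel
    rw [hbig, hpF, zero_smul, add_zero]
  · intro z hz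
    have h01 : (⟨0, by omega⟩ : Fin d) ≠ ⟨1, by omega⟩ := by
      intro h
      have := congrArg Fin.val h
      simp at this
    have e1 := congrFun (congrFun hz (Sum.inl ⟨0, by omega⟩)) (Sum.inl ⟨1, by omega⟩)
    rw [hxv, Matrix.fromBlocks_apply₁₁, Matrix.smul_apply, Matrix.one_apply_ne (by
      intro h; exact h01 (Sum.inl_injective h)), smul_zero, Matrix.add_apply, Matrix.one_apply_ne h01,
      zero_add, hn] at e1
    have hk0 : 0 < k := by omega
    have e2 : opeuex_n F a b (⟨0, by omega⟩ : Fin d) ⟨1, by omega⟩ = 1 := by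
      unfold opeuex_n
      rw [Matrix.sum_apply, Finset.sum_eq_single (⟨0, hk0⟩ : Fin k)]
      · have h1 : a ⟨0, hk0⟩ = ⟨0, by omega⟩ := by simp [a]
        have h2 : b ⟨0, hk0⟩ = ⟨1, by omega⟩ := by simp [b]
        rw [h1, h2, Matrix.single_apply_same]
      · intro t _ ht
        apply Matrix.single_apply_of_ne
        intro hcon
        apply ht
        have := congrArg Fin.val hcon.1
        simp only [a] at this
        exact Fin.ext (by simpa using this)
      · intro h; exact absurd (Finset.mem_univ _) h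
    rw [e2] at e1
    exact one_ne_zero e1
  · rw [hL, Module.End.mul_eq_comp, ← Matrix.toLin'_mul, hNN, map_zero]
  · intro v
    rw [hL, Matrix.toLin'_apply]
    unfold Cfsg.quadFormPlus
    -- Σ_i (n e)_i * (-(nᵀ f))_i = 0
    have key : ∀ i : Fin d, (Nm *ᵥ v) (Sum.inl i) * (Nm *ᵥ v) (Sum.inr i) = 0 := by
      intro i
      rw [hNl, hNr]
      -- if i = a s then the right factor vanishes (i ≠ b t)
      by_cases hi : ∃ s, a s = i
      · obtain ⟨s, rfl⟩ := hi
        have : (∑ t, if b t = a s then v (Sum.inr (a t)) else 0) = 0 := by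
          refine Finset.sum_eq_zero (fun t _ => ?_)
          rw [if_neg (hab t s)]
        rw [this, neg_zero, mul_zero]
      · push Not at hi
        have : (∑ t, if a t = i then v (Sum.inl (b t)) else 0) = 0 := by
          refine Finset.sum_eq_zero (fun t _ => ?_)
          rw [if_neg (hi t)]
        rw [this, zero_mul]
    exact Finset.sum_eq_zero (fun i _ => key i)
  · -- dimensions
    rw [hL]
    let c : Fin k ⊕ Fin k → Fin d ⊕ Fin d := Sum.elim (fun t => Sum.inl (b t)) (fun t => Sum.inr (a t))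
    have hc : Function.Injective c := by
      intro s t h
      rcases s with s | s <;> rcases t with t | t
      · simp only [c, Sum.elim_inl] at h
        rw [hb (Sum.inl_injective h)]
      · simp only [c, Sum.elim_inl, Sum.elim_inr] at h
        exact absurd h (by simp)
      · simp only [c, Sum.elim_inl, Sum.elim_inr] at h
        exact absurd h (by simp)
      · simp only [c, Sum.elim_inr] at h
        rw [ha (Sum.inr_injective h)]
    have hker : LinearMap.ker (Matrix.toLin' Nm) = LinearMap.ker (LinearMap.funLeft F F c) := by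
      ext v
      rw [LinearMap.mem_ker, LinearMap.mem_ker, Matrix.toLin'_apply]
      constructor
      · intro h0
        funext s
        rcases s with s | s
        · -- v (inl (b s)) = (Nm v)(inl (a s))
          have e1 := congrFun h0 (Sum.inl (a s))
          rw [hNl, Finset.sum_eq_single s, if_pos rfl] at e1
          · exact e1
          · intro t _ hts
            rw [if_neg (fun h => hts (ha h))]
          · intro h; exact absurd (Finset.mem_univ _) h
        · have e1 := congrFun h0 (Sum.inr (b s))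
          rw [hNr, Finset.sum_eq_single s, if_pos rfl] at e1
          · have e2 : v (Sum.inr (a s)) = 0 := by simpa using e1
            exact e2
          · intro t _ hts
            rw [if_neg (fun h => hts (hb h))]
          · intro h; exact absurd (Finset.mem_univ _) h
      · intro h0
        have hl : ∀ t, v (Sum.inl (b t)) = 0 := fun t => congrFun h0 (Sum.inl t)
        have hr : ∀ t, v (Sum.inr (a t)) = 0 := fun t => congrFun h0 (Sum.inr t)
        funext idx
        rcases idx with i | j
        · rw [hNl]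
          refine Finset.sum_eq_zero (fun t _ => ?_)
          rw [hl t, ite_self]
        · rw [hNr]
          simp only [hr, ite_self, Finset.sum_const_zero, neg_zero, Pi.zero_apply]
    have h1 := opeuex_finrank_ker (F := F) c hc
    have h2 := LinearMap.finrank_range_add_finrank_ker (Matrix.toLin' Nm)
    rw [Module.finrank_fintype_fun_eq_card] at h2
    rw [hker] at h2 ⊢
    simp only [Fintype.card_sum, Fintype.card_fin] at h1 h2
    omega

end Cfsg.Agent.Lib.Helper18.OPE
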