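import Mathlib
import Cfsg.Agent.Lib.Helper19.G2V.Defs

set_option autoImplicit false

namespace Cfsg.Agent.Lib.Helper19.G2V

open Cfsg.Lie Cfsg.Lie.ChevalleyDatum Matrix
open Cfsg.Agent.Lib.helper8
open Cfsg.Agent.Lib.helper23.P4V

universe u

variable {F : Type u} [Field F]

/-- in a field with at least three elements there is a nonzero element different from a given one -/
theorem g2vl4_exists_ne [Fintype F] (h3 : 3 ≤ Fintype.card F) (x : F) : ∃ γ : F, γ ≠ 0 ∧ γ ≠ x := by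
  classical
  by_contra hcon
  push_neg at hcon
  have hsub : (Finset.univ : Finset F) ⊆ {0, x} := by
    intro γ _
    by_cases h0 : γ = 0
    · simp [h0]
    · have := hcon γ h0
      simp [this]
  have hcard := Finset.card_le_card hsub
  have h2 : ({0, x} : Finset F).card ≤ 2 := Finset.card_le_two
  rw [Finset.card_univ] at hcard
  omega

/-- a matrix with a nonzero off-diagonal entry `(0,1)` is not scalar -/
theorem g2vl4_not_scalar (m : M2 F) (h : m 0 1 ≠ 0) : ¬ ∃ c : F, m = c • (1 : M2 F) := by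
  rintro ⟨c, hc⟩
  apply h
  rw [hc]
  simp

/-- **L4** [H]. -/
theorem cover4 [Fintype F] (h3 : 3 ≤ Fintype.card F) (ν : F) (hν : ν ≠ 0) (A : M2 F) (hA : A.det ≠ 0) :
    ∃ β γ δ : F, γ ≠ 0 ∧ InSig ν (!![1, β; γ, δ] * A) := by
  obtain ⟨a, ha⟩ : ∃ a, A 0 0 = a := ⟨_, rfl⟩
  obtain ⟨b, hb⟩ : ∃ b, A 0 1 = b := ⟨_, rfl⟩
  obtain ⟨c, hc⟩ : ∃ c, A 1 0 = c := ⟨_, rfl⟩
  obtain ⟨d, hd⟩ : ∃ d, A 1 1 = d := ⟨_, rfl⟩
  have hAeta : A = !![a, b; c, d] := by rw [Matrix.eta_fin_two A, ha, hb, hc, hd]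
  subst hAeta
  rw [Matrix.det_fin_two_of] at hA
  set Δ := a * d - b * c with hΔ
  set κ := ν ^ 2 / Δ with hκ
  have hκΔ : κ * Δ = ν ^ 2 := by rw [hκ]; field_simp
  by_cases hb0 : b = 0
  · -- b = 0: then d ≠ 0
    have hd0 : d ≠ 0 := by
      intro h
      apply hA
      rw [hΔ, hb0, h]; ring
    obtain ⟨γ, hγ0, hγ⟩ := g2vl4_exists_ne h3 ((2 * ν - a - κ * d - c) / d)
    refine ⟨1, γ, κ + γ, hγ0, Or.inr ⟨?_, ?_, ?_⟩⟩
    · rw [Matrix.det_mul, Matrix.det_fin_two_of, Matrix.det_fin_two_of, ← hΔ]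
      calc (1 * (κ + γ) - 1 * γ) * Δ = κ * Δ := by ring
        _ = ν ^ 2 := hκΔ
    · intro htr
      apply hγ
      rw [eq_div_iff hd0]
      have : (!![1, 1; γ, κ + γ] * !![a, b; c, d]).trace = a + c + γ * b + (κ + γ) * d := by
        simp [Matrix.trace_fin_two, Matrix.mul_apply, Fin.sum_univ_two]
        ring
      rw [this, hb0] at htr
      linear_combination htr
    · apply g2vl4_not_scalar
      have : (!![1, 1; γ, κ + γ] * !![a, b; c, d]) 0 1 = b + d := by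
        simp [Matrix.mul_apply, Fin.sum_univ_two]
      rw [this, hb0, zero_add]
      exact hd0
  · obtain ⟨γ, hγ0, hγ⟩ := g2vl4_exists_ne h3 ((2 * ν - a - κ * d) / b)
    refine ⟨0, γ, κ, hγ0, Or.inr ⟨?_, ?_, ?_⟩⟩
    · rw [Matrix.det_mul, Matrix.det_fin_two_of, Matrix.det_fin_two_of, ← hΔ]
      calc (1 * κ - 0 * γ) * Δ = κ * Δ := by ring
        _ = ν ^ 2 := hκΔ
    · intro htr
      apply hγ
      rw [eq_div_iff hb0]
      have : (!![1, 0; γ, κ] * !![a, b; c, d]).trace = a + γ * b + κ * d := by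
        simp [Matrix.trace_fin_two, Matrix.mul_apply, Fin.sum_univ_two]
        ring
      rw [this] at htr
      linear_combination htr
    · apply g2vl4_not_scalar
      have : (!![1, 0; γ, κ] * !![a, b; c, d]) 0 1 = b := by
        simp [Matrix.mul_apply, Fin.sum_univ_two]
      rw [this]
      exact hb0

end Cfsg.Agent.Lib.Helper19.G2V
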