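import Mathlib
import Cfsg.Agent.Lib.Helper19.G2V.Defs
import Cfsg.Agent.Lib.Helper29.P4VG2
import Cfsg.Agent.Lib.Lead.G2VL4

set_option autoImplicit false

namespace Cfsg.Agent.Lib.Helper19.G2V

open Cfsg.Lie Cfsg.Lie.ChevalleyDatum Matrix
open Cfsg.Agent.Lib.helper8
open Cfsg.Agent.Lib.helper23.P4V

universe u

variable {F : Type u} [Field F]

/-- a matrix with a nonzero entry `(1,0)` is not scalar -/
theorem g2vl6_not_scalar (m : M2 F) (h : m 1 0 ≠ 0) : ¬ ∃ c : F, m = c • (1 : M2 F) := by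
  rintro ⟨c, hc⟩
  apply h
  rw [hc]
  simp

/-- conjugating back: if `A = Q * C * Q⁻¹` with `Q` invertible then `Q⁻¹ * A * Q⁻¹⁻¹ = C` -/
theorem g2vl6_conj_back (A Q C : M2 F) (hQ : Q.det ≠ 0) (h : A = Q * C * Q⁻¹) :
    Q⁻¹ * A * Q⁻¹⁻¹ = C := by
  have hu : IsUnit Q.det := isUnit_iff_ne_zero.mpr hQ
  rw [Matrix.nonsing_inv_nonsing_inv Q hu]
  rw [h]
  calc Q⁻¹ * (Q * C * Q⁻¹) * Q = (Q⁻¹ * Q) * C * (Q⁻¹ * Q) := by simp only [Matrix.mul_assoc]
    _ = C := by rw [Matrix.nonsing_inv_mul Q hu, Matrix.one_mul, Matrix.mul_one]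

/-- the companion case with nonzero trace parameter, or `2 ≠ 0` -/
theorem g2vl6_comp [Fintype F] (h3 : 3 ≤ Fintype.card F) (ν : F) (hν : ν ≠ 0) (Δ θ : F) (hΔ : Δ ≠ 0)
    (h : θ ≠ 0 ∨ (2 : F) ≠ 0) :
    ∃ D1 D2 : F, D1 ≠ 0 ∧ D2 ≠ 0 ∧ InSig ν (!![D1, 0; 0, D2] * !![0, -Δ; 1, θ]) := by
  have key : ∃ D2 : F, D2 ≠ 0 ∧ D2 * θ ≠ 2 * ν := by
    by_cases hθ : θ = 0
    · refine ⟨1, one_ne_zero, ?_⟩
      rw [hθ, mul_zero]
      have h2 : (2 : F) ≠ 0 := h.resolve_left (fun hh => hh hθ)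
      exact (mul_ne_zero h2 hν).symm
    · obtain ⟨D2, h0, hne⟩ := g2vl4_exists_ne h3 (2 * ν / θ)
      refine ⟨D2, h0, ?_⟩
      intro hh
      apply hne
      rw [eq_div_iff hθ]
      exact hh
  obtain ⟨D2, hD2, htr⟩ := key
  refine ⟨ν ^ 2 / (D2 * Δ), D2, ?_, hD2, Or.inr ⟨?_, ?_, ?_⟩⟩
  · exact div_ne_zero (pow_ne_zero 2 hν) (mul_ne_zero hD2 hΔ)
  · rw [Matrix.det_mul, Matrix.det_fin_two_of, Matrix.det_fin_two_of]
    field_simp
    ring
  · have : (!![ν ^ 2 / (D2 * Δ), 0; 0, D2] * !![0, -Δ; 1, θ]).trace = D2 * θ := by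
      simp [Matrix.trace_fin_two]
    rw [this]
    exact htr
  · apply g2vl6_not_scalar
    have : (!![ν ^ 2 / (D2 * Δ), 0; 0, D2] * !![0, -Δ; 1, θ]) 1 0 = D2 := by
      simp
    rw [this]
    exact hD2

/-- the characteristic two case with trace zero: the conjugate `!![1, 1+Δ; 1, 1]` -/
theorem g2vl6_char2 [Fintype F] (h3 : 3 ≤ Fintype.card F) (ν : F) (hν : ν ≠ 0) (Δ : F) (hΔ : Δ ≠ 0)
    (h2 : (2 : F) = 0) :
    ∃ D1 D2 : F, D1 ≠ 0 ∧ D2 ≠ 0 ∧ InSig ν (!![D1, 0; 0, D2] * !![1, 1 + Δ; 1, 1]) := by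
  classical
  -- pick D1 ≠ 0 with D1 ^ 2 ≠ ν ^ 2 / Δ
  have hneg : ∀ x : F, -x = x := by
    intro x
    have : x + x = 0 := by
      have := congrArg (fun t => t * x) h2
      simp only [zero_mul] at this
      rw [two_mul] at this
      exact this
    exact neg_eq_of_add_eq_zero_left this
  have key : ∃ D1 : F, D1 ≠ 0 ∧ D1 ^ 2 * Δ ≠ ν ^ 2 := by
    by_cases hroot : ∃ ρ : F, ρ ^ 2 * Δ = ν ^ 2
    · obtain ⟨ρ, hρ⟩ := hroot
      obtain ⟨D1, h0, hne⟩ := g2vl4_exists_ne h3 ρ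
      refine ⟨D1, h0, ?_⟩
      intro hh
      apply hne
      have h1 : (D1 ^ 2 - ρ ^ 2) * Δ = 0 := by rw [sub_mul, hh, hρ, sub_self]
      have h4 : D1 ^ 2 - ρ ^ 2 = 0 := (mul_eq_zero.mp h1).resolve_right hΔ
      have h5 : (D1 - ρ) * (D1 + ρ) = 0 := by rw [← h4]; ring
      rcases mul_eq_zero.mp h5 with h6 | h6
      · exact sub_eq_zero.mp h6
      · have : D1 = -ρ := eq_neg_of_add_eq_zero_left h6
        rw [this, hneg]
    · refine ⟨1, one_ne_zero, ?_⟩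
      intro hh
      exact hroot ⟨1, hh⟩
  obtain ⟨D1, hD1, hsq⟩ := key
  set D2 := ν ^ 2 / (D1 * Δ) with hD2def
  have hD2 : D2 ≠ 0 := div_ne_zero (pow_ne_zero 2 hν) (mul_ne_zero hD1 hΔ)
  have hprod : D1 * D2 * Δ = ν ^ 2 := by rw [hD2def]; field_simp
  refine ⟨D1, D2, hD1, hD2, Or.inr ⟨?_, ?_, ?_⟩⟩
  · rw [Matrix.det_mul, Matrix.det_fin_two_of, Matrix.det_fin_two_of]
    have : (D1 * D2 - 0 * 0) * (1 * 1 - (1 + Δ) * 1) = -(D1 * D2 * Δ) := by ring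
    rw [this, hneg, hprod]
  · have htr : (!![D1, 0; 0, D2] * !![1, 1 + Δ; 1, 1]).trace = D1 + D2 := by
      simp [Matrix.trace_fin_two]
    rw [htr, h2, zero_mul]
    intro hh
    have h12 : D1 = D2 := by
      have : D1 = -D2 := eq_neg_of_add_eq_zero_left hh
      rw [this, hneg]
    apply hsq
    calc D1 ^ 2 * Δ = D1 * D1 * Δ := by ring
      _ = D1 * D2 * Δ := by rw [← h12]
      _ = ν ^ 2 := hprod
  · apply g2vl6_not_scalar
    have : (!![D1, 0; 0, D2] * !![1, 1 + Δ; 1, 1]) 1 0 = D2 := by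
      simp
    rw [this]
    exact hD2

/-- **L6** [H]. -/
theorem cover6 [Fintype F] (h3 : 3 ≤ Fintype.card F) (ν : F) (hν : ν ≠ 0) (A : M2 F) (hA : A.det ≠ 0) :
    ∃ P : M2 F, P.det ≠ 0 ∧ ∃ D1 D2 : F, D1 ≠ 0 ∧ D2 ≠ 0 ∧
      InSig ν (!![D1, 0; 0, D2] * (P * A * P⁻¹)) := by
  by_cases hsc : ∃ c : F, A = c • (1 : M2 F)
  · obtain ⟨c, rfl⟩ := hsc
    have hc : c ≠ 0 := by
      rintro rfl
      apply hA
      simp
    refine ⟨1, by simp, ν / c, ν / c, div_ne_zero hν hc, div_ne_zero hν hc, Or.inl ?_⟩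
    rw [inv_one, Matrix.one_mul, Matrix.mul_one]
    ext i j
    fin_cases i <;> fin_cases j <;> simp <;> field_simp
  · obtain ⟨Q, hQ, hAQ⟩ := Cfsg.Agent.Lib.helper23.P4V.conj_companion A hsc
    have hQi : (Q⁻¹).det ≠ 0 := by
      rw [Matrix.det_nonsing_inv, Ring.inverse_eq_inv']
      exact inv_ne_zero hQ
    by_cases hcase : A.trace ≠ 0 ∨ (2 : F) ≠ 0
    · obtain ⟨D1, D2, h1, h2, hin⟩ := g2vl6_comp h3 ν hν A.det A.trace hA hcase
      refine ⟨Q⁻¹, hQi, D1, D2, h1, h2, ?_⟩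
      rw [g2vl6_conj_back A Q _ hQ hAQ]
      exact hin
    · push_neg at hcase
      obtain ⟨htr0, h20⟩ := hcase
      obtain ⟨D1, D2, h1, h2, hin⟩ := g2vl6_char2 h3 ν hν A.det hA h20
      -- conjugate the companion matrix to `!![1, 1+Δ; 1, 1]`
      have hneg : ∀ x : F, -x = x := by
        intro x
        have : x + x = 0 := by
          have := congrArg (fun t => t * x) h20
          simp only [zero_mul] at this
          rw [two_mul] at this
          exact this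
        exact neg_eq_of_add_eq_zero_left this
      set C' : M2 F := !![1, 1 + A.det; 1, 1] with hC'
      have hC'ns : ¬ ∃ c : F, C' = c • (1 : M2 F) := by
        apply g2vl6_not_scalar
        simp [hC']
      obtain ⟨Q', hQ', hCQ'⟩ := Cfsg.Agent.Lib.helper23.P4V.conj_companion C' hC'ns
      have hdet' : C'.det = A.det := by
        rw [hC', Matrix.det_fin_two_of]
        have : (1 : F) * 1 - (1 + A.det) * 1 = -A.det := by ring
        rw [this, hneg]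
      have htr' : C'.trace = A.trace := by
        rw [hC', Matrix.trace_fin_two_of, htr0]
        rw [← h20]; ring
      rw [hdet', htr'] at hCQ'
      -- A = Q * (Q'⁻¹ * C' * Q') * Q⁻¹
      have hu : IsUnit Q.det := isUnit_iff_ne_zero.mpr hQ
      have hu' : IsUnit Q'.det := isUnit_iff_ne_zero.mpr hQ'
      have hcomp : !![0, -A.det; 1, A.trace] = Q'⁻¹ * C' * Q' := by
        have := g2vl6_conj_back C' Q' _ hQ' hCQ'
        rw [Matrix.nonsing_inv_nonsing_inv Q' hu'] at this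
        exact this.symm
      set P : M2 F := Q' * Q⁻¹ with hP
      have hPdet : P.det ≠ 0 := by
        rw [hP, Matrix.det_mul]
        exact mul_ne_zero hQ' hQi
      have hPinv : P⁻¹ = Q * Q'⁻¹ := by
        rw [hP, Matrix.mul_inv_rev, Matrix.nonsing_inv_nonsing_inv Q hu]
      refine ⟨P, hPdet, D1, D2, h1, h2, ?_⟩
      have hPAP : P * A * P⁻¹ = C' := by
        rw [hPinv, hP, hAQ, hcomp]
        calc Q' * Q⁻¹ * (Q * (Q'⁻¹ * C' * Q') * Q⁻¹) * (Q * Q'⁻¹)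
            = Q' * (Q⁻¹ * Q) * Q'⁻¹ * C' * Q' * (Q⁻¹ * Q) * Q'⁻¹ := by
              simp only [Matrix.mul_assoc]
          _ = (Q' * Q'⁻¹) * C' * (Q' * Q'⁻¹) := by
              rw [Matrix.nonsing_inv_mul Q hu]
              simp only [Matrix.mul_one, Matrix.mul_assoc]
          _ = C' := by rw [Matrix.mul_nonsing_inv Q' hu', Matrix.one_mul, Matrix.mul_one]
      rw [hPAP]
      exact hin

end Cfsg.Agent.Lib.Helper19.G2V
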