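import Mathlib
import Cfsg.Agent.Lib.helper3.S5953.Defs
import Cfsg.Agent.Lib.Lead.HermCount
import Cfsg.Agent.Lib.Lead.Unitary
import Cfsg.Agent.Lib.helper6.HermGram
import Cfsg.Prelude.Def_LieClassical

set_option autoImplicit false

/-!
# Project S5953, row U1 (`nd_gu`)

An isometry of order `r` acting non-trivially on a non-degenerate invariant `d`-space gives an element of
order `r` of `GU_d(q)` (its matrix in an orthonormal basis), so `r ∣ |GU_d(q)|`.
-/

namespace Cfsg.Agent.Lib.helper3.S5953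

open Polynomial Module Matrix

/-- linearity of the hermitian form in its first argument, for linear combinations -/
theorem s5953u1_lc_left {F : Type*} [Field F] {n d q : ℕ} (b : Fin d → (Fin n → F)) (c : Fin d → F)
    (v : Fin n → F) :
    Cfsg.hermForm n F q (∑ k, c k • b k) v = ∑ k, c k * Cfsg.hermForm n F q (b k) v := by
  unfold Cfsg.hermForm
  simp only [Finset.sum_apply, Pi.smul_apply, smul_eq_mul, Finset.sum_mul, Finset.mul_sum]
  rw [Finset.sum_comm]
  refine Finset.sum_congr rfl (fun k _ => Finset.sum_congr rfl (fun i _ => ?_))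
  ring

/-- coordinates with respect to an orthonormal family -/
theorem s5953u1_coord {F : Type*} [Field F] {n d q : ℕ} (b : Fin d → (Fin n → F))
    (hb : ∀ i j, Cfsg.hermForm n F q (b i) (b j) = if i = j then 1 else 0) (c : Fin d → F) (j : Fin d) :
    Cfsg.hermForm n F q (∑ k, c k • b k) (b j) = c j := by
  rw [s5953u1_lc_left]
  simp only [hb, mul_ite, mul_one, mul_zero]
  rw [Finset.sum_ite_eq' Finset.univ j]
  simp

/-- the Gram identity for an orthonormal family -/
theorem s5953u1_gram {F : Type*} [Field F] [Fintype F] {n d q : ℕ} (hF : Fintype.card F = q ^ 2)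
    (b : Fin d → (Fin n → F))
    (hb : ∀ i j, Cfsg.hermForm n F q (b i) (b j) = if i = j then 1 else 0) (c c' : Fin d → F) :
    Cfsg.hermForm n F q (∑ k, c k • b k) (∑ k, c' k • b k) = Cfsg.hermForm d F q c c' := by
  obtain ⟨σ, hσ⟩ := Cfsg.Agent.Lib.Lead.exists_frob hF
  have hσσ := Cfsg.Agent.Lib.Lead.frob_frob hF σ hσ
  rw [s5953u1_lc_left]
  have h2 : ∀ k, Cfsg.hermForm n F q (b k) (∑ k, c' k • b k) = c' k ^ q := by
    intro k
    have h1 := Cfsg.Agent.Lib.Lead.herm_symm (n := n) σ hσ hσσ (b k) (∑ k, c' k • b k)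
    rw [h1, s5953u1_coord b hb c' k, hσ]
  simp only [h2]
  rfl

theorem s5953u1_core {F : Type*} [Field F] [Fintype F] {q n : ℕ} (hF : Fintype.card F = q ^ 2)
    {r : ℕ} [Fact r.Prime] {y : Module.End F (Fin n → F)} (h : HCtx q r 1 y)
    (N : Submodule F (Fin n → F)) (hN : HInv y N) (hne : ∃ v ∈ N, y v ≠ v)
    (d : ℕ) (b : Fin d → (Fin n → F)) (hspan : Submodule.span F (Set.range b) = N)
    (hb : ∀ i j, Cfsg.hermForm n F q (b i) (b j) = if i = j then 1 else 0) :
    r ∣ Nat.card (Cfsg.GU d F q) := by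
  classical
  -- the parametrisation
  have hφN : ∀ c : Fin d → F, (∑ k, c k • b k) ∈ N := by
    intro c
    refine Submodule.sum_mem _ (fun k _ => Submodule.smul_mem _ _ ?_)
    rw [← hspan]
    exact Submodule.subset_span ⟨k, rfl⟩
  have hφsurj : ∀ v ∈ N, ∃ c : Fin d → F, v = ∑ k, c k • b k := by
    intro v hv
    rw [← hspan] at hv
    obtain ⟨c, hc⟩ := (Submodule.mem_span_range_iff_exists_fun F).mp hv
    exact ⟨c, hc.symm⟩
  have hφinj : ∀ c c' : Fin d → F, (∑ k, c k • b k) = (∑ k, c' k • b k) → c = c' := by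
    intro c c' hcc
    funext j
    have h1 := s5953u1_coord (q := q) b hb c j
    have h2 := s5953u1_coord (q := q) b hb c' j
    rw [← h1, ← h2, hcc]
  -- the matrix
  let M : Matrix (Fin d) (Fin d) F := Matrix.of fun j k => Cfsg.hermForm n F q (y (b k)) (b j)
  have hyφ : ∀ c : Fin d → F, y (∑ k, c k • b k) = ∑ k, (M *ᵥ c) k • b k := by
    intro c
    obtain ⟨c', hc'⟩ := hφsurj _ (hN _ (hφN c))
    have hcc : c' = M *ᵥ c := by
      funext j
      have h1 := s5953u1_coord (q := q) b hb c' j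
      rw [← hc', map_sum] at h1
      rw [← h1]
      simp only [map_smul]
      rw [s5953u1_lc_left (fun k => y (b k)) c (b j)]
      simp only [M, Matrix.mulVec, dotProduct, Matrix.of_apply]
      exact Finset.sum_congr rfl (fun k _ => mul_comm _ _)
    rw [hc', hcc]
  have hpowφ : ∀ (t : ℕ) (c : Fin d → F), (y ^ t) (∑ k, c k • b k) = ∑ k, ((M ^ t) *ᵥ c) k • b k := by
    intro t
    induction t with
    | zero => intro c; simp
    | succ t ih =>
      intro c
      rw [pow_succ', Module.End.mul_apply, ih, hyφ, pow_succ', Matrix.mulVec_mulVec]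
  have hMr : M ^ r = 1 := by
    have h0 : ∀ c : Fin d → F, (M ^ r) *ᵥ c = c := by
      intro c
      apply hφinj
      rw [← hpowφ, h.pow]
      simp
    ext i j
    have := congrFun (h0 (Pi.single j 1)) i
    rw [Matrix.mulVec_single_one] at this
    rw [Matrix.one_apply]
    simpa [Matrix.col_apply, Pi.single_apply, eq_comm] using this
  have hr : r.Prime := Fact.out
  have hMne : M ≠ 1 := by
    intro hM1
    obtain ⟨v, hvN, hv⟩ := hne
    obtain ⟨c, hc⟩ := hφsurj v hvN
    apply hv
    rw [hc, hyφ, hM1, Matrix.one_mulVec]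
  have hpres : ∀ u v, Cfsg.hermForm d F q (M *ᵥ u) (M *ᵥ v) = Cfsg.hermForm d F q u v := by
    intro u v
    rw [← s5953u1_gram hF b hb, ← hyφ, ← hyφ, ← s5953u1_gram hF b hb u v]
    exact h.pres _ _
  -- the unit
  have hr1 : r = (r - 1) + 1 := by have := hr.pos; omega
  have hMM : M * M ^ (r - 1) = 1 := by rw [← pow_succ', ← hr1, hMr]
  have hMM' : M ^ (r - 1) * M = 1 := by rw [← pow_succ, ← hr1, hMr]
  let g : Matrix.GeneralLinearGroup (Fin d) F := ⟨M, M ^ (r - 1), hMM, hMM'⟩
  have hg : g ∈ Cfsg.GU d F q := by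
    intro u v
    exact hpres u v
  have hgr : g ^ r = 1 := by
    apply Units.ext
    rw [Units.val_pow_eq_pow_val]
    exact hMr
  have hg1 : g ≠ 1 := by
    intro hg1
    apply hMne
    have := congrArg Units.val hg1
    exact this
  have hord : orderOf g = r := orderOf_eq_prime hgr hg1
  let g' : Cfsg.GU d F q := ⟨g, hg⟩
  have hord' : orderOf g' = r := by
    rw [← hord]
    exact Subgroup.orderOf_mk g hg
  rw [← hord']
  exact orderOf_dvd_natCard g'

theorem nd_gu {F : Type*} [Field F] [Fintype F] {q n : ℕ} (hF : Fintype.card F = q ^ 2)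
    {r : ℕ} [Fact r.Prime] {y : Module.End F (Fin n → F)} (h : HCtx q r 1 y)
    (N : Submodule F (Fin n → F)) (hN : HInv y N) (hNnd : HND q N) (hne : ∃ v ∈ N, y v ≠ v) :
    r ∣ Nat.card (Cfsg.GU (finrank F N) F q) := by
  obtain ⟨b, _, hspan, hb⟩ := Cfsg.Agent.Lib.helper6.HF.exists_orthonormal hF N hNnd
  exact s5953u1_core hF h N hN hne _ b hspan hb

end Cfsg.Agent.Lib.helper3.S5953
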