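import Mathlib
import Cfsg.Agent.Lib.helper3.S5953.Defs
import Cfsg.Agent.Lib.Lead.S5953U1
import Cfsg.Agent.Lib.Helper24.ElD

set_option autoImplicit false

/-!
# Project S5953, row S1 (`nsd`): the core, with the statements of U2 (`gu_dvd`) and A2 (`ord_neg`) as
hypotheses.
-/

namespace Cfsg.Agent.Lib.helper3.S5953

open Polynomial Module

/-- A3 (own copy): a prime `r ≠ p` does not divide `q` when `|F| = q ^ 2`. -/
theorem s5953s1_r_not_dvd_q {F : Type*} [Field F] [Fintype F] {p : ℕ} [Fact p.Prime] [CharP F p] {q : ℕ}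
    (hF : Fintype.card F = q ^ 2) (r : ℕ) [Fact r.Prime] (hrp : r ≠ p) : ¬ r ∣ q := by
  intro hrq
  obtain ⟨k, _, hk⟩ := FiniteField.card F p
  have hp : p.Prime := Fact.out
  have hr : r.Prime := Fact.out
  have h1 : r ∣ p ^ (k : ℕ) := by
    rw [← hk, hF]
    exact dvd_pow hrq (by norm_num)
  have h2 := hr.dvd_of_dvd_pow h1
  exact hrp ((Nat.prime_dvd_prime_iff_eq hr hp).mp h2)

/-- a non-zero vector of `ker Φ_r(y)` is moved by `y` -/
theorem s5953s1_moved {F : Type*} [Field F] {p : ℕ} [Fact p.Prime] [CharP F p]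
    {r : ℕ} [Fact r.Prime] (hrp : r ≠ p) {V : Type*} [AddCommGroup V] [Module F V]
    (y : Module.End F V) (v : V) (hv : v ∈ cycS r y) (hv0 : v ≠ 0) : y v ≠ v := by
  intro hyv
  have hcop : IsCoprime (X - 1 : F[X]) (cyclotomic r F) :=
    Cfsg.Agent.Lib.Helper24.el_cyc_coprime (F := F) (p := p) r hrp
  have hdis := Polynomial.disjoint_ker_aeval_of_isCoprime y hcop
  have hfix : v ∈ LinearMap.ker (aeval y (X - 1 : F[X])) := by
    rw [LinearMap.mem_ker]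
    simp [hyv]
  have := (Submodule.disjoint_def.mp hdis) v hfix hv
  exact hv0 this

theorem s5953s1_core {F : Type*} [Field F] [Fintype F] {p : ℕ} [Fact p.Prime] [CharP F p] {q n : ℕ}
    (hF : Fintype.card F = q ^ 2) {r : ℕ} [Fact r.Prime] (hrp : r ≠ p) (hr2 : r ≠ 2)
    (hU2 : ∀ d : ℕ, r ∣ Nat.card (Cfsg.GU d F q) →
      ∃ j : ℕ, 1 ≤ j ∧ j ≤ d ∧ (-(q : ZMod r)) ^ j = 1)
    (hA2 : ¬ r ∣ q → orderOf (-(q : ZMod r)) = cc (orderOf (q : ZMod r)))
    {y : Module.End F (Fin n → F)} (h : HCtx q r 1 y)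
    (N : Submodule F (Fin n → F)) (hN : HInv y N) (hNnd : HND q N) (hNc : N ≤ cycS r y)
    (hN0 : N ≠ ⊥) : cc (orderOf (q : ZMod r)) ≤ finrank F N := by
  obtain ⟨v, hvN, hv0⟩ := (Submodule.ne_bot_iff N).mp hN0
  have hmv : y v ≠ v := s5953s1_moved (p := p) hrp y v (hNc hvN) hv0
  have hdvd := nd_gu hF h N hN hNnd ⟨v, hvN, hmv⟩
  obtain ⟨j, hj1, hjd, hj⟩ := hU2 _ hdvd
  have hord := hA2 (s5953s1_r_not_dvd_q hF r hrp)
  have h1 : orderOf (-(q : ZMod r)) ∣ j := orderOf_dvd_of_pow_eq_one hj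
  rw [hord] at h1
  exact le_trans (Nat.le_of_dvd (by omega) h1) hjd

end Cfsg.Agent.Lib.helper3.S5953
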