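import Mathlib
import Cfsg.Agent.Lib.Lead.S5953S1core
import Cfsg.Agent.Lib.helper23.S5953A2
import Cfsg.Agent.Lib.helper23.S5953U2

set_option autoImplicit false

/-! # Project S5953, row S1 (`nsd`), verbatim -/

namespace Cfsg.Agent.Lib.helper3.S5953

open Polynomial Module

theorem nsd {F : Type*} [Field F] [Fintype F] {p : ℕ} [Fact p.Prime] [CharP F p] {q n : ℕ}
    (hF : Fintype.card F = q ^ 2) {r : ℕ} [Fact r.Prime] (hrp : r ≠ p) (hr2 : r ≠ 2)
    {y : Module.End F (Fin n → F)} (h : HCtx q r 1 y)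
    (N : Submodule F (Fin n → F)) (hN : HInv y N) (hNnd : HND q N) (hNc : N ≤ cycS r y)
    (hN0 : N ≠ ⊥) : cc (orderOf (q : ZMod r)) ≤ finrank F N :=
  s5953s1_core hF hrp hr2 (fun d hd => gu_dvd (p := p) hF d r hrp hd) (fun hq => ord_neg q r hr2 hq)
    h N hN hNnd hNc hN0

end Cfsg.Agent.Lib.helper3.S5953
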