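import Mathlib
import Cfsg.Agent.Lib.helper3.S5953.Defs
import Cfsg.Agent.Lib.Lead.S5953S1
import Cfsg.Agent.Lib.Helper24.ElD

set_option autoImplicit false

/-!
# Project S5953, row S2 (`lag_full`): the core, with the statements of T4 (`perp_inv`) and T6 (`peel_ti`)
as hypotheses.  Transplant of helper28's `s5955t9_core`.
-/

namespace Cfsg.Agent.Lib.helper3.S5953

open Polynomial Module

/-- A1 (own copy): `ord_r(q²) = b`. -/
theorem s5953s2_ord_sq (q r : ℕ) : orderOf (((q ^ 2 : ℕ) : ZMod r)) = bb (orderOf (q : ZMod r)) := by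
  rw [Nat.cast_pow, orderOf_pow' _ (by norm_num : (2 : ℕ) ≠ 0)]
  unfold bb
  by_cases he : Even (orderOf (q : ZMod r))
  · rw [if_pos he]
    have : Nat.gcd (orderOf (q : ZMod r)) 2 = 2 := by
      obtain ⟨k, hk⟩ := he
      rw [hk, ← two_mul]
      exact Nat.gcd_mul_right_left k 2
    rw [this]
  · rw [if_neg he]
    have ho : Odd (orderOf (q : ZMod r)) := Nat.not_even_iff_odd.mp he
    have : Nat.gcd (orderOf (q : ZMod r)) 2 = 1 := by
      have := Nat.Coprime.symm (Nat.coprime_two_left.mpr ho)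
      exact this
    rw [this, Nat.div_one]

theorem s5953s2_arith (i : ℕ) (hi : i % 4 ≠ 2) (h0 : 0 < bb i) : bb i < cc i := by
  unfold bb cc at *
  by_cases he : Even i
  · rw [if_pos he] at h0 ⊢
    obtain ⟨k, hk⟩ := he
    have h4 : i % 4 = 0 := by omega
    rw [if_pos h4]
    omega
  · rw [if_neg he] at h0 ⊢
    have ho : i % 2 = 1 := Nat.odd_iff.mp (Nat.not_even_iff_odd.mp he)
    have h4 : i % 4 ≠ 0 := by omega
    rw [if_neg h4, if_neg hi]
    omega

/-- orthogonality is symmetric -/
theorem s5953s2_symm0 {F : Type*} [Field F] [Fintype F] {q n : ℕ} (hF : Fintype.card F = q ^ 2)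
    (u v : Fin n → F) (h : hermI (Fin n) F q u v = 0) : hermI (Fin n) F q v u = 0 := by
  obtain ⟨σ, hσ⟩ := Cfsg.Agent.Lib.Lead.exists_frob hF
  have hσσ := Cfsg.Agent.Lib.Lead.frob_frob hF σ hσ
  have h1 := Cfsg.Agent.Lib.Lead.herm_symm (n := n) σ hσ hσσ v u
  rw [hermI_fin] at h ⊢
  rw [h1, h, map_zero]

theorem s5953s2_core {F : Type*} [Field F] [Fintype F] {p : ℕ} [Fact p.Prime] [CharP F p] {q n : ℕ}
    (hF : Fintype.card F = q ^ 2) {r : ℕ} [Fact r.Prime] (hrp : r ≠ p) (hr2 : r ≠ 2)
    {y : Module.End F (Fin n → F)} (h : HCtx q r 1 y) (hi : orderOf (q : ZMod r) % 4 ≠ 2)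
    (hpinv : ∀ U : Submodule F (Fin n → F), HInv y U → HInv y (hperp q U))
    (hpeel : ∀ N U : Submodule F (Fin n → F), HInv y N → HND q N → U ≤ N → HInv y U → HTI q U →
      ∃ N' : Submodule F (Fin n → F), N' ≤ N ∧ HInv y N' ∧ HND q N' ∧ HOrth q U N' ∧ Disjoint U N' ∧
        finrank F N' + 2 * finrank F U = finrank F N) :
    ∀ (k : ℕ) (N : Submodule F (Fin n → F)), finrank F N = k → HInv y N → N ≤ cycS r y → HND q N →
      ∃ T : Submodule F (Fin n → F), T ≤ N ∧ HInv y T ∧ HTI q T ∧
        2 * finrank F T = finrank F N := by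
  obtain ⟨i, hidef⟩ : ∃ i, i = orderOf ((Fintype.card F : ℕ) : ZMod r) := ⟨_, rfl⟩
  have hipos : 0 < i := by
    rw [hidef]
    exact Cfsg.Agent.Lib.Helper24.el_ord_pos (F := F) (p := p) r hrp
  have hibb : i = bb (orderOf (q : ZMod r)) := by
    rw [hidef, hF]
    exact s5953s2_ord_sq q r
  have hQ0 : cyclotomic r F ≠ 0 := cyclotomic_ne_zero r F
  have hdeg : ∀ P : F[X], Irreducible P → P ∣ cyclotomic r F → P.natDegree = i := by
    intro P hP hPd
    rw [hidef]
    exact Cfsg.Agent.Lib.Helper24.el_cyc_deg (F := F) (p := p) r hrp P hP hPd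
  intro k
  induction k using Nat.strong_induction_on with
  | _ k ih =>
    intro N hk hN hNc hNnd
    by_cases h0 : k = 0
    · refine ⟨⊥, bot_le, Cfsg.Agent.Lib.Helper24.el_inv_bot y, ?_, ?_⟩
      · intro u hu v _
        rw [(Submodule.mem_bot F).mp hu, hermI_zero_left]
      · rw [finrank_bot, hk, h0]
    · have hkillN : ∀ u ∈ N, aeval y (cyclotomic r F) u = 0 := fun u hu =>
        LinearMap.mem_ker.mp (hNc hu)
      have hdvdN : i ∣ finrank F N :=
        Cfsg.Agent.Lib.Helper24.el_dvd_dim y N hN (cyclotomic r F) hQ0 hkillN i hipos hdeg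
      have hile : 1 * i ≤ finrank F N := by
        rw [one_mul]
        apply Nat.le_of_dvd _ hdvdN
        omega
      obtain ⟨Y, hYN, hY, hYd⟩ :=
        Cfsg.Agent.Lib.Helper24.el_exists_dim y N hN (cyclotomic r F) hQ0 hkillN i hdeg 1 hile
      rw [one_mul] at hYd
      -- the radical of Y
      have hRinv : HInv y (Y ⊓ hperp q Y) :=
        Cfsg.Agent.Lib.Helper24.el_inv_inf hY (hpinv Y hY)
      have hRkill : ∀ u ∈ Y ⊓ hperp q Y, aeval y (cyclotomic r F) u = 0 := fun u hu =>
        hkillN u (hYN hu.1)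
      have hRdvd : i ∣ finrank F ↥(Y ⊓ hperp q Y) :=
        Cfsg.Agent.Lib.Helper24.el_dvd_dim y _ hRinv (cyclotomic r F) hQ0 hRkill i hipos hdeg
      have hRle : finrank F ↥(Y ⊓ hperp q Y) ≤ finrank F Y :=
        Submodule.finrank_mono inf_le_left
      have hYti : HTI q Y := by
        by_cases hR0 : finrank F ↥(Y ⊓ hperp q Y) = 0
        · exfalso
          have hbot : Y ⊓ hperp q Y = ⊥ := Submodule.finrank_eq_zero.mp hR0
          have hYnd : HND q Y := by
            intro u hu huv
            have : u ∈ Y ⊓ hperp q Y := ⟨hu, fun w hw => huv w hw⟩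
            rw [hbot] at this
            exact (Submodule.mem_bot F).mp this
          have hYne : Y ≠ ⊥ := by
            intro hYb
            rw [hYb, finrank_bot] at hYd
            omega
          have hle := nsd (p := p) hF hrp hr2 h Y hY hYnd (le_trans hYN hNc) hYne
          rw [hYd, hibb] at hle
          have hlt := s5953s2_arith _ hi (by rw [← hibb]; exact hipos)
          omega
        · have hReq : finrank F ↥(Y ⊓ hperp q Y) = finrank F Y := by
            obtain ⟨k', hk'⟩ := hRdvd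
            rw [hYd] at hRle ⊢
            rcases Nat.eq_zero_or_pos k' with hk0 | hkpos
            · rw [hk0, mul_zero] at hk'; exact absurd hk' hR0
            · have : i * k' ≥ i * 1 := Nat.mul_le_mul_left i hkpos
              rw [hk']
              rw [hk'] at hRle
              omega
          have hRY : Y ⊓ hperp q Y = Y :=
            Submodule.eq_of_le_of_finrank_eq inf_le_left hReq
          intro u hu v hv
          have hu' : u ∈ Y ⊓ hperp q Y := by rw [hRY]; exact hu
          exact hu'.2 v hv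
      obtain ⟨N', hN'N, hN', hN'nd, hort, hdisj, hdim⟩ := hpeel N Y hN hNnd hYN hY hYti
      have hlt : finrank F N' < k := by
        rw [← hk, ← hdim, hYd]
        omega
      obtain ⟨T', hT'N', hT', hT'ti, hT'd⟩ :=
        ih (finrank F N') hlt N' rfl hN' (le_trans hN'N hNc) hN'nd
      refine ⟨Y ⊔ T', sup_le hYN (le_trans hT'N' hN'N),
        Cfsg.Agent.Lib.Helper24.el_inv_sup hY hT', ?_, ?_⟩
      · -- totally isotropic
        have hleft : ∀ u ∈ Y ⊔ T', ∀ v ∈ Y, hermI (Fin n) F q u v = 0 := by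
          intro u hu v hv
          obtain ⟨y1, hy1, t1, ht1, rfl⟩ := Submodule.mem_sup.mp hu
          rw [hermI_add_left, hYti y1 hy1 v hv,
            s5953s2_symm0 hF v t1 (hort v hv t1 (hT'N' ht1)), add_zero]
        have hleft' : ∀ u ∈ Y ⊔ T', ∀ v ∈ T', hermI (Fin n) F q u v = 0 := by
          intro u hu v hv
          obtain ⟨y1, hy1, t1, ht1, rfl⟩ := Submodule.mem_sup.mp hu
          rw [hermI_add_left, hort y1 hy1 v (hT'N' hv), hT'ti t1 ht1 v hv, add_zero]
        intro u hu v hv
        obtain ⟨y2, hy2, t2, ht2, rfl⟩ := Submodule.mem_sup.mp hv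
        apply s5953s2_symm0 hF
        rw [hermI_add_left, s5953s2_symm0 hF u y2 (hleft u hu y2 hy2),
          s5953s2_symm0 hF u t2 (hleft' u hu t2 ht2), add_zero]
      · have hdisj' : Disjoint Y T' := hdisj.mono_right hT'N'
        have hsum := Submodule.finrank_sup_add_finrank_inf_eq Y T'
        rw [hdisj'.eq_bot, finrank_bot, add_zero] at hsum
        rw [hsum, ← hdim]
        omega

end Cfsg.Agent.Lib.helper3.S5953
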