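import Mathlib
import Cfsg.Agent.Lib.Lead.S5953S2core
import Cfsg.Agent.Lib.Helper25.S5953T4
import Cfsg.Agent.Lib.Helper27.S5953T6

set_option autoImplicit false

/-! # Project S5953, row S2 (`lag_full`), verbatim -/

namespace Cfsg.Agent.Lib.helper3.S5953

open Polynomial Module

theorem lag_full {F : Type*} [Field F] [Fintype F] {p : ℕ} [Fact p.Prime] [CharP F p] {q n : ℕ}
    (hF : Fintype.card F = q ^ 2) {r : ℕ} [Fact r.Prime] (hrp : r ≠ p) (hr2 : r ≠ 2)
    {y : Module.End F (Fin n → F)} (h : HCtx q r 1 y) (hi : orderOf (q : ZMod r) % 4 ≠ 2)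
    (N : Submodule F (Fin n → F)) (hN : HInv y N) (hNc : N ≤ cycS r y) (hNnd : HND q N) :
    ∃ T : Submodule F (Fin n → F), T ≤ N ∧ HInv y T ∧ HTI q T ∧
      2 * finrank F T = finrank F N := by
  have hr0 : 0 < r := (Fact.out : r.Prime).pos
  have hrF : (r : F) ≠ 0 := Cfsg.Agent.Lib.Helper24.el_cast_ne_zero (F := F) (p := p) r hrp
  exact s5953s2_core (p := p) hF hrp hr2 h hi
    (fun U hU => perp_inv hr0 h U hU)
    (fun N U hN hNnd hUN hU hUti => peel_ti hF hrF h N U hN hNnd hUN hU hUti)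
    (finrank F N) N rfl hN hNc hNnd

end Cfsg.Agent.Lib.helper3.S5953
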