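import Cfsg.Agent.Lib.Lead.UDK1Q2FLD

set_option autoImplicit false

namespace Cfsg.Agent.Lib.Lead.UDK1Q2

open Matrix Cfsg.Agent.Lib.Helper29.ExtrL Cfsg.Agent.Lib.Helper28.UMax

variable {n : ℕ} {F : Type*} [Field F] [Fintype F] [DecidableEq F]

/-- the monomial matrix `permMatrix π * diagonal d`. -/
def q2mono_mat (π : Equiv.Perm (Fin n)) (d : Fin n → F) : Matrix (Fin n) (Fin n) F :=
  Equiv.Perm.permMatrix F π * Matrix.diagonal d

theorem q2mono_apply (π : Equiv.Perm (Fin n)) (d : Fin n → F) (i j : Fin n) :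
    q2mono_mat π d i j = if π i = j then d j else 0 := by
  unfold q2mono_mat
  rw [Matrix.mul_diagonal, Equiv.Perm.permMatrix, PEquiv.toMatrix_apply]
  simp only [Equiv.toPEquiv_apply, Option.mem_def, Option.some.injEq]
  split_ifs <;> simp

theorem q2mono_mulVec (π : Equiv.Perm (Fin n)) (d : Fin n → F) (x : Fin n → F) :
    q2mono_mat π d *ᵥ x = fun i => d (π i) * x (π i) := by
  funext i
  rw [Matrix.mulVec, dotProduct]
  simp_rw [q2mono_apply]
  rw [Finset.sum_eq_single (π i)]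
  · simp
  · intro j _ hj
    rw [if_neg (fun h => hj h.symm), zero_mul]
  · intro h; exact absurd (Finset.mem_univ _) h

theorem q2mono_det (hF : Fintype.card F = 4) (π : Equiv.Perm (Fin n)) (d : Fin n → F)
    (hdet : ∏ i, d i = 1) : (q2mono_mat π d).det = 1 := by
  unfold q2mono_mat
  rw [Matrix.det_mul, Matrix.det_diagonal, hdet, mul_one, Matrix.det_permutation]
  have h2 := q2_two hF
  have hneg : (-1 : F) = 1 := by
    have : (1 : F) + 1 = 0 := by rw [one_add_one_eq_two, h2]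
    exact neg_eq_of_add_eq_zero_left this
  rcases Int.units_eq_one_or (Equiv.Perm.sign π) with h | h
  · rw [h]; simp
  · rw [h]; simp [hneg]

theorem q2_mono_conj (C : Ctx n F) (π : Equiv.Perm (Fin n)) (d : Fin n → F) (hd : ∀ i, d i ≠ 0)
    (hdet : ∏ i, d i = 1) {y : Fin n → F} (hy : y ∈ C.X) :
    (fun i => d (π i) * y (π i)) ∈ C.X := by
  have hdet1 := q2mono_det C.hF π d hdet
  let g : Matrix.GeneralLinearGroup (Fin n) F :=
    Matrix.GeneralLinearGroup.mkOfDetNeZero (q2mono_mat π d) (by rw [hdet1]; exact one_ne_zero)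
  have hgm : (g : Matrix (Fin n) (Fin n) F) = q2mono_mat π d := rfl
  have hiso : ∀ x x', Cfsg.hermForm n F 2 ((g : Matrix (Fin n) (Fin n) F) *ᵥ x)
      ((g : Matrix (Fin n) (Fin n) F) *ᵥ x') = Cfsg.hermForm n F 2 x x' := by
    intro x x'
    rw [hgm, q2mono_mulVec, q2mono_mulVec]
    unfold Cfsg.hermForm
    rw [← Equiv.sum_comp π (fun j => x j * x' j ^ 2)]
    refine Finset.sum_congr rfl (fun i _ => ?_)
    have h3 := q2_cube C.hF (hd (π i))
    have : d (π i) * x (π i) * (d (π i) * x' (π i)) ^ 2 = d (π i) ^ 3 * (x (π i) * x' (π i) ^ 2) := by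
      ring
    rw [this, h3, one_mul]
  have hgG : g ∈ Cfsg.GU n F 2 ⊓ Cfsg.Geo.specialLinear (Fin n) F := by
    rw [Subgroup.mem_inf]
    refine ⟨hiso, ?_⟩
    unfold Cfsg.Geo.specialLinear
    rw [MonoidHom.mem_ker]
    ext
    simp only [Matrix.GeneralLinearGroup.val_det_apply, Units.val_one]
    rw [hgm]
    exact hdet1
  have hmono : IsMono (g : Matrix (Fin n) (Fin n) F) := by
    intro a
    refine ⟨π.symm a, fun i hi => ?_⟩
    rw [hgm, q2mono_apply, if_neg]
    intro h
    apply hi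
    rw [← h, Equiv.symm_apply_apply]
  have hgM : g ∈ C.M := C.hN g hgG hmono
  have := XS_conj C.M hgM hiso hy
  rw [hgm, q2mono_mulVec] at this
  exact this

end Cfsg.Agent.Lib.Lead.UDK1Q2
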