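import Cfsg.Agent.Lib.Helper21.TS.Basic

/-!
# Project TS (S5666), piece PROPER (lead): `ts_proper` VERBATIM.
A transvection whose centre is a pure tensor `u ⊗ w` lies in `Sp(V)` and is not a Kronecker product.
-/

set_option autoImplicit false
set_option linter.unusedSectionVars false
set_option linter.unusedVariables false

namespace Cfsg.Agent.Lib.Helper21.TS

open Matrix
open scoped Kronecker
open Cfsg.Agent.Lib.helper7.TP

variable {a b : ℕ} {F : Type*} [Field F]
  {J1 : Matrix (Fin a) (Fin a) F} {J2 : Matrix (Fin b) (Fin b) F}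

/-- a non-zero vector orthogonal to `w` (dimension at least two). -/
theorem tsproper_orth (J : Matrix (Fin b) (Fin b) F) (hb : 2 ≤ b) (w : Fin b → F) :
    ∃ y : Fin b → F, y ≠ 0 ∧ bf J w y = 0 := by
  set f : (Fin b → F) →ₗ[F] (Fin 1 → F) :=
    Matrix.mulVecLin (Matrix.of fun (_ : Fin 1) (j : Fin b) => (w ᵥ* J) j) with hf
  have hker : LinearMap.ker f ≠ ⊥ := by
    apply LinearMap.ker_ne_bot_of_finrank_lt
    rw [Module.finrank_fin_fun, Module.finrank_fin_fun]
    omega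
  obtain ⟨y, hy, hy0⟩ := (Submodule.ne_bot_iff _).mp hker
  refine ⟨y, hy0, ?_⟩
  have h0 := congrFun (LinearMap.mem_ker.mp hy) 0
  rw [hf, Matrix.mulVecLin_apply] at h0
  simp only [Matrix.mulVec, Matrix.of_apply, Pi.zero_apply] at h0
  rw [bf, Matrix.dotProduct_mulVec]
  exact h0

/-- a transvection `≠ 1` with centre a pure tensor is not a Kronecker product. -/
theorem tsproper_tv_not_mem_K0 (C : Ctx J1 J2) (hb : 2 ≤ b) (u : Fin a → F) (w : Fin b → F)
    (hu : u ≠ 0) (hw : w ≠ 0) (c : F) (hc : c ≠ 0)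
    (t : Matrix.GeneralLinearGroup (Fin a × Fin b) F)
    (ht : (t : Matrix (Fin a × Fin b) (Fin a × Fin b) F) = tvm (JV J1 J2) (ten u w) c) :
    t ∉ K0 a b F := by
  intro hK
  obtain ⟨α, β, hαβ⟩ := (mem_K0 t).mp hK
  have hact : ∀ (x : Fin a → F) (y : Fin b → F),
      ten ((α : Matrix (Fin a) (Fin a) F) *ᵥ x) ((β : Matrix (Fin b) (Fin b) F) *ᵥ y) =
        ten x y + (c * (bf J1 u x * bf J2 w y)) • ten u w := by
    intro x y
    rw [← kron_mulVec_ten, ← hαβ, ht, tvm_mulVec, bf_JV_ten]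
  obtain ⟨u', hu'⟩ := bf_nondeg C.det1 hu
  obtain ⟨w', hw'⟩ := bf_nondeg C.det2 hw
  obtain ⟨w1, hw1, hww1⟩ := tsproper_orth J2 hb w
  have hu'0 : u' ≠ 0 := by
    intro h
    rw [h, bf_zero_right] at hu'
    exact hu' rfl
  obtain ⟨i1, hi1⟩ : ∃ i, u' i ≠ 0 := by
    by_contra hcon
    push Not at hcon
    exact hu'0 (funext hcon)
  obtain ⟨j1, hj1⟩ : ∃ j, w1 j ≠ 0 := by
    by_contra hcon
    push Not at hcon
    exact hw1 (funext hcon)
  obtain ⟨j0, hj0⟩ : ∃ j, w j ≠ 0 := by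
    by_contra hcon
    push Not at hcon
    exact hw (funext hcon)
  -- step 1 : `α u'` is a multiple of `u'`
  have h1 := hact u' w1
  rw [hww1, mul_zero, mul_zero, zero_smul, add_zero] at h1
  set n := ((β : Matrix (Fin b) (Fin b) F) *ᵥ w1) j1 with hn
  have h1i : ∀ i, ((α : Matrix (Fin a) (Fin a) F) *ᵥ u') i * n = u' i * w1 j1 := by
    intro i
    have := congrFun h1 (i, j1)
    simpa [ten] using this
  have hn0 : n ≠ 0 := by
    intro h0
    have := h1i i1
    rw [h0, mul_zero] at this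
    exact mul_ne_zero hi1 hj1 this.symm
  obtain ⟨lam, hαu'⟩ : ∃ lam : F, ∀ i, ((α : Matrix (Fin a) (Fin a) F) *ᵥ u') i = lam * u' i := by
    refine ⟨w1 j1 / n, ?_⟩
    intro i
    have := h1i i
    rw [div_mul_eq_mul_div, eq_div_iff hn0]
    linear_combination this
  -- step 2 : `u` is a multiple of `u'`
  have h2 := hact u' w'
  obtain ⟨K, hKdef⟩ : ∃ K : F, K = c * (bf J1 u u' * bf J2 w w') := ⟨_, rfl⟩
  rw [← hKdef] at h2
  have hK0 : K ≠ 0 := by
    rw [hKdef]
    exact mul_ne_zero hc (mul_ne_zero hu' hw')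
  obtain ⟨B, hB⟩ : ∃ B : F, B = ((β : Matrix (Fin b) (Fin b) F) *ᵥ w') j0 := ⟨_, rfl⟩
  have h2i : ∀ i, lam * u' i * B = u' i * w' j0 + K * (u i * w j0) := by
    intro i
    have := congrFun h2 (i, j0)
    simp only [ten, Pi.add_apply, Pi.smul_apply, smul_eq_mul] at this
    rw [hαu' i, ← hB] at this
    exact this
  have hne : K * w j0 ≠ 0 := mul_ne_zero hK0 hj0
  have hmu : ∀ i, u i = ((lam * B - w' j0) / (K * w j0)) * u' i := by
    intro i
    have := h2i i
    rw [div_mul_eq_mul_div, eq_div_iff hne]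
    linear_combination (-1 : F) * this
  have hu_eq : u = ((lam * B - w' j0) / (K * w j0)) • u' := by
    funext i
    rw [Pi.smul_apply, smul_eq_mul]
    exact hmu i
  apply hu'
  rw [hu_eq, bf_smul_left, bf_self_alt C.alt C.two, mul_zero]

/-- PROPER. -/
theorem ts_proper (C : Ctx J1 J2) (ha : 2 ≤ a) (hb : 3 ≤ b) : T0 J1 J2 < SpV J1 J2 := by
  refine lt_of_le_of_ne inf_le_right ?_
  intro heq
  set u : Fin a → F := Pi.single (⟨0, by omega⟩ : Fin a) 1 with hu
  set w : Fin b → F := Pi.single (⟨0, by omega⟩ : Fin b) 1 with hw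
  have hu0 : u ≠ 0 := by
    intro h
    have := congrFun h (⟨0, by omega⟩ : Fin a)
    simp [hu] at this
  have hw0 : w ≠ 0 := by
    intro h
    have := congrFun h (⟨0, by omega⟩ : Fin b)
    simp [hw] at this
  have hv : bf (JV J1 J2) (ten u w) (ten u w) = 0 := by
    rw [bf_JV_ten, bf_self_alt C.alt C.two, zero_mul]
  have hS : tvG (JV J1 J2) (ten u w) hv 1 ∈ SpV J1 J2 :=
    tvG_mem_Iso (JV_transpose C.alt C.sym) (ten u w) hv 1
  have hT : tvG (JV J1 J2) (ten u w) hv 1 ∈ T0 J1 J2 := by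
    rw [heq]
    exact hS
  exact tsproper_tv_not_mem_K0 C (by omega) u w hu0 hw0 1 one_ne_zero _ (tvG_coe _ _ hv 1)
    (Subgroup.mem_inf.mp hT).1

end Cfsg.Agent.Lib.Helper21.TS
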