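import Cfsg.Agent.Lib.Helper21.TOO.LDefs
import Cfsg.Agent.Lib.Helper21.TOO.LG1
import Cfsg.Agent.Lib.Helper21.TSCALC1
import Cfsg.Agent.Lib.Helper10.TSHYPB

/-!
# Project TOO, LOCAL block, row LA4 (written by lead): `alg_central_O`
`Z - α Z α⁻¹` scalar for all `α ∈ Ω(J)` ⟹ `Z` scalar.

Proof.  `Z† = J⁻¹ Zᵀ J` satisfies the same relations (same scalars), so `η = Z + Z†` is self-adjoint with `η - α η α⁻¹ = 2 s(α)`.
For a hyperbolic pair `(w, w')`, TS row CALC1 (`calc_one`, which contains the two cases `|F| ≥ 5` / `a ≥ 4`) applied to `η` shows that `η` commutes with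
all Siegel elements `ρ_{w,z}`; hence `2 s(ρ_{w,z}) = 0`, i.e. `Z` itself commutes with every `ρ_{w,z}` and every `ρ_{w',z}`.
Evaluating `Z ρ_{w,±z₀} = ρ_{w,±z₀} Z` on `w'` (`z₀ ⊥ w, w'` non-singular): `Z w = f(w, Z w') w`; the same for `w'`, with the same eigenvalue `γ`;
evaluating `Z ρ_{w,u} = ρ_{w,u} Z` on `w'` for `u ⊥ w, w'`: `Z u = γ u`.  So `Z = γ`.
-/

set_option autoImplicit false
set_option linter.unusedSectionVars false
set_option linter.unusedVariables false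

namespace Cfsg.Agent.Lib.Helper28.TOO

open Matrix
open scoped Kronecker
open Cfsg.Agent.Lib.helper7.TP Cfsg.Agent.Lib.Helper21.TS

variable {a : ℕ} {F : Type*} [Field F]

/-- a non-singular vector orthogonal to a hyperbolic pair (dimension `≥ 3`). -/
theorem toola4_nonsing {J : Matrix (Fin a) (Fin a) F} (hJ : Jᵀ = J) (two : (2 : F) ≠ 0)
    (hdet : J.det ≠ 0) (ha : 3 ≤ a) {w w' : Fin a → F} (hw : bf J w w = 0) (hw' : bf J w' w' = 0)
    (hww' : bf J w w' = 1) :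
    ∃ z₀ : Fin a → F, bf J w z₀ = 0 ∧ bf J w' z₀ = 0 ∧ bf J z₀ z₀ ≠ 0 := by
  have hs : ∀ x y, bf J x y = bf J y x := bf_symm hJ
  have hw'w : bf J w' w = 1 := by rw [hs, hww']
  obtain ⟨z₁, hz₁0, hz₁w, hz₁w'⟩ := tscalc1_third hJ ha hw hw' hww'
  obtain ⟨y, hy⟩ := bf_nondeg hdet hz₁0
  obtain ⟨yU, hyU⟩ : ∃ yU : Fin a → F, yU = y - bf J w' y • w - bf J w y • w' := ⟨_, rfl⟩
  have h1 : bf J w yU = 0 := by
    rw [hyU, bf_sub_right, bf_sub_right, bf_smul_right, bf_smul_right, hw, hww']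
    ring
  have h2 : bf J w' yU = 0 := by
    rw [hyU, bf_sub_right, bf_sub_right, bf_smul_right, bf_smul_right, hw', hw'w]
    ring
  have h3 : bf J z₁ yU = bf J z₁ y := by
    rw [hyU, bf_sub_right, bf_sub_right, bf_smul_right, bf_smul_right, hs z₁ w, hs z₁ w', hz₁w, hz₁w']
    ring
  by_cases hq1 : bf J z₁ z₁ = 0
  · by_cases hq2 : bf J yU yU = 0
    · refine ⟨z₁ + yU, ?_, ?_, ?_⟩
      · rw [bf_add_right, hz₁w, h1, add_zero]
      · rw [bf_add_right, hz₁w', h2, add_zero]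
      · rw [bf_add_left, bf_add_right, bf_add_right, hq1, hq2, hs yU z₁, h3]
        intro h0
        have : 2 * bf J z₁ y = 0 := by linear_combination h0
        rcases mul_eq_zero.1 this with h | h
        · exact two h
        · exact hy h
    · exact ⟨yU, h1, h2, hq2⟩
  · exact ⟨z₁, hz₁w, hz₁w', hq1⟩

/-- the adjoint `J⁻¹ Zᵀ J` satisfies the same relation. -/
theorem toola4_adj {J Ji A Ai Z : Matrix (Fin a) (Fin a) F} (hJ : Jᵀ = J) (hJi2 : Ji * J = 1)
    (hJi1 : J * Ji = 1) (hA1 : A * Ai = 1) (hiso : Aᵀ * J * A = J) (s : F)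
    (h : Z - A * Z * Ai = s • (1 : Matrix (Fin a) (Fin a) F)) :
    Ji * Zᵀ * J - A * (Ji * Zᵀ * J) * Ai = s • (1 : Matrix (Fin a) (Fin a) F) := by
  have h1 : Aᵀ * J = J * Ai := by
    calc Aᵀ * J = Aᵀ * J * (A * Ai) := by rw [hA1, Matrix.mul_one]
      _ = (Aᵀ * J * A) * Ai := by simp only [Matrix.mul_assoc]
      _ = J * Ai := by rw [hiso]
  have h2 : J * A = Aiᵀ * J := by
    have := congrArg Matrix.transpose h1
    rw [Matrix.transpose_mul, Matrix.transpose_mul, Matrix.transpose_transpose, hJ] at this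
    exact this
  have h3 : A * Ji = Ji * Aiᵀ := by
    calc A * Ji = (Ji * J) * A * Ji := by rw [hJi2, Matrix.one_mul]
      _ = Ji * (J * A) * Ji := by simp only [Matrix.mul_assoc]
      _ = Ji * (Aiᵀ * J) * Ji := by rw [h2]
      _ = Ji * Aiᵀ * (J * Ji) := by simp only [Matrix.mul_assoc]
      _ = Ji * Aiᵀ := by rw [hJi1, Matrix.mul_one]
  have hAZ : A * Z * Ai = Z - s • (1 : Matrix (Fin a) (Fin a) F) := by
    rw [← h]; abel
  have h4 : A * (Ji * Zᵀ * J) * Ai = Ji * (A * Z * Ai)ᵀ * J := by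
    calc A * (Ji * Zᵀ * J) * Ai = (A * Ji) * Zᵀ * (J * Ai) := by simp only [Matrix.mul_assoc]
      _ = (Ji * Aiᵀ) * Zᵀ * (Aᵀ * J) := by rw [h3, h1]
      _ = Ji * (Aiᵀ * Zᵀ * Aᵀ) * J := by simp only [Matrix.mul_assoc]
      _ = Ji * (A * Z * Ai)ᵀ * J := by
          rw [Matrix.transpose_mul, Matrix.transpose_mul]
          simp only [Matrix.mul_assoc]
  rw [h4, hAZ, Matrix.transpose_sub, Matrix.transpose_smul, Matrix.transpose_one, Matrix.mul_sub,
    Matrix.sub_mul, Matrix.mul_smul, Matrix.mul_one, Matrix.smul_mul, hJi2]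
  abel

/-- `Z + J⁻¹ Zᵀ J` is self-adjoint. -/
theorem toola4_selfadj {J Ji Z : Matrix (Fin a) (Fin a) F} (hJ : Jᵀ = J) (hJi2 : Ji * J = 1)
    (hJi1 : J * Ji = 1) : SelfAdj J (Z + Ji * Zᵀ * J) := by
  unfold SelfAdj
  have hJit : Jiᵀ = Ji := by
    have h1 : Jiᵀ * J = 1 := by
      have := congrArg Matrix.transpose hJi1
      rw [Matrix.transpose_mul, hJ, Matrix.transpose_one] at this
      exact this
    calc Jiᵀ = Jiᵀ * (J * Ji) := by rw [hJi1, Matrix.mul_one]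
      _ = (Jiᵀ * J) * Ji := by rw [Matrix.mul_assoc]
      _ = Ji := by rw [h1, Matrix.one_mul]
  rw [Matrix.transpose_add, Matrix.transpose_mul, Matrix.transpose_mul, Matrix.transpose_transpose,
    hJ, hJit, Matrix.add_mul, Matrix.mul_add]
  have e1 : J * (Z * Ji) * J = J * Z := by
    calc J * (Z * Ji) * J = J * Z * (Ji * J) := by simp only [Matrix.mul_assoc]
      _ = J * Z := by rw [hJi2, Matrix.mul_one]
  have e2 : J * (Ji * Zᵀ * J) = Zᵀ * J := by
    calc J * (Ji * Zᵀ * J) = (J * Ji) * Zᵀ * J := by simp only [Matrix.mul_assoc]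
      _ = Zᵀ * J := by rw [hJi1, Matrix.one_mul]
  rw [e1, e2, add_comm]

/-- `Z` commutes with the Siegel elements at `w`. -/
theorem toola4_comm [Fintype F] {J : Matrix (Fin a) (Fin a) F} (hJ : Jᵀ = J) (two : (2 : F) ≠ 0)
    (hdet : J.det ≠ 0) (ha : 3 ≤ a) (hex : 5 ≤ Fintype.card F ∨ 4 ≤ a)
    (Z : Matrix (Fin a) (Fin a) F)
    (h : ∀ α ∈ Om J, ∃ s : F, Z - (α : Matrix (Fin a) (Fin a) F) * Z *
      ((α⁻¹ : Matrix.GeneralLinearGroup (Fin a) F) : Matrix (Fin a) (Fin a) F) = s • (1 : Matrix (Fin a) (Fin a) F))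
    {w w' : Fin a → F} (hw : bf J w w = 0) (hw' : bf J w' w' = 0) (hww' : bf J w w' = 1) :
    ∀ z : Fin a → F, bf J w z = 0 → Z * sieg J w z = sieg J w z * Z := by
  have hu : IsUnit J.det := isUnit_iff_ne_zero.2 hdet
  obtain ⟨Ji, hJidef⟩ : ∃ Ji : Matrix (Fin a) (Fin a) F, Ji = J⁻¹ := ⟨_, rfl⟩
  have hJi1 : J * Ji = 1 := by rw [hJidef]; exact Matrix.mul_nonsing_inv J hu
  have hJi2 : Ji * J = 1 := by rw [hJidef]; exact Matrix.nonsing_inv_mul J hu
  obtain ⟨η, hη⟩ : ∃ η : Matrix (Fin a) (Fin a) F, η = Z + Ji * Zᵀ * J := ⟨_, rfl⟩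
  have hηsa : SelfAdj J η := by rw [hη]; exact toola4_selfadj hJ hJi2 hJi1
  -- the relations for a Siegel element
  have hrel : ∀ z : Fin a → F, bf J w z = 0 →
      ∃ (ρi : Matrix (Fin a) (Fin a) F) (s : F), sieg J w z * ρi = 1 ∧ ρi * sieg J w z = 1 ∧
        Z - sieg J w z * Z * ρi = s • (1 : Matrix (Fin a) (Fin a) F) ∧
        η - sieg J w z * η * ρi = (2 * s) • (1 : Matrix (Fin a) (Fin a) F) := by
    intro z hz
    obtain ⟨β, hβ, hβeq⟩ := sieg_mem_Om hJ two hdet hw hz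
    obtain ⟨s, hs⟩ := h β hβ
    have hβiso : β ∈ Iso J := by
      obtain ⟨c, _, rfl⟩ := Subgroup.mem_map.1 hβ
      exact c.2
    have hA1 : (β : Matrix (Fin a) (Fin a) F) *
        ((β⁻¹ : Matrix.GeneralLinearGroup (Fin a) F) : Matrix (Fin a) (Fin a) F) = 1 := by
      rw [← Units.val_mul, mul_inv_cancel, Units.val_one]
    have hA2 : ((β⁻¹ : Matrix.GeneralLinearGroup (Fin a) F) : Matrix (Fin a) (Fin a) F) *
        (β : Matrix (Fin a) (Fin a) F) = 1 := by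
      rw [← Units.val_mul, inv_mul_cancel, Units.val_one]
    have hadj := toola4_adj hJ hJi2 hJi1 hA1 ((mem_Iso J β).1 hβiso) s hs
    refine ⟨((β⁻¹ : Matrix.GeneralLinearGroup (Fin a) F) : Matrix (Fin a) (Fin a) F), s, ?_, ?_, ?_, ?_⟩
    · rw [← hβeq]; exact hA1
    · rw [← hβeq]; exact hA2
    · rw [← hβeq]; exact hs
    · rw [← hβeq, hη, Matrix.mul_add, Matrix.add_mul, two_mul, add_smul]
      nth_rewrite 1 [← hs]
      rw [← hadj]
      abel
  -- CALC1 for `η`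
  have hcalc := calc_one hJ two hdet ha hex hw hw' hww' η hηsa (by
    intro z hz
    obtain ⟨ρi, s, h1, h2, _, h4⟩ := hrel z hz
    refine ⟨-(2 * s), ?_⟩
    have h5 : (η - sieg J w z * η * ρi) * sieg J w z = ((2 * s) • (1 : Matrix (Fin a) (Fin a) F)) * sieg J w z := by
      rw [h4]
    rw [Matrix.sub_mul, Matrix.mul_assoc (sieg J w z * η), h2, Matrix.mul_one, Matrix.smul_mul,
      Matrix.one_mul] at h5
    rw [Matrix.add_mul, Matrix.smul_mul, Matrix.one_mul, neg_smul]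
    rw [sub_eq_iff_eq_add] at h5
    rw [h5]
    abel)
  intro z hz
  obtain ⟨ρi, s, h1, h2, h3, h4⟩ := hrel z hz
  have hc := hcalc.2 z hz
  have hs0 : s = 0 := by
    rw [hc, Matrix.mul_assoc, h1, Matrix.mul_one, sub_self] at h4
    have h5 := congrFun (congrFun h4 ⟨0, by omega⟩) ⟨0, by omega⟩
    simp only [Matrix.zero_apply, Matrix.smul_apply, Matrix.one_apply_eq, smul_eq_mul, mul_one] at h5
    rcases mul_eq_zero.1 h5.symm with h6 | h6
    · exact absurd h6 two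
    · exact h6
  rw [hs0, zero_smul, sub_eq_zero] at h3
  calc Z * sieg J w z = sieg J w z * Z * ρi * sieg J w z := by rw [← h3]
    _ = sieg J w z * Z * (ρi * sieg J w z) := by rw [Matrix.mul_assoc]
    _ = sieg J w z * Z := by rw [h2, Matrix.mul_one]

/-- a singular vector with a hyperbolic partner is an eigenvector. -/
theorem toola4_eigen {J : Matrix (Fin a) (Fin a) F} (hJ : Jᵀ = J) (two : (2 : F) ≠ 0)
    {w w' z₀ : Fin a → F} (hww' : bf J w w' = 1)
    (hz₀ns : bf J z₀ z₀ ≠ 0) (Z : Matrix (Fin a) (Fin a) F)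
    (hc1 : Z * sieg J w z₀ = sieg J w z₀ * Z) (hc2 : Z * sieg J w (-z₀) = sieg J w (-z₀) * Z) :
    Z *ᵥ w = bf J w (Z *ᵥ w') • w := by
  have E1 := congrArg (fun M : Matrix (Fin a) (Fin a) F => M *ᵥ w') hc1
  have E2 := congrArg (fun M : Matrix (Fin a) (Fin a) F => M *ᵥ w') hc2
  simp only [← Matrix.mulVec_mulVec, tscalc1_sieg_mulVec, hww', Matrix.mulVec_add, Matrix.mulVec_sub,
    Matrix.mulVec_smul, Matrix.mulVec_neg, bf_neg_left, bf_neg_right, neg_neg] at E1 E2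
  obtain ⟨hh, hhdef⟩ : ∃ hh : F, hh = bf J z₀ z₀ / 2 := ⟨_, rfl⟩
  have hQ : bf J z₀ z₀ = 2 * hh := by rw [hhdef]; field_simp
  have hh0 : hh ≠ 0 := by
    intro h0
    apply hz₀ns
    rw [hQ, h0, mul_zero]
  rw [← hhdef] at E1 E2
  funext i
  have e1 := congrFun E1 i
  have e2 := congrFun E2 i
  simp only [Pi.add_apply, Pi.sub_apply, Pi.smul_apply, Pi.neg_apply, smul_eq_mul] at e1 e2 ⊢
  have h3 : (2 * hh) * ((Z *ᵥ w) i - bf J w (Z *ᵥ w') * w i) = 0 := by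
    linear_combination (-1 : F) * e1 + (-1 : F) * e2
  rcases mul_eq_zero.1 h3 with h4 | h4
  · rcases mul_eq_zero.1 h4 with h5 | h5
    · exact absurd h5 two
    · exact absurd h5 hh0
  · exact sub_eq_zero.1 h4

/-- `Z = γ` on `⟨w, w'⟩^⊥`. -/
theorem toola4_perp {J : Matrix (Fin a) (Fin a) F} (hJ : Jᵀ = J)
    {w w' u : Fin a → F} (hww' : bf J w w' = 1) (hu' : bf J w' u = 0)
    (Z : Matrix (Fin a) (Fin a) F) (γ : F) (hZw : Z *ᵥ w = γ • w) (hZw' : Z *ᵥ w' = γ • w')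
    (hc : Z * sieg J w u = sieg J w u * Z) : Z *ᵥ u = γ • u := by
  have hs : ∀ x y, bf J x y = bf J y x := bf_symm hJ
  have E1 := congrArg (fun M : Matrix (Fin a) (Fin a) F => M *ᵥ w') hc
  simp only [← Matrix.mulVec_mulVec, tscalc1_sieg_mulVec, hww', Matrix.mulVec_add, Matrix.mulVec_sub,
    Matrix.mulVec_smul, hZw, hZw', bf_smul_right, hs u w', hu'] at E1
  funext i
  have e1 := congrFun E1 i
  simp only [Pi.add_apply, Pi.sub_apply, Pi.smul_apply, smul_eq_mul] at e1 ⊢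
  linear_combination (-1 : F) * e1

/-- LA4 [M-L]. `Z - α Z α⁻¹` scalar for all `α ∈ Ω(A)` ⟹ `Z` scalar. -/
theorem alg_central_O [Fintype F] {J : Matrix (Fin a) (Fin a) F} (hJ : Jᵀ = J) (two : (2 : F) ≠ 0)
    (hdet : J.det ≠ 0) (ha : 3 ≤ a) (hodd : Odd a) (hex : ¬ (Fintype.card F = 3 ∧ a = 3))
    (Z : Matrix (Fin a) (Fin a) F)
    (h : ∀ α ∈ Om J, ∃ s : F, Z - (α : Matrix (Fin a) (Fin a) F) * Z *
      ((α⁻¹ : Matrix.GeneralLinearGroup (Fin a) F) : Matrix (Fin a) (Fin a) F) = s • (1 : Matrix (Fin a) (Fin a) F)) :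
    ∃ c : F, Z = c • (1 : Matrix (Fin a) (Fin a) F) := by
  have hs : ∀ x y, bf J x y = bf J y x := bf_symm hJ
  have hex' : 5 ≤ Fintype.card F ∨ 4 ≤ a := by
    by_cases ha3 : a = 3
    · left
      have h3 : Fintype.card F ≠ 3 := fun h3 => hex ⟨h3, ha3⟩
      have h1 : 1 < Fintype.card F := Fintype.one_lt_card
      have hcast : ((Fintype.card F : ℕ) : F) = 0 := FiniteField.cast_card_eq_zero F
      have h2 : Fintype.card F ≠ 2 := by
        intro h2
        rw [h2] at hcast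
        exact two (by exact_mod_cast hcast)
      have h4 : Fintype.card F ≠ 4 := by
        intro h4
        rw [h4] at hcast
        have : (2 : F) * 2 = 0 := by
          have : ((4 : ℕ) : F) = 2 * 2 := by norm_num
          rw [← this]; exact hcast
        rcases mul_eq_zero.1 this with h5 | h5 <;> exact two h5
      omega
    · right; omega
  obtain ⟨w, w', hw, hw', hww'⟩ := sing_ex hJ two hdet ha
  have hw'w : bf J w' w = 1 := by rw [hs, hww']
  obtain ⟨z₀, hz₀w, hz₀w', hz₀⟩ := toola4_nonsing hJ two hdet ha hw hw' hww'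
  have hc := toola4_comm hJ two hdet ha hex' Z h hw hw' hww'
  have hc' := toola4_comm hJ two hdet ha hex' Z h hw' hw hw'w
  have hz₀n : bf J (-z₀) (-z₀) ≠ 0 := by rw [bf_neg_left, bf_neg_right, neg_neg]; exact hz₀
  have e1 := toola4_eigen hJ two hww' hz₀ Z (hc z₀ hz₀w) (hc (-z₀) (by rw [bf_neg_right, hz₀w, neg_zero]))
  have e2 := toola4_eigen hJ two hw'w hz₀ Z (hc' z₀ hz₀w') (hc' (-z₀) (by rw [bf_neg_right, hz₀w', neg_zero]))
  obtain ⟨γ, hγ⟩ : ∃ γ : F, γ = bf J w (Z *ᵥ w') := ⟨_, rfl⟩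
  rw [← hγ] at e1
  have hγ' : bf J w' (Z *ᵥ w) = γ := by rw [e1, bf_smul_right, hw'w, mul_one]
  rw [hγ'] at e2
  refine ⟨γ, ?_⟩
  rw [Matrix.ext_iff_mulVec]
  intro x
  obtain ⟨xU, hxU⟩ : ∃ xU : Fin a → F, xU = x - bf J w' x • w - bf J w x • w' := ⟨_, rfl⟩
  have h1 : bf J w xU = 0 := by
    rw [hxU, bf_sub_right, bf_sub_right, bf_smul_right, bf_smul_right, hw, hww']
    ring
  have h2 : bf J w' xU = 0 := by
    rw [hxU, bf_sub_right, bf_sub_right, bf_smul_right, bf_smul_right, hw', hw'w]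
    ring
  have h3 := toola4_perp hJ hww' h2 Z γ e1 e2 (hc xU h1)
  have hx : x = xU + bf J w' x • w + bf J w x • w' := by rw [hxU]; abel
  rw [Matrix.smul_mulVec, Matrix.one_mulVec]
  conv_lhs => rw [hx]
  rw [Matrix.mulVec_add, Matrix.mulVec_add, Matrix.mulVec_smul, Matrix.mulVec_smul, h3, e1, e2]
  conv_rhs => rw [hx]
  rw [smul_add, smul_add, smul_comm γ, smul_comm γ]

end Cfsg.Agent.Lib.Helper28.TOO
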