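import Mathlib

/-!
# SQZ : square-zero Kronecker products (lead)

If `2 ≠ 0` and `(α ⊗ₖ β - 1)^2 = 0` then `α` or `β` is a scalar matrix.
-/

set_option autoImplicit false

namespace Cfsg.Agent.Lib.Lead.Sqz

open Matrix
open scoped Kronecker

variable {a b : ℕ} {F : Type*} [Field F]

/-- the expanded relation, blockwise -/
theorem sqz_block (α : Matrix (Fin a) (Fin a) F) (β : Matrix (Fin b) (Fin b) F)
    (hsq : (α ⊗ₖ β - 1) * (α ⊗ₖ β - 1) = 0) (j j' : Fin b) :
    (β * β) j j' • (α * α) - (2 * β j j') • α +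
      (if j = j' then (1 : F) else 0) • (1 : Matrix (Fin a) (Fin a) F) = 0 := by
  have H : (α * α) ⊗ₖ (β * β) - (2 : F) • (α ⊗ₖ β) + 1 = 0 := by
    rw [← hsq, Matrix.mul_kronecker_mul, two_smul]
    noncomm_ring
  ext i i'
  have h := congrFun (congrFun H (i, j)) (i', j')
  simp only [Matrix.add_apply, Matrix.sub_apply, Matrix.smul_apply, Matrix.kroneckerMap_apply,
    Matrix.one_apply, Matrix.zero_apply, Prod.mk.injEq, smul_eq_mul] at h ⊢
  by_cases hi : i = i' <;> by_cases hj : j = j' <;> simp [hi, hj] at h ⊢ <;> linear_combination h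

theorem sqz_kron (h2 : (2 : F) ≠ 0) (α : Matrix (Fin a) (Fin a) F) (β : Matrix (Fin b) (Fin b) F)
    (hsq : (α ⊗ₖ β - 1) * (α ⊗ₖ β - 1) = 0) :
    (∃ c : F, α = c • (1 : Matrix (Fin a) (Fin a) F)) ∨
      (∃ c : F, β = c • (1 : Matrix (Fin b) (Fin b) F)) := by
  classical
  rcases Nat.eq_zero_or_pos a with ha | ha
  · subst ha; exact Or.inl ⟨0, Subsingleton.elim _ _⟩
  rcases Nat.eq_zero_or_pos b with hb | hb
  · subst hb; exact Or.inr ⟨0, Subsingleton.elim _ _⟩
  have hE := sqz_block α β hsq
  let i0 : Fin a := ⟨0, ha⟩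
  let j0 : Fin b := ⟨0, hb⟩
  -- `α` has a right inverse `γ`
  obtain ⟨γ, hγ⟩ : ∃ γ : Matrix (Fin a) (Fin a) F, α * γ = 1 := by
    refine ⟨(2 * β j0 j0) • (1 : Matrix (Fin a) (Fin a) F) - (β * β) j0 j0 • α, ?_⟩
    have h := hE j0 j0
    rw [if_pos rfl, one_smul] at h
    rw [Matrix.mul_sub, Matrix.mul_smul, Matrix.mul_smul, Matrix.mul_one]
    have h' : (1 : Matrix (Fin a) (Fin a) F) =
        (2 * β j0 j0) • α - (β * β) j0 j0 • (α * α) := by
      rw [eq_sub_iff_add_eq, ← sub_eq_zero]
      rw [← h]; abel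
    exact h'.symm
  have hααγ : α * α * γ = α := by rw [Matrix.mul_assoc, hγ, Matrix.mul_one]
  have hone : ∀ c : F, c • (1 : Matrix (Fin a) (Fin a) F) = 0 → c = 0 := by
    intro c hc
    have := congrFun (congrFun hc i0) i0
    simpa using this
  -- key: a relation `s • α² = t • α` with `t ≠ 0` makes `α` scalar
  have key : ∀ s t : F, t ≠ 0 → s • (α * α) - t • α = 0 →
      ∃ c : F, α = c • (1 : Matrix (Fin a) (Fin a) F) := by
    intro s t ht h
    have h1 : s • α - t • (1 : Matrix (Fin a) (Fin a) F) = 0 := by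
      have := congrArg (· * γ) h
      simp only [Matrix.sub_mul, Matrix.smul_mul, hααγ, hγ, Matrix.zero_mul] at this
      exact this
    have hs : s ≠ 0 := by
      intro hs
      rw [hs, zero_smul, zero_sub, neg_eq_zero] at h1
      exact ht (hone t h1)
    refine ⟨t / s, ?_⟩
    have h2' : s • α = t • (1 : Matrix (Fin a) (Fin a) F) := sub_eq_zero.mp h1
    calc α = s⁻¹ • (s • α) := by rw [smul_smul, inv_mul_cancel₀ hs, one_smul]
      _ = (t / s) • (1 : Matrix (Fin a) (Fin a) F) := by rw [h2', smul_smul, div_eq_inv_mul]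
  by_cases hoff : ∃ j j' : Fin b, j ≠ j' ∧ β j j' ≠ 0
  · obtain ⟨j, j', hjj', hβ⟩ := hoff
    left
    apply key ((β * β) j j') (2 * β j j') (mul_ne_zero h2 hβ)
    have h := hE j j'
    rw [if_neg hjj', zero_smul, add_zero] at h
    exact h
  · push Not at hoff
    by_cases hdiag : ∃ j k : Fin b, β j j ≠ β k k
    · obtain ⟨j, k, hjk⟩ := hdiag
      left
      have hsqd : ∀ j : Fin b, (β * β) j j = β j j * β j j := by
        intro j
        rw [Matrix.mul_apply]
        rw [Finset.sum_eq_single j]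
        · intro k _ hk
          rw [hoff j k (Ne.symm hk), zero_mul]
        · intro h; exact absurd (Finset.mem_univ j) h
      have hj := hE j j
      have hk := hE k k
      rw [if_pos rfl, one_smul, hsqd] at hj hk
      have hcd : β j j + β k k ≠ 0 ∨ β j j + β k k = 0 := (ne_or_eq _ _)
      have hsub : (β j j - β k k) • ((β j j + β k k) • (α * α) - (2 : F) • α) = 0 := by
        have : (β j j - β k k) • ((β j j + β k k) • (α * α) - (2 : F) • α) =
            ((β j j * β j j) • (α * α) - (2 * β j j) • α + 1) -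
            ((β k k * β k k) • (α * α) - (2 * β k k) • α + 1) := by
          ext i i'
          simp only [Matrix.smul_apply, Matrix.sub_apply, Matrix.add_apply, smul_eq_mul]
          ring
        rw [this, hj, hk, sub_zero]
      have hsub' : (β j j + β k k) • (α * α) - (2 : F) • α = 0 := by
        rcases smul_eq_zero.mp hsub with h | h
        · exact absurd (sub_eq_zero.mp h) hjk
        · exact h
      exact key _ 2 h2 hsub'
    · push Not at hdiag
      right
      refine ⟨β j0 j0, ?_⟩
      ext j j'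
      rw [Matrix.smul_apply, Matrix.one_apply, smul_eq_mul]
      by_cases hjj : j = j'
      · subst hjj; rw [if_pos rfl, mul_one]; exact hdiag j j0
      · rw [if_neg hjj, mul_zero]; exact hoff j j' hjj

end Cfsg.Agent.Lib.Lead.Sqz
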