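import Cfsg.Agent.Lib.Helper27.TS2.Defs
import Cfsg.Agent.Lib.Lead.SQZ

/-!
# Project TS2 (leader helper27), row SQZ (lead)

`sqz_kron` verbatim vs `Helper27/TS2/Skel.lean.txt`, from the core `Lead.Sqz.sqz_kron`.
-/

set_option autoImplicit false
set_option linter.unusedSectionVars false
set_option linter.unusedVariables false

namespace Cfsg.Agent.Lib.Helper21.TS

open Matrix
open scoped Kronecker
open Cfsg.Agent.Lib.helper7.TP

variable {a b : ℕ} {F : Type*} [Field F]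

/-- `(1 ⊗ N)² = 0` with `a ≥ 1` gives `N² = 0` -/
theorem ts2sqz_right (ha : 1 ≤ a) (N : Matrix (Fin b) (Fin b) F)
    (h : ((1 : Matrix (Fin a) (Fin a) F) ⊗ₖ (1 + N) - 1) *
      ((1 : Matrix (Fin a) (Fin a) F) ⊗ₖ (1 + N) - 1) = 0) : N * N = 0 := by
  have h1 : (1 : Matrix (Fin a) (Fin a) F) ⊗ₖ (1 + N) - 1 =
      (1 : Matrix (Fin a) (Fin a) F) ⊗ₖ N := by
    rw [Matrix.kronecker_add, Matrix.one_kronecker_one, add_sub_cancel_left]
  rw [h1, ← Matrix.mul_kronecker_mul, Matrix.one_mul] at h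
  ext j j'
  have := congrFun (congrFun h (⟨0, ha⟩, j)) (⟨0, ha⟩, j')
  simpa [Matrix.kroneckerMap_apply] using this

/-- `(N ⊗ 1)² = 0` with `b ≥ 1` gives `N² = 0` -/
theorem ts2sqz_left (hb : 1 ≤ b) (N : Matrix (Fin a) (Fin a) F)
    (h : ((1 + N) ⊗ₖ (1 : Matrix (Fin b) (Fin b) F) - 1) *
      ((1 + N) ⊗ₖ (1 : Matrix (Fin b) (Fin b) F) - 1) = 0) : N * N = 0 := by
  have h1 : (1 + N) ⊗ₖ (1 : Matrix (Fin b) (Fin b) F) - 1 =
      N ⊗ₖ (1 : Matrix (Fin b) (Fin b) F) := by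
    rw [Matrix.add_kronecker, Matrix.one_kronecker_one, add_sub_cancel_left]
  rw [h1, ← Matrix.mul_kronecker_mul, Matrix.one_mul] at h
  ext i i'
  have := congrFun (congrFun h (i, ⟨0, hb⟩)) (i', ⟨0, hb⟩)
  simpa [Matrix.kroneckerMap_apply] using this

/-- SQZ -/
theorem sqz_kron (two : (2 : F) ≠ 0) (ha : 1 ≤ a) (hb : 1 ≤ b)
    (t : Matrix.GeneralLinearGroup (Fin a × Fin b) F) (ht : t ∈ K0 a b F)
    (hsq : ((t : Matrix (Fin a × Fin b) (Fin a × Fin b) F) - 1) *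
      ((t : Matrix (Fin a × Fin b) (Fin a × Fin b) F) - 1) = 0) :
    (∃ N : Matrix (Fin a) (Fin a) F, N * N = 0 ∧
      (t : Matrix (Fin a × Fin b) (Fin a × Fin b) F) = (1 + N) ⊗ₖ (1 : Matrix (Fin b) (Fin b) F)) ∨
    (∃ N : Matrix (Fin b) (Fin b) F, N * N = 0 ∧
      (t : Matrix (Fin a × Fin b) (Fin a × Fin b) F) = (1 : Matrix (Fin a) (Fin a) F) ⊗ₖ (1 + N)) := by
  obtain ⟨α, β, hαβ⟩ := (mem_K0 t).1 ht
  rw [hαβ] at hsq ⊢
  rcases Cfsg.Agent.Lib.Lead.Sqz.sqz_kron two (α : Matrix (Fin a) (Fin a) F)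
    (β : Matrix (Fin b) (Fin b) F) hsq with ⟨s, hs⟩ | ⟨s, hs⟩
  · right
    have e : (α : Matrix (Fin a) (Fin a) F) ⊗ₖ (β : Matrix (Fin b) (Fin b) F) =
        (1 : Matrix (Fin a) (Fin a) F) ⊗ₖ (1 + (s • (β : Matrix (Fin b) (Fin b) F) - 1)) := by
      rw [hs, Matrix.smul_kronecker, ← Matrix.kronecker_smul, add_sub_cancel]
    refine ⟨s • (β : Matrix (Fin b) (Fin b) F) - 1, ?_, e⟩
    apply ts2sqz_right ha
    rw [← e]; exact hsq
  · left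
    have e : (α : Matrix (Fin a) (Fin a) F) ⊗ₖ (β : Matrix (Fin b) (Fin b) F) =
        (1 + (s • (α : Matrix (Fin a) (Fin a) F) - 1)) ⊗ₖ (1 : Matrix (Fin b) (Fin b) F) := by
      rw [hs, Matrix.kronecker_smul, ← Matrix.smul_kronecker, add_sub_cancel]
    refine ⟨s • (α : Matrix (Fin a) (Fin a) F) - 1, ?_, e⟩
    apply ts2sqz_left hb
    rw [← e]; exact hsq

end Cfsg.Agent.Lib.Helper21.TS
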