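import Mathlib
import Cfsg.Agent.Lib.helper7.BD.D1Defs
import Cfsg.Agent.S0139

/-!
# Project BD, stage B, wave 4, piece THETAPOW : `root_theta_pow`

The canonical character `θ` of the root block is `p`-rational: `θ (d ^ m) = θ d` for `m` prime to `|G|`
and `m ≡ 1` modulo the `p'`-part of `|G|`.
-/

set_option autoImplicit false
set_option linter.unusedVariables false
set_option linter.unusedSectionVars false
set_option linter.style.haveILetI false

namespace Cfsg.Agent.Lib.helper7.BD

open Cfsg.Agent.Lib.helper7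

universe u

/-- an element of the kernel of an irreducible character can be cancelled -/
theorem bd4thetapow_ker {H : Type u} [Group H] [Finite H] (χ : Cfsg.IrrCharacter H) (y : H)
    (hy : (χ : H → ℂ) y = (χ : H → ℂ) 1) (d : H) : (χ : H → ℂ) (d * y) = (χ : H → ℂ) d := by
  obtain ⟨n, ρ, hρ, hχ⟩ := χ.2
  have h1 : ρ.character y = (Module.finrank ℂ (Fin n → ℂ) : ℂ) := by
    rw [← Representation.char_one ρ, hχ]
    exact hy
  have h2 : ρ y = LinearMap.id := (Cfsg.Agent.S0139.result ρ y).1 h1
  rw [← hχ]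
  unfold Representation.character
  rw [map_mul, h2]
  rfl

/-- a `p`-element centralizing a Sylow `p`-subgroup lies in it -/
theorem bd4thetapow_mem_sylow {G : Type u} [Group G] {p : ℕ} [Fact p.Prime] (P : Sylow p G) (x : G)
    (hx : x ∈ Subgroup.centralizer ((P : Subgroup G) : Set G)) (hxp : x ^ p = 1) :
    x ∈ (P : Subgroup G) := by
  have hH : IsPGroup p (Subgroup.zpowers x) := by
    rw [IsPGroup]
    rintro ⟨y, hy⟩
    refine ⟨1, ?_⟩
    obtain ⟨k, rfl⟩ := Subgroup.mem_zpowers_iff.mp hy
    apply Subtype.ext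
    simp only [pow_one, Subgroup.coe_pow, Subgroup.coe_one]
    rw [← zpow_natCast, ← zpow_mul, mul_comm, zpow_mul, zpow_natCast, hxp, one_zpow]
  have hle : Subgroup.zpowers x ≤ Subgroup.normalizer ((P : Subgroup G) : Set G) := by
    rw [Subgroup.zpowers_le]
    exact Subgroup.centralizer_le_normalizer _ hx
  have hsup := IsPGroup.to_sup_of_normal_right' hH P.isPGroup' hle
  have heq := P.is_maximal' hsup le_sup_right
  have : Subgroup.zpowers x ≤ (P : Subgroup G) := by
    rw [← heq]
    exact le_sup_left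
  exact this (Subgroup.mem_zpowers x)

section root

variable {G : Type u} [Group G] [Fintype G] {M : Ideal Cfsg.AlgInt} {p : ℕ} [Fact p.Prime]
  {P : Sylow p G} {B : Set (Cfsg.IrrCharacter G)}
  {b : Set (Cfsg.IrrCharacter (Subgroup.centralizer ((P : Subgroup G) : Set G)))}
  {θ : Cfsg.IrrCharacter (Subgroup.centralizer ((P : Subgroup G) : Set G))} {T : Subgroup G}

/-- the `p'`-part of `|G|` -/
theorem bd4thetapow_card (h : RootHyp p M P B b θ T) :
    Nat.card G = p * (Nat.card G / p ^ (Nat.card G).factorization p) := by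
  have h1 := Sylow.card_eq_multiplicity P
  rw [h.card_P] at h1
  rw [← h1]
  have hdvd : p ∣ Nat.card G := by
    have := (P : Subgroup G).card_subgroup_dvd_card
    rwa [h.card_P] at this
  exact (Nat.mul_div_cancel' hdvd).symm

/-- THETAPOW : the canonical character is `p`-rational -/
theorem root_theta_pow (h : RootHyp p M P B b θ T) (m : ℕ) (hm : m.Coprime (Nat.card G))
    (hm1 : m ≡ 1 [MOD Nat.card G / p ^ (Nat.card G).factorization p])
    (d : ↥(Subgroup.centralizer ((P : Subgroup G) : Set G))) :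
    (θ : ↥(Subgroup.centralizer ((P : Subgroup G) : Set G)) → ℂ) (d ^ m) =
      (θ : ↥(Subgroup.centralizer ((P : Subgroup G) : Set G)) → ℂ) d := by
  have hp := (Fact.out : p.Prime)
  have hcard := bd4thetapow_card h
  set g' := Nat.card G / p ^ (Nat.card G).factorization p with hg'
  have hm0 : 1 ≤ m := by
    rcases Nat.eq_zero_or_pos m with h0 | h0
    · exfalso
      rw [h0, Nat.coprime_zero_left] at hm
      rw [hm] at hcard
      have : p ∣ 1 := ⟨g', hcard⟩
      exact hp.one_lt.ne' (Nat.dvd_one.mp this)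
    · exact h0
  obtain ⟨k, hk⟩ : g' ∣ m - 1 := (Nat.modEq_iff_dvd' hm0).mp hm1.symm
  have hmk : m = 1 + g' * k := by omega
  set x : ↥(Subgroup.centralizer ((P : Subgroup G) : Set G)) := d ^ g' with hx
  have hxp : ((x : ↥(Subgroup.centralizer ((P : Subgroup G) : Set G))) : G) ^ p = 1 := by
    rw [hx, Subgroup.coe_pow, ← pow_mul, mul_comm, ← hcard]
    exact pow_card_eq_one'
  have hxP : ((x ^ k : ↥(Subgroup.centralizer ((P : Subgroup G) : Set G))) : G) ∈ (P : Subgroup G) := by
    rw [Subgroup.coe_pow]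
    exact Subgroup.pow_mem _ (bd4thetapow_mem_sylow P (x : G) x.2 hxp) k
  have hdm : d ^ m = d * x ^ k := by
    rw [hmk, pow_add, pow_one, pow_mul]
  rw [hdm]
  exact bd4thetapow_ker θ (x ^ k) (h.hθP _ hxP) d

end root

end Cfsg.Agent.Lib.helper7.BD
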