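import Mathlib
import Cfsg.Agent.Lib.Helper22.S6002.Defs

set_option autoImplicit false
set_option linter.unusedVariables false
set_option linter.unusedSectionVars false
open scoped MatrixGroups

/-! # Project S6002, row S3 (`split88`) -/

namespace Cfsg.Agent.Lib.Helper22.S6002

variable {ι : Type} [Fintype ι] [DecidableEq ι] {F : Type*} [Field F]

/-- `-1 ≠ 1` in `GL(ι, F)` in the context -/
theorem s6002s3_neg_one_ne {R : Subgroup (GL ι F)} (hE : ECtx R) : (-1 : GL ι F) ≠ 1 := by
  intro h
  have hm : (-1 : Matrix ι ι F) = 1 := by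
    have := congrArg (fun g : GL ι F => (g : Matrix ι ι F)) h
    simpa using this
  have h0 : (1 : Matrix ι ι F) = 0 := by
    have h2 : (2 : F) • (1 : Matrix ι ι F) = 0 := by
      rw [two_smul]
      nth_rewrite 1 [← hm]
      exact neg_add_cancel _
    rcases smul_eq_zero.mp h2 with h3 | h3
    · exact absurd h3 hE.two
    · exact h3
  have hsub : Subsingleton (Matrix ι ι F) := subsingleton_of_zero_eq_one h0.symm
  have hsubG : Subsingleton (GL ι F) := ⟨fun x y => Units.ext (Subsingleton.elim _ _)⟩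
  have hsubR : Subsingleton R := ⟨fun x y => Subtype.ext (Subsingleton.elim _ _)⟩
  have := hE.card
  rw [Nat.card_unique] at this
  omega

theorem s6002s3_neg_ne {R : Subgroup (GL ι F)} (hE : ECtx R) (g : GL ι F) : -g ≠ g := by
  intro h
  apply s6002s3_neg_one_ne hE
  have : -g * g⁻¹ = g * g⁻¹ := by rw [h]
  rw [neg_mul, mul_inv_cancel] at this
  exact this

/-- index two: if `y ∈ H` anticommutes with `x` then `|H| = 2 |C_H(x)|` -/
theorem s6002s3_index {R : Subgroup (GL ι F)} (hE : ECtx R) (H : Subgroup (GL ι F)) (hH : H ≤ R)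
    (x : GL ι F) (hx : x ∈ R) (y : GL ι F) (hy : y ∈ H) (hyx : y * x = -(x * y)) :
    Nat.card H = 2 * Nat.card ↥(H ⊓ Subgroup.centralizer {x}) := by
  have hle : H ⊓ Subgroup.centralizer {x} ≤ H := inf_le_left
  have hidx : ((H ⊓ Subgroup.centralizer {x}).subgroupOf H).index = 2 := by
    rw [Subgroup.index_eq_two_iff]
    refine ⟨⟨y, hy⟩, ?_⟩
    intro b
    have hmem : ∀ c : H, c ∈ (H ⊓ Subgroup.centralizer {x}).subgroupOf H ↔ (c : GL ι F) * x = x * c := by
      intro c
      rw [Subgroup.mem_subgroupOf, Subgroup.mem_inf, Subgroup.mem_centralizer_singleton_iff]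
      exact ⟨fun h => h.2, fun h => ⟨c.2, h⟩⟩
    rw [hmem, hmem]
    show Xor ((b : GL ι F) * y * x = x * ((b : GL ι F) * y)) _
    rcases hE.comm b (hH b.2) x hx with hb | hb
    · right
      refine ⟨hb, ?_⟩
      rw [mul_assoc, hyx, mul_neg, ← mul_assoc, hb, mul_assoc]
      exact s6002s3_neg_ne hE _
    · left
      refine ⟨?_, ?_⟩
      · rw [mul_assoc, hyx, mul_neg, ← mul_assoc, hb, neg_mul, neg_neg, mul_assoc]
      · rw [hb]
        exact s6002s3_neg_ne hE _
  have h1 := Subgroup.card_mul_index ((H ⊓ Subgroup.centralizer {x}).subgroupOf H)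
  rw [hidx, Nat.card_congr (Subgroup.subgroupOfEquivOfLe hle).toEquiv] at h1
  omega

/-- the flip: make `g` commute with `x` by multiplying with `1` or `y` -/
theorem s6002s3_flip {R : Subgroup (GL ι F)} (hE : ECtx R)
    (x : GL ι F) (hx : x ∈ R) (y : GL ι F) (hy : y ∈ R) (hyx : y * x = -(x * y))
    (g : GL ι F) (hg : g ∈ R) :
    ∃ q : GL ι F, (q = 1 ∨ q = y) ∧ (q * g) * x = x * (q * g) := by
  rcases hE.comm g hg x hx with h | h
  · exact ⟨1, Or.inl rfl, by rw [one_mul, h]⟩
  · refine ⟨y, Or.inr rfl, ?_⟩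
    rw [mul_assoc, h, mul_neg, ← mul_assoc, hyx, neg_mul, neg_neg, mul_assoc]

theorem split88 {R : Subgroup (GL ι F)} (hE : ECtx R) :
    ∃ a b c d : GL ι F, a ∈ R ∧ b ∈ R ∧ c ∈ R ∧ d ∈ R ∧ a * b = -(b * a) ∧ c * d = -(d * c) ∧
      a * c = c * a ∧ a * d = d * a ∧ b * c = c * b ∧ b * d = d * b ∧
      R = Subgroup.closure {a, b, c, d} := by
  classical
  have hn1 := s6002s3_neg_one_ne hE
  -- a small set has at most two elements
  have hsmall : ∀ H : Subgroup (GL ι F), (∀ g ∈ H, g = 1 ∨ g = -1) → Nat.card H ≤ 2 := by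
    intro H hH
    have hinj : Function.Injective (fun g : H => decide ((g : GL ι F) = 1)) := by
      intro g g' hgg
      simp only [decide_eq_decide] at hgg
      apply Subtype.ext
      rcases hH g g.2 with h | h <;> rcases hH g' g'.2 with h' | h'
      · rw [h, h']
      · exact absurd (hgg.mp h) (by rw [h']; exact hn1)
      · exact absurd (hgg.mpr h') (by rw [h]; exact hn1)
      · rw [h, h']
    have := Nat.card_le_card_of_injective _ hinj
    simpa using this
  -- a non-central element
  obtain ⟨a, haR, ha1, ha2⟩ : ∃ a ∈ R, a ≠ 1 ∧ a ≠ -1 := by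
    by_contra hcon
    push Not at hcon
    have := hsmall R (fun g hg => by
      by_cases h1 : g = 1
      · exact Or.inl h1
      · exact Or.inr (hcon g hg h1))
    rw [hE.card] at this
    omega
  obtain ⟨b, hbR, hab⟩ : ∃ b ∈ R, a * b = -(b * a) := by
    by_contra hcon
    push Not at hcon
    have hcen : ∀ b ∈ R, a * b = b * a := by
      intro b hb
      rcases hE.comm a haR b hb with h | h
      · exact h
      · exact absurd h (hcon b hb)
    rcases hE.cen a haR hcen with h | h
    · exact ha1 h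
    · exact ha2 h
  have hba : b * a = -(a * b) := by rw [hab, neg_neg]
  -- the chain of centralizers
  have c1 := s6002s3_index hE R le_rfl a haR b hbR hba
  have hH1 : R ⊓ Subgroup.centralizer {a} ≤ R := inf_le_left
  have haH1 : a ∈ R ⊓ Subgroup.centralizer {a} :=
    ⟨haR, Subgroup.mem_centralizer_singleton_iff.mpr rfl⟩
  have c2 := s6002s3_index hE _ hH1 b hbR a haH1 hab
  have hH2 : R ⊓ Subgroup.centralizer {a} ⊓ Subgroup.centralizer {b} ≤ R := le_trans inf_le_left hH1
  have hcard2 : Nat.card ↥(R ⊓ Subgroup.centralizer {a} ⊓ Subgroup.centralizer {b}) = 8 := by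
    have := hE.card
    omega
  -- adjusting into H2
  have hadj : ∀ g ∈ R, ∃ q : GL ι F, q ∈ R ∧ (∀ h : GL ι F, h * a = a * h → h * b = b * h → h * q = q * h) ∧
      q ∈ Subgroup.closure ({a, b} : Set (GL ι F)) ∧
      q * g ∈ R ⊓ Subgroup.centralizer {a} ⊓ Subgroup.centralizer {b} := by
    intro g hg
    obtain ⟨q1, hq1, h1⟩ := s6002s3_flip hE a haR b hbR hba g hg
    have hq1R : q1 ∈ R := by rcases hq1 with rfl | rfl; exact R.one_mem; exact hbR
    obtain ⟨q2, hq2, h2⟩ := s6002s3_flip hE b hbR a haR hab (q1 * g) (R.mul_mem hq1R hg)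
    have hq2R : q2 ∈ R := by rcases hq2 with rfl | rfl; exact R.one_mem; exact haR
    refine ⟨q2 * q1, R.mul_mem hq2R hq1R, ?_, ?_, ?_⟩
    · intro h ha hb
      have e1 : h * q1 = q1 * h := by
        rcases hq1 with rfl | rfl
        · rw [mul_one, one_mul]
        · exact hb
      have e2 : h * q2 = q2 * h := by
        rcases hq2 with rfl | rfl
        · rw [mul_one, one_mul]
        · exact ha
      rw [← mul_assoc, e2, mul_assoc, e1, mul_assoc]
    · apply Subgroup.mul_mem
      · rcases hq2 with rfl | rfl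
        · exact Subgroup.one_mem _
        · exact Subgroup.subset_closure (by simp)
      · rcases hq1 with rfl | rfl
        · exact Subgroup.one_mem _
        · exact Subgroup.subset_closure (by simp)
    · rw [mul_assoc]
      refine ⟨⟨R.mul_mem hq2R (R.mul_mem hq1R hg), ?_⟩, ?_⟩
      · refine Subgroup.mem_centralizer_singleton_iff.mpr ?_
        -- q2 commutes with a
        have e2 : q2 * a = a * q2 := by
          rcases hq2 with rfl | rfl
          · rw [mul_one, one_mul]
          · rfl
        rw [mul_assoc, h1, ← mul_assoc, e2, mul_assoc]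
      · exact Subgroup.mem_centralizer_singleton_iff.mpr h2
  -- H2 is not abelian
  obtain ⟨c, hcH, d, hdH, hcd0⟩ : ∃ c ∈ R ⊓ Subgroup.centralizer {a} ⊓ Subgroup.centralizer {b},
      ∃ d ∈ R ⊓ Subgroup.centralizer {a} ⊓ Subgroup.centralizer {b}, c * d ≠ d * c := by
    by_contra hcon
    push Not at hcon
    have := hsmall _ (fun h hh => by
      have hhR : h ∈ R := hH2 hh
      have hha : h * a = a * h := Subgroup.mem_centralizer_singleton_iff.mp hh.1.2
      have hhb : h * b = b * h := Subgroup.mem_centralizer_singleton_iff.mp hh.2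
      apply hE.cen h hhR
      intro g hg
      obtain ⟨q, hqR, hq, -, hqg⟩ := hadj g hg
      have e1 := hcon h hh (q * g) hqg
      have e2 := hq h hha hhb
      -- h q g = q g h = q (g h)  and h q g = q h g
      have e3 : q * (h * g) = q * (g * h) := by
        rw [← mul_assoc, ← e2, mul_assoc, e1, mul_assoc]
      exact mul_left_cancel e3)
    rw [hcard2] at this
    omega
  have hcR : c ∈ R := hH2 hcH
  have hdR : d ∈ R := hH2 hdH
  have hca : c * a = a * c := Subgroup.mem_centralizer_singleton_iff.mp hcH.1.2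
  have hcb : c * b = b * c := Subgroup.mem_centralizer_singleton_iff.mp hcH.2
  have hda : d * a = a * d := Subgroup.mem_centralizer_singleton_iff.mp hdH.1.2
  have hdb : d * b = b * d := Subgroup.mem_centralizer_singleton_iff.mp hdH.2
  have hcd : c * d = -(d * c) := by
    rcases hE.comm c hcR d hdR with h | h
    · exact absurd h hcd0
    · exact h
  have hdc : d * c = -(c * d) := by rw [hcd, neg_neg]
  have c3 := s6002s3_index hE _ hH2 c hcR d hdH hdc
  have hH3 : R ⊓ Subgroup.centralizer {a} ⊓ Subgroup.centralizer {b} ⊓ Subgroup.centralizer {c} ≤ R :=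
    le_trans inf_le_left hH2
  have hcH3 : c ∈ R ⊓ Subgroup.centralizer {a} ⊓ Subgroup.centralizer {b} ⊓ Subgroup.centralizer {c} :=
    ⟨hcH, Subgroup.mem_centralizer_singleton_iff.mpr rfl⟩
  have c4 := s6002s3_index hE _ hH3 d hdR c hcH3 hcd
  have hcard4 : Nat.card ↥(R ⊓ Subgroup.centralizer {a} ⊓ Subgroup.centralizer {b} ⊓
      Subgroup.centralizer {c} ⊓ Subgroup.centralizer {d}) = 2 := by
    omega
  -- the elements of H4 are ±1
  have hH4 : ∀ g ∈ R ⊓ Subgroup.centralizer {a} ⊓ Subgroup.centralizer {b} ⊓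
      Subgroup.centralizer {c} ⊓ Subgroup.centralizer {d}, g = 1 ∨ g = -1 := by
    intro g hg
    have hneg : (-1 : GL ι F) ∈ R ⊓ Subgroup.centralizer {a} ⊓ Subgroup.centralizer {b} ⊓
        Subgroup.centralizer {c} ⊓ Subgroup.centralizer {d} := by
      refine ⟨⟨⟨⟨hE.neg, ?_⟩, ?_⟩, ?_⟩, ?_⟩ <;>
      · refine Subgroup.mem_centralizer_singleton_iff.mpr ?_
        rw [neg_mul, mul_neg, one_mul, mul_one]
    obtain ⟨y, -, hy⟩ := (Nat.card_eq_two_iff' (1 : ↥(R ⊓ Subgroup.centralizer {a} ⊓
      Subgroup.centralizer {b} ⊓ Subgroup.centralizer {c} ⊓ Subgroup.centralizer {d}))).mp hcard4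
    by_cases h1 : g = 1
    · exact Or.inl h1
    · right
      have e1 := hy ⟨g, hg⟩ (fun h => h1 (congrArg Subtype.val h))
      have e2 := hy ⟨-1, hneg⟩ (fun h => hn1 (congrArg Subtype.val h))
      have := e1.trans e2.symm
      exact congrArg Subtype.val this
  refine ⟨a, b, c, d, haR, hbR, hcR, hdR, hab, hcd, hca.symm, hda.symm, hcb.symm, hdb.symm, ?_⟩
  apply le_antisymm
  · intro g hg
    -- adjust
    obtain ⟨q, hqR, hq, hqcl, hqg⟩ := hadj g hg
    have hqgR : q * g ∈ R := hH2 hqg
    obtain ⟨q3, hq3, h3⟩ := s6002s3_flip hE c hcR d hdR hdc (q * g) hqgR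
    have hq3R : q3 ∈ R := by rcases hq3 with rfl | rfl; exact R.one_mem; exact hdR
    obtain ⟨q4, hq4, h4⟩ := s6002s3_flip hE d hdR c hcR hcd (q3 * (q * g)) (R.mul_mem hq3R hqgR)
    have hq4R : q4 ∈ R := by rcases hq4 with rfl | rfl; exact R.one_mem; exact hcR
    have hqga : (q * g) * a = a * (q * g) := Subgroup.mem_centralizer_singleton_iff.mp hqg.1.2
    have hqgb : (q * g) * b = b * (q * g) := Subgroup.mem_centralizer_singleton_iff.mp hqg.2
    have hq3a : q3 * a = a * q3 := by rcases hq3 with rfl | rfl; rw [mul_one, one_mul]; exact hda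
    have hq3b : q3 * b = b * q3 := by rcases hq3 with rfl | rfl; rw [mul_one, one_mul]; exact hdb
    have hq4a : q4 * a = a * q4 := by rcases hq4 with rfl | rfl; rw [mul_one, one_mul]; exact hca
    have hq4b : q4 * b = b * q4 := by rcases hq4 with rfl | rfl; rw [mul_one, one_mul]; exact hcb
    have hq4c : q4 * c = c * q4 := by rcases hq4 with rfl | rfl; rw [mul_one, one_mul]; rfl
    have hmem4 : q4 * (q3 * (q * g)) ∈ R ⊓ Subgroup.centralizer {a} ⊓ Subgroup.centralizer {b} ⊓
        Subgroup.centralizer {c} ⊓ Subgroup.centralizer {d} := by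
      refine ⟨⟨⟨⟨R.mul_mem hq4R (R.mul_mem hq3R hqgR), ?_⟩, ?_⟩, ?_⟩, ?_⟩
      · refine Subgroup.mem_centralizer_singleton_iff.mpr ?_
        rw [mul_assoc, mul_assoc, hqga, ← mul_assoc q3, hq3a,
          mul_assoc, ← mul_assoc q4, hq4a, mul_assoc]
      · refine Subgroup.mem_centralizer_singleton_iff.mpr ?_
        rw [mul_assoc, mul_assoc, hqgb, ← mul_assoc q3, hq3b,
          mul_assoc, ← mul_assoc q4, hq4b, mul_assoc]
      · refine Subgroup.mem_centralizer_singleton_iff.mpr ?_
        rw [mul_assoc, h3, ← mul_assoc, hq4c, mul_assoc]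
      · exact Subgroup.mem_centralizer_singleton_iff.mpr h4
    have hK : ∀ x ∈ ({a, b, c, d} : Set (GL ι F)), x ∈ Subgroup.closure ({a, b, c, d} : Set (GL ι F)) :=
      fun x hx => Subgroup.subset_closure hx
    have haK := hK a (by simp)
    have hbK := hK b (by simp)
    have hcK := hK c (by simp)
    have hdK := hK d (by simp)
    have hnegK : (-1 : GL ι F) ∈ Subgroup.closure ({a, b, c, d} : Set (GL ι F)) := by
      have : (-1 : GL ι F) = a * b * a⁻¹ * b⁻¹ := by
        rw [hab, neg_mul, neg_mul, mul_assoc b, mul_inv_cancel, mul_one, mul_inv_cancel]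
      rw [this]
      exact Subgroup.mul_mem _ (Subgroup.mul_mem _ (Subgroup.mul_mem _ haK hbK) (Subgroup.inv_mem _ haK))
        (Subgroup.inv_mem _ hbK)
    have hqK : q ∈ Subgroup.closure ({a, b, c, d} : Set (GL ι F)) := by
      have hsub : Subgroup.closure ({a, b} : Set (GL ι F)) ≤ Subgroup.closure ({a, b, c, d} : Set (GL ι F)) := by
        apply Subgroup.closure_mono
        intro x hx
        rcases hx with rfl | rfl
        · simp
        · simp
      exact hsub hqcl
    have hq3K : q3 ∈ Subgroup.closure ({a, b, c, d} : Set (GL ι F)) := by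
      rcases hq3 with rfl | rfl
      · exact Subgroup.one_mem _
      · exact hdK
    have hq4K : q4 ∈ Subgroup.closure ({a, b, c, d} : Set (GL ι F)) := by
      rcases hq4 with rfl | rfl
      · exact Subgroup.one_mem _
      · exact hcK
    have hfinal : q4 * (q3 * (q * g)) ∈ Subgroup.closure ({a, b, c, d} : Set (GL ι F)) := by
      rcases hH4 _ hmem4 with h | h
      · rw [h]; exact Subgroup.one_mem _
      · rw [h]; exact hnegK
    have s1 := (Subgroup.mul_mem_cancel_left _ hq4K).mp hfinal
    have s2 := (Subgroup.mul_mem_cancel_left _ hq3K).mp s1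
    exact (Subgroup.mul_mem_cancel_left _ hqK).mp s2
  · rw [Subgroup.closure_le]
    intro x hx
    rcases hx with rfl | rfl | rfl | rfl
    · exact haR
    · exact hbR
    · exact hcR
    · exact hdR

end Cfsg.Agent.Lib.Helper22.S6002
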