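import Mathlib
import Cfsg.Agent.Lib.Helper22.S6002.Defs
import Cfsg.Agent.Lib.Lead.S6002S3

set_option autoImplicit false
set_option linter.unusedVariables false
set_option linter.unusedSectionVars false
set_option linter.unusedSimpArgs false
open scoped MatrixGroups

/-! # Project S6002, row N13 (`no_transv`) -/

namespace Cfsg.Agent.Lib.Helper22.S6002

open Matrix

variable {ι : Type} [Fintype ι] [DecidableEq ι] {F : Type*} [Field F]

/-- own copy of N1: a non-central element of `R` has trace zero -/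
theorem s6002n13_tr_zero {R : Subgroup (GL ι F)} (hE : ECtx R) (a : GL ι F) (ha : a ∈ R) (h1 : a ≠ 1)
    (h2 : a ≠ -1) : Matrix.trace (a : Matrix ι ι F) = 0 := by
  obtain ⟨b, hb, hab⟩ : ∃ b ∈ R, a * b = -(b * a) := by
    by_contra hcon
    push Not at hcon
    have hcen : ∀ b ∈ R, a * b = b * a := by
      intro b hb
      rcases hE.comm a ha b hb with h | h
      · exact h
      · exact absurd h (hcon b hb)
    rcases hE.cen a ha hcen with h | h
    · exact h1 h
    · exact h2 h
  -- a = -(b a b⁻¹)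
  have e1 : a = -(b * a * b⁻¹) := by
    have : a * b * b⁻¹ = -(b * a) * b⁻¹ := by rw [hab]
    rw [mul_inv_cancel_right, neg_mul] at this
    exact this
  have e2 : (a : Matrix ι ι F) = -((b : Matrix ι ι F) * (a : Matrix ι ι F) * ((b⁻¹ : GL ι F) : Matrix ι ι F)) := by
    have := congrArg (fun x : GL ι F => (x : Matrix ι ι F)) e1
    simpa using this
  have e3 : Matrix.trace (a : Matrix ι ι F) = -Matrix.trace (a : Matrix ι ι F) := by
    conv_lhs => rw [e2]
    rw [Matrix.trace_neg, Matrix.trace_mul_cycle, ← Units.val_mul, inv_mul_cancel, Units.val_one, Matrix.one_mul]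
  have e4 : (2 : F) * Matrix.trace (a : Matrix ι ι F) = 0 := by
    have : Matrix.trace (a : Matrix ι ι F) + Matrix.trace (a : Matrix ι ι F) = 0 := by
      nth_rewrite 1 [e3]
      exact neg_add_cancel _
    rw [two_mul]
    exact this
  rcases mul_eq_zero.mp e4 with h | h
  · exact absurd h hE.two
  · exact h

theorem no_transv {R : Subgroup (GL ι F)} (hE : ECtx R) (hι : Fintype.card ι = 4)
    (g : GL ι F) (hg : g ∈ Nrm R) (u φ : ι → F) (hgu : (g : Matrix ι ι F) = 1 + Matrix.vecMulVec u φ)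
    (hφu : φ ⬝ᵥ u = 0) : g = 1 := by
  by_contra hg1
  obtain ⟨A, hA⟩ : ∃ A : Matrix ι ι F, A = Matrix.vecMulVec u φ := ⟨_, rfl⟩
  rw [← hA] at hgu
  have hA0 : A ≠ 0 := by
    intro h0
    apply hg1
    apply Units.ext
    rw [hgu, h0, add_zero, Units.val_one]
  have hAMA : ∀ M : Matrix ι ι F, A * M * A = ((φ ᵥ* M) ⬝ᵥ u) • A := by
    intro M
    rw [hA, Matrix.vecMulVec_mul, Matrix.vecMulVec_mul_vecMulVec, Matrix.vecMulVec_smul]
  have htrAM : ∀ M : Matrix ι ι F, Matrix.trace (A * M) = (φ ᵥ* M) ⬝ᵥ u := by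
    intro M
    rw [hA, Matrix.vecMulVec_mul, Matrix.trace_vecMulVec, dotProduct_comm]
  have hAA : A * A = 0 := by
    rw [hA, Matrix.vecMulVec_mul_vecMulVec, hφu, zero_smul, Matrix.vecMulVec_zero]
  have htrA : Matrix.trace A = 0 := by
    rw [hA, Matrix.trace_vecMulVec, dotProduct_comm, hφu]
  have h8 : (8 : F) ≠ 0 := by
    have : (8 : F) = 2 * 2 * 2 := by norm_num
    rw [this]
    exact mul_ne_zero (mul_ne_zero hE.two hE.two) hE.two
  have hginv : ((g⁻¹ : GL ι F) : Matrix ι ι F) = 1 - A := by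
    apply Units.inv_eq_of_mul_eq_one_right
    rw [hgu]
    have : (1 + A) * (1 - A) = 1 - A * A := by noncomm_ring
    rw [this, hAA, sub_zero]
  -- `g` is not central on `R`
  obtain ⟨b, hbR, hgb⟩ : ∃ b ∈ R, g * b ≠ b * g := by
    by_contra hcon
    push Not at hcon
    obtain ⟨c, hc⟩ := hE.commutant (g : Matrix ι ι F) (fun b hb => by
      have := congrArg (fun x : GL ι F => (x : Matrix ι ι F)) (hcon b hb)
      simpa using this)
    have hAc : A = (c - 1) • (1 : Matrix ι ι F) := by
      have : A = (g : Matrix ι ι F) - 1 := by rw [hgu]; abel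
      rw [this, hc, sub_smul, one_smul]
    have hsq : ((c - 1) * (c - 1)) • (1 : Matrix ι ι F) = 0 := by
      rw [← hAA, hAc, Matrix.smul_mul, Matrix.mul_smul, Matrix.one_mul, smul_smul]
    have hne : Nonempty ι := by
      apply Fintype.card_pos_iff.mp
      omega
    have h1ne : (1 : Matrix ι ι F) ≠ 0 := one_ne_zero
    rcases smul_eq_zero.mp hsq with h | h
    · have hc1 : c - 1 = 0 := by
        rcases mul_eq_zero.mp h with h' | h' <;> exact h'
      apply hA0
      rw [hAc, hc1, zero_smul]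
    · exact h1ne h
  -- the commutator
  have hcR : g * b * g⁻¹ * b⁻¹ ∈ R := by
    have h1 : g * b * g⁻¹ ∈ R := (Subgroup.mem_set_normalizer_iff.mp hg b).mp hbR
    exact R.mul_mem h1 (R.inv_mem hbR)
  have hc1 : g * b * g⁻¹ * b⁻¹ ≠ 1 := by
    intro h
    apply hgb
    have : g * b * g⁻¹ * b⁻¹ * b * g = 1 * b * g := by rw [h]
    rw [inv_mul_cancel_right, inv_mul_cancel_right, one_mul] at this
    exact this
  obtain ⟨B, hB⟩ : ∃ B : Matrix ι ι F, B = (b : Matrix ι ι F) := ⟨_, rfl⟩
  obtain ⟨B', hB'⟩ : ∃ B' : Matrix ι ι F, B' = ((b⁻¹ : GL ι F) : Matrix ι ι F) := ⟨_, rfl⟩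
  have hBB' : B * B' = 1 := by rw [hB, hB', ← Units.val_mul, mul_inv_cancel, Units.val_one]
  have hB'B : B' * B = 1 := by rw [hB, hB', ← Units.val_mul, inv_mul_cancel, Units.val_one]
  obtain ⟨P, hP⟩ : ∃ P : Matrix ι ι F, P = B * A * B' := ⟨_, rfl⟩
  obtain ⟨t, ht⟩ : ∃ t : F, t = ((φ ᵥ* B) ⬝ᵥ u) * ((φ ᵥ* B') ⬝ᵥ u) := ⟨_, rfl⟩
  have hPP : P * P = 0 := by
    rw [hP]
    have : B * A * B' * (B * A * B') = B * (A * (B' * B) * A) * B' := by
      simp only [Matrix.mul_assoc]
    rw [this, hB'B, Matrix.mul_one, hAA, Matrix.mul_zero, Matrix.zero_mul]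
  have hAPA : A * P * A = t • A := by
    rw [hP]
    have : A * (B * A * B') * A = (A * B * A) * B' * A := by simp only [Matrix.mul_assoc]
    rw [this, hAMA B, Matrix.smul_mul, Matrix.smul_mul, hAMA B', smul_smul, ← ht]
  have htrP : Matrix.trace P = 0 := by
    rw [hP, Matrix.trace_mul_cycle, hB'B, Matrix.one_mul, htrA]
  have htrAP : Matrix.trace (A * P) = t := by
    rw [hP]
    have : A * (B * A * B') = (A * B * A) * B' := by simp only [Matrix.mul_assoc]
    rw [this, hAMA B, Matrix.smul_mul, Matrix.trace_smul, htrAM B', smul_eq_mul, ← ht]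
  -- the matrix of the commutator
  obtain ⟨C, hC⟩ : ∃ C : Matrix ι ι F, C = ((g * b * g⁻¹ * b⁻¹ : GL ι F) : Matrix ι ι F) := ⟨_, rfl⟩
  have hCN : C = 1 + (A - P - A * P) := by
    rw [hC, Units.val_mul, Units.val_mul, Units.val_mul, hgu, hginv, ← hB, ← hB', hP]
    have : (1 + A) * B * (1 - A) * B' = (1 + A) * (B * B' - B * A * B') := by
      simp only [Matrix.mul_sub, Matrix.sub_mul, Matrix.mul_one, Matrix.mul_assoc]
    rw [this, hBB']
    noncomm_ring
  obtain ⟨N, hN⟩ : ∃ N : Matrix ι ι F, N = A - P - A * P := ⟨_, rfl⟩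
  rw [← hN] at hCN
  have hAN : A * N = -(A * P) := by
    rw [hN, Matrix.mul_sub, Matrix.mul_sub, ← Matrix.mul_assoc, hAA, Matrix.zero_mul]
    abel
  have hNA : N * A = -(P * A) - t • A := by
    rw [hN, Matrix.sub_mul, Matrix.sub_mul, hAA, hAPA]
    abel
  have hANA : A * N * A = -(t • A) := by
    rw [hAN, Matrix.neg_mul, hAPA]
  have hANNA : A * (N * N) * A = (t * t) • A := by
    have : A * (N * N) * A = (A * N) * (N * A) := by simp only [Matrix.mul_assoc]
    rw [this, hAN, hNA, Matrix.neg_mul, Matrix.mul_sub, Matrix.mul_neg, Matrix.mul_smul]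
    have e1 : A * P * (P * A) = A * (P * P) * A := by simp only [Matrix.mul_assoc]
    rw [e1, hPP, Matrix.mul_zero, Matrix.zero_mul, hAPA, smul_smul]
    simp
  have hK1 : A * C * A = -(t • A) := by
    rw [hCN, Matrix.mul_add, Matrix.add_mul, Matrix.mul_one, hAA, hANA, zero_add]
  have hK2 : A * (C * C) * A = (t * t - 2 * t) • A := by
    have : C * C = 1 + 2 • N + N * N := by rw [hCN]; noncomm_ring
    rw [this, Matrix.mul_add, Matrix.mul_add, Matrix.add_mul, Matrix.add_mul, Matrix.mul_one, hAA, hANNA,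
      Matrix.mul_smul, Matrix.smul_mul, hANA, zero_add, sub_smul]
    rw [mul_smul (2 : F) t A, two_smul F (t • A)]
    abel
  have htrC : Matrix.trace C = 4 - t := by
    rw [hCN, hN, Matrix.trace_add, Matrix.trace_sub, Matrix.trace_sub, Matrix.trace_one, hι, htrA, htrP, htrAP]
    push_cast
    ring
  have hsmulA : ∀ s : F, s • A = 0 → s = 0 := by
    intro s hs
    rcases smul_eq_zero.mp hs with h | h
    · exact h
    · exact absurd h hA0
  by_cases hcm1 : g * b * g⁻¹ * b⁻¹ = -1
  · -- C = -1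
    have hCm : C = -1 := by
      rw [hC, hcm1]
      simp
    have h1 : t = 0 := by
      apply hsmulA
      have := hK1
      rw [hCm, Matrix.mul_neg, Matrix.mul_one, Matrix.neg_mul, hAA, neg_zero] at this
      have h' : t • A = 0 := by
        have := congrArg Neg.neg this
        simpa using this.symm
      exact h'
    have h2 : (-4 : F) = 4 - t := by
      rw [← htrC, hCm, Matrix.trace_neg, Matrix.trace_one, hι]
      push_cast
      ring
    rw [h1] at h2
    apply h8
    linear_combination -h2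
  · have h1 : t = 4 := by
      have := s6002n13_tr_zero hE _ hcR hc1 hcm1
      rw [← hC, htrC] at this
      linear_combination -this
    have hCC : C * C = 1 ∨ C * C = -1 := by
      rcases hE.sq _ hcR with h | h
      · left
        rw [hC, ← Units.val_mul, h, Units.val_one]
      · right
        rw [hC, ← Units.val_mul, h]
        simp
    have h2 : t * t - 2 * t = 0 := by
      apply hsmulA
      rw [← hK2]
      rcases hCC with h | h
      · rw [h, Matrix.mul_one, hAA]
      · rw [h, Matrix.mul_neg, Matrix.mul_one, Matrix.neg_mul, hAA, neg_zero]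
    rw [h1] at h2
    apply h8
    linear_combination h2

end Cfsg.Agent.Lib.Helper22.S6002
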