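import Mathlib
import Cfsg.Agent.Lib.Helper22.S6002.Defs
import Cfsg.Agent.Lib.Lead.S6002S3

set_option autoImplicit false
set_option linter.unusedVariables false
set_option linter.unusedSectionVars false
set_option linter.unusedSimpArgs false
open scoped MatrixGroups

/-! # Project S6002, row S4 (`frame_exists`) -/

namespace Cfsg.Agent.Lib.Helper22.S6002

variable {ι : Type} [Fintype ι] [DecidableEq ι] {F : Type*} [Field F]

section words
variable {G : Type*} [Group G] [HasDistribNeg G]

theorem s6002s4_comm_ext {x y : G} (h : x * y = y * x) (z : G) : x * (y * z) = y * (x * z) := by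
  rw [← mul_assoc, h, mul_assoc]

theorem s6002s4_anti_ext {x y : G} (h : x * y = -(y * x)) (z : G) : x * (y * z) = -(y * (x * z)) := by
  rw [← mul_assoc, h, neg_mul, mul_assoc]

theorem s6002s4_sq_ext {x : G} (h : x * x = 1) (z : G) : x * (x * z) = z := by
  rw [← mul_assoc, h, one_mul]

theorem s6002s4_sqn_ext {x : G} (h : x * x = -1) (z : G) : x * (x * z) = -z := by
  rw [← mul_assoc, h, neg_mul, one_mul]

theorem s6002s4_anti_symm {x y : G} (h : x * y = -(y * x)) : y * x = -(x * y) := by
  rw [h, neg_neg]

end words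

/-- a pair of anticommuting elements is of quaternion type or yields anticommuting involutions -/
theorem s6002s4_pair {R : Subgroup (GL ι F)} (hE : ECtx R) (a b : GL ι F) (ha : a ∈ R) (hb : b ∈ R)
    (hab : a * b = -(b * a)) :
    (a * a = -1 ∧ b * b = -1) ∨
    ∃ s t : GL ι F, s ∈ R ∧ t ∈ R ∧ s * s = 1 ∧ t * t = 1 ∧ s * t = -(t * s) ∧
      (∀ h : GL ι F, h * a = a * h → h * b = b * h → h * s = s * h ∧ h * t = t * h) ∧
      a ∈ Subgroup.closure ({s, t} : Set (GL ι F)) ∧ b ∈ Subgroup.closure ({s, t} : Set (GL ι F)) := by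
  have hba : b * a = -(a * b) := s6002s4_anti_symm hab
  have hba' := s6002s4_anti_ext hba
  rcases hE.sq a ha with ha2 | ha2 <;> rcases hE.sq b hb with hb2 | hb2
  · right
    refine ⟨a, b, ha, hb, ha2, hb2, hab, fun h h1 h2 => ⟨h1, h2⟩, ?_, ?_⟩
    · exact Subgroup.subset_closure (by simp)
    · exact Subgroup.subset_closure (by simp)
  · right
    refine ⟨a, a * b, ha, R.mul_mem ha hb, ha2, ?_, ?_, ?_, ?_, ?_⟩
    · simp only [mul_assoc, hba', neg_mul, mul_neg, neg_neg, s6002s4_sq_ext ha2, hb2, ha2, mul_one]
    · simp only [mul_assoc, hba', neg_mul, mul_neg, neg_neg, s6002s4_sq_ext ha2, hb2, hba, ha2, mul_one]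
    · intro h h1 h2
      refine ⟨h1, ?_⟩
      rw [← mul_assoc, h1, mul_assoc, h2, mul_assoc]
    · exact Subgroup.subset_closure (by simp)
    · have : b = a⁻¹ * (a * b) := by rw [inv_mul_cancel_left]
      rw [this]
      exact Subgroup.mul_mem _ (Subgroup.inv_mem _ (Subgroup.subset_closure (by simp)))
        (Subgroup.subset_closure (by simp))
  · right
    refine ⟨a * b, b, R.mul_mem ha hb, hb, ?_, hb2, ?_, ?_, ?_, ?_⟩
    · simp only [mul_assoc, hba', neg_mul, mul_neg, neg_neg, s6002s4_sqn_ext ha2, hb2, mul_one, ha2]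
    · simp only [mul_assoc, hba', neg_mul, mul_neg, neg_neg, hb2, mul_one, hba, ha2]
    · intro h h1 h2
      refine ⟨?_, h2⟩
      rw [← mul_assoc, h1, mul_assoc, h2, mul_assoc]
    · have : a = (a * b) * b⁻¹ := by rw [mul_inv_cancel_right]
      rw [this]
      exact Subgroup.mul_mem _ (Subgroup.subset_closure (by simp))
        (Subgroup.inv_mem _ (Subgroup.subset_closure (by simp)))
    · exact Subgroup.subset_closure (by simp)
  · left
    exact ⟨ha2, hb2⟩

/-- the frame from a dihedral and a quaternion factor -/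
theorem s6002s4_frame {R : Subgroup (GL ι F)} (s t I J : GL ι F)
    (hs : s ∈ R) (ht : t ∈ R) (hI : I ∈ R) (hJ : J ∈ R)
    (hs2 : s * s = 1) (ht2 : t * t = 1) (hI2 : I * I = -1) (hJ2 : J * J = -1)
    (hst : s * t = -(t * s)) (hIJ : I * J = -(J * I))
    (hsI : s * I = I * s) (hsJ : s * J = J * s) (htI : t * I = I * t) (htJ : t * J = J * t)
    (hgen : R ≤ Subgroup.closure ({s, t, I, J} : Set (GL ι F))) :
    ∃ e : Fin 4 → GL ι F, IsFrame R e := by
  -- ordered rewriting: I < J < s < t
  have hts : t * s = -(s * t) := s6002s4_anti_symm hst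
  have hJI : J * I = -(I * J) := s6002s4_anti_symm hIJ
  have r1 := s6002s4_anti_ext hts
  have r2 := s6002s4_anti_ext hJI
  have r3 := s6002s4_comm_ext hsI
  have r4 := s6002s4_comm_ext hsJ
  have r5 := s6002s4_comm_ext htI
  have r6 := s6002s4_comm_ext htJ
  have q1 := s6002s4_sq_ext hs2
  have q2 := s6002s4_sq_ext ht2
  have q3 := s6002s4_sqn_ext hI2
  have q4 := s6002s4_sqn_ext hJ2
  have e22 : (I * s * t) * (I * s * t) = 1 := by
    simp only [mul_assoc, hts, hJI, hsI, hsJ, htI, htJ, r1, r2, r3, r4, r5, r6, q1, q2, q3, q4, hs2, ht2,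
      hI2, hJ2, neg_mul, mul_neg, neg_neg, mul_one, one_mul]
  have e33 : (J * s * t) * (J * s * t) = 1 := by
    simp only [mul_assoc, hts, hJI, hsI, hsJ, htI, htJ, r1, r2, r3, r4, r5, r6, q1, q2, q3, q4, hs2, ht2,
      hI2, hJ2, neg_mul, mul_neg, neg_neg, mul_one, one_mul]
  have e02 : s * (I * s * t) = -((I * s * t) * s) := by
    simp only [mul_assoc, hts, hJI, hsI, hsJ, htI, htJ, r1, r2, r3, r4, r5, r6, q1, q2, q3, q4, hs2, ht2,
      hI2, hJ2, neg_mul, mul_neg, neg_neg, mul_one, one_mul]
  have e03 : s * (J * s * t) = -((J * s * t) * s) := by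
    simp only [mul_assoc, hts, hJI, hsI, hsJ, htI, htJ, r1, r2, r3, r4, r5, r6, q1, q2, q3, q4, hs2, ht2,
      hI2, hJ2, neg_mul, mul_neg, neg_neg, mul_one, one_mul]
  have e12 : t * (I * s * t) = -((I * s * t) * t) := by
    simp only [mul_assoc, hts, hJI, hsI, hsJ, htI, htJ, r1, r2, r3, r4, r5, r6, q1, q2, q3, q4, hs2, ht2,
      hI2, hJ2, neg_mul, mul_neg, neg_neg, mul_one, one_mul]
  have e13 : t * (J * s * t) = -((J * s * t) * t) := by
    simp only [mul_assoc, hts, hJI, hsI, hsJ, htI, htJ, r1, r2, r3, r4, r5, r6, q1, q2, q3, q4, hs2, ht2,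
      hI2, hJ2, neg_mul, mul_neg, neg_neg, mul_one, one_mul]
  have e23 : (I * s * t) * (J * s * t) = -((J * s * t) * (I * s * t)) := by
    simp only [mul_assoc, hts, hJI, hsI, hsJ, htI, htJ, r1, r2, r3, r4, r5, r6, q1, q2, q3, q4, hs2, ht2,
      hI2, hJ2, neg_mul, mul_neg, neg_neg, mul_one, one_mul]
  refine ⟨![s, t, I * s * t, J * s * t], ?_, ?_, ?_, ?_⟩
  · intro i
    fin_cases i
    · exact hs
    · exact ht
    · exact R.mul_mem (R.mul_mem hI hs) ht
    · exact R.mul_mem (R.mul_mem hJ hs) ht
  · intro i
    fin_cases i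
    · exact hs2
    · exact ht2
    · exact e22
    · exact e33
  · intro i j hij
    fin_cases i <;> fin_cases j
    · exact absurd rfl hij
    · exact hst
    · exact e02
    · exact e03
    · exact hts
    · exact absurd rfl hij
    · exact e12
    · exact e13
    · exact s6002s4_anti_symm e02
    · exact s6002s4_anti_symm e12
    · exact absurd rfl hij
    · exact e23
    · exact s6002s4_anti_symm e03
    · exact s6002s4_anti_symm e13
    · exact s6002s4_anti_symm e23
    · exact absurd rfl hij
  · apply le_antisymm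
    · refine le_trans hgen ?_
      rw [Subgroup.closure_le]
      have h0 : s ∈ Subgroup.closure (Set.range ![s, t, I * s * t, J * s * t]) :=
        Subgroup.subset_closure ⟨0, rfl⟩
      have h1 : t ∈ Subgroup.closure (Set.range ![s, t, I * s * t, J * s * t]) :=
        Subgroup.subset_closure ⟨1, rfl⟩
      have h2 : I * s * t ∈ Subgroup.closure (Set.range ![s, t, I * s * t, J * s * t]) :=
        Subgroup.subset_closure ⟨2, rfl⟩
      have h3 : J * s * t ∈ Subgroup.closure (Set.range ![s, t, I * s * t, J * s * t]) :=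
        Subgroup.subset_closure ⟨3, rfl⟩
      have hI' : I ∈ Subgroup.closure (Set.range ![s, t, I * s * t, J * s * t]) := by
        have hm := Subgroup.mul_mem _ (Subgroup.mul_mem _ h2 (Subgroup.inv_mem _ h1)) (Subgroup.inv_mem _ h0)
        rwa [mul_inv_cancel_right, mul_inv_cancel_right] at hm
      have hJ' : J ∈ Subgroup.closure (Set.range ![s, t, I * s * t, J * s * t]) := by
        have hm := Subgroup.mul_mem _ (Subgroup.mul_mem _ h3 (Subgroup.inv_mem _ h1)) (Subgroup.inv_mem _ h0)
        rwa [mul_inv_cancel_right, mul_inv_cancel_right] at hm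
      intro x hx
      rcases hx with rfl | rfl | rfl | rfl
      · exact h0
      · exact h1
      · exact hI'
      · exact hJ'
    · rw [Subgroup.closure_le]
      rintro x ⟨i, rfl⟩
      fin_cases i
      · exact hs
      · exact ht
      · exact R.mul_mem (R.mul_mem hI hs) ht
      · exact R.mul_mem (R.mul_mem hJ hs) ht

theorem frame_exists {R : Subgroup (GL ι F)} (hE : ECtx R) (hK : NoKlein R) :
    ∃ e : Fin 4 → GL ι F, IsFrame R e := by
  obtain ⟨a, b, c, d, ha, hb, hc, hd, hab, hcd, hac, had, hbc, hbd, hgen⟩ := split88 hE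
  have hn := s6002s3_neg_ne hE
  have hn1 := s6002s3_neg_one_ne hE
  have hba : b * a = -(a * b) := s6002s4_anti_symm hab
  have hdc : d * c = -(c * d) := s6002s4_anti_symm hcd
  -- an element anticommuting with something is not ±1
  have hnc : ∀ x y : GL ι F, x * y = -(y * x) → x ≠ 1 ∧ x ≠ -1 := by
    intro x y hxy
    constructor
    · rintro rfl
      rw [one_mul, mul_one] at hxy
      exact hn y hxy.symm
    · rintro rfl
      rw [neg_mul, one_mul, mul_neg, mul_one, neg_neg] at hxy
      exact hn y hxy
  rcases s6002s4_pair hE a b ha hb hab with ⟨ha2, hb2⟩ | ⟨s, t, hs, ht, hs2, ht2, hst, hcomm, has, hbs⟩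
  · rcases s6002s4_pair hE c d hc hd hcd with ⟨hc2, hd2⟩ | ⟨s, t, hs, ht, hs2, ht2, hst, hcomm, hcs, hds⟩
    · -- both of quaternion type: a c and b d form a Klein four-group
      exfalso
      have r1 := s6002s4_comm_ext hac.symm
      have r2 := s6002s4_comm_ext hbc.symm
      have r3 := s6002s4_comm_ext had.symm
      have r4 := s6002s4_comm_ext hbd.symm
      have r5 := s6002s4_anti_ext hba
      have r6 := s6002s4_anti_ext hdc
      have q1 := s6002s4_sqn_ext ha2
      have q2 := s6002s4_sqn_ext hb2
      have q3 := s6002s4_sqn_ext hc2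
      have q4 := s6002s4_sqn_ext hd2
      have k1 : (a * c) * (a * c) = 1 := by
        simp only [mul_assoc, hac.symm, hbc.symm, had.symm, hbd.symm, hba, hdc, r1, r2, r3, r4, r5, r6, q1,
          q2, q3, q4, ha2, hb2, hc2, hd2, neg_mul, mul_neg, neg_neg, mul_one, one_mul]
      have k2 : (b * d) * (b * d) = 1 := by
        simp only [mul_assoc, hac.symm, hbc.symm, had.symm, hbd.symm, hba, hdc, r1, r2, r3, r4, r5, r6, q1,
          q2, q3, q4, ha2, hb2, hc2, hd2, neg_mul, mul_neg, neg_neg, mul_one, one_mul]
      have k3 : (a * c) * (b * d) = (b * d) * (a * c) := by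
        simp only [mul_assoc, hac.symm, hbc.symm, had.symm, hbd.symm, hba, hdc, r1, r2, r3, r4, r5, r6, q1,
          q2, q3, q4, ha2, hb2, hc2, hd2, neg_mul, mul_neg, neg_neg, mul_one, one_mul]
      -- a c anticommutes with b, b d anticommutes with a, a c commutes with a
      have k4 : (a * c) * b = -(b * (a * c)) := by
        simp only [mul_assoc, hac.symm, hbc.symm, had.symm, hbd.symm, hba, hdc, r1, r2, r3, r4, r5, r6, q1,
          q2, q3, q4, ha2, hb2, hc2, hd2, neg_mul, mul_neg, neg_neg, mul_one, one_mul]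
      have k5 : (b * d) * a = -(a * (b * d)) := by
        simp only [mul_assoc, hac.symm, hbc.symm, had.symm, hbd.symm, hba, hdc, r1, r2, r3, r4, r5, r6, q1,
          q2, q3, q4, ha2, hb2, hc2, hd2, neg_mul, mul_neg, neg_neg, mul_one, one_mul]
      have k6 : (a * c) * a = a * (a * c) := by
        simp only [mul_assoc, hac.symm, hbc.symm, had.symm, hbd.symm, hba, hdc, r1, r2, r3, r4, r5, r6, q1,
          q2, q3, q4, ha2, hb2, hc2, hd2, neg_mul, mul_neg, neg_neg, mul_one, one_mul]
      rcases hK (a * c) (R.mul_mem ha hc) (b * d) (R.mul_mem hb hd) k1 k2 k3 with h | h | h | h | h | h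
      · exact (hnc _ _ k4).1 h
      · exact (hnc _ _ k4).2 h
      · exact (hnc _ _ k5).1 h
      · exact (hnc _ _ k5).2 h
      · rw [h] at k6
        rw [k6] at k5
        exact hn _ k5.symm
      · rw [h, neg_mul, mul_neg] at k6
        rw [neg_inj] at k6
        rw [k6] at k5
        exact hn _ k5.symm
    · -- (a, b) quaternion, (c, d) dihedral
      have hsa : s * a = a * s ∧ t * a = a * t := by
        have := hcomm a hac had
        exact ⟨this.1.symm, this.2.symm⟩
      have hsb : s * b = b * s ∧ t * b = b * t := by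
        have := hcomm b hbc hbd
        exact ⟨this.1.symm, this.2.symm⟩
      apply s6002s4_frame s t a b hs ht ha hb hs2 ht2 ha2 hb2 hst hab hsa.1 hsb.1 hsa.2 hsb.2
      rw [hgen, Subgroup.closure_le]
      have hsub : Subgroup.closure ({s, t} : Set (GL ι F)) ≤ Subgroup.closure ({s, t, a, b} : Set (GL ι F)) := by
        apply Subgroup.closure_mono
        intro x hx
        rcases hx with rfl | rfl
        · simp
        · simp
      intro x hx
      rcases hx with rfl | rfl | rfl | rfl
      · exact Subgroup.subset_closure (by simp)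
      · exact Subgroup.subset_closure (by simp)
      · exact hsub hcs
      · exact hsub hds
  · rcases s6002s4_pair hE c d hc hd hcd with ⟨hc2, hd2⟩ | ⟨s', t', hs', ht', hs2', ht2', hst', hcomm', hcs, hds⟩
    · -- (a, b) dihedral, (c, d) quaternion
      have hsc : s * c = c * s ∧ t * c = c * t := by
        have := hcomm c hac.symm hbc.symm
        exact ⟨this.1.symm, this.2.symm⟩
      have hsd : s * d = d * s ∧ t * d = d * t := by
        have := hcomm d had.symm hbd.symm
        exact ⟨this.1.symm, this.2.symm⟩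
      apply s6002s4_frame s t c d hs ht hc hd hs2 ht2 hc2 hd2 hst hcd hsc.1 hsd.1 hsc.2 hsd.2
      rw [hgen, Subgroup.closure_le]
      have hsub : Subgroup.closure ({s, t} : Set (GL ι F)) ≤ Subgroup.closure ({s, t, c, d} : Set (GL ι F)) := by
        apply Subgroup.closure_mono
        intro x hx
        rcases hx with rfl | rfl
        · simp
        · simp
      intro x hx
      rcases hx with rfl | rfl | rfl | rfl
      · exact hsub has
      · exact hsub hbs
      · exact Subgroup.subset_closure (by simp)
      · exact Subgroup.subset_closure (by simp)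
    · -- both dihedral: s and s' form a Klein four-group
      exfalso
      -- s' commutes with a, b hence with s, t
      have h1 := hcomm s' ?_ ?_
      · have hss : s' * s = s * s' := h1.1
        have hst'' : s' * t = t * s' := h1.2
        rcases hK s hs s' hs' hs2 hs2' hss.symm with h | h | h | h | h | h
        · exact (hnc _ _ hst).1 h
        · exact (hnc _ _ hst).2 h
        · exact (hnc _ _ hst').1 h
        · exact (hnc _ _ hst').2 h
        · rw [← h] at hst''
          rw [hst''] at hst
          exact hn _ hst.symm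
        · have h' : s' = -s := by rw [h, neg_neg]
          rw [h', neg_mul, mul_neg, neg_inj] at hst''
          rw [hst''] at hst
          exact hn _ hst.symm
      · exact ((hcomm' a hac had).1).symm
      · exact ((hcomm' b hbc hbd).1).symm

end Cfsg.Agent.Lib.Helper22.S6002
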