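import Mathlib

set_option autoImplicit false

/-!
# Counting integer vectors with prescribed squared length and residue of the coordinate sum

The number of vectors in a finite box `∏ A i` with given `∑ (x i)^2` and `(∑ x i) % 8` is read off
as a sum of base-`B` digits of the natural number `∏ i, ∑ a ∈ A i, B ^ code a`.
-/

namespace Cfsg.Agent.Lib.Lead.DC

open Finset

theorem digit_count {α : Type*} [DecidableEq α] (P : Finset α) (c : α → ℕ) (B e : ℕ)
    (hB : P.card < B) :
    ((∑ y ∈ P, B ^ c y) / B ^ e) % B = (P.filter (fun y => c y = e)).card := by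
  have hB0 : 0 < B := by omega
  have key : ∀ y, B ^ c y = (if c y < e then B ^ c y else 0) + (if c y = e then B ^ e else 0)
      + B ^ (e + 1) * (if e < c y then B ^ (c y - e - 1) else 0) := by
    intro y
    rcases lt_trichotomy (c y) e with h | h | h
    · rw [if_pos h, if_neg h.ne, if_neg (not_lt.mpr h.le)]; simp
    · rw [if_neg (by omega), if_pos h, if_neg (by omega), h]; simp
    · rw [if_neg (by omega), if_neg (by omega), if_pos h, ← pow_add]
      have : e + 1 + (c y - e - 1) = c y := by omega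
      rw [this]; simp
  set L := ∑ y ∈ P, (if c y < e then B ^ c y else 0) with hL
  set H := ∑ y ∈ P, (if e < c y then B ^ (c y - e - 1) else 0) with hH
  set n := (P.filter (fun y => c y = e)).card with hn
  have hsum : ∑ y ∈ P, B ^ c y = L + n * B ^ e + B ^ (e + 1) * H := by
    rw [hL, hH, Finset.mul_sum, hn, Finset.card_filter, Finset.sum_mul, ← Finset.sum_add_distrib,
      ← Finset.sum_add_distrib]
    apply Finset.sum_congr rfl
    intro y _
    refine (key y).trans ?_
    congr 1
    congr 1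
    split_ifs <;> simp
  have hLlt : L < B ^ e := by
    have h1 : L * B ≤ P.card * B ^ e := by
      rw [hL, Finset.sum_mul]
      calc ∑ y ∈ P, (if c y < e then B ^ c y else 0) * B ≤ ∑ _y ∈ P, B ^ e := by
            apply Finset.sum_le_sum
            intro y _
            split_ifs with h
            · rw [← pow_succ]
              exact Nat.pow_le_pow_right hB0 h
            · simp
        _ = P.card * B ^ e := by rw [Finset.sum_const, smul_eq_mul]
    have h2 : P.card * B ^ e < B * B ^ e := by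
      apply Nat.mul_lt_mul_of_pos_right hB (pow_pos hB0 e)
    have h3 : L * B < B ^ e * B := by rw [mul_comm (B ^ e) B]; exact lt_of_le_of_lt h1 h2
    exact Nat.lt_of_mul_lt_mul_right h3
  have hnlt : n < B := lt_of_le_of_lt (Finset.card_filter_le _ _) hB
  rw [hsum]
  have hrew : L + n * B ^ e + B ^ (e + 1) * H = L + B ^ e * (n + B * H) := by
    rw [pow_succ]; ring
  rw [hrew, Nat.add_mul_div_left _ _ (pow_pos hB0 e), Nat.div_eq_of_lt hLlt, zero_add,
    Nat.add_mul_mod_self_left, Nat.mod_eq_of_lt hnlt]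

theorem count_eq {ι : Type*} [Fintype ι] [DecidableEq ι] (A : ι → Finset ℤ) (cd : ℤ → ℕ)
    (B e : ℕ) (hB : ∏ i, (A i).card < B) :
    ((Fintype.piFinset A).filter (fun x => ∑ i, cd (x i) = e)).card
      = ((∏ i, ∑ a ∈ A i, B ^ cd a) / B ^ e) % B := by
  rw [Finset.prod_univ_sum,
    ← digit_count (Fintype.piFinset A) (fun x => ∑ i, cd (x i)) B e
      (by rwa [Fintype.card_piFinset])]
  congr 2
  apply Finset.sum_congr rfl
  intro x _
  rw [Finset.prod_pow_eq_pow_sum]

/-- the code of an integer value -/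
def code (K : ℕ) (a : ℤ) : ℕ := K * a.natAbs ^ 2 + (a % 8).toNat

theorem toNat_mod8_le (a : ℤ) : (a % 8).toNat ≤ 7 := by
  have h1 : 0 ≤ a % 8 := Int.emod_nonneg a (by norm_num)
  have h2 : a % 8 < 8 := Int.emod_lt_of_pos a (by norm_num)
  omega

theorem sum_code {ι : Type*} [Fintype ι] (K : ℕ) (x : ι → ℤ) :
    ∑ i, code K (x i) = K * (∑ i, (x i).natAbs ^ 2) + ∑ i, ((x i) % 8).toNat := by
  simp only [code, Finset.sum_add_distrib, Finset.mul_sum]

theorem sum_toNat_lt {ι : Type*} [Fintype ι] (K : ℕ) (hK : 7 * Fintype.card ι < K) (x : ι → ℤ) :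
    ∑ i, ((x i) % 8).toNat < K := by
  calc ∑ i, ((x i) % 8).toNat ≤ ∑ _i : ι, 7 := Finset.sum_le_sum (fun i _ => toNat_mod8_le _)
    _ = 7 * Fintype.card ι := by rw [Finset.sum_const, smul_eq_mul, mul_comm]; rfl
    _ < K := hK

theorem sum_toNat_mod {ι : Type*} [Fintype ι] (x : ι → ℤ) :
    ((∑ i, ((x i) % 8).toNat : ℕ) : ℤ) % 8 = (∑ i, x i) % 8 := by
  push_cast
  have : ∀ i, (((x i) % 8).toNat : ℤ) = x i % 8 := fun i =>
    Int.toNat_of_nonneg (Int.emod_nonneg _ (by norm_num))
  simp only [this]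
  exact (Finset.sum_int_mod Finset.univ 8 x).symm

theorem count_norm_res {ι : Type*} [Fintype ι] [DecidableEq ι] (A : ι → Finset ℤ)
    (K B N ρ : ℕ) (hK : 7 * Fintype.card ι < K) (hB : ∏ i, (A i).card < B) :
    ((Fintype.piFinset A).filter
        (fun x => ∑ i, (x i).natAbs ^ 2 = N ∧ (∑ i, x i) % 8 = (ρ : ℤ) % 8)).card
      = ∑ t ∈ (Finset.range K).filter (fun t => t % 8 = ρ % 8),
          ((∏ i, ∑ a ∈ A i, B ^ code K a) / B ^ (K * N + t)) % B := by
  have hK0 : 0 < K := by omega
  have hE : (Fintype.piFinset A).filter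
        (fun x => ∑ i, (x i).natAbs ^ 2 = N ∧ (∑ i, x i) % 8 = (ρ : ℤ) % 8)
      = ((Finset.range K).filter (fun t => t % 8 = ρ % 8)).biUnion
          (fun t => (Fintype.piFinset A).filter (fun x => ∑ i, code K (x i) = K * N + t)) := by
    ext x
    simp only [Finset.mem_filter, Finset.mem_biUnion, Finset.mem_range]
    constructor
    · rintro ⟨hx, hN, hρ⟩
      refine ⟨∑ i, ((x i) % 8).toNat, ⟨sum_toNat_lt K hK x, ?_⟩, hx, ?_⟩
      · have := sum_toNat_mod x
        rw [hρ] at this
        omega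
      · rw [sum_code, hN]
    · rintro ⟨t, ⟨ht, htρ⟩, hx, hc⟩
      rw [sum_code] at hc
      have hlt := sum_toNat_lt K hK x
      have h1 : (K * (∑ i, (x i).natAbs ^ 2) + ∑ i, ((x i) % 8).toNat) % K
          = (K * N + t) % K := by rw [hc]
      rw [Nat.mul_add_mod, Nat.mul_add_mod, Nat.mod_eq_of_lt hlt, Nat.mod_eq_of_lt ht] at h1
      have h2 : K * (∑ i, (x i).natAbs ^ 2) = K * N := by omega
      have h3 : ∑ i, (x i).natAbs ^ 2 = N := Nat.eq_of_mul_eq_mul_left hK0 h2
      refine ⟨hx, h3, ?_⟩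
      have := sum_toNat_mod x
      rw [h1] at this
      omega
  rw [hE, Finset.card_biUnion]
  · apply Finset.sum_congr rfl
    intro t _
    exact count_eq A (code K) B (K * N + t) hB
  · intro t _ t' _ htt'
    rw [Function.onFun, Finset.disjoint_left]
    intro x hx hx'
    simp only [Finset.mem_filter] at hx hx'
    apply htt'
    omega

end Cfsg.Agent.Lib.Lead.DC
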