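import Mathlib
import Cfsg.Prelude.Def_Sporadic_a
import Cfsg.Agent.Lib.helper3.Golay
import Cfsg.Agent.Lib.helper4.Leech
import Cfsg.Agent.Lib.Lead.DigitCount

set_option autoImplicit false

/-!
# Counting vectors of the rank-24 lattice by squared length

Vectors of the lattice with entries in `A1 ∪ A0` (`A1` the values allowed on the codeword, `A0` off
it) are counted codeword by codeword; the count for one codeword is a digit sum of a big number.
-/

namespace Cfsg.Agent.Lib.Lead.LC

open Cfsg Finset
open Cfsg.Agent.Lib.helper3 Cfsg.Agent.Lib.helper4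

/-- the base -/
def Bb : ℕ := 2 ^ 64

/-- the `k`-th codeword -/
def Cw (k : ℕ) : GolayPt → ZMod 2 := gword (golayMask k)

/-- allowed values per coordinate -/
def cls (C : GolayPt → ZMod 2) (A1 A0 : Finset ℤ) : GolayPt → Finset ℤ :=
  fun i => if C i ≠ 0 then A1 else A0

/-- vectors of class `C` with given norm and residue of the sum -/
def EF (C : GolayPt → ZMod 2) (A1 A0 : Finset ℤ) (N ρ : ℕ) : Finset (GolayPt → ℤ) :=
  (Fintype.piFinset (cls C A1 A0)).filter
    (fun x => ∑ i, (x i).natAbs ^ 2 = N ∧ (∑ i, x i) % 8 = (ρ : ℤ) % 8)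

/-- the count for a codeword of weight `w` -/
def G (A1 A0 : Finset ℤ) (w N ρ : ℕ) : ℕ :=
  ∑ t ∈ (Finset.range 200).filter (fun t => t % 8 = ρ % 8),
    (((∑ a ∈ A1, Bb ^ DC.code 200 a) ^ w * (∑ a ∈ A0, Bb ^ DC.code 200 a) ^ (24 - w))
      / Bb ^ (200 * N + t)) % Bb

theorem card_golayPt : Fintype.card GolayPt = 24 := by
  simp [Fintype.card_option, ZMod.card]

theorem card_EF (C : GolayPt → ZMod 2) (A1 A0 : Finset ℤ) (hc1 : A1.card ≤ 5) (hc0 : A0.card ≤ 5)
    (N ρ : ℕ) : (EF C A1 A0 N ρ).card = G A1 A0 (hammingNorm C) N ρ := by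
  unfold EF G
  have hB : ∏ i, (cls C A1 A0 i).card < Bb := by
    calc ∏ i, (cls C A1 A0 i).card ≤ ∏ _i : GolayPt, 5 := by
          apply Finset.prod_le_prod'
          intro i _
          unfold cls
          split_ifs <;> assumption
      _ = 5 ^ 24 := by rw [Finset.prod_const, Finset.card_univ, card_golayPt]
      _ < Bb := by unfold Bb; norm_num
  rw [DC.count_norm_res (cls C A1 A0) 200 Bb N ρ (by rw [card_golayPt]; norm_num) hB]
  have hprod : ∏ i, ∑ a ∈ cls C A1 A0 i, Bb ^ DC.code 200 a
      = (∑ a ∈ A1, Bb ^ DC.code 200 a) ^ (hammingNorm C)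
        * (∑ a ∈ A0, Bb ^ DC.code 200 a) ^ (24 - hammingNorm C) := by
    have h1 : ∀ i, ∑ a ∈ cls C A1 A0 i, Bb ^ DC.code 200 a
        = if C i ≠ 0 then (∑ a ∈ A1, Bb ^ DC.code 200 a) else (∑ a ∈ A0, Bb ^ DC.code 200 a) := by
      intro i
      unfold cls
      split_ifs <;> rfl
    simp only [h1]
    rw [Finset.prod_ite, Finset.prod_const, Finset.prod_const]
    have h2 : (Finset.univ.filter (fun i => C i ≠ 0)).card = hammingNorm C := rfl
    have h3 : (Finset.univ.filter (fun i => ¬ C i ≠ 0)).card = 24 - hammingNorm C := by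
      have := Finset.card_filter_add_card_filter_not (s := (Finset.univ : Finset GolayPt))
        (fun i => C i ≠ 0)
      rw [Finset.card_univ, card_golayPt, h2] at this
      omega
    rw [h2, h3]
  rw [hprod]

theorem natAbs_sq_cast (a : ℤ) : ((a.natAbs ^ 2 : ℕ) : ℤ) = a ^ 2 := by
  push_cast
  exact sq_abs a

theorem sqNorm_eq_cast (x : GolayPt → ℤ) : sqNorm x = ((∑ i, (x i).natAbs ^ 2 : ℕ) : ℤ) := by
  unfold sqNorm
  push_cast
  apply Finset.sum_congr rfl
  intro i _
  exact (sq_abs (x i)).symm

theorem zmod2_ne_zero_iff (a : ZMod 2) : a ≠ 0 ↔ a = 1 := by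
  revert a; decide

theorem Cw_injOn {k k' : ℕ} (hk : k < 4096) (hk' : k' < 4096) (h : Cw k = Cw k') : k = k' := by
  apply gset_golayMask_injOn hk hk'
  show gset (golayMask k) = gset (golayMask k')
  rw [← support₂_gword, ← support₂_gword]
  exact congrArg support₂ h

theorem Cw_mem (k : ℕ) : Cw k ∈ golayCode := golayMask_mem k

theorem ind4_ne_zero_iff (x : GolayPt → ℤ) (r : ℤ) (i : GolayPt) :
    ind4 x r i ≠ 0 ↔ x i % 4 = r % 4 := by
  unfold ind4
  by_cases h : x i ≡ r [ZMOD 4]
  · rw [if_pos h]
    exact ⟨fun _ => h, fun _ => by decide⟩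
  · rw [if_neg h]
    exact ⟨fun h' => absurd rfl h', fun h' => absurd h' h⟩

/-- membership in a class determines the codeword -/
theorem cls_iff (A1 A0 : Finset ℤ) (r1 : ℤ) (hr : r1 = 1 ∨ r1 = 2)
    (h1 : ∀ a ∈ A1, a % 4 = r1) (h0 : ∀ a ∈ A0, a % 4 = (r1 + 2) % 4)
    (C : GolayPt → ZMod 2) (x : GolayPt → ℤ) (hx : ∀ i, x i ∈ cls C A1 A0 i) (i : GolayPt) :
    C i ≠ 0 ↔ x i % 4 = r1 := by
  have := hx i
  unfold cls at this
  by_cases hC : C i ≠ 0
  · rw [if_pos hC] at this
    exact ⟨fun _ => h1 _ this, fun _ => hC⟩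
  · rw [if_neg hC] at this
    have h := h0 _ this
    constructor
    · intro h'; exact absurd h' hC
    · intro h'
      exfalso
      rcases hr with rfl | rfl <;> omega

theorem core (A1 A0 : Finset ℤ) (r1 : ℤ) (hr : r1 = 1 ∨ r1 = 2)
    (h1 : ∀ a ∈ A1, a % 4 = r1) (h0 : ∀ a ∈ A0, a % 4 = (r1 + 2) % 4)
    (hc1 : A1.card ≤ 5) (hc0 : A0.card ≤ 5) (N : ℕ) :
    ∃ F : Finset (GolayPt → ℤ),
      (∀ x, x ∈ F ↔ (x ∈ leechLattice ∧ sqNorm x = (N : ℤ) ∧ ∀ i, x i ∈ A1 ∪ A0)) ∧
      F.card = ∑ k ∈ Finset.range 4096, G A1 A0 (popc (golayMask k)) N (4 * r1.toNat) := by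
  classical
  refine ⟨(Finset.range 4096).biUnion (fun k => EF (Cw k) A1 A0 N (4 * r1.toNat)), ?_, ?_⟩
  · intro x
    simp only [Finset.mem_biUnion, Finset.mem_range, EF, Finset.mem_filter, Fintype.mem_piFinset]
    constructor
    · rintro ⟨k, hk, hx, hN, hρ⟩
      have hiff := cls_iff A1 A0 r1 hr h1 h0 (Cw k) x hx
      have hmem : ∀ i, x i ∈ A1 ∪ A0 := by
        intro i
        have := hx i
        unfold cls at this
        split_ifs at this
        · exact Finset.mem_union_left _ this
        · exact Finset.mem_union_right _ this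
      have hres : ∀ i, x i % 4 = r1 ∨ x i % 4 = (r1 + 2) % 4 := by
        intro i
        rcases Finset.mem_union.1 (hmem i) with h | h
        · exact Or.inl (h1 _ h)
        · exact Or.inr (h0 _ h)
      refine ⟨?_, ?_, hmem⟩
      · rw [mem_leechLattice_iff, mem_leechSet_iff]
        refine ⟨r1, ?_, ?_, ?_⟩
        · intro i
          show x i % 2 = r1 % 2
          rcases hres i with h | h <;> rcases hr with rfl | rfl <;> omega
        · show (∑ i, x i) % 8 = (4 * r1) % 8
          rw [hρ]
          rcases hr with rfl | rfl <;> norm_num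
        · intro k'
          have hcase : ind4 x k' = (if k' % 4 = r1 then Cw k else
              if k' % 4 = (r1 + 2) % 4 then 1 + Cw k else 0) := by
            funext i
            have hi := hiff i
            by_cases hC : Cw k i ≠ 0
            · have hx4 : x i % 4 = r1 := hi.1 hC
              have hC1 : Cw k i = 1 := (zmod2_ne_zero_iff _).1 hC
              by_cases hk1 : k' % 4 = r1
              · rw [if_pos hk1, hC1]
                have : ind4 x k' i ≠ 0 := by
                  rw [ind4_ne_zero_iff]; rcases hr with rfl | rfl <;> omega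
                exact (zmod2_ne_zero_iff _).1 this
              · rw [if_neg hk1]
                have : ¬ ind4 x k' i ≠ 0 := by
                  rw [ind4_ne_zero_iff]; rcases hr with rfl | rfl <;> omega
                push Not at this
                rw [this]
                split_ifs
                · rw [Pi.add_apply, Pi.one_apply, hC1]; decide
                · rfl
            · have hx4 : ¬ x i % 4 = r1 := fun h => hC (hi.2 h)
              have hx4' : x i % 4 = (r1 + 2) % 4 := by
                rcases hres i with h | h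
                · exact absurd h hx4
                · exact h
              have hC0 : Cw k i = 0 := by push Not at hC; exact hC
              by_cases hk1 : k' % 4 = r1
              · rw [if_pos hk1, hC0]
                have : ¬ ind4 x k' i ≠ 0 := by
                  rw [ind4_ne_zero_iff]; rcases hr with rfl | rfl <;> omega
                push Not at this
                exact this
              · rw [if_neg hk1]
                by_cases hk2 : k' % 4 = (r1 + 2) % 4
                · rw [if_pos hk2, Pi.add_apply, Pi.one_apply, hC0]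
                  have : ind4 x k' i ≠ 0 := by
                    rw [ind4_ne_zero_iff]; rcases hr with rfl | rfl <;> omega
                  rw [(zmod2_ne_zero_iff _).1 this]; decide
                · rw [if_neg hk2]
                  have : ¬ ind4 x k' i ≠ 0 := by
                    rw [ind4_ne_zero_iff]; rcases hr with rfl | rfl <;> omega
                  push Not at this
                  exact this
          rw [hcase]
          split_ifs
          · exact Cw_mem k
          · exact golayCode.add_mem one_mem_golay (Cw_mem k)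
          · exact golayCode.zero_mem
      · rw [sqNorm_eq_cast, hN]
    · rintro ⟨hL, hN, hmem⟩
      rw [mem_leechLattice_iff, mem_leechSet_iff] at hL
      obtain ⟨m, hm, hsum, hind⟩ := hL
      obtain ⟨k, hk, hC⟩ := (mem_golayCode_iff _).1 (hind r1)
      have hres : ∀ i, x i % 4 = r1 ∨ x i % 4 = (r1 + 2) % 4 := by
        intro i
        rcases Finset.mem_union.1 (hmem i) with h | h
        · exact Or.inl (h1 _ h)
        · exact Or.inr (h0 _ h)
      refine ⟨k, hk, ?_, ?_, ?_⟩
      · intro i
        show x i ∈ cls (gword (golayMask k)) A1 A0 i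
        rw [← hC]
        unfold cls
        by_cases hi : ind4 x r1 i ≠ 0
        · rw [if_pos hi]
          rw [ind4_ne_zero_iff] at hi
          rcases Finset.mem_union.1 (hmem i) with h | h
          · exact h
          · exfalso
            have := h0 _ h
            rcases hr with rfl | rfl <;> omega
        · rw [if_neg hi]
          rw [ind4_ne_zero_iff] at hi
          rcases Finset.mem_union.1 (hmem i) with h | h
          · exfalso
            have := h1 _ h
            rcases hr with rfl | rfl <;> omega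
          · exact h
      · rw [sqNorm_eq_cast] at hN
        exact_mod_cast hN
      · have hm0 : x none % 2 = m % 2 := hm none
        have hs : (∑ i, x i) % 8 = (4 * m) % 8 := hsum
        rw [hs]
        rcases hres none with h | h <;> rcases hr with rfl | rfl <;> norm_num <;> omega
  · rw [Finset.card_biUnion]
    · apply Finset.sum_congr rfl
      intro k _
      rw [card_EF _ _ _ hc1 hc0, show hammingNorm (Cw k) = popc (golayMask k) from
        hammingNorm_gword _]
    · intro k hk k' hk' hkk'
      rw [Function.onFun, Finset.disjoint_left]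
      intro x hx hx'
      simp only [EF, Finset.mem_filter, Fintype.mem_piFinset] at hx hx'
      apply hkk'
      have hk4 : k < 4096 := Finset.mem_range.1 hk
      have hk4' : k' < 4096 := Finset.mem_range.1 hk'
      apply Cw_injOn hk4 hk4'
      funext i
      have e1 := cls_iff A1 A0 r1 hr h1 h0 (Cw k) x hx.1 i
      have e2 := cls_iff A1 A0 r1 hr h1 h0 (Cw k') x hx'.1 i
      by_cases hC : Cw k i ≠ 0
      · rw [(zmod2_ne_zero_iff _).1 hC, (zmod2_ne_zero_iff _).1 (e2.2 (e1.1 hC))]
      · have hC' : ¬ Cw k' i ≠ 0 := fun h => hC (e1.2 (e2.1 h))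
        push Not at hC hC'
        rw [hC, hC']

/-! ### grouping the codewords by weight -/

set_option maxRecDepth 1000000 in
theorem count_weight_zero :
    ((Finset.range 4096).filter fun k => popc (golayMask k) = 0).card = 1 := by
  decide +kernel

set_option maxRecDepth 1000000 in
theorem count_weight_sixteen :
    ((Finset.range 4096).filter fun k => popc (golayMask k) = 16).card = 759 := by
  decide +kernel

set_option maxRecDepth 1000000 in
theorem count_weight_twentyfour :
    ((Finset.range 4096).filter fun k => popc (golayMask k) = 24).card = 1 := by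
  decide +kernel

theorem sum_by_weight (f : ℕ → ℕ) :
    ∑ k ∈ Finset.range 4096, f (popc (golayMask k))
      = f 0 + 759 * f 8 + 2576 * f 12 + 759 * f 16 + f 24 := by
  have hmaps : ∀ k ∈ Finset.range 4096, popc (golayMask k) ∈ ({0, 8, 12, 16, 24} : Finset ℕ) := by
    intro k hk
    have := golay_weights_mask ⟨k, Finset.mem_range.1 hk⟩
    simp only [Finset.mem_insert, Finset.mem_singleton]
    exact this
  rw [← Finset.sum_fiberwise_of_maps_to hmaps]
  have hin : ∀ w, ∑ k ∈ (Finset.range 4096).filter (fun k => popc (golayMask k) = w),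
      f (popc (golayMask k))
      = ((Finset.range 4096).filter (fun k => popc (golayMask k) = w)).card * f w := by
    intro w
    rw [Finset.card_eq_sum_ones, Finset.sum_mul]
    apply Finset.sum_congr rfl
    intro k hk
    rw [(Finset.mem_filter.1 hk).2, one_mul]
  simp only [hin]
  rw [Finset.sum_insert (by decide), Finset.sum_insert (by decide), Finset.sum_insert (by decide),
    Finset.sum_insert (by decide), Finset.sum_singleton, count_weight_zero, count_weight_eight,
    count_weight_twelve, count_weight_sixteen, count_weight_twentyfour]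
  ring

/-! ### the full value sets -/

def Ev1 : Finset ℤ := {2, -2, 6, -6}
def Ev0 : Finset ℤ := {0, 4, -4, 8, -8}
def Od1 : Finset ℤ := {1, -3, 5, -7}
def Od0 : Finset ℤ := {-1, 3, -5, 7}

theorem entries_cases (x : GolayPt → ℤ) (hx : x ∈ leechLattice) (N : ℕ) (hN : sqNorm x = (N : ℤ))
    (hN64 : N ≤ 64) : (∀ i, x i ∈ Ev1 ∪ Ev0) ∨ (∀ i, x i ∈ Od1 ∪ Od0) := by
  rw [mem_leechLattice_iff, mem_leechSet_iff] at hx
  obtain ⟨m, hm, -, -⟩ := hx
  have hb : ∀ i, -8 ≤ x i ∧ x i ≤ 8 := by
    intro i
    have h1 : x i ^ 2 ≤ sqNorm x := by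
      unfold sqNorm
      exact Finset.single_le_sum (f := fun j => x j ^ 2) (fun j _ => sq_nonneg _) (Finset.mem_univ i)
    have h2 : x i ^ 2 ≤ 64 := by rw [hN] at h1; exact_mod_cast le_trans h1 (by exact_mod_cast hN64)
    constructor <;> nlinarith
  rcases Int.emod_two_eq_zero_or_one m with h | h
  · left
    intro i
    have h2 : x i % 2 = 0 := by have := hm i; change x i % 2 = m % 2 at this; omega
    obtain ⟨hlo, hhi⟩ := hb i
    generalize x i = a at *
    interval_cases a <;> simp_all [Ev1, Ev0]
  · right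
    intro i
    have h2 : x i % 2 = 1 := by have := hm i; change x i % 2 = m % 2 at this; omega
    obtain ⟨hlo, hhi⟩ := hb i
    generalize x i = a at *
    interval_cases a <;> simp_all [Od1, Od0]

theorem ev_h1 : ∀ a ∈ Ev1, a % 4 = 2 := by decide
theorem ev_h0 : ∀ a ∈ Ev0, a % 4 = (2 + 2) % 4 := by decide
theorem od_h1 : ∀ a ∈ Od1, a % 4 = 1 := by decide
theorem od_h0 : ∀ a ∈ Od0, a % 4 = (1 + 2) % 4 := by decide

theorem ev_od_disjoint (a : ℤ) (h : a ∈ Ev1 ∪ Ev0) (h' : a ∈ Od1 ∪ Od0) : False := by
  simp only [Ev1, Ev0, Od1, Od0, Finset.mem_union, Finset.mem_insert, Finset.mem_singleton] at h h'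
  omega

/-- the number of lattice vectors of squared length `N ≤ 64` -/
theorem count_full (N : ℕ) (hN64 : N ≤ 64) :
    {x : GolayPt → ℤ | x ∈ leechLattice ∧ sqNorm x = (N : ℤ)}.ncard
      = (∑ k ∈ Finset.range 4096, G Ev1 Ev0 (popc (golayMask k)) N 8)
        + ∑ k ∈ Finset.range 4096, G Od1 Od0 (popc (golayMask k)) N 4 := by
  classical
  obtain ⟨F1, hF1, hc1⟩ := core Ev1 Ev0 2 (Or.inr rfl) ev_h1 ev_h0 (by decide) (by decide) N
  obtain ⟨F2, hF2, hc2⟩ := core Od1 Od0 1 (Or.inl rfl) od_h1 od_h0 (by decide) (by decide) N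
  have hset : {x : GolayPt → ℤ | x ∈ leechLattice ∧ sqNorm x = (N : ℤ)} = ↑(F1 ∪ F2) := by
    ext x
    simp only [Set.mem_ofPred_eq, Finset.coe_union, Set.mem_union, Finset.mem_coe, hF1, hF2]
    constructor
    · rintro ⟨h1, h2⟩
      rcases entries_cases x h1 N h2 hN64 with h | h
      · exact Or.inl ⟨h1, h2, h⟩
      · exact Or.inr ⟨h1, h2, h⟩
    · rintro (⟨h1, h2, -⟩ | ⟨h1, h2, -⟩) <;> exact ⟨h1, h2⟩
  rw [hset, Set.ncard_coe_finset, Finset.card_union_of_disjoint, hc1, hc2]
  · rfl
  · rw [Finset.disjoint_left]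
    intro x hx hx'
    exact ev_od_disjoint (x none) (((hF1 x).1 hx).2.2 none) (((hF2 x).1 hx').2.2 none)

end Cfsg.Agent.Lib.Lead.LC
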