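import Mathlib
import Cfsg.Prelude.Def_Sporadic_a
import Cfsg.Agent.Lib.helper3.Golay
import Cfsg.Agent.Lib.helper4.Leech
import Cfsg.Agent.Lib.Lead.DigitCount
import Cfsg.Agent.Lib.Lead.LeechCount

set_option autoImplicit false

/-!
# Counting vectors of the rank-24 lattice: general predicate version, and residues only
-/

namespace Cfsg.Agent.Lib.Lead.LC2

open Cfsg Finset
open Cfsg.Agent.Lib.helper3 Cfsg.Agent.Lib.helper4 Cfsg.Agent.Lib.Lead.LC

theorem core_gen (A1 A0 : Finset ℤ) (r1 : ℤ) (hr : r1 = 1 ∨ r1 = 2)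
    (h1 : ∀ a ∈ A1, a % 4 = r1) (h0 : ∀ a ∈ A0, a % 4 = (r1 + 2) % 4)
    (P : (GolayPt → ℤ) → Prop) [DecidablePred P] (g : ℕ → ℕ)
    (hg : ∀ C : GolayPt → ZMod 2, ((Fintype.piFinset (cls C A1 A0)).filter
      (fun x => P x ∧ (∑ i, x i) % 8 = ((4 * r1.toNat : ℕ) : ℤ) % 8)).card = g (hammingNorm C)) :
    ∃ F : Finset (GolayPt → ℤ),
      (∀ x, x ∈ F ↔ (x ∈ leechLattice ∧ P x ∧ ∀ i, x i ∈ A1 ∪ A0)) ∧
      F.card = ∑ k ∈ Finset.range 4096, g (popc (golayMask k)) := by
  classical
  refine ⟨(Finset.range 4096).biUnion (fun k => (Fintype.piFinset (cls (Cw k) A1 A0)).filter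
      (fun x => P x ∧ (∑ i, x i) % 8 = ((4 * r1.toNat : ℕ) : ℤ) % 8)), ?_, ?_⟩
  · intro x
    simp only [Finset.mem_biUnion, Finset.mem_range, Finset.mem_filter, Fintype.mem_piFinset]
    constructor
    · rintro ⟨k, hk, hx, hN, hρ⟩
      have hiff := cls_iff A1 A0 r1 hr h1 h0 (Cw k) x hx
      have hmem : ∀ i, x i ∈ A1 ∪ A0 := by
        intro i
        have := hx i
        unfold cls at this
        split_ifs at this
        · exact Finset.mem_union_left _ this
        · exact Finset.mem_union_right _ this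
      have hres : ∀ i, x i % 4 = r1 ∨ x i % 4 = (r1 + 2) % 4 := by
        intro i
        rcases Finset.mem_union.1 (hmem i) with h | h
        · exact Or.inl (h1 _ h)
        · exact Or.inr (h0 _ h)
      refine ⟨?_, hN, hmem⟩
      rw [mem_leechLattice_iff, mem_leechSet_iff]
      refine ⟨r1, ?_, ?_, ?_⟩
      · intro i
        show x i % 2 = r1 % 2
        rcases hres i with h | h <;> rcases hr with rfl | rfl <;> omega
      · show (∑ i, x i) % 8 = (4 * r1) % 8
        rw [hρ]
        rcases hr with rfl | rfl <;> norm_num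
      · intro k'
        have hcase : ind4 x k' = (if k' % 4 = r1 then Cw k else
            if k' % 4 = (r1 + 2) % 4 then 1 + Cw k else 0) := by
          funext i
          have hi := hiff i
          by_cases hC : Cw k i ≠ 0
          · have hx4 : x i % 4 = r1 := hi.1 hC
            have hC1 : Cw k i = 1 := (zmod2_ne_zero_iff _).1 hC
            by_cases hk1 : k' % 4 = r1
            · rw [if_pos hk1, hC1]
              have : ind4 x k' i ≠ 0 := by
                rw [ind4_ne_zero_iff]; rcases hr with rfl | rfl <;> omega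
              exact (zmod2_ne_zero_iff _).1 this
            · rw [if_neg hk1]
              have : ¬ ind4 x k' i ≠ 0 := by
                rw [ind4_ne_zero_iff]; rcases hr with rfl | rfl <;> omega
              push Not at this
              rw [this]
              split_ifs
              · rw [Pi.add_apply, Pi.one_apply, hC1]; decide
              · rfl
          · have hx4 : ¬ x i % 4 = r1 := fun h => hC (hi.2 h)
            have hx4' : x i % 4 = (r1 + 2) % 4 := by
              rcases hres i with h | h
              · exact absurd h hx4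
              · exact h
            have hC0 : Cw k i = 0 := by push Not at hC; exact hC
            by_cases hk1 : k' % 4 = r1
            · rw [if_pos hk1, hC0]
              have : ¬ ind4 x k' i ≠ 0 := by
                rw [ind4_ne_zero_iff]; rcases hr with rfl | rfl <;> omega
              push Not at this
              exact this
            · rw [if_neg hk1]
              by_cases hk2 : k' % 4 = (r1 + 2) % 4
              · rw [if_pos hk2, Pi.add_apply, Pi.one_apply, hC0]
                have : ind4 x k' i ≠ 0 := by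
                  rw [ind4_ne_zero_iff]; rcases hr with rfl | rfl <;> omega
                rw [(zmod2_ne_zero_iff _).1 this]; decide
              · rw [if_neg hk2]
                have : ¬ ind4 x k' i ≠ 0 := by
                  rw [ind4_ne_zero_iff]; rcases hr with rfl | rfl <;> omega
                push Not at this
                exact this
        rw [hcase]
        split_ifs
        · exact Cw_mem k
        · exact golayCode.add_mem one_mem_golay (Cw_mem k)
        · exact golayCode.zero_mem
    · rintro ⟨hL, hN, hmem⟩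
      rw [mem_leechLattice_iff, mem_leechSet_iff] at hL
      obtain ⟨m, hm, hsum, hind⟩ := hL
      obtain ⟨k, hk, hC⟩ := (mem_golayCode_iff _).1 (hind r1)
      have hres : ∀ i, x i % 4 = r1 ∨ x i % 4 = (r1 + 2) % 4 := by
        intro i
        rcases Finset.mem_union.1 (hmem i) with h | h
        · exact Or.inl (h1 _ h)
        · exact Or.inr (h0 _ h)
      refine ⟨k, hk, ?_, hN, ?_⟩
      · intro i
        show x i ∈ cls (gword (golayMask k)) A1 A0 i
        rw [← hC]
        unfold cls
        by_cases hi : ind4 x r1 i ≠ 0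
        · rw [if_pos hi]
          rw [ind4_ne_zero_iff] at hi
          rcases Finset.mem_union.1 (hmem i) with h | h
          · exact h
          · exfalso
            have := h0 _ h
            rcases hr with rfl | rfl <;> omega
        · rw [if_neg hi]
          rw [ind4_ne_zero_iff] at hi
          rcases Finset.mem_union.1 (hmem i) with h | h
          · exfalso
            have := h1 _ h
            rcases hr with rfl | rfl <;> omega
          · exact h
      · have hm0 : x none % 2 = m % 2 := hm none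
        have hs : (∑ i, x i) % 8 = (4 * m) % 8 := hsum
        rw [hs]
        rcases hres none with h | h <;> rcases hr with rfl | rfl <;> norm_num <;> omega
  · rw [Finset.card_biUnion]
    · apply Finset.sum_congr rfl
      intro k _
      rw [hg, show hammingNorm (Cw k) = popc (golayMask k) from hammingNorm_gword _]
    · intro k hk k' hk' hkk'
      rw [Function.onFun, Finset.disjoint_left]
      intro x hx hx'
      simp only [Finset.mem_filter, Fintype.mem_piFinset] at hx hx'
      apply hkk'
      have hk4 : k < 4096 := Finset.mem_range.1 hk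
      have hk4' : k' < 4096 := Finset.mem_range.1 hk'
      apply Cw_injOn hk4 hk4'
      funext i
      have e1 := cls_iff A1 A0 r1 hr h1 h0 (Cw k) x hx.1 i
      have e2 := cls_iff A1 A0 r1 hr h1 h0 (Cw k') x hx'.1 i
      by_cases hC : Cw k i ≠ 0
      · rw [(zmod2_ne_zero_iff _).1 hC, (zmod2_ne_zero_iff _).1 (e2.2 (e1.1 hC))]
      · have hC' : ¬ Cw k' i ≠ 0 := fun h => hC (e1.2 (e2.1 h))
        push Not at hC hC'
        rw [hC, hC']

/-! ### residues only -/

theorem count_res {ι : Type*} [Fintype ι] [DecidableEq ι] (A : ι → Finset ℤ)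
    (K B ρ : ℕ) (hK : 7 * Fintype.card ι < K) (hB : ∏ i, (A i).card < B) :
    ((Fintype.piFinset A).filter (fun x => (∑ i, x i) % 8 = (ρ : ℤ) % 8)).card
      = ∑ t ∈ (Finset.range K).filter (fun t => t % 8 = ρ % 8),
          ((∏ i, ∑ a ∈ A i, B ^ (a % 8).toNat) / B ^ t) % B := by
  have hE : (Fintype.piFinset A).filter (fun x => (∑ i, x i) % 8 = (ρ : ℤ) % 8)
      = ((Finset.range K).filter (fun t => t % 8 = ρ % 8)).biUnion
          (fun t => (Fintype.piFinset A).filter (fun x => ∑ i, ((x i) % 8).toNat = t)) := by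
    ext x
    simp only [Finset.mem_filter, Finset.mem_biUnion, Finset.mem_range]
    constructor
    · rintro ⟨hx, hρ⟩
      refine ⟨∑ i, ((x i) % 8).toNat, ⟨DC.sum_toNat_lt K hK x, ?_⟩, hx, rfl⟩
      have := DC.sum_toNat_mod x
      rw [hρ] at this
      omega
    · rintro ⟨t, ⟨ht, htρ⟩, hx, hc⟩
      refine ⟨hx, ?_⟩
      have := DC.sum_toNat_mod x
      rw [hc] at this
      omega
  rw [hE, Finset.card_biUnion]
  · apply Finset.sum_congr rfl
    intro t _
    exact DC.count_eq A (fun a => (a % 8).toNat) B t hB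
  · intro t _ t' _ htt'
    rw [Function.onFun, Finset.disjoint_left]
    intro x hx hx'
    simp only [Finset.mem_filter] at hx hx'
    apply htt'
    omega

/-- the count for a codeword of weight `w`, residues only -/
def G' (A1 A0 : Finset ℤ) (w ρ : ℕ) : ℕ :=
  ∑ t ∈ (Finset.range 200).filter (fun t => t % 8 = ρ % 8),
    (((∑ a ∈ A1, Bb ^ (a % 8).toNat) ^ w * (∑ a ∈ A0, Bb ^ (a % 8).toNat) ^ (24 - w))
      / Bb ^ t) % Bb

theorem card_res (C : GolayPt → ZMod 2) (A1 A0 : Finset ℤ) (hc1 : A1.card ≤ 5) (hc0 : A0.card ≤ 5)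
    (ρ : ℕ) : ((Fintype.piFinset (cls C A1 A0)).filter
      (fun x => True ∧ (∑ i, x i) % 8 = (ρ : ℤ) % 8)).card = G' A1 A0 (hammingNorm C) ρ := by
  simp only [true_and]
  unfold G'
  have hB : ∏ i, (cls C A1 A0 i).card < Bb := by
    calc ∏ i, (cls C A1 A0 i).card ≤ ∏ _i : GolayPt, 5 := by
          apply Finset.prod_le_prod'
          intro i _
          unfold cls
          split_ifs <;> assumption
      _ = 5 ^ 24 := by rw [Finset.prod_const, Finset.card_univ, card_golayPt]
      _ < Bb := by unfold Bb; norm_num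
  rw [count_res (cls C A1 A0) 200 Bb ρ (by rw [card_golayPt]; norm_num) hB]
  have hprod : ∏ i, ∑ a ∈ cls C A1 A0 i, Bb ^ (a % 8).toNat
      = (∑ a ∈ A1, Bb ^ (a % 8).toNat) ^ (hammingNorm C)
        * (∑ a ∈ A0, Bb ^ (a % 8).toNat) ^ (24 - hammingNorm C) := by
    have h1 : ∀ i, ∑ a ∈ cls C A1 A0 i, Bb ^ (a % 8).toNat
        = if C i ≠ 0 then (∑ a ∈ A1, Bb ^ (a % 8).toNat) else (∑ a ∈ A0, Bb ^ (a % 8).toNat) := by
      intro i
      unfold cls
      split_ifs <;> rfl
    simp only [h1]
    rw [Finset.prod_ite, Finset.prod_const, Finset.prod_const]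
    have h2 : (Finset.univ.filter (fun i => C i ≠ 0)).card = hammingNorm C := rfl
    have h3 : (Finset.univ.filter (fun i => ¬ C i ≠ 0)).card = 24 - hammingNorm C := by
      have := Finset.card_filter_add_card_filter_not (s := (Finset.univ : Finset GolayPt))
        (fun i => C i ≠ 0)
      rw [Finset.card_univ, card_golayPt, h2] at this
      omega
    rw [h2, h3]
  rw [hprod]

/-- the lattice vectors with all entries in `0..7` -/
theorem box_count : ∃ F : Finset (GolayPt → ℤ),
    (∀ x, x ∈ F ↔ (x ∈ leechLattice ∧ ∀ i, 0 ≤ x i ∧ x i < 8)) ∧ F.card = 2 ^ 36 := by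
  classical
  obtain ⟨F1, hF1, hc1⟩ := core_gen ({2, 6} : Finset ℤ) ({0, 4} : Finset ℤ) 2 (Or.inr rfl)
    (by decide) (by decide) (fun _ => True) (fun w => G' {2, 6} {0, 4} w (4 * (2 : ℤ).toNat))
    (fun C => card_res C _ _ (by decide) (by decide) _)
  obtain ⟨F2, hF2, hc2⟩ := core_gen ({1, 5} : Finset ℤ) ({3, 7} : Finset ℤ) 1 (Or.inl rfl)
    (by decide) (by decide) (fun _ => True) (fun w => G' {1, 5} {3, 7} w (4 * (1 : ℤ).toNat))
    (fun C => card_res C _ _ (by decide) (by decide) _)
  rw [sum_by_weight (fun w => G' _ _ w _)] at hc1 hc2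
  have n1 : G' ({2, 6} : Finset ℤ) ({0, 4} : Finset ℤ) 0 (4 * (2 : ℤ).toNat)
      + 759 * G' ({2, 6} : Finset ℤ) ({0, 4} : Finset ℤ) 8 (4 * (2 : ℤ).toNat)
      + 2576 * G' ({2, 6} : Finset ℤ) ({0, 4} : Finset ℤ) 12 (4 * (2 : ℤ).toNat)
      + 759 * G' ({2, 6} : Finset ℤ) ({0, 4} : Finset ℤ) 16 (4 * (2 : ℤ).toNat)
      + G' ({2, 6} : Finset ℤ) ({0, 4} : Finset ℤ) 24 (4 * (2 : ℤ).toNat) = 2 ^ 35 := by
    decide +kernel
  have n2 : G' ({1, 5} : Finset ℤ) ({3, 7} : Finset ℤ) 0 (4 * (1 : ℤ).toNat)
      + 759 * G' ({1, 5} : Finset ℤ) ({3, 7} : Finset ℤ) 8 (4 * (1 : ℤ).toNat)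
      + 2576 * G' ({1, 5} : Finset ℤ) ({3, 7} : Finset ℤ) 12 (4 * (1 : ℤ).toNat)
      + 759 * G' ({1, 5} : Finset ℤ) ({3, 7} : Finset ℤ) 16 (4 * (1 : ℤ).toNat)
      + G' ({1, 5} : Finset ℤ) ({3, 7} : Finset ℤ) 24 (4 * (1 : ℤ).toNat) = 2 ^ 35 := by
    decide +kernel
  rw [n1] at hc1
  rw [n2] at hc2
  refine ⟨F1 ∪ F2, ?_, ?_⟩
  · intro x
    rw [Finset.mem_union, hF1, hF2]
    constructor
    · rintro (⟨h1, -, h3⟩ | ⟨h1, -, h3⟩)
      · refine ⟨h1, fun i => ?_⟩
        have := h3 i
        simp only [Finset.mem_union, Finset.mem_insert, Finset.mem_singleton] at this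
        omega
      · refine ⟨h1, fun i => ?_⟩
        have := h3 i
        simp only [Finset.mem_union, Finset.mem_insert, Finset.mem_singleton] at this
        omega
    · rintro ⟨h1, h2⟩
      have hL := h1
      rw [mem_leechLattice_iff, mem_leechSet_iff] at hL
      obtain ⟨m, hm, -, -⟩ := hL
      rcases Int.emod_two_eq_zero_or_one m with h | h
      · left
        refine ⟨h1, trivial, fun i => ?_⟩
        have h3 : x i % 2 = 0 := by have := hm i; change x i % 2 = m % 2 at this; omega
        obtain ⟨hlo, hhi⟩ := h2 i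
        simp only [Finset.mem_union, Finset.mem_insert, Finset.mem_singleton]
        omega
      · right
        refine ⟨h1, trivial, fun i => ?_⟩
        have h3 : x i % 2 = 1 := by have := hm i; change x i % 2 = m % 2 at this; omega
        obtain ⟨hlo, hhi⟩ := h2 i
        simp only [Finset.mem_union, Finset.mem_insert, Finset.mem_singleton]
        omega
  · rw [Finset.card_union_of_disjoint, hc1, hc2]
    · norm_num
    · rw [Finset.disjoint_left]
      intro x hx hx'
      have a1 := ((hF1 x).1 hx).2.2 none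
      have a2 := ((hF2 x).1 hx').2.2 none
      simp only [Finset.mem_union, Finset.mem_insert, Finset.mem_singleton] at a1 a2
      omega

end Cfsg.Agent.Lib.Lead.LC2
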