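import Cfsg.Prelude.Def_SporadicCombinatorics
import Cfsg.Agent.S0391
import Cfsg.Agent.S0392
import Cfsg.Agent.S0393
import Cfsg.Agent.S0394
import Cfsg.Agent.S0395
import Cfsg.Agent.S0396

/-!
# The Leech lattice modulo twice itself

Every class of `Λ/2Λ` contains a vector of sum of squares at most 64; the short vectors in a class
are `{0}`, a pair `±v` of sum of squares 32 or 48, or 48 pairwise orthogonal-or-opposite vectors
of sum of squares 64 (a cross).  The proof is the classical count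
`1 + 196560/2 + 16773120/2 + 398034000/48 = 2^24 = [Λ : 2Λ]`.
-/

set_option autoImplicit false
open Cfsg

namespace Cfsg.Agent.Lib.Lead.LX

/-- ambient space -/
abbrev V := GolayPt → ℤ

/-! ### dot products -/

theorem sqNorm_eq_dot (x : V) : sqNorm x = x ⬝ᵥ x := by
  unfold sqNorm dotProduct
  exact Finset.sum_congr rfl (fun i _ => pow_two _)

theorem sqNorm_neg (x : V) : sqNorm (-x) = sqNorm x := by
  unfold sqNorm
  exact Finset.sum_congr rfl (fun i _ => by rw [Pi.neg_apply]; ring)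

theorem sqNorm_zero : sqNorm (0 : V) = 0 := by
  unfold sqNorm
  simp

theorem sqNorm_eq_zero_iff (x : V) : sqNorm x = 0 ↔ x = 0 := by
  constructor
  · intro h
    by_contra h0
    have := Cfsg.Agent.S0391.sqNorm_pos x h0
    omega
  · rintro rfl
    exact sqNorm_zero

theorem sum_smul_dot (T : Finset V) (c : V → ℤ) (b : V) :
    (∑ v ∈ T, c v • v) ⬝ᵥ b = ∑ v ∈ T, c v * (v ⬝ᵥ b) := by
  rw [sum_dotProduct]
  exact Finset.sum_congr rfl (fun v _ => by rw [smul_dotProduct, smul_eq_mul])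

theorem ne_neg_of_ne_zero (v : V) (h0 : v ≠ 0) : v ≠ -v := by
  intro h
  apply h0
  funext j
  have := congrFun h j
  simp only [Pi.neg_apply, Pi.zero_apply] at this ⊢
  omega

/-! ### frames -/

theorem frame_coord (T : Finset V) (hsym : ∀ v ∈ T, -v ∈ T) (hn : ∀ v ∈ T, v ⬝ᵥ v = 64)
    (ho : ∀ v ∈ T, ∀ w ∈ T, v = w ∨ v = -w ∨ v ⬝ᵥ w = 0) (i : GolayPt) :
    ∑ v ∈ T, v i ^ 2 ≤ 128 := by
  classical
  have hvb : ∀ v ∈ T, v ⬝ᵥ (∑ w ∈ T, w i • w) = 128 * v i := by
    intro v hv
    rw [dotProduct_sum]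
    have hne : v ≠ -v := by
      apply ne_neg_of_ne_zero
      intro h0
      have := hn v hv
      rw [h0] at this
      simp at this
    rw [Finset.sum_eq_add_of_mem v (-v) hv (hsym v hv) hne]
    · rw [dotProduct_smul, dotProduct_smul, hn v hv, dotProduct_neg, hn v hv]
      simp only [Pi.neg_apply, smul_eq_mul]
      ring
    · rintro w hw ⟨h1, h2⟩
      rcases ho v hv w hw with h | h | h
      · exact absurd h.symm h1
      · exact absurd (by rw [h, neg_neg]) h2
      · rw [dotProduct_smul, h, smul_zero]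
  have hbb : (∑ w ∈ T, w i • w) ⬝ᵥ (∑ w ∈ T, w i • w) = 128 * ∑ v ∈ T, v i ^ 2 := by
    rw [sum_smul_dot T (fun w => w i), Finset.mul_sum]
    apply Finset.sum_congr rfl
    intro v hv
    rw [hvb v hv]
    ring
  have hbi : (∑ w ∈ T, w i • w) i = ∑ v ∈ T, v i ^ 2 := by
    rw [Finset.sum_apply]
    apply Finset.sum_congr rfl
    intro v _
    rw [Pi.smul_apply, smul_eq_mul]
    ring
  have hnn : 0 ≤ (Pi.single i (128 : ℤ) - ∑ w ∈ T, w i • w)
      ⬝ᵥ (Pi.single i (128 : ℤ) - ∑ w ∈ T, w i • w) :=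
    Finset.sum_nonneg (fun j _ => mul_self_nonneg _)
  rw [sub_dotProduct, dotProduct_sub, dotProduct_sub, hbb, single_dotProduct, single_dotProduct,
    dotProduct_single, Pi.single_eq_same, hbi] at hnn
  linarith

theorem frame_bound (T : Finset V) (hsym : ∀ v ∈ T, -v ∈ T) (hn : ∀ v ∈ T, v ⬝ᵥ v = 64)
    (ho : ∀ v ∈ T, ∀ w ∈ T, v = w ∨ v = -w ∨ v ⬝ᵥ w = 0) : T.card ≤ 48 := by
  have h1 : ∑ v ∈ T, v ⬝ᵥ v = 64 * (T.card : ℤ) := by
    rw [Finset.sum_congr rfl hn, Finset.sum_const, nsmul_eq_mul, mul_comm]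
  have h2 : ∑ v ∈ T, v ⬝ᵥ v = ∑ i, ∑ v ∈ T, v i ^ 2 := by
    rw [Finset.sum_comm]
    apply Finset.sum_congr rfl
    intro v _
    unfold dotProduct
    exact Finset.sum_congr rfl (fun i _ => (pow_two _).symm)
  have h3 : ∑ i, ∑ v ∈ T, v i ^ 2 ≤ ∑ _i : GolayPt, (128 : ℤ) :=
    Finset.sum_le_sum (fun i _ => frame_coord T hsym hn ho i)
  have h4 : ∑ _i : GolayPt, (128 : ℤ) = 24 * 128 := by
    rw [Finset.sum_const, Cfsg.Agent.S0391.card_golayPt]
    norm_num
  have h5 : (T.card : ℤ) ≤ 48 := by linarith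
  exact_mod_cast h5

/-! ### the pair lemma -/

theorem pair_lemma (x y z : V) (hy : y ∈ leechLattice)
    (hz : z ∈ leechLattice) (hxy : x - y = 2 • z) (hnx : sqNorm x ≤ 64) (hny : sqNorm y ≤ 64) :
    x = y ∨ x = -y ∨ (sqNorm x = 64 ∧ sqNorm y = 64 ∧ x ⬝ᵥ y = 0) := by
  have hc : ∀ i, x i - y i = z i + z i := fun i => by
    have := congrFun hxy i
    rw [two_nsmul] at this
    exact this
  by_cases h1 : x = y
  · exact Or.inl h1
  by_cases h2 : x = -y
  · exact Or.inr (Or.inl h2)
  right; right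
  have hz0 : z ≠ 0 := by
    intro h
    apply h1
    funext i
    have := hc i
    rw [h] at this
    simp only [Pi.zero_apply] at this
    omega
  have hzy : z + y ∈ leechLattice := leechLattice.add_mem hz hy
  have hzy0 : z + y ≠ 0 := by
    intro h
    apply h2
    funext i
    have h3 := hc i
    have h4 := congrFun h i
    simp only [Pi.add_apply, Pi.zero_apply, Pi.neg_apply] at h4 ⊢
    omega
  have hz32 := Cfsg.Agent.S0391.result z hz hz0
  have hzy32 := Cfsg.Agent.S0391.result (z + y) hzy hzy0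
  rw [sqNorm_eq_dot] at hz32 hzy32 hnx hny ⊢
  rw [sqNorm_eq_dot]
  have hxy' : x - y = z + z := funext hc
  have hxy'' : x + y = (z + y) + (z + y) := by
    funext i
    have := hc i
    simp only [Pi.add_apply]
    omega
  have e1 : (x - y) ⬝ᵥ (x - y) = 4 * (z ⬝ᵥ z) := by
    rw [hxy', add_dotProduct, dotProduct_add]; ring
  have e2 : (x + y) ⬝ᵥ (x + y) = 4 * ((z + y) ⬝ᵥ (z + y)) := by
    rw [hxy'', add_dotProduct, dotProduct_add]; ring
  have e3 : (x - y) ⬝ᵥ (x - y) = x ⬝ᵥ x - 2 * (x ⬝ᵥ y) + y ⬝ᵥ y := by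
    rw [sub_dotProduct, dotProduct_sub, dotProduct_sub, dotProduct_comm y x]; ring
  have e4 : (x + y) ⬝ᵥ (x + y) = x ⬝ᵥ x + 2 * (x ⬝ᵥ y) + y ⬝ᵥ y := by
    rw [add_dotProduct, dotProduct_add, dotProduct_add, dotProduct_comm y x]; ring
  refine ⟨by linarith, by linarith, by linarith⟩

/-! ### the index of `2Λ` in `Λ` -/

/-- doubling -/
def dbl : V →+ V := AddMonoidHom.mk' (fun v => v + v) (fun a b => by abel)

theorem dbl_apply (v : V) : dbl v = v + v := rfl

theorem dbl_inj : Function.Injective dbl := by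
  intro a b h
  funext i
  have := congrFun h i
  simp only [dbl_apply, Pi.add_apply] at this
  omega

/-- reduction modulo 2 -/
def red2 : V →+ (GolayPt → ZMod 2) :=
  AddMonoidHom.compLeft (Int.castAddHom (ZMod 2)) GolayPt

theorem red2_apply (x : V) (i : GolayPt) : red2 x i = ((x i : ℤ) : ZMod 2) := rfl

theorem red2_surj : Function.Surjective red2 := by
  intro z
  refine ⟨fun i => ((z i).val : ℤ), ?_⟩
  funext i
  rw [red2_apply]
  simp

theorem top_map_index : ((⊤ : AddSubgroup V).map dbl).index = 2 ^ 24 := by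
  have h : (⊤ : AddSubgroup V).map dbl = red2.ker := by
    ext x
    rw [AddSubgroup.mem_map, AddMonoidHom.mem_ker]
    constructor
    · rintro ⟨z, -, rfl⟩
      funext i
      rw [red2_apply, Pi.zero_apply]
      exact (ZMod.intCast_zmod_eq_zero_iff_dvd _ 2).2 ⟨z i, by rw [dbl_apply, Pi.add_apply]; ring⟩
    · intro hx
      have h2 : ∀ i, (2 : ℤ) ∣ x i := fun i => by
        have := congrFun hx i
        rw [red2_apply, Pi.zero_apply] at this
        exact (ZMod.intCast_zmod_eq_zero_iff_dvd (x i) 2).1 this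
      refine ⟨fun i => x i / 2, AddSubgroup.mem_top _, ?_⟩
      funext i
      show x i / 2 + x i / 2 = x i
      have := h2 i
      omega
  rw [h, AddSubgroup.index_ker, AddMonoidHom.range_eq_top.2 red2_surj, AddSubgroup.card_top,
    Nat.card_eq_fintype_card, Fintype.card_fun, ZMod.card]
  have : Fintype.card GolayPt = 24 := Cfsg.Agent.S0391.card_golayPt
  rw [this]

/-- twice the lattice -/
def L2 : AddSubgroup V := leechLattice.map dbl

theorem mem_L2 (v : V) : v ∈ L2 ↔ ∃ z ∈ leechLattice, z + z = v := by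
  unfold L2
  rw [AddSubgroup.mem_map]
  rfl

theorem L2_le : L2 ≤ leechLattice := by
  intro v hv
  obtain ⟨z, hz, rfl⟩ := (mem_L2 v).1 hv
  exact leechLattice.add_mem hz hz

theorem relIndex_L2 : L2.relIndex leechLattice = 2 ^ 24 := by
  have h1 := AddSubgroup.relIndex_mul_index L2_le
  have hle2 : L2 ≤ (⊤ : AddSubgroup V).map dbl := AddSubgroup.map_mono le_top
  have h2 := AddSubgroup.relIndex_mul_index hle2
  have h3 : L2.relIndex ((⊤ : AddSubgroup V).map dbl) = leechLattice.relIndex ⊤ :=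
    AddSubgroup.relIndex_map_map_of_injective _ _ dbl_inj
  rw [h3, AddSubgroup.relIndex_top_right, top_map_index, Cfsg.Agent.S0393.result] at h2
  rw [Cfsg.Agent.S0393.result, ← h2] at h1
  exact Nat.eq_of_mul_eq_mul_right (by norm_num) (h1.trans (mul_comm _ _))

/-- the quotient `Λ/2Λ` -/
abbrev Q := leechLattice ⧸ (L2.addSubgroupOf leechLattice)

theorem card_Q : Nat.card Q = 2 ^ 24 := relIndex_L2

instance finiteQ : Finite Q := Nat.finite_of_card_ne_zero (by rw [card_Q]; norm_num)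

noncomputable instance fintypeQ : Fintype Q := Fintype.ofFinite Q

theorem fintype_card_Q : Fintype.card Q = 2 ^ 24 := by
  rw [← Nat.card_eq_fintype_card, card_Q]

/-- the class of a vector modulo `2Λ` -/
noncomputable def cl (v : V) : Q := by
  classical
  exact if h : v ∈ leechLattice then QuotientAddGroup.mk ⟨v, h⟩ else 0

theorem cl_eq_iff {v w : V} (hv : v ∈ leechLattice) (hw : w ∈ leechLattice) :
    cl v = cl w ↔ ∃ z ∈ leechLattice, v - w = 2 • z := by
  unfold cl
  rw [dif_pos hv, dif_pos hw, QuotientAddGroup.eq, AddSubgroup.mem_addSubgroupOf]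
  show (-v + w) ∈ L2 ↔ _
  rw [mem_L2]
  constructor
  · rintro ⟨z, hz, hzz⟩
    refine ⟨-z, leechLattice.neg_mem hz, ?_⟩
    rw [two_nsmul]
    funext i
    have := congrFun hzz i
    simp only [Pi.add_apply, Pi.neg_apply, Pi.sub_apply] at this ⊢
    omega
  · rintro ⟨z, hz, hzz⟩
    refine ⟨-z, leechLattice.neg_mem hz, ?_⟩
    rw [two_nsmul] at hzz
    funext i
    have := congrFun hzz i
    simp only [Pi.add_apply, Pi.neg_apply, Pi.sub_apply] at this ⊢
    omega

/-! ### short vectors -/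

theorem fin32 : {x : V | x ∈ leechLattice ∧ sqNorm x = 32}.Finite :=
  Set.finite_of_ncard_ne_zero (by rw [Cfsg.Agent.S0394.result]; norm_num)

theorem fin48 : {x : V | x ∈ leechLattice ∧ sqNorm x = 48}.Finite :=
  Set.finite_of_ncard_ne_zero (by rw [Cfsg.Agent.S0395.result]; norm_num)

theorem fin64 : {x : V | x ∈ leechLattice ∧ sqNorm x = 64}.Finite :=
  Set.finite_of_ncard_ne_zero (by rw [Cfsg.Agent.S0396.result]; norm_num)

/-- the short vectors -/
noncomputable def S : Finset V := by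
  classical
  exact {0} ∪ fin32.toFinset ∪ fin48.toFinset ∪ fin64.toFinset

theorem mem_S (v : V) : v ∈ S ↔ v ∈ leechLattice ∧ sqNorm v ≤ 64 := by
  classical
  unfold S
  simp only [Finset.mem_union, Finset.mem_singleton, Set.Finite.mem_toFinset, Set.mem_ofPred_eq]
  constructor
  · rintro (((h | h) | h) | h)
    · subst h
      exact ⟨leechLattice.zero_mem, by rw [sqNorm_zero]; norm_num⟩
    · exact ⟨h.1, by rw [h.2]; norm_num⟩
    · exact ⟨h.1, by rw [h.2]; norm_num⟩
    · exact ⟨h.1, by rw [h.2]⟩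
  · rintro ⟨h1, h2⟩
    by_cases h0 : v = 0
    · exact Or.inl (Or.inl (Or.inl h0))
    · have h3 := Cfsg.Agent.S0391.result v h1 h0
      have h4 := Cfsg.Agent.S0392.result v h1
      have : sqNorm v = 32 ∨ sqNorm v = 48 ∨ sqNorm v = 64 := by omega
      rcases this with h | h | h
      · exact Or.inl (Or.inl (Or.inr ⟨h1, h⟩))
      · exact Or.inl (Or.inr ⟨h1, h⟩)
      · exact Or.inr ⟨h1, h⟩

theorem norm_cases (v : V) (hv : v ∈ S) :
    sqNorm v = 0 ∨ sqNorm v = 32 ∨ sqNorm v = 48 ∨ sqNorm v = 64 := by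
  obtain ⟨h1, h2⟩ := (mem_S v).1 hv
  by_cases h0 : v = 0
  · left; rw [h0, sqNorm_zero]
  · have h3 := Cfsg.Agent.S0391.result v h1 h0
    have h4 := Cfsg.Agent.S0392.result v h1
    omega

/-- the weight of a short vector -/
noncomputable def wt (v : V) : ℕ := if sqNorm v = 0 then 48 else if sqNorm v = 64 then 1 else 24

theorem filter_S (N : ℤ) (hN : N ≤ 64) :
    (S.filter (fun v => sqNorm v = N) : Set V) = {x : V | x ∈ leechLattice ∧ sqNorm x = N} := by
  ext v
  simp only [Finset.coe_filter, Set.mem_ofPred_eq, mem_S]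
  constructor
  · rintro ⟨⟨h1, _⟩, h3⟩
    exact ⟨h1, h3⟩
  · rintro ⟨h1, h3⟩
    exact ⟨⟨h1, by rw [h3]; exact hN⟩, h3⟩

theorem card_filter_S (N : ℤ) (hN : N ≤ 64) :
    (S.filter (fun v => sqNorm v = N)).card
      = {x : V | x ∈ leechLattice ∧ sqNorm x = N}.ncard := by
  rw [← filter_S N hN, Set.ncard_coe_finset]

theorem filter_S_zero : S.filter (fun v => sqNorm v = 0) = {0} := by
  ext v
  simp only [Finset.mem_filter, Finset.mem_singleton, mem_S]
  constructor
  · rintro ⟨_, h⟩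
    exact (sqNorm_eq_zero_iff v).1 h
  · rintro rfl
    exact ⟨⟨leechLattice.zero_mem, by rw [sqNorm_zero]; norm_num⟩, sqNorm_zero⟩

theorem total_weight : ∑ v ∈ S, wt v = 48 * 2 ^ 24 := by
  have h1 : ∀ v ∈ S, wt v = 48 * (if sqNorm v = 0 then 1 else 0)
      + 24 * (if sqNorm v = 32 then 1 else 0) + 24 * (if sqNorm v = 48 then 1 else 0)
      + (if sqNorm v = 64 then 1 else 0) := by
    intro v hv
    unfold wt
    rcases norm_cases v hv with h | h | h | h <;> rw [h] <;> norm_num
  rw [Finset.sum_congr rfl h1, Finset.sum_add_distrib, Finset.sum_add_distrib,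
    Finset.sum_add_distrib, ← Finset.mul_sum, ← Finset.mul_sum, ← Finset.mul_sum,
    Finset.sum_boole, Finset.sum_boole, Finset.sum_boole, Finset.sum_boole,
    filter_S_zero, card_filter_S 32 (by norm_num), card_filter_S 48 (by norm_num),
    card_filter_S 64 (by norm_num), Cfsg.Agent.S0394.result, Cfsg.Agent.S0395.result,
    Cfsg.Agent.S0396.result]
  simp

/-! ### the fibres -/

open scoped Classical

theorem neg_mem_fiber (q : Q) (v : V) (hv : v ∈ S.filter (fun v => cl v = q)) :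
    -v ∈ S.filter (fun v => cl v = q) := by
  rw [Finset.mem_filter, mem_S] at hv ⊢
  obtain ⟨⟨h1, h2⟩, h3⟩ := hv
  refine ⟨⟨leechLattice.neg_mem h1, by rw [sqNorm_neg]; exact h2⟩, ?_⟩
  rw [← h3]
  rw [cl_eq_iff (leechLattice.neg_mem h1) h1]
  refine ⟨-v, leechLattice.neg_mem h1, ?_⟩
  rw [two_nsmul]
  abel

theorem fiber_pair (q : Q) (v w : V) (hv : v ∈ S.filter (fun v => cl v = q))
    (hw : w ∈ S.filter (fun v => cl v = q)) :
    v = w ∨ v = -w ∨ (sqNorm v = 64 ∧ sqNorm w = 64 ∧ v ⬝ᵥ w = 0) := by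
  rw [Finset.mem_filter, mem_S] at hv hw
  obtain ⟨⟨h1, h2⟩, h3⟩ := hv
  obtain ⟨⟨k1, k2⟩, k3⟩ := hw
  obtain ⟨z, hz, hzz⟩ := (cl_eq_iff h1 k1).1 (by rw [h3, k3])
  exact pair_lemma v w z k1 hz hzz h2 k2

theorem wt_of_64 (v : V) (h : sqNorm v = 64) : wt v = 1 := by
  unfold wt
  rw [h]
  norm_num

theorem fiber_le (q : Q) : ∑ v ∈ S.filter (fun v => cl v = q), wt v ≤ 48 := by
  classical
  by_cases hcase : ∃ v ∈ S.filter (fun v => cl v = q), sqNorm v < 64
  · obtain ⟨v, hvT, hv64⟩ := hcase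
    have hsub : S.filter (fun v => cl v = q) ⊆ {v, -v} := by
      intro y hy
      rcases fiber_pair q y v hy hvT with h | h | ⟨_, h, _⟩
      · rw [h]; exact Finset.mem_insert_self _ _
      · rw [h]; exact Finset.mem_insert_of_mem (Finset.mem_singleton_self _)
      · omega
    refine (Finset.sum_le_sum_of_subset hsub).trans ?_
    by_cases h0 : v = 0
    · subst h0
      rw [neg_zero, Finset.pair_eq_singleton, Finset.sum_singleton]
      unfold wt
      rw [sqNorm_zero]
      norm_num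
    · rw [Finset.sum_pair (ne_neg_of_ne_zero v h0)]
      have hne0 : sqNorm v ≠ 0 := fun h => h0 ((sqNorm_eq_zero_iff v).1 h)
      have hw : wt v = 24 := by
        unfold wt
        rw [if_neg hne0, if_neg (by omega)]
      have hw' : wt (-v) = 24 := by
        unfold wt
        rw [sqNorm_neg, if_neg hne0, if_neg (by omega)]
      rw [hw, hw']
  · push Not at hcase
    have h64 : ∀ v ∈ S.filter (fun v => cl v = q), sqNorm v = 64 := by
      intro v hv
      have h1 := hcase v hv
      have h2 := ((mem_S v).1 (Finset.mem_filter.1 hv).1).2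
      omega
    rw [Finset.sum_congr rfl (fun v hv => wt_of_64 v (h64 v hv)), Finset.sum_const, smul_eq_mul,
      mul_one]
    apply frame_bound _ (neg_mem_fiber q)
    · intro v hv
      rw [← sqNorm_eq_dot]
      exact h64 v hv
    · intro v hv w hw
      rcases fiber_pair q v w hv hw with h | h | ⟨_, _, h⟩
      · exact Or.inl h
      · exact Or.inr (Or.inl h)
      · exact Or.inr (Or.inr h)

theorem fiber_eq (q : Q) : ∑ v ∈ S.filter (fun v => cl v = q), wt v = 48 := by
  classical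
  have h1 : ∑ q : Q, ∑ v ∈ S.filter (fun v => cl v = q), wt v = ∑ _q : Q, 48 := by
    rw [Finset.sum_fiberwise, total_weight, Finset.sum_const, Finset.card_univ, fintype_card_Q,
      smul_eq_mul, mul_comm]
  exact (Finset.sum_eq_sum_iff_of_le (fun q _ => fiber_le q)).1 h1 q (Finset.mem_univ q)

/-- Every class of the lattice modulo twice the lattice contains a short vector. -/
theorem exists_short (x : V) (hx : x ∈ leechLattice) :
    ∃ y ∈ leechLattice, sqNorm y ≤ 64 ∧ ∃ z ∈ leechLattice, x - y = 2 • z := by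
  classical
  have h := fiber_eq (cl x)
  have hne : (S.filter (fun v => cl v = cl x)).Nonempty :=
    Finset.nonempty_of_sum_ne_zero (f := wt) (by rw [h]; norm_num)
  obtain ⟨y, hy⟩ := hne
  rw [Finset.mem_filter, mem_S] at hy
  exact ⟨y, hy.1.1, hy.1.2, (cl_eq_iff hx hy.1.1).1 hy.2.symm⟩

/-- The cross through a vector of sum of squares 64 has 48 members. -/
theorem cross_card (x : V) (hx : x ∈ leechLattice) (hxn : sqNorm x = 64) :
    (cross x).ncard = 48 := by
  classical
  have hxT : x ∈ S.filter (fun v => cl v = cl x) := by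
    rw [Finset.mem_filter, mem_S]
    exact ⟨⟨hx, by rw [hxn]⟩, rfl⟩
  have h64 : ∀ v ∈ S.filter (fun v => cl v = cl x), sqNorm v = 64 := by
    intro v hv
    rcases fiber_pair (cl x) v x hv hxT with h | h | ⟨h, _, _⟩
    · rw [h]; exact hxn
    · rw [h, sqNorm_neg]; exact hxn
    · exact h
  have h := fiber_eq (cl x)
  rw [Finset.sum_congr rfl (fun v hv => wt_of_64 v (h64 v hv)), Finset.sum_const, smul_eq_mul,
    mul_one] at h
  have hset : cross x = ↑(S.filter (fun v => cl v = cl x)) := by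
    ext y
    unfold cross
    simp only [Set.mem_ofPred_eq, Finset.coe_filter, mem_S]
    constructor
    · rintro ⟨h1, h2, h3⟩
      refine ⟨⟨h1, by rw [h2, hxn]⟩, ?_⟩
      exact ((cl_eq_iff hx h1).2 h3).symm
    · rintro ⟨⟨h1, h2⟩, h3⟩
      refine ⟨h1, ?_, (cl_eq_iff hx h1).1 h3.symm⟩
      rw [hxn]
      apply h64
      rw [Finset.mem_filter, mem_S]
      exact ⟨⟨h1, h2⟩, h3⟩
  rw [hset, Set.ncard_coe_finset, h]

end Cfsg.Agent.Lib.Lead.LX
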