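import Cfsg.Agent.Lib.Lead.ConwayTrans2
import Cfsg.Agent.Lib.Lead.LeechCross

/-!
# The order of the automorphism group of the Leech lattice

`card_Co0 : Nat.card Co0 = 8292375 * (4096 * 244823040)`: the group is transitive on the
8292375 crosses and the stabiliser of the standard cross is the monomial group.
-/

set_option autoImplicit false
open Cfsg

namespace Cfsg.Agent.Lib.Lead.CO

open Cfsg.Agent.Lib.Lead.LX Cfsg.Agent.Lib.Lead.CW
open Cfsg.Agent.Lib.helper3 Cfsg.Agent.Lib.helper4 Cfsg.Agent.S0398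

open scoped Classical

/-! ### automorphisms and classes modulo twice the lattice -/

theorem map_sub' (g : ↥Co0) (v w : ↥leechLattice) : g.1 (v - w) = g.1 v - g.1 w := by
  have h := g.2.1 (v - w) w
  rw [sub_add_cancel] at h
  rw [h, add_sub_cancel_right]

theorem cl_map (g : ↥Co0) (x y : ↥leechLattice) (h : cl x.1 = cl y.1) :
    cl (g.1 x).1 = cl (g.1 y).1 := by
  rw [cl_eq_iff x.2 y.2] at h
  obtain ⟨z, hz, hxy⟩ := h
  rw [cl_eq_iff (g.1 x).2 (g.1 y).2]
  refine ⟨(g.1 ⟨z, hz⟩).1, (g.1 ⟨z, hz⟩).2, ?_⟩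
  have h1 : x - y = ⟨z, hz⟩ + ⟨z, hz⟩ := by
    apply Subtype.ext
    show x.1 - y.1 = z + z
    rw [hxy, two_nsmul]
  have h2 : g.1 x - g.1 y = g.1 ⟨z, hz⟩ + g.1 ⟨z, hz⟩ := by
    rw [← map_sub', h1, g.2.1]
  have h3 := congrArg Subtype.val h2
  rw [two_nsmul]
  exact h3

/-- the vector `4e_i - 4e_∞` lies in the lattice -/
theorem diff_mem (i : GolayPt) (s : ℤ) (hs : s = 4 ∨ s = -4) :
    (fun p => (if p = i then s else 0) - (if p = none then 4 else 0) : LX.V) ∈ leechLattice := by
  rw [mem_leechLattice_iff]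
  apply Spor.mem_leechSet_of_const_mod_four _ 0 0 (Int.ModEq.refl _)
  · intro p
    unfold Int.ModEq
    rcases hs with rfl | rfl <;> split_ifs <;> norm_num
  · rw [Finset.sum_sub_distrib, Finset.sum_ite_eq' Finset.univ i,
      Finset.sum_ite_eq' Finset.univ none, if_pos (Finset.mem_univ _), if_pos (Finset.mem_univ _)]
    rcases hs with rfl | rfl <;> decide

/-- the members of the standard cross are congruent to `8e_∞` -/
theorem cl_single (i : GolayPt) (s : ℤ) (hs : s = 8 ∨ s = -8) (hm : (Pi.single i s : LX.V) ∈ leechLattice) :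
    cl (Pi.single i s : LX.V) = cl (ev none).1 := by
  rw [cl_eq_iff hm (ev none).2]
  refine ⟨_, diff_mem i (s / 2) (by rcases hs with rfl | rfl <;> norm_num), ?_⟩
  rw [two_nsmul]
  funext p
  rw [ev_val]
  simp only [Pi.sub_apply, Pi.add_apply, Pi.single_apply]
  rcases hs with rfl | rfl <;> split_ifs <;> norm_num

/-- a vector of sum of squares 64 congruent to `8e_∞` lies in the standard cross -/
theorem mem_stdCross_of_cl (y : LX.V) (hy : y ∈ leechLattice) (hn : sqNorm y = 64)
    (hc : cl y = cl (ev none).1) : y ∈ stdCross := by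
  have hpair : ∀ j : GolayPt, y = (ev j).1 ∨ y = -(ev j).1 ∨ y j = 0 := by
    intro j
    have hcj : cl y = cl (ev j).1 := by
      rw [hc]
      exact (cl_single j 8 (Or.inl rfl) (ev j).2).symm
    rw [cl_eq_iff hy (ev j).2] at hcj
    obtain ⟨z, hz, hyz⟩ := hcj
    have hnj : sqNorm (ev j).1 ≤ 64 := by
      have : sqNorm (ev j).1 = 64 := by
        unfold sqNorm
        rw [Finset.sum_eq_single j]
        · rw [ev_val, Pi.single_eq_same]; norm_num
        · intro k _ hk
          rw [ev_val, Pi.single_eq_of_ne hk]; norm_num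
        · intro h; exact absurd (Finset.mem_univ j) h
      rw [this]
    rcases pair_lemma y (ev j).1 z (ev j).2 hz hyz (by rw [hn]) hnj with h | h | ⟨_, _, h⟩
    · exact Or.inl h
    · exact Or.inr (Or.inl h)
    · right; right
      rw [ev_val, dotProduct_single] at h
      omega
  by_cases hex : ∃ j, y = (ev j).1 ∨ y = -(ev j).1
  · obtain ⟨j, h | h⟩ := hex
    · exact ⟨j, 8, Or.inl rfl, h⟩
    · refine ⟨j, -8, Or.inr rfl, ?_⟩
      rw [h, ev_val]
      funext p
      simp only [Pi.neg_apply, Pi.single_apply]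
      split_ifs <;> norm_num
  · exfalso
    push Not at hex
    have h0 : y = 0 := by
      funext j
      rcases hpair j with h | h | h
      · exact absurd h (hex j).1
      · exact absurd h (hex j).2
      · exact h
    rw [h0, LX.sqNorm_zero] at hn
    norm_num at hn

/-! ### the stabiliser of the standard cross -/

/-- the stabiliser of the class of `8e_∞` -/
def H : Subgroup ↥Co0 where
  carrier := {g | cl (g.1 (ev none)).1 = cl (ev none).1}
  one_mem' := rfl
  mul_mem' := by
    intro a b ha hb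
    show cl (a.1 (b.1 (ev none))).1 = cl (ev none).1
    rw [cl_map a (b.1 (ev none)) (ev none) hb]
    exact ha
  inv_mem' := by
    intro a ha
    show cl (a⁻¹.1 (ev none)).1 = cl (ev none).1
    have h1 := cl_map a⁻¹ (ev none) (a.1 (ev none)) (Set.mem_ofPred_eq ▸ ha).symm
    rw [h1]
    show cl ((a⁻¹ * a).1 (ev none)).1 = _
    rw [inv_mul_cancel]
    rfl

theorem mem_H (g : ↥Co0) : g ∈ H ↔ cl (g.1 (ev none)).1 = cl (ev none).1 := Iff.rfl

theorem mem_H_iff_stab (g : ↥Co0) : g ∈ H ↔ Cfsg.Agent.S1571.Stab g := by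
  rw [mem_H]
  constructor
  · intro h v hv
    show (g.1 v).1 ∈ stdCross
    apply mem_stdCross_of_cl _ (g.1 v).2
    · rw [g.2.2 v]
      obtain ⟨i, s, hs, hvs⟩ := hv
      rw [hvs]
      unfold sqNorm
      rw [Finset.sum_eq_single i]
      · rw [Pi.single_eq_same]
        rcases hs with rfl | rfl <;> norm_num
      · intro k _ hk
        rw [Pi.single_eq_of_ne hk]; norm_num
      · intro h'; exact absurd (Finset.mem_univ i) h'
    · have hcv : cl v.1 = cl (ev none).1 := by
        obtain ⟨i, s, hs, hvs⟩ := hv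
        have hm : (Pi.single i s : LX.V) ∈ leechLattice := hvs ▸ v.2
        rw [hvs]
        exact cl_single i s hs hm
      rw [cl_map g v (ev none) hcv]
      exact h
  · intro h
    have h1 := h (ev none) (Cfsg.Agent.S1571.ev_mem_stdCross none)
    obtain ⟨i, s, hs, hvs⟩ := h1
    have hvs' : (g.1 (ev none)).1 = (Pi.single i s : LX.V) := hvs
    rw [hvs']
    exact cl_single i s hs (hvs' ▸ (g.1 (ev none)).2)

theorem card_H : Nat.card H = 4096 * 244823040 := by
  rw [← Cfsg.Agent.S1571.card_stab]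
  exact Nat.card_congr (Equiv.subtypeEquivRight mem_H_iff_stab)

/-! ### the crosses -/

/-- the vectors of sum of squares 64 -/
noncomputable def F64 : Finset LX.V := fin64.toFinset

theorem mem_F64 (x : LX.V) : x ∈ F64 ↔ x ∈ leechLattice ∧ sqNorm x = 64 := by
  unfold F64
  rw [Set.Finite.mem_toFinset]
  rfl

theorem card_F64 : F64.card = 398034000 := by
  unfold F64
  rw [← Set.ncard_eq_toFinset_card _ fin64, Cfsg.Agent.S0396.result]

/-- the classes of the vectors of sum of squares 64 -/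
noncomputable def X : Finset Q := F64.image cl

theorem fiber64 (x : LX.V) (hx : x ∈ F64) : (F64.filter (fun v => cl v = cl x)).card = 48 := by
  rw [mem_F64] at hx
  have hxT : x ∈ LX.S.filter (fun v => cl v = cl x) := by
    rw [Finset.mem_filter, mem_S]
    exact ⟨⟨hx.1, by rw [hx.2]⟩, rfl⟩
  have h64 : ∀ v ∈ LX.S.filter (fun v => cl v = cl x), sqNorm v = 64 := by
    intro v hv
    rcases fiber_pair (cl x) v x hv hxT with h | h | ⟨h, _, _⟩
    · rw [h]; exact hx.2
    · rw [h, LX.sqNorm_neg]; exact hx.2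
    · exact h
  have h := fiber_eq (cl x)
  rw [Finset.sum_congr rfl (fun v hv => wt_of_64 v (h64 v hv)), Finset.sum_const, smul_eq_mul,
    mul_one] at h
  rw [← h]
  congr 1
  ext v
  simp only [Finset.mem_filter, mem_F64, mem_S]
  constructor
  · rintro ⟨⟨h1, h2⟩, h3⟩
    exact ⟨⟨h1, by rw [h2]⟩, h3⟩
  · rintro ⟨⟨h1, h2⟩, h3⟩
    refine ⟨⟨h1, ?_⟩, h3⟩
    apply h64
    rw [Finset.mem_filter, mem_S]
    exact ⟨⟨h1, h2⟩, h3⟩

theorem card_X : X.card = 8292375 := by
  have h := Finset.card_eq_sum_card_fiberwise (s := F64) (t := X) (f := cl)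
    (fun x hx => Finset.mem_image_of_mem cl hx)
  have h2 : ∀ q ∈ X, (F64.filter (fun v => cl v = q)).card = 48 := by
    intro q hq
    obtain ⟨x, hx, rfl⟩ := Finset.mem_image.1 hq
    exact fiber64 x hx
  rw [Finset.sum_congr rfl h2, Finset.sum_const, smul_eq_mul, card_F64] at h
  omega

/-! ### the order -/

/-- the class of the image of `8e_∞` -/
noncomputable def phi (g : ↥Co0) : Q := cl (g.1 (ev none)).1

theorem phi_mem (g : ↥Co0) : phi g ∈ X := by
  apply Finset.mem_image_of_mem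
  rw [mem_F64]
  refine ⟨(g.1 (ev none)).2, ?_⟩
  rw [g.2.2]
  unfold sqNorm
  rw [Finset.sum_eq_single none]
  · rw [ev_val, Pi.single_eq_same]; norm_num
  · intro k _ hk
    rw [ev_val, Pi.single_eq_of_ne hk]; norm_num
  · intro h; exact absurd (Finset.mem_univ _) h

theorem phi_surj (x : ↥X) : ∃ g : ↥Co0, phi g = x.1 := by
  obtain ⟨y, hy, hyx⟩ := Finset.mem_image.1 x.2
  rw [mem_F64] at hy
  obtain ⟨g, hg⟩ := trans64 ⟨y, hy.1⟩ hy.2
  refine ⟨g⁻¹, ?_⟩
  unfold phi
  rw [← hyx, ← hg]
  show cl ((g⁻¹ * g).1 ⟨y, hy.1⟩).1 = cl y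
  rw [inv_mul_cancel]
  rfl

theorem phi_mul_H (g : ↥Co0) (h : ↥H) : phi (g * h.1) = phi g := by
  unfold phi
  show cl (g.1 (h.1.1 (ev none))).1 = _
  exact cl_map g _ _ h.2

theorem mem_H_of_phi_eq (g k : ↥Co0) (h : phi g = phi k) : k⁻¹ * g ∈ H := by
  rw [mem_H]
  show cl (k⁻¹.1 (g.1 (ev none))).1 = _
  rw [cl_map k⁻¹ (g.1 (ev none)) (k.1 (ev none)) h]
  show cl ((k⁻¹ * k).1 (ev none)).1 = _
  rw [inv_mul_cancel]
  rfl

theorem card_Co0 : Nat.card ↥Co0 = 8292375 * (4096 * 244823040) := by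
  choose r hr using phi_surj
  have e : ↥Co0 ≃ ↥X × ↥H :=
    { toFun := fun g => (⟨phi g, phi_mem g⟩,
        ⟨(r ⟨phi g, phi_mem g⟩)⁻¹ * g, mem_H_of_phi_eq g _ (hr ⟨phi g, phi_mem g⟩).symm⟩)
      invFun := fun p => r p.1 * p.2.1
      left_inv := by
        intro g
        show r ⟨phi g, phi_mem g⟩ * ((r ⟨phi g, phi_mem g⟩)⁻¹ * g) = g
        group
      right_inv := by
        rintro ⟨x, h⟩
        have hx : (⟨phi (r x * h.1), phi_mem _⟩ : ↥X) = x := by
          apply Subtype.ext
          show phi (r x * h.1) = x.1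
          rw [phi_mul_H, hr x]
        apply Prod.ext
        · exact hx
        · apply Subtype.ext
          show (r ⟨phi (r x * h.1), phi_mem _⟩)⁻¹ * (r x * h.1) = h.1
          rw [hx]
          group }
  rw [Nat.card_congr e, Nat.card_prod, card_H, Nat.card_eq_fintype_card, Fintype.card_coe, card_X]

end Cfsg.Agent.Lib.Lead.CO
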