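import Cfsg.Agent.Lib.Helper19.SPD.Defs

set_option autoImplicit false

/-! # SPD row FIXND: the fixed part and the moved part of an invariant nondegenerate subspace -/

namespace Cfsg.Agent.Lib.Helper19.SPD

open Cfsg.Agent.Lib.helper6 Cfsg.Agent.Lib.helper6.SB

variable {F : Type*} [Field F] {d : ℕ}

/-- `y ^ n v - v` lies in the moved space. -/
theorem spdfixnd_pow_sub_mem (y : (Fin d ⊕ Fin d → F) →ₗ[F] (Fin d ⊕ Fin d → F)) (n : ℕ)
    (v : Fin d ⊕ Fin d → F) : (y ^ n) v - v ∈ Mv y := by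
  have h : y ^ n - 1 = (y - 1) * ∑ i ∈ Finset.range n, y ^ i := (mul_geom_sum y n).symm
  have h2 : (y ^ n) v - v = (y - 1) ((∑ i ∈ Finset.range n, y ^ i) v) := by
    have := LinearMap.congr_fun h v
    rw [LinearMap.sub_apply, Module.End.one_apply, Module.End.mul_apply] at this
    exact this
  rw [h2]
  exact LinearMap.mem_range_self _ _

/-- `(∑ k < n, y ^ k) v - n • v` lies in the moved space. -/
theorem spdfixnd_sum_sub_mem (y : (Fin d ⊕ Fin d → F) →ₗ[F] (Fin d ⊕ Fin d → F)) (n : ℕ)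
    (v : Fin d ⊕ Fin d → F) : (∑ k ∈ Finset.range n, y ^ k) v - (n : F) • v ∈ Mv y := by
  induction n with
  | zero =>
    rw [Finset.sum_range_zero, LinearMap.zero_apply, Nat.cast_zero, zero_smul, sub_zero]
    exact Submodule.zero_mem _
  | succ n ih =>
    rw [Finset.sum_range_succ, LinearMap.add_apply, Nat.cast_succ, add_smul, one_smul]
    have : (∑ k ∈ Finset.range n, y ^ k) v + (y ^ n) v - ((n : F) • v + v) =
        ((∑ k ∈ Finset.range n, y ^ k) v - (n : F) • v) + ((y ^ n) v - v) := by abel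
    rw [this]
    exact Submodule.add_mem _ ih (spdfixnd_pow_sub_mem y n v)

/-- a fixed vector is multiplied by `n` under `∑ k < n, y ^ k`. -/
theorem spdfixnd_sum_fix (y : (Fin d ⊕ Fin d → F) →ₗ[F] (Fin d ⊕ Fin d → F))
    (v : Fin d ⊕ Fin d → F) (hv : y v = v) (n : ℕ) :
    (∑ k ∈ Finset.range n, y ^ k) v = (n : F) • v := by
  have hpow : ∀ m : ℕ, (y ^ m) v = v := by
    intro m
    induction m with
    | zero => rw [pow_zero, Module.End.one_apply]
    | succ m ih => rw [pow_succ, Module.End.mul_apply, hv, ih]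
  induction n with
  | zero => rw [Finset.sum_range_zero, LinearMap.zero_apply, Nat.cast_zero, zero_smul]
  | succ n ih =>
    rw [Finset.sum_range_succ, LinearMap.add_apply, ih, hpow, Nat.cast_succ, add_smul, one_smul]

theorem fix_nd (r : ℕ) (hrF : (r : F) ≠ 0) (y : (Fin d ⊕ Fin d → F) →ₗ[F] (Fin d ⊕ Fin d → F))
    (hiso : Isom y) (hy : y ^ r = 1) (W : Submodule F (Fin d ⊕ Fin d → F)) (hW : Inv y W) (hnd : ND W) :
    ND (W ⊓ Fx y) ∧ ND (W ⊓ Mv y) ∧ Orth (W ⊓ Fx y) (W ⊓ Mv y) ∧ (W ⊓ Fx y) ⊔ (W ⊓ Mv y) = W ∧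
      Inv y (W ⊓ Mv y) ∧ FF y (W ⊓ Mv y) := by
  classical
  obtain ⟨N, hN⟩ : ∃ N : (Fin d ⊕ Fin d → F) →ₗ[F] (Fin d ⊕ Fin d → F),
      N = ∑ k ∈ Finset.range r, y ^ k := ⟨_, rfl⟩
  have h1 : N * (y - 1) = 0 := by rw [hN, geom_sum_mul, hy, sub_self]
  have h2 : (y - 1) * N = 0 := by rw [hN, mul_geom_sum, hy, sub_self]
  have hNfix : ∀ v, y (N v) = N v := by
    intro v
    have := LinearMap.congr_fun h2 v
    rw [Module.End.mul_apply, LinearMap.sub_apply, Module.End.one_apply, LinearMap.zero_apply,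
      sub_eq_zero] at this
    exact this
  have hNmv : ∀ x, N ((y - 1) x) = 0 := by
    intro x
    have := LinearMap.congr_fun h1 x
    rw [Module.End.mul_apply, LinearMap.zero_apply] at this
    exact this
  have hpowW : ∀ (n : ℕ), ∀ w ∈ W, (y ^ n) w ∈ W := by
    intro n
    induction n with
    | zero => intro w hw; rw [pow_zero, Module.End.one_apply]; exact hw
    | succ n ih => intro w hw; rw [pow_succ, Module.End.mul_apply]; exact ih _ (hW w hw)
  have hNW : ∀ w ∈ W, N w ∈ W := by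
    intro w hw
    rw [hN, LinearMap.sum_apply]
    exact Submodule.sum_mem _ (fun k _ => hpowW k w hw)
  have hmemFx : ∀ v, v ∈ Fx y ↔ y v = v := by
    intro v
    unfold Fx
    rw [LinearMap.mem_ker, LinearMap.sub_apply, Module.End.one_apply, sub_eq_zero]
  -- decomposition
  have hdec : ∀ w ∈ W, ∃ a ∈ W ⊓ Fx y, ∃ b ∈ W ⊓ Mv y, a + b = w := by
    intro w hw
    have ha : (r : F)⁻¹ • N w ∈ W ⊓ Fx y := by
      refine ⟨W.smul_mem _ (hNW w hw), ?_⟩
      rw [SetLike.mem_coe, hmemFx, map_smul, hNfix]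
    have hbeq : w - (r : F)⁻¹ • N w = -((r : F)⁻¹ • (N w - (r : F) • w)) := by
      rw [smul_sub, smul_smul, inv_mul_cancel₀ hrF, one_smul]
      abel
    have hb : w - (r : F)⁻¹ • N w ∈ W ⊓ Mv y := by
      refine ⟨W.sub_mem hw ha.1, ?_⟩
      rw [SetLike.mem_coe, hbeq]
      apply Submodule.neg_mem
      apply Submodule.smul_mem
      rw [hN]
      exact spdfixnd_sum_sub_mem y r w
    exact ⟨_, ha, _, hb, by abel⟩
  have horth : Orth (W ⊓ Fx y) (W ⊓ Mv y) := by
    intro u hu v hv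
    have hu2 : y u = u := (hmemFx u).mp hu.2
    obtain ⟨x, rfl⟩ := LinearMap.mem_range.mp hv.2
    rw [LinearMap.sub_apply, Module.End.one_apply, sympForm_sub_right]
    nth_rewrite 1 [← hu2]
    rw [hiso, sub_self]
  refine ⟨?_, ?_, horth, ?_, ?_, ?_⟩
  · intro u hu huv
    apply hnd u hu.1
    intro w hw
    obtain ⟨a, ha, b, hb, rfl⟩ := hdec w hw
    rw [sympForm_add_right, huv a ha, horth u hu b hb, add_zero]
  · intro u hu huv
    apply hnd u hu.1
    intro w hw
    obtain ⟨a, ha, b, hb, rfl⟩ := hdec w hw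
    rw [sympForm_add_right, huv b hb, add_zero, sympForm_swap, horth a ha u hu, neg_zero]
  · apply le_antisymm (sup_le inf_le_left inf_le_left)
    intro w hw
    obtain ⟨a, ha, b, hb, rfl⟩ := hdec w hw
    exact Submodule.add_mem_sup ha hb
  · intro v hv
    refine ⟨hW v hv.1, ?_⟩
    obtain ⟨x, rfl⟩ := LinearMap.mem_range.mp hv.2
    have : y ((y - 1) x) = (y - 1) (y x) := by
      rw [LinearMap.sub_apply, LinearMap.sub_apply, Module.End.one_apply, Module.End.one_apply, map_sub]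
    rw [SetLike.mem_coe, this]
    exact LinearMap.mem_range_self _ _
  · intro v hv hfix
    obtain ⟨x, hx⟩ := LinearMap.mem_range.mp hv.2
    have h0 : N v = 0 := by rw [← hx]; exact hNmv x
    have h3 : N v = (r : F) • v := by rw [hN]; exact spdfixnd_sum_fix y v hfix r
    rw [h3] at h0
    exact (smul_eq_zero.mp h0).resolve_left hrF

end Cfsg.Agent.Lib.Helper19.SPD
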