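import Mathlib
import Cfsg.Prelude.Def_Classical
import Cfsg.Agent.Lib.Lead.OmegaCenter

set_option autoImplicit false

/-! Order of the centre of `Ω` in odd characteristic: `2` or `1` according as `-1 ∈ Ω`. -/

namespace Cfsg.Agent.Lib.Lead.OC3

open Cfsg Cfsg.Agent.Lib.Helper16 Cfsg.Agent.Lib.helper6 Module Matrix

variable {ι : Type} [Fintype ι] [DecidableEq ι] {F : Type*} [Field F] [Fintype F]

/-- central elements of `Ω` are `±1` -/
theorem central_pm (h2 : (2 : F) ≠ 0) (Q : QuadraticForm F (ι → F))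
    (hQ : (QuadraticMap.polarBilin Q).Nondegenerate) (hn : 4 ≤ Fintype.card ι)
    (z : ↥(Cfsg.isometryGroup F ⇑Q)) (hz : ∀ t ∈ Cfsg.Omega F ⇑Q, z * t = t * z) :
    ((z : Matrix.GeneralLinearGroup ι F) : Matrix ι ι F) = 1 ∨
    ((z : Matrix.GeneralLinearGroup ι F) : Matrix ι ι F) = -1 := by
  obtain ⟨a, ha⟩ := OC.scalar_of_central h2 Q hQ hn z hz
  have hsq : a * a = 1 := by
    have hne : Nonempty ι := by
      rw [← Fintype.card_pos_iff]; omega
    obtain ⟨i⟩ := hne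
    have hx0 : (Pi.single i 1 : ι → F) ≠ 0 := by
      intro h
      have := congrFun h i
      simp at this
    have : ∃ y, QuadraticMap.polarBilin Q (Pi.single i 1) y ≠ 0 := by
      by_contra hcon
      push Not at hcon
      exact hx0 (hQ.1 _ hcon)
    obtain ⟨y, hy⟩ := this
    have hp := polar_iso' Q z (Pi.single i 1) y
    rw [ha, Matrix.smul_mulVec, Matrix.one_mulVec, Matrix.smul_mulVec, Matrix.one_mulVec,
      QuadraticMap.polar_smul_left, QuadraticMap.polar_smul_right, smul_eq_mul, smul_eq_mul,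
      ← mul_assoc] at hp
    rw [QuadraticMap.polarBilin_apply_apply] at hy
    have : (a * a - 1) * QuadraticMap.polar (⇑Q) (Pi.single i 1) y = 0 := by
      rw [sub_mul, hp, one_mul, sub_self]
    rcases mul_eq_zero.mp this with h | h
    · exact sub_eq_zero.mp h
    · exact absurd h hy
  have h3 : (a - 1) * (a + 1) = 0 := by
    have : (a - 1) * (a + 1) = a * a - 1 := by ring
    rw [this, hsq, sub_self]
  rcases mul_eq_zero.mp h3 with h | h
  · left
    rw [ha, sub_eq_zero.mp h, one_smul]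
  · right
    rw [ha, eq_neg_of_add_eq_zero_left h, neg_smul, one_smul]

theorem comm_of_center (Q : QuadraticForm F (ι → F)) (z : ↥(Cfsg.Omega F ⇑Q))
    (hz : z ∈ Subgroup.center ↥(Cfsg.Omega F ⇑Q)) :
    ∀ t ∈ Cfsg.Omega F ⇑Q, (z : ↥(Cfsg.isometryGroup F ⇑Q)) * t = t * z := by
  intro t ht
  have := Subgroup.mem_center_iff.mp hz ⟨t, ht⟩
  have h3 := congrArg Subtype.val this
  exact h3.symm

/-- if `-1 ∉ Ω` the centre of `Ω` is trivial -/
theorem card_center_of_not_mem (h2 : (2 : F) ≠ 0) (Q : QuadraticForm F (ι → F))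
    (hQ : (QuadraticMap.polarBilin Q).Nondegenerate) (hn : 4 ≤ Fintype.card ι)
    (h : ¬ ∃ g : ↥(Cfsg.isometryGroup F ⇑Q), g ∈ Cfsg.Omega F ⇑Q ∧
      ((g : Matrix.GeneralLinearGroup ι F) : Matrix ι ι F) = -1) :
    Nat.card ↥(Subgroup.center ↥(Cfsg.Omega F ⇑Q)) = 1 := by
  have : Subgroup.center ↥(Cfsg.Omega F ⇑Q) = ⊥ := by
    rw [eq_bot_iff]
    rintro ⟨z, hzΩ⟩ hz
    rw [Subgroup.mem_bot]
    rcases central_pm h2 Q hQ hn z (comm_of_center Q ⟨z, hzΩ⟩ hz) with h1 | h1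
    · apply Subtype.ext
      apply iso_ext'
      rw [h1]; rfl
    · exact absurd ⟨z, hzΩ, h1⟩ h
  rw [this]
  exact Subgroup.card_bot

/-- if `-1 ∈ Ω` the centre of `Ω` has order two -/
theorem card_center_of_mem (h2 : (2 : F) ≠ 0) (Q : QuadraticForm F (ι → F))
    (hQ : (QuadraticMap.polarBilin Q).Nondegenerate) (hn : 4 ≤ Fintype.card ι)
    (h : ∃ g : ↥(Cfsg.isometryGroup F ⇑Q), g ∈ Cfsg.Omega F ⇑Q ∧
      ((g : Matrix.GeneralLinearGroup ι F) : Matrix ι ι F) = -1) :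
    Nat.card ↥(Subgroup.center ↥(Cfsg.Omega F ⇑Q)) = 2 := by
  obtain ⟨g, hgΩ, hg⟩ := h
  have hgc : (⟨g, hgΩ⟩ : ↥(Cfsg.Omega F ⇑Q)) ∈ Subgroup.center ↥(Cfsg.Omega F ⇑Q) := by
    rw [Subgroup.mem_center_iff]
    rintro ⟨t, ht⟩
    apply Subtype.ext
    apply iso_ext'
    show ((t * g : ↥(Cfsg.isometryGroup F ⇑Q)) : Matrix.GeneralLinearGroup ι F).1 =
      ((g * t : ↥(Cfsg.isometryGroup F ⇑Q)) : Matrix.GeneralLinearGroup ι F).1
    rw [iso_mul_coe, iso_mul_coe, hg, mul_neg, mul_one, neg_mul, one_mul]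
  rw [Nat.card_eq_two_iff]
  refine ⟨1, ⟨⟨g, hgΩ⟩, hgc⟩, ?_, ?_⟩
  · intro h1
    have h3 : (1 : ↥(Cfsg.isometryGroup F ⇑Q)) = g := by
      have h4 := congrArg (fun x : ↥(Subgroup.center ↥(Cfsg.Omega F ⇑Q)) =>
        ((x : ↥(Cfsg.Omega F ⇑Q)) : ↥(Cfsg.isometryGroup F ⇑Q))) h1
      exact h4
    have h5 : (1 : Matrix ι ι F) = -1 := by
      rw [← hg, ← h3]; rfl
    have hne : Nonempty ι := by
      rw [← Fintype.card_pos_iff]; omega
    obtain ⟨i⟩ := hne
    have h6 := congrFun (congrFun h5 i) i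
    rw [Matrix.neg_apply, Matrix.one_apply_eq] at h6
    apply h2
    linear_combination h6
  · rw [Set.eq_univ_iff_forall]
    rintro ⟨⟨z, hzΩ⟩, hz⟩
    rcases central_pm h2 Q hQ hn z (comm_of_center Q ⟨z, hzΩ⟩ hz) with h1 | h1
    · left
      apply Subtype.ext
      apply Subtype.ext
      apply iso_ext'
      rw [h1]; rfl
    · right
      rw [Set.mem_singleton_iff]
      apply Subtype.ext
      apply Subtype.ext
      apply iso_ext'
      show ((z : Matrix.GeneralLinearGroup ι F) : Matrix ι ι F) = _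
      rw [h1, hg]

end Cfsg.Agent.Lib.Lead.OC3
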