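import Mathlib
import Cfsg.Agent.Lib.Helper19.S5954.Defs
import Cfsg.Agent.S0755

set_option autoImplicit false
set_option linter.unusedVariables false
set_option linter.unusedSectionVars false

/-!
# Project S5954 (designer helper19), row UTRANSPORT (written by lead)
Transport of an abstract hermitian context to the standard space along an orthonormal basis (`Cfsg.Agent.S0755.result`).
-/

namespace Cfsg.Agent.Lib.Helper19.S5954

open Polynomial Module Cfsg.Agent.Lib.Helper13.S5955 Cfsg.Agent.Lib.helper14.JTa Cfsg.Agent.Lib.Helper11.S5956U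

variable {F : Type*} [Field F] {V : Type*} [AddCommGroup V] [Module F V]

theorem s5954utransport_stdH (k : ℕ) (σ : F →+* F) (u v : Fin k → F) :
    stdH k σ u v = ∑ i, v i * σ (u i) := by
  simp only [stdH, Cfsg.Agent.Lib.helper6.HF.hB, LinearMap.mk₂'ₛₗ_apply]

theorem h_transport [Finite F] {r : ℕ} {σ : F →+* F} {V' : Type*} [AddCommGroup V'] [Module F V']
    [FiniteDimensional F V'] (B' : V' →ₛₗ[σ] V' →ₗ[F] F) (y' : Module.End F V') (h : HCtx r σ B' y')
    (k : ℕ) (hk : finrank F V' = k) :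
    ∃ y : Module.End F (Fin k → F), HCtx r σ (stdH k σ) y ∧ ∀ j, dk (y - 1) j = dk (y' - 1) j := by
  classical
  subst hk
  have hσne : σ ≠ RingHom.id F := by
    obtain ⟨a, ha⟩ := h.ne
    intro hid
    apply ha
    rw [hid]
    rfl
  have hS : B'.IsSymm := ⟨h.symm⟩
  have hND : B'.Nondegenerate :=
    ⟨h.nd, fun v hv => h.nd v (fun u => by rw [← h.symm, hv u, map_zero])⟩
  obtain ⟨b, hb⟩ := Cfsg.Agent.S0755.result σ hσne h.inv B' hS hND
  obtain ⟨φ, hφ⟩ : ∃ φ : V' ≃ₗ[F] (Fin (finrank F V') → F), φ = b.equivFun := ⟨_, rfl⟩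
  have hform : ∀ u v, stdH _ σ (φ u) (φ v) = B' u v := by
    intro u v
    rw [s5954utransport_stdH]
    conv_rhs => rw [← b.sum_equivFun u, ← b.sum_equivFun v]
    simp only [map_sum, LinearMap.sum_apply, LinearMap.map_smulₛₗ, LinearMap.smul_apply, map_smul, hb,
      smul_eq_mul, mul_ite, mul_one, mul_zero, Finset.sum_ite_eq, Finset.mem_univ, if_true, hφ]
    refine Finset.sum_congr rfl (fun i _ => ?_)
    rw [Finset.sum_ite_eq' Finset.univ i (fun x => σ (b.equivFun u x))]
    simp
  have hy : ∀ u, (φ.conjAlgEquiv F y') (φ u) = φ (y' u) := by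
    intro u
    rw [LinearEquiv.conjAlgEquiv_apply]
    simp
  refine ⟨φ.conjAlgEquiv F y', ⟨h.inv, h.ne, ?_, ?_, ?_, ?_⟩, fun j => ?_⟩
  · intro u v
    obtain ⟨u', rfl⟩ := φ.surjective u
    obtain ⟨v', rfl⟩ := φ.surjective v
    rw [hform, hform, h.symm]
  · intro u hu
    obtain ⟨u', rfl⟩ := φ.surjective u
    have : u' = 0 := h.nd u' (fun v' => by rw [← hform]; exact hu (φ v'))
    rw [this, map_zero]
  · intro u v
    obtain ⟨u', rfl⟩ := φ.surjective u
    obtain ⟨v', rfl⟩ := φ.surjective v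
    rw [hy, hy, hform, hform, h.pres]
  · rw [← map_pow, h.pow, map_one]
  · have : φ.conjAlgEquiv F y' - 1 = φ.conjAlgEquiv F (y' - 1) := by
      rw [map_sub, map_one]
    rw [this, dk_conj]

end Cfsg.Agent.Lib.Helper19.S5954
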