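import Cfsg.Agent.S1571
import Cfsg.Agent.Lib.helper3.Golay
import Cfsg.Agent.Lib.helper4.GolayOrth
import Cfsg.Agent.Lib.helper4.LeechSign

/-!
# Generators of the Leech lattice and a membership test

* `isLeechB x = true → x ∈ leechLattice` for a computable test `isLeechB`;
* the lattice is generated by the 71 vectors of `Gam`:
  `4e_∞ ± 4e_i`, `2·1_c` for the generating words `c` of the code, and `(-3, 1^23)`.
-/

set_option autoImplicit false
open Cfsg

namespace Cfsg.Agent.Lib.Lead.CW

open Cfsg.Agent.Lib.helper3 Cfsg.Agent.Lib.helper4 Cfsg.Agent.S1571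

/-- ambient space -/
abbrev V := GolayPt → ℤ

/-! ### membership test -/

/-- index of the codeword that should be the residue class `k` of `x` -/
def wit (x : V) (k : ℤ) : ℕ :=
  ∑ p : GolayPt, if gidx p < 12 ∧ x p % 4 = k then 2 ^ gidx p else 0

/-- the residue class `k` of `x` is the codeword of index `wit x k` -/
def chk (x : V) (k : ℤ) : Bool :=
  decide (∀ p : GolayPt, gword (golayMask (wit x k)) p = if x p % 4 = k then 1 else 0)

/-- a computable sufficient test for membership of the lattice -/
def isLeechB (x : V) : Bool :=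
  decide (∀ p, x p % 2 = x none % 2) && decide ((∑ p, x p) % 8 = (4 * (x none % 2)) % 8)
    && chk x 0 && chk x 1 && chk x 2 && chk x 3

theorem isLeechB_sound (x : V) (h : isLeechB x = true) : x ∈ leechLattice := by
  simp only [isLeechB, Bool.and_eq_true, decide_eq_true_eq, chk] at h
  obtain ⟨⟨⟨⟨⟨h1, h2⟩, c0⟩, c1⟩, c2⟩, c3⟩ := h
  rw [mem_leechLattice_iff, mem_leechSet_iff]
  refine ⟨x none % 2, fun i => ?_, h2, fun k => ?_⟩
  · show x i % 2 = (x none % 2) % 2
    rw [h1 i]
    omega
  · have hk : k % 4 = 0 ∨ k % 4 = 1 ∨ k % 4 = 2 ∨ k % 4 = 3 := by omega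
    have key : ∀ r : ℤ, k % 4 = r →
        (∀ p, gword (golayMask (wit x r)) p = if x p % 4 = r then 1 else 0) →
        ind4 x k ∈ golayCode := by
      intro r hr hc
      have : ind4 x k = gword (golayMask (wit x r)) := by
        funext p
        rw [hc p]
        show (if x p ≡ k [ZMOD 4] then (1 : ZMod 2) else 0) = _
        have hiff : (x p ≡ k [ZMOD 4]) ↔ x p % 4 = r := by
          unfold Int.ModEq
          rw [hr]
        by_cases hp : x p % 4 = r
        · rw [if_pos (hiff.2 hp), if_pos hp]
        · rw [if_neg (fun h => hp (hiff.1 h)), if_neg hp]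
      rw [this]
      exact golayMask_mem _
    rcases hk with hk | hk | hk | hk
    · exact key 0 hk c0
    · exact key 1 hk c1
    · exact key 2 hk c2
    · exact key 3 hk c3

/-! ### generators -/

/-- the vector `4e_∞ + s e_i` -/
def e4 (i : GolayPt) (s : ℤ) : V := fun p => (if p = none then 4 else 0) + (if p = i then s else 0)

/-- the generating set -/
def Gam : Set V :=
  {v | ∃ i : GolayPt, i ≠ none ∧ (v = e4 i 4 ∨ v = e4 i (-4))} ∪
    {v | ∃ t : ZMod 23, v = twoInd (qrWord t)} ∪ {twoInd 1} ∪ {x0}

theorem e4_mem (i : GolayPt) (hi : i ≠ none) (s : ℤ) (hs : s = 4 ∨ s = -4) :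
    e4 i s ∈ AddSubgroup.closure Gam := by
  apply AddSubgroup.subset_closure
  left; left; left
  rcases hs with rfl | rfl
  · exact ⟨i, hi, Or.inl rfl⟩
  · exact ⟨i, hi, Or.inr rfl⟩

theorem single8_mem (i : GolayPt) : (Pi.single i (8 : ℤ) : V) ∈ AddSubgroup.closure Gam := by
  by_cases hi : i = none
  · subst hi
    have h1 := e4_mem (some 0) (by simp) 4 (Or.inl rfl)
    have h2 := e4_mem (some 0) (by simp) (-4) (Or.inr rfl)
    have : (Pi.single none (8 : ℤ) : V) = e4 (some 0) 4 + e4 (some 0) (-4) := by
      funext p
      by_cases hp : p = none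
      · subst hp
        simp [e4]
      · rw [Pi.single_eq_of_ne hp]
        simp only [e4, Pi.add_apply, if_neg hp]
        split_ifs <;> norm_num
    rw [this]
    exact AddSubgroup.add_mem _ h1 h2
  · have h1 := e4_mem i hi 4 (Or.inl rfl)
    have h2 := e4_mem i hi (-4) (Or.inr rfl)
    have : (Pi.single i (8 : ℤ) : V) = e4 i 4 - e4 i (-4) := by
      funext p
      by_cases hp : p = i
      · subst hp
        simp [e4]
      · rw [Pi.single_eq_of_ne hp]
        simp only [e4, Pi.sub_apply, if_neg hp]
        ring
    rw [this]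
    exact AddSubgroup.sub_mem _ h1 h2

/-- the vector `4e_i - 4e_∞` (zero for `i = ∞`) -/
def uvec (i : GolayPt) : V := fun p =>
  if i = none then 0 else (if p = i then 4 else 0) - (if p = none then 4 else 0)

theorem uvec_mem (i : GolayPt) : uvec i ∈ AddSubgroup.closure Gam := by
  by_cases hi : i = none
  · have : uvec i = 0 := by
      funext p
      simp [uvec, hi]
    rw [this]
    exact AddSubgroup.zero_mem _
  · have h1 := e4_mem i hi 4 (Or.inl rfl)
    have h2 := single8_mem none
    have : uvec i = e4 i 4 - (Pi.single none (8 : ℤ) : V) := by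
      funext p
      simp only [uvec, if_neg hi, e4, Pi.sub_apply]
      by_cases hp : p = none
      · subst hp
        rw [Pi.single_eq_same, if_neg (Ne.symm hi)]
        norm_num
      · rw [Pi.single_eq_of_ne hp, if_neg hp]
        ring
    rw [this]
    exact AddSubgroup.sub_mem _ h1 h2

/-- vectors divisible by 4 with coordinate sum divisible by 8 -/
theorem D_mem (x : V) (h4 : ∀ p, (4 : ℤ) ∣ x p) (h8 : (8 : ℤ) ∣ ∑ p, x p) :
    x ∈ AddSubgroup.closure Gam := by
  obtain ⟨k, hk⟩ := h8
  have hx : x = ∑ i, (x i / 4) • uvec i + k • (Pi.single none (8 : ℤ) : V) := by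
    funext p
    rw [Pi.add_apply, Finset.sum_apply, Pi.smul_apply, smul_eq_mul]
    cases p with
    | none =>
      rw [Pi.single_eq_same]
      have h1 : ∀ i : GolayPt, ((x i / 4) • uvec i) none = (if i = none then x none else 0) - x i := by
        intro i
        rw [Pi.smul_apply, smul_eq_mul]
        obtain ⟨c, hc⟩ := h4 i
        by_cases hi : i = none
        · subst hi
          simp [uvec]
        · simp only [uvec, if_neg hi, if_neg (Ne.symm hi), if_true]
          rw [hc]
          have : 4 * c / 4 = c := by omega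
          rw [this]
          ring
      rw [Finset.sum_congr rfl (fun i _ => h1 i), Finset.sum_sub_distrib,
        Finset.sum_ite_eq' Finset.univ none, if_pos (Finset.mem_univ _), hk]
      ring
    | some s =>
      rw [Pi.single_eq_of_ne (by simp), mul_zero, add_zero]
      rw [Finset.sum_eq_single (some s)]
      · rw [Pi.smul_apply, smul_eq_mul]
        obtain ⟨c, hc⟩ := h4 (some s)
        simp only [uvec, if_neg (show (some s : GolayPt) ≠ none by simp), if_true]
        rw [hc]
        have : 4 * c / 4 = c := by omega
        rw [this]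
        ring
      · intro i _ hi
        rw [Pi.smul_apply, smul_eq_mul]
        by_cases hi' : i = none
        · simp [uvec, hi']
        · simp only [uvec, if_neg hi', if_neg (Ne.symm hi),
            if_neg (show (some s : GolayPt) ≠ none by simp)]
          ring
      · intro h
        exact absurd (Finset.mem_univ _) h
  rw [hx]
  apply AddSubgroup.add_mem
  · apply AddSubgroup.sum_mem
    intro i _
    exact AddSubgroup.zsmul_mem _ (uvec_mem i) _
  · exact AddSubgroup.zsmul_mem _ (single8_mem none) _

theorem twoInd_add (c c' : GolayPt → ZMod 2) :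
    twoInd (c + c') = twoInd c + twoInd c'
      - (fun p => if c p ≠ 0 ∧ c' p ≠ 0 then (4 : ℤ) else 0) := by
  funext p
  simp only [twoInd, Pi.add_apply, Pi.sub_apply]
  have h11 : (1 : ZMod 2) + 1 = 0 := by decide
  rcases zmod2_cases_l (c p) with h | h <;> rcases zmod2_cases_l (c' p) with h' | h' <;>
    simp [h, h', h11]

theorem twoInd_mem_closure (c : GolayPt → ZMod 2) (hc : c ∈ golayCode) :
    twoInd c ∈ AddSubgroup.closure Gam := by
  induction hc using Submodule.span_induction with
  | mem x hx =>
    apply AddSubgroup.subset_closure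
    rcases hx with ⟨t, rfl⟩ | hx
    · left; left; right
      exact ⟨t, rfl⟩
    · rw [Set.mem_singleton_iff] at hx
      subst hx
      left; right
      rfl
  | zero =>
    have : twoInd 0 = 0 := by
      funext p
      simp [twoInd]
    rw [this]
    exact AddSubgroup.zero_mem _
  | add x y hx hy ihx ihy =>
    rw [twoInd_add]
    apply AddSubgroup.sub_mem _ (AddSubgroup.add_mem _ ihx ihy)
    apply D_mem
    · intro p
      split_ifs
      · exact dvd_refl _
      · exact dvd_zero _
    · have h1 : ∑ p, (if x p ≠ 0 ∧ y p ≠ 0 then (4 : ℤ) else 0) = 4 * ((both x y : ℕ) : ℤ) := by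
        rw [both_cast, Finset.mul_sum]
        apply Finset.sum_congr rfl
        intro p _
        split_ifs <;> norm_num
      obtain ⟨d, hd⟩ := even_both_of_dot2 (golay_dot2 hx hy)
      rw [h1, hd]
      push_cast
      exact ⟨d, by ring⟩
  | smul a x hx ihx =>
    rcases zmod2_cases_l a with ha | ha
    · subst ha
      rw [zero_smul]
      have : twoInd 0 = 0 := by
        funext p
        simp [twoInd]
      rw [this]
      exact AddSubgroup.zero_mem _
    · subst ha
      rw [one_smul]
      exact ihx

theorem even_mem_closure (x : V) (hx : x ∈ leechLattice) (hev : ∀ p, x p % 2 = 0) :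
    x ∈ AddSubgroup.closure Gam := by
  rw [mem_leechLattice_iff, mem_leechSet_iff] at hx
  obtain ⟨m, h1, h2, h3⟩ := hx
  have hc := h3 2
  have hm : m % 2 = 0 := by
    have := h1 none
    unfold Int.ModEq at this
    have h0 := hev none
    omega
  have hdec : x = twoInd (ind4 x 2) + (x - twoInd (ind4 x 2)) := by abel
  rw [hdec]
  apply AddSubgroup.add_mem _ (twoInd_mem_closure _ hc)
  apply D_mem
  · intro p
    rw [Pi.sub_apply]
    have h0 := hev p
    by_cases hp : x p ≡ 2 [ZMOD 4]
    · have : ind4 x 2 p = 1 := if_pos hp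
      rw [twoInd_one this]
      unfold Int.ModEq at hp
      omega
    · have : ind4 x 2 p = 0 := if_neg hp
      rw [twoInd_zero this]
      unfold Int.ModEq at hp
      omega
  · have hs : ∑ p, (x - twoInd (ind4 x 2)) p
        = ∑ p, x p - 2 * ((hammingNorm (ind4 x 2) : ℕ) : ℤ) := by
      rw [hammingNorm_cast, Finset.mul_sum, ← Finset.sum_sub_distrib]
      apply Finset.sum_congr rfl
      intro p _
      rw [Pi.sub_apply]
      unfold twoInd
      split_ifs <;> ring
    obtain ⟨d, hd⟩ := golay_four_dvd hc
    rw [hs, hd]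
    push_cast
    unfold Int.ModEq at h2
    have : (8 : ℤ) ∣ ∑ p, x p := by
      have h4m : (4 * m) % 8 = 0 := by omega
      rw [h4m] at h2
      exact Int.dvd_of_emod_eq_zero h2
    obtain ⟨e, he⟩ := this
    exact ⟨e - d, by rw [he]; ring⟩

/-- The lattice is generated by `Gam`. -/
theorem leech_le_closure : leechLattice ≤ AddSubgroup.closure Gam := by
  intro x hx
  by_cases hev : x none % 2 = 0
  · apply even_mem_closure x hx
    intro p
    have hx' := hx
    rw [mem_leechLattice_iff, mem_leechSet_iff] at hx'
    obtain ⟨m, h1, -, -⟩ := hx'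
    have a := h1 p
    have b := h1 none
    unfold Int.ModEq at a b
    omega
  · have hsub : x - x0 ∈ leechLattice := leechLattice.sub_mem hx x0_mem
    have h0 : x0 ∈ AddSubgroup.closure Gam := AddSubgroup.subset_closure (Or.inr rfl)
    have hdec : x = (x - x0) + x0 := by abel
    rw [hdec]
    apply AddSubgroup.add_mem _ _ h0
    apply even_mem_closure _ hsub
    intro p
    rw [mem_leechLattice_iff, mem_leechSet_iff] at hx
    obtain ⟨m, h1, -, -⟩ := hx
    have a := h1 p
    have b := h1 none
    unfold Int.ModEq at a b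
    rw [Pi.sub_apply]
    rcases x0_cases p with h | h <;> rw [h] <;> omega

/-- induction over the lattice from the generators -/
theorem leech_induction (P : V → Prop) (h0 : P 0) (hadd : ∀ x y, P x → P y → P (x + y))
    (hneg : ∀ x, P x → P (-x)) (hgen : ∀ γ ∈ Gam, P γ) : ∀ x ∈ leechLattice, P x := by
  intro x hx
  have := leech_le_closure hx
  clear hx
  induction this using AddSubgroup.closure_induction with
  | mem y hy => exact hgen y hy
  | zero => exact h0
  | add y z _ _ hy hz => exact hadd y z hy hz
  | neg y _ hy => exact hneg y hy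

end Cfsg.Agent.Lib.Lead.CW
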