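import Cfsg.Agent.Lib.Lead.ConwayTrans

/-!
# Transitivity on vectors of sum of squares 32 and 48
-/

set_option autoImplicit false
open Cfsg

namespace Cfsg.Agent.Lib.Lead.CW

open Cfsg.Agent.Lib.helper3 Cfsg.Agent.Lib.helper4 Cfsg.Agent.S1571 Cfsg.Agent.S0398

theorem natAbs_ne_of_cnt_zero (x : V) (u : ℕ) (h : cnt x u = 0) (q : GolayPt) :
    (x q).natAbs ≠ u := by
  intro hq
  have := cnt_pos_of x q u hq
  omega

theorem eq_of_cnt_one (x : V) (u : ℕ) (h : cnt x u = 1) (i q : GolayPt) (hi : (x i).natAbs = u)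
    (hq : (x q).natAbs = u) : q = i := by
  unfold cnt at h
  have h1 := Finset.card_le_one.1 (le_of_eq h) q (Finset.mem_filter.2 ⟨Finset.mem_univ _, hq⟩) i
    (Finset.mem_filter.2 ⟨Finset.mem_univ _, hi⟩)
  exact h1

theorem pt00 : pt 0 0 = none := by decide +kernel

theorem pt01 : pt 0 1 = some 0 := by decide +kernel

/-! ### sum of squares 32 -/

/-- the vector `4e_∞ + 4e_0` -/
def v32 : ↥leechLattice := ⟨e4 (some 0) 4, e4_mem_leech (some 0) (by simp) 4 (Or.inl rfl)⟩

theorem three_sq_le (x : V) (a b q : GolayPt) (hab : a ≠ b) (hqa : q ≠ a) (hqb : q ≠ b) :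
    x a ^ 2 + x b ^ 2 + x q ^ 2 ≤ sqNorm x := by
  unfold sqNorm
  have := Finset.sum_le_sum_of_subset_of_nonneg (Finset.subset_univ {a, b, q})
    (f := fun i => x i ^ 2) (fun i _ _ => sq_nonneg _)
  rw [Finset.sum_insert (by simp [hab, Ne.symm hqa]), Finset.sum_pair (Ne.symm hqb)] at this
  linarith

theorem M4 (v : ↥leechLattice) (hN : sqNorm v.1 = 32) (h : 1 ≤ cnt v.1 4) : Rel v v32 := by
  have hev := even_of_cnt v 4 (by norm_num) h
  obtain ⟨z1, z3, z5, z7⟩ := even_facts v.1 hev
  have ht := cnt_total v.1 (by omega)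
  have hn := norm_nat v.1 32 (by exact_mod_cast hN) (by norm_num)
  have hw := weight_cases v.1 v.2 (by omega)
  obtain ⟨a, ha⟩ := exists_emb v.1 ![4, 4, 0, 0] (by
    have hm : mult ![4, 4, 0, 0] 0 = 2 ∧ mult ![4, 4, 0, 0] 1 = 2 ∧ mult ![4, 4, 0, 0] 2 = 2 ∧
      mult ![4, 4, 0, 0] 3 = 2 := by decide
    obtain ⟨e0, e1, e2, e3⟩ := hm
    intro j
    fin_cases j
    · exact (le_of_eq e0).trans (by show 2 ≤ cnt v.1 4; omega)
    · exact (le_of_eq e1).trans (by show 2 ≤ cnt v.1 4; omega)
    · exact (le_of_eq e2).trans (by show 2 ≤ cnt v.1 0; omega)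
    · exact (le_of_eq e3).trans (by show 2 ≤ cnt v.1 0; omega))
  have ha0 : (v.1 (a 0)).natAbs = 4 := ha 0
  have ha1 : (v.1 (a 1)).natAbs = 4 := ha 1
  have h01 : a 0 ≠ a 1 := fun h => absurd (a.injective h) (by decide)
  have hzero : ∀ q, q ≠ a 0 → q ≠ a 1 → v.1 q = 0 := by
    intro q h0 h1
    have h3 := three_sq_le v.1 (a 0) (a 1) q h01 h0 h1
    have e0 : v.1 (a 0) ^ 2 = 16 := by
      have : v.1 (a 0) = 4 ∨ v.1 (a 0) = -4 := by omega
      rcases this with h' | h' <;> rw [h'] <;> norm_num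
    have e1 : v.1 (a 1) ^ 2 = 16 := by
      have : v.1 (a 1) = 4 ∨ v.1 (a 1) = -4 := by omega
      rcases this with h' | h' <;> rw [h'] <;> norm_num
    rw [hN, e0, e1] at h3
    have h4 : v.1 q ^ 2 ≤ 0 := by linarith
    exact pow_eq_zero_iff (by norm_num) |>.1 (le_antisymm h4 (sq_nonneg _))
  obtain ⟨π, hπ, hπa⟩ := exists_perm4 a
  obtain ⟨c, hc, hcS⟩ := exists_sign (fun j => decide (v.1 (a j) < 0))
  refine ⟨⟨flipE c hc * permE π hπ, Co0.mul_mem (flipE_mem c hc) (permE_mem π hπ)⟩, ?_⟩
  apply Subtype.ext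
  funext p
  show (if c p ≠ 0 then -(v.1 (π p)) else v.1 (π p)) = e4 (some 0) 4 p
  by_cases hp0 : p = none
  · subst hp0
    have hr : e4 (some 0) 4 none = 4 := by simp [e4]
    have hπ0 : π none = a 0 := by rw [← pt00]; exact hπa 0
    rw [hr, hπ0]
    by_cases hneg : v.1 (a 0) < 0
    · have : c none ≠ 0 := by
        rw [← pt00]
        exact (hcS 0).2 (by simpa using hneg)
      rw [if_pos this]
      omega
    · have : ¬ c none ≠ 0 := by
        rw [← pt00]
        intro h'
        have := (hcS 0).1 h'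
        simp only [decide_eq_true_eq] at this
        exact hneg this
      rw [if_neg this]
      omega
  · by_cases hp1 : p = some 0
    · subst hp1
      have hr : e4 (some 0) 4 (some 0) = 4 := by simp [e4]
      have hπ1 : π (some 0) = a 1 := by rw [← pt01]; exact hπa 1
      rw [hr, hπ1]
      by_cases hneg : v.1 (a 1) < 0
      · have : c (some 0) ≠ 0 := by
          rw [← pt01]
          exact (hcS 1).2 (by simpa using hneg)
        rw [if_pos this]
        omega
      · have : ¬ c (some 0) ≠ 0 := by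
          rw [← pt01]
          intro h'
          have := (hcS 1).1 h'
          simp only [decide_eq_true_eq] at this
          exact hneg this
        rw [if_neg this]
        omega
    · have hr : e4 (some 0) 4 p = 0 := by simp [e4, hp0, hp1]
      have h0 : π p ≠ a 0 := by
        intro h'
        apply hp0
        apply π.injective
        rw [h', ← pt00, hπa 0]
      have h1 : π p ≠ a 1 := by
        intro h'
        apply hp1
        apply π.injective
        rw [h', ← pt01, hπa 1]
      rw [hr, hzero (π p) h0 h1]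
      simp

theorem Meven (v : ↥leechLattice) (hN : sqNorm v.1 = 32) (hev : ∀ p, v.1 p % 2 = 0) :
    Rel v v32 := by
  obtain ⟨z1, z3, z5, z7⟩ := even_facts v.1 hev
  have ht := cnt_total v.1 (by omega)
  have hn := norm_nat v.1 32 (by exact_mod_cast hN) (by norm_num)
  have hw := weight_cases v.1 v.2 (by omega)
  by_cases h4 : 1 ≤ cnt v.1 4
  · exact M4 v hN h4
  · obtain ⟨g, g0, g1, g2, g3⟩ := step4 v 2 2 2 2 4 4 4 4 (by decide) (by omega) (by omega)
      (by omega) (by omega) 1 1 1 (-1) (by norm_num)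
    apply Rel.of_step g
    apply M4 _ (by rw [norm_step, hN])
    apply cnt_pos_of _ (pt 0 3) 4
    rw [g3]
    norm_num

/-- every lattice vector of sum of squares 32 is equivalent to `4e_∞ + 4e_0` -/
theorem trans32 (v : ↥leechLattice) (hN : sqNorm v.1 = 32) : Rel v v32 := by
  rcases parity_cases v.1 v.2 with hev | hod
  · exact Meven v hN hev
  · obtain ⟨z0, z2, z4, z6, z8⟩ := odd_facts v.1 hod
    have ht := cnt_total v.1 (by omega)
    have hn := norm_nat v.1 32 (by exact_mod_cast hN) (by norm_num)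
    obtain ⟨g, g0, g1, g2, g3⟩ := step4 v 3 1 1 1 1 3 3 3 (by decide) (by omega) (by omega)
      (by omega) (by omega) 1 1 1 1 (by norm_num)
    apply Rel.of_step g
    apply Meven _ (by rw [norm_step, hN])
    apply even_of_cnt _ 0 (by norm_num)
    apply cnt_pos_of _ (pt 0 0) 0
    rw [g0]
    norm_num

/-! ### sum of squares 48 -/

/-- the vector `(5, 1^23)` -/
def u48v : V := fun p => if p = none then 5 else 1

theorem u48v_mem : u48v ∈ leechLattice := by
  rw [mem_leechLattice_iff]
  apply Spor.mem_leechSet_of_const_mod_four u48v 1 1 (Int.ModEq.refl _)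
  · intro i
    unfold u48v
    split_ifs <;> decide
  · have : ∑ i, u48v i = 28 := by
      unfold u48v
      decide +kernel
    rw [this]
    decide

/-- the vector `(5, 1^23)` of the lattice -/
def u48 : ↥leechLattice := ⟨u48v, u48v_mem⟩

theorem K5 (v : ↥leechLattice) (hN : sqNorm v.1 = 48) (h : 1 ≤ cnt v.1 5) : Rel v u48 := by
  have hod := odd_of_cnt v 5 (by norm_num) h
  obtain ⟨z0, z2, z4, z6, z8⟩ := odd_facts v.1 hod
  have ht := cnt_total v.1 (by omega)
  have hn := norm_nat v.1 48 (by exact_mod_cast hN) (by norm_num)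
  have c5 : cnt v.1 5 = 1 := by omega
  have c3 : cnt v.1 3 = 0 := by omega
  have c7 : cnt v.1 7 = 0 := by omega
  obtain ⟨i, hi⟩ : ∃ i, (v.1 i).natAbs = 5 := by
    unfold cnt at h
    obtain ⟨i, hi⟩ := Finset.card_pos.1 h
    exact ⟨i, (Finset.mem_filter.1 hi).2⟩
  have hone : ∀ q, q ≠ i → (v.1 q).natAbs = 1 := by
    intro q hq
    have h5 : (v.1 q).natAbs ≠ 5 := fun h' => hq (eq_of_cnt_one v.1 5 c5 i q hi h')
    have h3 := natAbs_ne_of_cnt_zero v.1 3 c3 q
    have h7 := natAbs_ne_of_cnt_zero v.1 7 c7 q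
    have hb := natAbs_lt_nine v.1 (by omega) q
    have := hod q
    omega
  have hmem := v.2
  rw [mem_leechLattice_iff, mem_leechSet_iff] at hmem
  obtain ⟨m, -, -, h3⟩ := hmem
  have hc := h3 3
  have := M24_pretransitive
  obtain ⟨π, hπ⟩ := MulAction.exists_smul_eq (M := ↥M24) (none : GolayPt) i
  have hπ' : π.1 none = i := hπ
  refine ⟨⟨permE π.1 π.2 * flipE (ind4 v.1 3) hc,
    Co0.mul_mem (permE_mem π.1 π.2) (flipE_mem _ hc)⟩, ?_⟩
  apply Subtype.ext
  funext p
  show (if ind4 v.1 3 (π.1 p) ≠ 0 then -(v.1 (π.1 p)) else v.1 (π.1 p)) = u48v p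
  have hval : ∀ q, (if ind4 v.1 3 q ≠ 0 then -(v.1 q) else v.1 q) = (v.1 q).natAbs := by
    intro q
    have hq := hod q
    have hb := natAbs_lt_nine v.1 (by omega) q
    by_cases h3' : v.1 q ≡ 3 [ZMOD 4]
    · have : ind4 v.1 3 q = 1 := if_pos h3'
      rw [this, if_pos (by decide)]
      unfold Int.ModEq at h3'
      have h1 : (v.1 q).natAbs = 1 ∨ (v.1 q).natAbs = 5 := by
        by_cases hqi : q = i
        · right; rw [hqi]; exact hi
        · left; exact hone q hqi
      omega
    · have : ind4 v.1 3 q = 0 := if_neg h3'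
      rw [this, if_neg (by simp)]
      unfold Int.ModEq at h3'
      have h1 : (v.1 q).natAbs = 1 ∨ (v.1 q).natAbs = 5 := by
        by_cases hqi : q = i
        · right; rw [hqi]; exact hi
        · left; exact hone q hqi
      omega
  rw [hval]
  unfold u48v
  by_cases hp : p = none
  · subst hp
    rw [hπ', hi, if_pos rfl]
    rfl
  · have : π.1 p ≠ i := by
      intro h'
      apply hp
      apply π.1.injective
      rw [h', hπ']
    rw [hone _ this, if_neg hp]
    rfl

theorem K4 (v : ↥leechLattice) (hN : sqNorm v.1 = 48) (h : 1 ≤ cnt v.1 4) : Rel v u48 := by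
  have hev := even_of_cnt v 4 (by norm_num) h
  obtain ⟨z1, z3, z5, z7⟩ := even_facts v.1 hev
  have ht := cnt_total v.1 (by omega)
  have hn := norm_nat v.1 48 (by exact_mod_cast hN) (by norm_num)
  have hw := weight_cases v.1 v.2 (by omega)
  have hpar : cnt v.1 2 = 0 → cnt v.1 6 = 0 → cnt v.1 4 % 2 = 0 := by
    intro c2 c6
    apply cnt_four_even v.1 v.2 (by omega)
    intro p
    have hb := natAbs_lt_nine v.1 (by omega) p
    have := hev p
    have h2 := natAbs_ne_of_cnt_zero v.1 2 c2 p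
    have h6 := natAbs_ne_of_cnt_zero v.1 6 c6 p
    omega
  have c2 : 3 ≤ cnt v.1 2 := by
    by_cases h2 : cnt v.1 2 = 0
    · by_cases h6 : cnt v.1 6 = 0
      · have := hpar h2 h6
        omega
      · omega
    · omega
  obtain ⟨g, g0, g1, g2, g3⟩ := step4 v 4 2 2 2 1 3 3 3 (by decide) (by omega) (by omega)
    (by omega) (by omega) 1 1 1 (-1) (by norm_num)
  apply Rel.of_step g
  apply K5 _ (by rw [norm_step, hN])
  apply cnt_pos_of _ (pt 0 3) 5
  rw [g3]
  norm_num

/-- every lattice vector of sum of squares 48 is equivalent to `(5, 1^23)` -/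
theorem trans48 (v : ↥leechLattice) (hN : sqNorm v.1 = 48) : Rel v u48 := by
  rcases parity_cases v.1 v.2 with hev | hod
  · obtain ⟨z1, z3, z5, z7⟩ := even_facts v.1 hev
    have ht := cnt_total v.1 (by omega)
    have hn := norm_nat v.1 48 (by exact_mod_cast hN) (by norm_num)
    have hw := weight_cases v.1 v.2 (by omega)
    by_cases h4 : 1 ≤ cnt v.1 4
    · exact K4 v hN h4
    · obtain ⟨g, g0, g1, g2, g3⟩ := step4 v 2 2 2 2 4 4 4 4 (by decide) (by omega) (by omega)
        (by omega) (by omega) 1 1 1 (-1) (by norm_num)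
      apply Rel.of_step g
      apply K4 _ (by rw [norm_step, hN])
      apply cnt_pos_of _ (pt 0 3) 4
      rw [g3]
      norm_num
  · obtain ⟨z0, z2, z4, z6, z8⟩ := odd_facts v.1 hod
    have ht := cnt_total v.1 (by omega)
    have hn := norm_nat v.1 48 (by exact_mod_cast hN) (by norm_num)
    by_cases h5 : 1 ≤ cnt v.1 5
    · exact K5 v hN h5
    · obtain ⟨g, g0, g1, g2, g3⟩ := step4 v 3 3 3 1 3 3 3 1 (by decide) (by omega) (by omega)
        (by omega) (by omega) 1 1 1 (-1) (by norm_num)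
      apply Rel.of_step g
      apply K5 _ (by rw [norm_step, hN])
      apply cnt_pos_of _ (pt 0 3) 5
      rw [g3]
      norm_num

end Cfsg.Agent.Lib.Lead.CW
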