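import Cfsg.Agent.Lib.Lead.ConwayPairs2

/-!
# Transitivity on pairs of minimal vectors with dot product `-16` and `-8`

* `hex_trans`: every ordered pair of minimal vectors with coordinate dot product `-16` is carried by
  an automorphism to `(4e_∞ + 4e_0, -4e_∞ + 4e_1)`;
* `oct_trans`: every ordered pair of minimal vectors with coordinate dot product `-8` is carried by
  an automorphism to `(4e_∞ + 4e_0, (-3, 1^23))`.
-/

set_option autoImplicit false
open Cfsg

namespace Cfsg.Agent.Lib.Lead.CP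

open Cfsg.Agent.Lib.Lead.LX Cfsg.Agent.Lib.Lead.CW Cfsg.Agent.Lib.Lead.CO
open Cfsg.Agent.Lib.helper3 Cfsg.Agent.Lib.helper4 Cfsg.Agent.S0398 Cfsg.Agent.S1571

/-- the vector `-4e_∞ + 4e_1` -/
def W0v : GolayPt → ℤ := fun p => (if p = none then -4 else 0) + (if p = some 1 then 4 else 0)

set_option maxRecDepth 100000 in
theorem W0v_chk : isLeechB W0v = true := by decide +kernel

/-- the vector `-4e_∞ + 4e_1` -/
def W0 : ↥leechLattice := ⟨W0v, isLeechB_sound _ W0v_chk⟩

/-- the vector `(-3, 1^23)` -/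
def W1 : ↥leechLattice := ⟨x0, x0_mem⟩

theorem exists_eps (a : ℤ) (n : ℤ) (h : a = n ∨ a = -n) (t : ℤ) (ht : t = n ∨ t = -n) :
    ∃ ε : ℤ, (ε = 1 ∨ ε = -1) ∧ ε * a = t := by
  rcases h with rfl | rfl <;> rcases ht with rfl | rfl
  · exact ⟨1, Or.inl rfl, by ring⟩
  · exact ⟨-1, Or.inr rfl, by ring⟩
  · exact ⟨-1, Or.inr rfl, by ring⟩
  · exact ⟨1, Or.inl rfl, by ring⟩

/-! ### dot product `-16` -/

theorem hexA (w : ↥leechLattice) (hN : sqNorm w.1 = 32) (h0 : w.1 none = -4)
    (h1 : w.1 (some 0) = 0) : RelF w W0 := by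
  obtain ⟨k, hk, hk4, hz⟩ := pair_shape w hN none (by rw [h0]; rfl)
  have hk1 : k ≠ some 0 := by
    rintro rfl
    rw [h1] at hk4
    simp at hk4
  obtain ⟨π, hπ, e0, e1, e2⟩ := exists_perm3 k hk hk1
  apply RelF.of_step ⟨permE π hπ, permE_mem π hπ⟩ (perm_fix π hπ e0 e1)
  obtain ⟨w', hw'⟩ : ∃ w' : ↥leechLattice, w' = (permE π hπ) w := ⟨_, rfl⟩
  have a0 : w'.1 none = -4 := by
    rw [hw']
    show w.1 (π none) = -4
    rw [e0, h0]
  have a1 : w'.1 (some 1) = w.1 k := by
    rw [hw']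
    show w.1 (π (some 1)) = _
    rw [e2]
  have az : ∀ p, p ≠ none → p ≠ some 1 → w'.1 p = 0 := by
    intro p hp hp'
    rw [hw']
    show w.1 (π p) = 0
    apply hz
    · intro h
      apply hp
      apply π.injective
      rw [h, e0]
    · intro h
      apply hp'
      apply π.injective
      rw [h, e2]
  show RelF ((permE π hπ) w) W0
  rw [← hw']
  have hk' : w.1 k = 4 ∨ w.1 k = -4 := by omega
  rcases hk' with h | h
  · have : w' = W0 := by
      apply Subtype.ext
      funext p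
      show w'.1 p = W0v p
      unfold W0v
      by_cases hp : p = none
      · subst hp
        rw [a0]
        simp
      · by_cases hp' : p = some 1
        · subst hp'
          rw [a1, h]
          simp
        · rw [az p hp hp', if_neg hp, if_neg hp']
          norm_num
    rw [this]
    exact RelF.refl _
  · obtain ⟨c, hc, hcS⟩ := exists_sign (fun i => decide (i = 2))
    have c0 : ¬ c none ≠ 0 := by
      intro h'
      have := (hcS 0).1 h'
      simp at this
    have c1 : ¬ c (some 0) ≠ 0 := by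
      intro h'
      have := (hcS 1).1 h'
      simp at this
    have c2 : c (some 1) ≠ 0 := by
      have := (hcS 2).2 (by simp)
      exact this
    apply RelF.of_step ⟨flipE c hc, flipE_mem c hc⟩ (flip_fix c hc c0 c1)
    have : (flipE c hc) w' = W0 := by
      apply Subtype.ext
      funext p
      show (if c p ≠ 0 then -(w'.1 p) else w'.1 p) = W0v p
      unfold W0v
      by_cases hp : p = none
      · subst hp
        rw [if_neg c0, a0]
        simp
      · by_cases hp' : p = some 1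
        · subst hp'
          rw [if_pos c2, a1, h]
          simp
        · rw [az p hp hp', if_neg hp, if_neg hp']
          simp
    show RelF ((flipE c hc) w') W0
    rw [this]
    exact RelF.refl _

/-- an even minimal vector with a coordinate `±2` has exactly eight of them -/
theorem cnt_two_eight (w : ↥leechLattice) (hN : sqNorm w.1 = 32) (i : GolayPt)
    (hi : (w.1 i).natAbs = 2) : cnt w.1 2 = 8 := by
  have h2 := cnt_pos_of w.1 i 2 hi
  have hev := even_of_cnt w 2 (by norm_num) h2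
  obtain ⟨z1, z3, z5, z7⟩ := even_facts w.1 hev
  have ht := cnt_total w.1 (by omega)
  have hn := norm_nat w.1 32 (by exact_mod_cast hN) (by norm_num)
  have hw := weight_cases w.1 w.2 (by omega)
  omega

theorem hexB (w : ↥leechLattice) (hN : sqNorm w.1 = 32) (h0 : w.1 none = -2)
    (h1 : w.1 (some 0) = -2) :
    ∃ h : ↥Co0, h.1 v32 = v32 ∧ (h.1 w).1 none = -4 ∧ (h.1 w).1 (some 0) = 0 := by
  have hc2 := cnt_two_eight w hN none (by rw [h0]; rfl)
  unfold cnt at hc2
  have m0 : none ∈ Finset.univ.filter (fun p => (w.1 p).natAbs = 2) :=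
    Finset.mem_filter.2 ⟨Finset.mem_univ _, by rw [h0]; rfl⟩
  have m1 : some 0 ∈ (Finset.univ.filter (fun p => (w.1 p).natAbs = 2)).erase none :=
    Finset.mem_erase.2 ⟨by simp, Finset.mem_filter.2 ⟨Finset.mem_univ _, by rw [h1]; rfl⟩⟩
  have hS' : 1 < (((Finset.univ.filter (fun p => (w.1 p).natAbs = 2)).erase none).erase
      (some 0)).card := by
    rw [Finset.card_erase_of_mem m1, Finset.card_erase_of_mem m0, hc2]
    norm_num
  obtain ⟨p, hp, q, hq, hpq⟩ := Finset.one_lt_card.1 hS'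
  rw [Finset.mem_erase, Finset.mem_erase, Finset.mem_filter] at hp hq
  obtain ⟨hp1, hp0, -, hpa⟩ := hp
  obtain ⟨hq1, hq0, -, hqa⟩ := hq
  obtain ⟨ε2, hε2, e2⟩ := exists_eps (w.1 p) 2 (by omega) 2 (Or.inl rfl)
  obtain ⟨ε3, hε3, e3⟩ := exists_eps (w.1 q) 2 (by omega) (-2) (Or.inr rfl)
  obtain ⟨h, r1, r2, hv, hx⟩ := move p q hp0 hp1 hq0 hq1 hpq ε2 ε3 hε2 hε3
  obtain ⟨f0, f1, -, -⟩ := hx w
  refine ⟨h, hv, ?_, ?_⟩
  · rw [f0, h0, h1, e2, e3]
    norm_num
  · rw [f1, h0, h1, e2, e3]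
    norm_num

/-- shape of an odd minimal vector -/
theorem odd_shape (w : ↥leechLattice) (hN : sqNorm w.1 = 32) (hod : ∀ p, w.1 p % 2 = 1) :
    cnt w.1 3 = 1 ∧ ∀ p, (w.1 p).natAbs = 1 ∨ (w.1 p).natAbs = 3 := by
  obtain ⟨z0, z2, z4, z6, z8⟩ := odd_facts w.1 hod
  have ht := cnt_total w.1 (by omega)
  have hn := norm_nat w.1 32 (by exact_mod_cast hN) (by norm_num)
  have c5 : cnt w.1 5 = 0 := by omega
  have c7 : cnt w.1 7 = 0 := by omega
  refine ⟨by omega, fun p => ?_⟩
  have hb := natAbs_lt_nine w.1 (by omega) p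
  have n5 := natAbs_ne_of_cnt_zero w.1 5 c5 p
  have n7 := natAbs_ne_of_cnt_zero w.1 7 c7 p
  have := hod p
  omega

theorem hexC (w : ↥leechLattice) (hN : sqNorm w.1 = 32) (hod : ∀ p, w.1 p % 2 = 1)
    (hs : w.1 none + w.1 (some 0) = -4) :
    ∃ h : ↥Co0, h.1 v32 = v32 ∧ (h.1 w).1 none = -2 ∧ (h.1 w).1 (some 0) = -2 := by
  obtain ⟨c3, hsh⟩ := odd_shape w hN hod
  have hA := hsh none
  have hB := hsh (some 0)
  have h3 : (w.1 none).natAbs = 3 ∨ (w.1 (some 0)).natAbs = 3 := by omega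
  have hone : ∀ r, r ≠ none → r ≠ some 0 → (w.1 r).natAbs = 1 := by
    intro r hr0 hr1
    rcases hsh r with h | h
    · exact h
    · exfalso
      rcases h3 with h' | h'
      · exact hr0 (eq_of_cnt_one w.1 3 c3 none r h' h)
      · exact hr1 (eq_of_cnt_one w.1 3 c3 (some 0) r h' h)
  have hp := hone (some 1) (by simp) (by decide)
  have hq := hone (some 2) (by simp) (by decide)
  obtain ⟨ε2, hε2, e2⟩ := exists_eps (w.1 (some 1)) 1 (by omega) 1 (Or.inl rfl)
  obtain ⟨ε3, hε3, e3⟩ := exists_eps (w.1 (some 2)) 1 (by omega) 1 (Or.inl rfl)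
  obtain ⟨h, r1, r2, hv, hx⟩ := move (some 1) (some 2) (by simp) (by decide) (by simp) (by decide)
    (by decide) ε2 ε3 hε2 hε3
  obtain ⟨f0, f1, -, -⟩ := hx w
  refine ⟨h, hv, ?_, ?_⟩
  · rw [f0, hs, e2, e3]
    norm_num
  · rw [f1, hs, e2, e3]
    norm_num

theorem hex_main (w : ↥leechLattice) (hN : sqNorm w.1 = 32)
    (hs : w.1 none + w.1 (some 0) = -4) : RelF w W0 := by
  rcases parity_cases w.1 w.2 with hev | hod
  · have hb := sq_le_norm w.1 none (some 0) (by simp)
    rw [hN] at hb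
    have e0 := hev none
    have e1 := hev (some 0)
    have hr : -5 ≤ w.1 none ∧ w.1 none ≤ 1 := by
      have : w.1 (some 0) = -4 - w.1 none := by omega
      rw [this] at hb
      constructor <;> nlinarith
    have hcases : (w.1 none = -4 ∧ w.1 (some 0) = 0) ∨ (w.1 none = 0 ∧ w.1 (some 0) = -4) ∨
        (w.1 none = -2 ∧ w.1 (some 0) = -2) := by omega
    rcases hcases with ⟨a, b⟩ | ⟨a, b⟩ | ⟨a, b⟩
    · exact hexA w hN a b
    · obtain ⟨g, hg, hx⟩ := swap_move
      apply RelF.of_step g hg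
      apply hexA _ (by rw [g.2.2]; exact hN)
      · rw [(hx w).1]; exact b
      · rw [(hx w).2]; exact a
    · obtain ⟨h, hv, f0, f1⟩ := hexB w hN a b
      apply RelF.of_step h hv
      exact hexA _ (by rw [h.2.2]; exact hN) f0 f1
  · obtain ⟨h, hv, f0, f1⟩ := hexC w hN hod hs
    apply RelF.of_step h hv
    obtain ⟨h', hv', f0', f1'⟩ := hexB _ (by rw [h.2.2]; exact hN) f0 f1
    apply RelF.of_step h' hv'
    exact hexA _ (by rw [h'.2.2, h.2.2]; exact hN) f0' f1'

theorem dot_v32 (x : GolayPt → ℤ) : dotInt v32.1 x = 4 * x none + 4 * x (some 0) := by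
  unfold dotInt
  have : ∀ p, v32.1 p * x p = (if p = none then 4 * x none else 0)
      + (if p = some 0 then 4 * x (some 0) else 0) := by
    intro p
    rw [v32_apply]
    by_cases h0 : p = none
    · subst h0
      simp
    · by_cases h1 : p = some 0
      · subst h1
        simp
      · rw [if_neg h0, if_neg h1, if_neg h0, if_neg h1]
        ring
  rw [Finset.sum_congr rfl (fun p _ => this p), Finset.sum_add_distrib,
    Finset.sum_ite_eq' Finset.univ none, Finset.sum_ite_eq' Finset.univ (some 0),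
    if_pos (Finset.mem_univ _), if_pos (Finset.mem_univ _)]

/-- ordered pairs of minimal vectors with dot product `-16` form one orbit -/
theorem hex_trans (v w : ↥leechLattice) (hv : sqNorm v.1 = 32) (hw : sqNorm w.1 = 32)
    (hd : dotInt v.1 w.1 = -16) : ∃ g : ↥Co0, g.1 v = v32 ∧ g.1 w = W0 := by
  obtain ⟨g0, hg0⟩ := trans32 v hv
  have h1 : dotInt v32.1 (g0.1 w).1 = -16 := by
    rw [← hg0, dot_map]
    exact hd
  rw [dot_v32] at h1
  obtain ⟨k, hk1, hk2⟩ := hex_main (g0.1 w) (by rw [g0.2.2]; exact hw) (by omega)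
  refine ⟨k * g0, ?_, hk2⟩
  show k.1 (g0.1 v) = v32
  rw [hg0, hk1]

end Cfsg.Agent.Lib.Lead.CP
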