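import Cfsg.Agent.Lib.Lead.ConwayOrder

/-!
# Pairs of lattice vectors under the automorphism group of the Leech lattice

* `dot_map`: automorphisms preserve coordinate dot products;
* `orth_std`: every ordered pair of orthogonal minimal vectors is equivalent to
  `(4e_∞ + 4e_0, 4e_∞ - 4e_0)`.
-/

set_option autoImplicit false
open Cfsg

namespace Cfsg.Agent.Lib.Lead.CP

open Cfsg.Agent.Lib.Lead.LX Cfsg.Agent.Lib.Lead.CW Cfsg.Agent.Lib.Lead.CO
open Cfsg.Agent.Lib.helper3 Cfsg.Agent.Lib.helper4 Cfsg.Agent.S0398 Cfsg.Agent.S1571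

theorem sqNorm_add (a b : GolayPt → ℤ) :
    sqNorm (a + b) = sqNorm a + 2 * dotInt a b + sqNorm b := by
  unfold sqNorm dotInt
  rw [Finset.mul_sum, ← Finset.sum_add_distrib, ← Finset.sum_add_distrib]
  apply Finset.sum_congr rfl
  intro p _
  rw [Pi.add_apply]
  ring

theorem sqNorm_sub (a b : GolayPt → ℤ) :
    sqNorm (a - b) = sqNorm a - 2 * dotInt a b + sqNorm b := by
  unfold sqNorm dotInt
  rw [Finset.mul_sum, ← Finset.sum_sub_distrib, ← Finset.sum_add_distrib]
  apply Finset.sum_congr rfl
  intro p _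
  rw [Pi.sub_apply]
  ring

/-- automorphisms preserve dot products -/
theorem dot_map (g : ↥Co0) (a b : ↥leechLattice) :
    dotInt (g.1 a).1 (g.1 b).1 = dotInt a.1 b.1 := by
  have h1 := g.2.2 (a + b)
  rw [g.2.1 a b] at h1
  have h2 : sqNorm ((g.1 a).1 + (g.1 b).1) = sqNorm (a.1 + b.1) := h1
  rw [sqNorm_add, sqNorm_add, g.2.2 a, g.2.2 b] at h2
  omega

theorem M24_two : MulAction.IsMultiplyPretransitive M24 GolayPt 2 := by
  have := Cfsg.Agent.S0366.result
  have hc : 5 ≤ Nat.card GolayPt := by
    rw [Nat.card_eq_fintype_card, card_pts]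
    norm_num
  exact MulAction.isMultiplyPretransitive_of_le (n := 5) (by norm_num) hc

/-- the standard orthogonal pair -/
def A0 : ↥leechLattice := v32

/-- the standard orthogonal pair -/
def B0 : ↥leechLattice := ⟨e4 (some 0) (-4), e4_mem_leech (some 0) (by simp) (-4) (Or.inr rfl)⟩

theorem e4_apply (j : GolayPt) (t : ℤ) (p : GolayPt) :
    e4 j t p = (if p = none then 4 else 0) + (if p = j then t else 0) := rfl

/-- normalising a pair in the standard frame -/
theorem norm_pair (j : GolayPt) (hj : j ≠ none) (t : ℤ) (ht : t = 4 ∨ t = -4)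
    (a b : ↥leechLattice) (ha : a.1 = e4 j t) (hb : b.1 = e4 j (-t)) :
    ∃ n : ↥Co0, n.1 a = A0 ∧ n.1 b = B0 := by
  have h2 := M24_two
  rw [MulAction.is_two_pretransitive_iff] at h2
  obtain ⟨π, hπ1, hπ2⟩ := h2 (a := (none : GolayPt)) (b := some 0) (c := none) (d := j)
    (by simp) (Ne.symm hj)
  have hπ1' : π.1 none = none := hπ1
  have hπ2' : π.1 (some 0) = j := hπ2
  have hperm : ∀ (s : ℤ) (x : ↥leechLattice), x.1 = e4 j s →
      ((permE π.1 π.2) x).1 = e4 (some 0) s := by
    intro s x hx
    funext p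
    show x.1 (π.1 p) = _
    rw [hx, e4_apply, e4_apply]
    have e1 : (π.1 p = none) ↔ p = none := by
      constructor
      · intro h
        apply π.1.injective
        rw [h, hπ1']
      · rintro rfl
        exact hπ1'
    have e2 : (π.1 p = j) ↔ p = some 0 := by
      constructor
      · intro h
        apply π.1.injective
        rw [h, hπ2']
      · rintro rfl
        exact hπ2'
    simp only [e1, e2]
  rcases ht with rfl | rfl
  · refine ⟨⟨permE π.1 π.2, permE_mem π.1 π.2⟩, ?_, ?_⟩
    · apply Subtype.ext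
      exact hperm 4 a ha
    · apply Subtype.ext
      exact hperm (-4) b hb
  · obtain ⟨c, hc, hcS⟩ := exists_sign (fun i => decide (i = 1))
    have c0 : ¬ c none ≠ 0 := by
      intro h
      have := (hcS 0).1 h
      simp at this
    have c1 : c (some 0) ≠ 0 := by
      have := (hcS 1).2 (by simp)
      exact this
    have hflip : ∀ (s : ℤ) (x : ↥leechLattice), x.1 = e4 (some 0) s →
        ((flipE c hc) x).1 = e4 (some 0) (-s) := by
      intro s x hx
      funext p
      show (if c p ≠ 0 then -(x.1 p) else x.1 p) = _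
      rw [hx, e4_apply, e4_apply]
      by_cases hp0 : p = none
      · subst hp0
        rw [if_neg c0]
        simp
      · by_cases hp1 : p = some 0
        · subst hp1
          rw [if_pos c1]
          simp
        · simp only [if_neg hp0, if_neg hp1]
          simp
    refine ⟨⟨flipE c hc * permE π.1 π.2, Co0.mul_mem (flipE_mem c hc) (permE_mem π.1 π.2)⟩, ?_, ?_⟩
    · apply Subtype.ext
      show ((flipE c hc) ((permE π.1 π.2) a)).1 = _
      rw [hflip (-4) _ (hperm (-4) a ha)]
      rfl
    · apply Subtype.ext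
      show ((flipE c hc) ((permE π.1 π.2) b)).1 = _
      rw [hflip (- -4) _ (hperm (- -4) b hb)]
      rfl

theorem dot_single (i j : GolayPt) (s t : ℤ) :
    dotInt (Pi.single i s : GolayPt → ℤ) (Pi.single j t) = if i = j then s * t else 0 := by
  unfold dotInt
  rw [Finset.sum_eq_single i]
  · rw [Pi.single_eq_same]
    by_cases h : i = j
    · subst h
      rw [Pi.single_eq_same, if_pos rfl]
    · rw [Pi.single_eq_of_ne h, if_neg h, mul_zero]
  · intro k _ hk
    rw [Pi.single_eq_of_ne hk, zero_mul]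
  · intro h
    exact absurd (Finset.mem_univ _) h

/-- every ordered pair of orthogonal minimal vectors is equivalent to the standard one -/
theorem orth_std (v w : ↥leechLattice) (hv : sqNorm v.1 = 32) (hw : sqNorm w.1 = 32)
    (hd : dotInt v.1 w.1 = 0) : ∃ g : ↥Co0, g.1 v = A0 ∧ g.1 w = B0 := by
  have hx : sqNorm (v + w).1 = 64 := by
    show sqNorm (v.1 + w.1) = 64
    rw [sqNorm_add, hv, hw, hd]
    norm_num
  have hy : sqNorm (v - w).1 = 64 := by
    show sqNorm (v.1 - w.1) = 64
    rw [sqNorm_sub, hv, hw, hd]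
    norm_num
  obtain ⟨g, hg⟩ := trans64 (v + w) hx
  have hcl : cl (v - w).1 = cl (v + w).1 := by
    rw [cl_eq_iff (v - w).2 (v + w).2]
    refine ⟨-w.1, leechLattice.neg_mem w.2, ?_⟩
    show (v.1 - w.1) - (v.1 + w.1) = 2 • (-w.1)
    rw [two_nsmul]
    abel
  have hcl2 := cl_map g (v - w) (v + w) hcl
  rw [hg] at hcl2
  have hny : sqNorm (g.1 (v - w)).1 = 64 := by rw [g.2.2]; exact hy
  obtain ⟨j, s, hs, hys⟩ := mem_stdCross_of_cl (g.1 (v - w)).1 (g.1 (v - w)).2 hny hcl2
  have hdot : dotInt (g.1 (v + w)).1 (g.1 (v - w)).1 = 0 := by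
    rw [dot_map]
    show dotInt (v.1 + w.1) (v.1 - w.1) = 0
    have e1 : sqNorm v.1 = dotInt v.1 v.1 := by
      unfold sqNorm dotInt
      exact Finset.sum_congr rfl (fun p _ => by ring)
    have e2 : sqNorm w.1 = dotInt w.1 w.1 := by
      unfold sqNorm dotInt
      exact Finset.sum_congr rfl (fun p _ => by ring)
    have e3 : dotInt (v.1 + w.1) (v.1 - w.1) = dotInt v.1 v.1 - dotInt w.1 w.1 := by
      unfold dotInt
      rw [← Finset.sum_sub_distrib]
      apply Finset.sum_congr rfl
      intro p _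
      rw [Pi.add_apply, Pi.sub_apply]
      ring
    rw [e3, ← e1, ← e2, hv, hw]
    norm_num
  have hj : j ≠ none := by
    intro hjn
    rw [hg, hys, ev_val, dot_single, hjn, if_pos rfl] at hdot
    rcases hs with rfl | rfl <;> norm_num at hdot
  -- the images of v and w
  have hsum : g.1 v + g.1 w = ev none := by rw [← g.2.1, hg]
  have hdiff : (g.1 v).1 - (g.1 w).1 = Pi.single j s := by
    rw [← hys, map_sub']
    rfl
  have hsum' : (g.1 v).1 + (g.1 w).1 = Pi.single none 8 := by
    have := congrArg Subtype.val hsum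
    rw [ev_val] at this
    exact this
  have hv' : (g.1 v).1 = e4 j (s / 2) := by
    funext p
    have h1 := congrFun hsum' p
    have h2 := congrFun hdiff p
    rw [Pi.add_apply] at h1
    rw [Pi.sub_apply] at h2
    rw [e4_apply]
    rw [Pi.single_apply] at h1 h2
    rcases hs with rfl | rfl <;> split_ifs at h1 h2 ⊢ <;> omega
  have hw' : (g.1 w).1 = e4 j (-(s / 2)) := by
    funext p
    have h1 := congrFun hsum' p
    have h2 := congrFun hdiff p
    rw [Pi.add_apply] at h1
    rw [Pi.sub_apply] at h2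
    rw [e4_apply]
    rw [Pi.single_apply] at h1 h2
    rcases hs with rfl | rfl <;> split_ifs at h1 h2 ⊢ <;> omega
  obtain ⟨n, hn1, hn2⟩ := norm_pair j hj (s / 2) (by rcases hs with rfl | rfl <;> norm_num)
    (g.1 v) (g.1 w) hv' hw'
  exact ⟨n * g, hn1, hn2⟩

end Cfsg.Agent.Lib.Lead.CP
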