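import Mathlib

set_option autoImplicit false

/-!
# Maximality of a point stabiliser from fixed points of elements of prime order, and simplicity

The numbers are those of the second Conway group acting on `47104` points with the McLaughlin
group (simple of order `898128000`) as point stabiliser.
-/

namespace Cfsg.Agent.Lib.Lead.PS

open MulAction
open scoped Pointwise

variable {G Y : Type*} [Group G] [MulAction G Y]

/-- fixed points of an element of prime order on an orbit of a subgroup -/
theorem orbit_card_modEq (K : Subgroup G) (a : Y) (g : G) (hg : g ∈ K) (p : ℕ)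
    [hp : Fact p.Prime] (hgp : g ^ p = 1) (hfin : (orbit K a).Finite) :
    (orbit K a).ncard ≡ {y | y ∈ orbit K a ∧ g • y = y}.ncard [MOD p] := by
  classical
  have hP : IsPGroup p (Subgroup.zpowers (⟨g, hg⟩ : K)) := by
    rintro ⟨x, hx⟩
    refine ⟨1, ?_⟩
    obtain ⟨n, rfl⟩ := Subgroup.mem_zpowers_iff.1 hx
    apply Subtype.ext
    rw [pow_one]
    show ((⟨g, hg⟩ : K) ^ n) ^ p = 1
    have h1 : (⟨g, hg⟩ : K) ^ p = 1 := Subtype.ext hgp
    rw [← zpow_natCast, ← zpow_mul, mul_comm, zpow_mul, zpow_natCast, h1, one_zpow]
  have : Finite (orbit K a) := hfin.to_subtype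
  have h := hP.card_modEq_card_fixedPoints (orbit K a)
  rw [Nat.card_coe_set_eq, Nat.card_coe_set_eq] at h
  refine h.trans ?_
  have himg : Subtype.val '' (fixedPoints (Subgroup.zpowers (⟨g, hg⟩ : K)) (orbit K a))
      = {y | y ∈ orbit K a ∧ g • y = y} := by
    ext y
    constructor
    · rintro ⟨⟨y, hy⟩, hfix, rfl⟩
      refine ⟨hy, ?_⟩
      have := hfix ⟨⟨g, hg⟩, Subgroup.mem_zpowers _⟩
      exact congrArg Subtype.val this
    · rintro ⟨hy, hgy⟩
      refine ⟨⟨y, hy⟩, ?_, rfl⟩
      rintro ⟨x, hx⟩
      obtain ⟨n, rfl⟩ := Subgroup.mem_zpowers_iff.1 hx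
      apply Subtype.ext
      show ((⟨g, hg⟩ : K) ^ n : K).1 • y = y
      rw [Subgroup.coe_zpow]
      have : g ∈ stabilizer G y := hgy
      exact (stabilizer G y).zpow_mem this n
  rw [← himg, Set.ncard_image_of_injective _ Subtype.val_injective]

/-! ### arithmetic -/

set_option maxRecDepth 1000000 in
theorem arith_A1 : ∀ d ∈ Finset.range 47105, d ∣ 47104 → d % 11 = 2 → 2049 ≤ d → d = 47104 := by
  decide +kernel

set_option maxRecDepth 1000000 in
theorem arith_A2 : ∀ d ∈ Finset.range 47105, d ∣ 47104 → d % 11 = 1 →
    d = 1 ∨ d = 23 ∨ d = 1024 ∨ d = 23552 := by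
  decide +kernel

set_option maxRecDepth 1000000 in
theorem arith_A3 : ∀ d ∈ Finset.range 47105, d ∣ 47104 → d % 2 = 1 → d = 1 ∨ d = 23 := by
  decide +kernel

theorem mem_range_of_dvd (d : ℕ) (h : d ∣ 47104) : d ∈ Finset.range 47105 := by
  rw [Finset.mem_range]
  have := Nat.le_of_dvd (by norm_num) h
  omega

/-! ### maximality -/

variable [Finite G]

/-- the hypotheses of the maximality criterion -/
structure HypMax (α β0 : Y) (r : Y → Y → Prop) (g11 g7 : G) (T : Set Y) : Prop where
  hidx : (stabilizer G α).index = 47104
  hr : ∀ (g : G) (x y : Y), r (g • x) (g • y) ↔ r x y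
  hsymm : ∀ x y : Y, r x y → r y x
  hirr : ¬ r α α
  hB : {y | y ∈ orbit G α ∧ r α y}.ncard = 2025
  htr : ∀ y ∈ orbit G α, r α y → ∀ y' ∈ orbit G α, r α y' →
    ∃ h ∈ stabilizer G α, h • y = y'
  h11mem : g11 ∈ stabilizer G α
  h11 : g11 ^ 11 = 1
  hβ0 : β0 ∈ orbit G α
  hβ0r : r α β0
  hβ0fix : g11 • β0 = β0
  hfix11 : ∀ y ∈ orbit G α, g11 • y = y → y = α ∨ y = β0
  h7mem : g7 ∈ stabilizer G α
  h7 : g7 ^ 7 = 1
  hfix7 : ∀ y ∈ orbit G α, g7 • y = y → y ≠ α →
    r α y ∨ (∃ s : G, s • y = y ∧ r α (s • α)) ∨ (∃ h ∈ stabilizer G α, r y (h • y))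
  hT1 : T ⊆ orbit G α
  hT2 : ∀ t ∈ T, r β0 t
  hT3 : ∀ t ∈ T, ¬ r α t
  hT4 : ∀ t ∈ T, t ≠ α
  hT5 : 23 ≤ T.ncard

theorem maximal {α β0 : Y} {r : Y → Y → Prop} {g11 g7 : G} {T : Set Y}
    (h : HypMax (G := G) α β0 r g11 g7 T) (K : Subgroup G) (hK : stabilizer G α ≤ K) :
    K = stabilizer G α ∨ K = ⊤ := by
  classical
  have : Fact (Nat.Prime 11) := ⟨by norm_num⟩
  have : Fact (Nat.Prime 7) := ⟨by norm_num⟩
  have hfinG : (orbit G α).Finite := Set.finite_range _
  have hOsub : orbit K α ⊆ orbit G α := by
    rintro _ ⟨k, rfl⟩
    exact ⟨k.1, rfl⟩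
  have hfin : (orbit K α).Finite := hfinG.subset hOsub
  have hstab : stabilizer K α = (stabilizer G α).subgroupOf K := by
    ext k
    rw [mem_stabilizer_iff, Subgroup.mem_subgroupOf, mem_stabilizer_iff]
    rfl
  have hd : (orbit K α).ncard = (stabilizer G α).relIndex K := by
    rw [← index_stabilizer, hstab]
    rfl
  have hmul : (orbit K α).ncard * K.index = 47104 := by
    rw [hd, Subgroup.relIndex_mul_index hK, h.hidx]
  have hdvd : (orbit K α).ncard ∣ 47104 := Dvd.intro _ hmul
  have hαO : α ∈ orbit K α := mem_orbit_self α
  -- closure of the orbit under `K`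
  have hclos : ∀ k ∈ K, ∀ y ∈ orbit K α, k • y ∈ orbit K α := by
    rintro k hk _ ⟨k', rfl⟩
    exact ⟨⟨k, hk⟩ * k', mul_smul (⟨k, hk⟩ : K) k' α⟩
  -- stabilisers of the points of the orbit lie in `K`
  have hstabK : ∀ y ∈ orbit K α, ∀ s : G, s • y = y → s ∈ K := by
    rintro _ ⟨k, rfl⟩ s hs
    have hs' : s • (k.1 • α) = k.1 • α := hs
    have h1 : (k.1)⁻¹ * s * k.1 ∈ stabilizer G α := by
      rw [mem_stabilizer_iff, mul_smul, mul_smul, hs', inv_smul_smul]
    have h2 := hK h1
    have h3 : s = k.1 * ((k.1)⁻¹ * s * k.1) * (k.1)⁻¹ := by group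
    rw [h3]
    exact K.mul_mem (K.mul_mem k.2 h2) (K.inv_mem k.2)
  have hc11 := orbit_card_modEq K α g11 (hK h.h11mem) 11 h.h11 hfin
  have hc7 := orbit_card_modEq K α g7 (hK h.h7mem) 7 h.h7 hfin
  have hαβ : α ≠ β0 := by
    intro e
    have := h.hβ0r
    rw [← e] at this
    exact h.hirr this
  by_cases hex : ∃ y ∈ orbit K α, r α y
  · -- the orbit meets the distinguished suborbit
    right
    obtain ⟨y0, hy0, hr0⟩ := hex
    have hBsub : ∀ y ∈ orbit G α, r α y → y ∈ orbit K α := by
      intro y hy hry
      obtain ⟨hh, hhH, e⟩ := h.htr y0 (hOsub hy0) hr0 y hy hry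
      rw [← e]
      exact hclos hh (hK hhH) y0 hy0
    have hβO : β0 ∈ orbit K α := hBsub β0 h.hβ0 h.hβ0r
    obtain ⟨k0, hk0⟩ := hβO
    have hk0' : k0.1 • α = β0 := hk0
    have hTsub : T ⊆ orbit K α := by
      intro t ht
      have r1 : r α ((k0.1)⁻¹ • t) := by
        have := h.hT2 t ht
        rw [← hk0'] at this
        have := (h.hr (k0.1)⁻¹ (k0.1 • α) t).2 this
        rwa [inv_smul_smul] at this
      have r2 : r α ((k0.1)⁻¹ • α) := by
        have := h.hsymm _ _ h.hβ0r
        rw [← hk0'] at this
        have := (h.hr (k0.1)⁻¹ (k0.1 • α) α).2 this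
        rwa [inv_smul_smul] at this
      have m1 : (k0.1)⁻¹ • t ∈ orbit G α := by
        obtain ⟨g, hg⟩ := h.hT1 ht
        have hg' : g • α = t := hg
        exact ⟨(k0.1)⁻¹ * g, by show ((k0.1)⁻¹ * g) • α = _; rw [mul_smul, hg']⟩
      have m2 : (k0.1)⁻¹ • α ∈ orbit G α := ⟨(k0.1)⁻¹, rfl⟩
      obtain ⟨hh, hhH, e⟩ := h.htr _ m2 r2 _ m1 r1
      have e2 : t = (k0.1 * hh * (k0.1)⁻¹) • α := by
        rw [mul_smul, mul_smul, e, smul_inv_smul]
      rw [e2]
      exact hclos _ (K.mul_mem (K.mul_mem k0.2 (hK hhH)) (K.inv_mem k0.2)) α hαO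
    -- a lower bound for the orbit
    have hBfin : {y | y ∈ orbit G α ∧ r α y}.Finite := hfinG.subset (fun y hy => hy.1)
    have hTfin : T.Finite := hfinG.subset h.hT1
    have hlow : 2049 ≤ (orbit K α).ncard := by
      have hsub : ({α} ∪ {y | y ∈ orbit G α ∧ r α y}) ∪ T ⊆ orbit K α := by
        intro y hy
        rcases hy with (hy | hy) | hy
        · rw [Set.mem_singleton_iff] at hy
          rw [hy]
          exact hαO
        · exact hBsub y hy.1 hy.2
        · exact hTsub hy
      have hd1 : Disjoint ({α} : Set Y) {y | y ∈ orbit G α ∧ r α y} := by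
        rw [Set.disjoint_singleton_left]
        intro hc
        exact h.hirr hc.2
      have hd2 : Disjoint (({α} : Set Y) ∪ {y | y ∈ orbit G α ∧ r α y}) T := by
        rw [Set.disjoint_left]
        intro y hy hyT
        rcases hy with hy | hy
        · rw [Set.mem_singleton_iff] at hy
          exact h.hT4 y hyT hy
        · exact h.hT3 y hyT hy.2
      have hc := Set.ncard_le_ncard hsub hfin
      rw [Set.ncard_union_eq hd2 ((Set.finite_singleton α).union hBfin) hTfin,
        Set.ncard_union_eq hd1 (Set.finite_singleton α) hBfin, Set.ncard_singleton, h.hB] at hc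
      have := h.hT5
      omega
    -- the fixed points of the element of order 11
    have hF : {y | y ∈ orbit K α ∧ g11 • y = y} = {α, β0} := by
      ext y
      simp only [Set.mem_ofPred_eq, Set.mem_insert_iff, Set.mem_singleton_iff]
      constructor
      · rintro ⟨hy, hgy⟩
        exact h.hfix11 y (hOsub hy) hgy
      · rintro (rfl | rfl)
        · exact ⟨hαO, h.h11mem⟩
        · exact ⟨⟨k0, hk0⟩, h.hβ0fix⟩
    rw [hF, Set.ncard_pair hαβ] at hc11
    have hmod : (orbit K α).ncard % 11 = 2 := hc11
    have h47 := arith_A1 _ (mem_range_of_dvd _ hdvd) hdvd hmod hlow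
    rw [h47] at hmul
    have : K.index = 1 := by omega
    exact Subgroup.index_eq_one.1 this
  · -- the orbit avoids the distinguished suborbit
    left
    push Not at hex
    have hF : {y | y ∈ orbit K α ∧ g11 • y = y} = {α} := by
      ext y
      simp only [Set.mem_ofPred_eq, Set.mem_singleton_iff]
      constructor
      · rintro ⟨hy, hgy⟩
        rcases h.hfix11 y (hOsub hy) hgy with e | e
        · exact e
        · exfalso
          rw [e] at hy
          exact hex β0 hy h.hβ0r
      · rintro rfl
        exact ⟨hαO, h.h11mem⟩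
    rw [hF, Set.ncard_singleton] at hc11
    have hmod : (orbit K α).ncard % 11 = 1 := hc11
    have hcases := arith_A2 _ (mem_range_of_dvd _ hdvd) hdvd hmod
    have hone : (orbit K α).ncard = 1 := by
      by_contra hne
      -- a second fixed point of the element of order 7
      have hex7 : ∃ y, y ∈ orbit K α ∧ g7 • y = y ∧ y ≠ α := by
        by_contra hno
        push Not at hno
        have hF7 : {y | y ∈ orbit K α ∧ g7 • y = y} = {α} := by
          ext y
          simp only [Set.mem_ofPred_eq, Set.mem_singleton_iff]
          constructor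
          · rintro ⟨hy, hgy⟩
            exact hno y hy hgy
          · rintro rfl
            exact ⟨hαO, h.h7mem⟩
        rw [hF7, Set.ncard_singleton] at hc7
        have hmod7 : (orbit K α).ncard % 7 = 1 := hc7
        rcases hcases with e | e | e | e <;> omega
      obtain ⟨y, hy, hgy, hyα⟩ := hex7
      rcases h.hfix7 y (hOsub hy) hgy hyα with hr1 | ⟨s, hs, hrs⟩ | ⟨hh, hhH, hrh⟩
      · exact hex y hy hr1
      · exact hex (s • α) (hclos s (hstabK y hy s hs) α hαO) hrs
      · obtain ⟨k, hk⟩ := hy
        have hk' : k.1 • α = y := hk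
        have hmem : (k.1)⁻¹ • hh • y ∈ orbit K α :=
          hclos _ (K.inv_mem k.2) _ (hclos hh (hK hhH) y ⟨k, hk⟩)
        have hrr : r α ((k.1)⁻¹ • hh • y) := by
          have := hrh
          rw [← hk'] at this
          have := (h.hr (k.1)⁻¹ (k.1 • α) (hh • (k.1 • α))).2 this
          rw [inv_smul_smul] at this
          rw [← hk']
          exact this
        exact hex _ hmem hrr
    rw [hd, Subgroup.relIndex_eq_one] at hone
    exact le_antisymm hone hK

/-! ### simplicity -/

theorem not_dvd_fact (k : ℕ) (hk : k ≤ 14) : ¬ 898128000 ∣ k.factorial := by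
  intro hdvd
  have h1 : k.factorial ∣ (14).factorial := Nat.factorial_dvd_factorial hk
  have h2 := hdvd.trans h1
  have h3 : (14).factorial = 87178291200 := by norm_num [Nat.factorial]
  rw [h3] at h2
  revert h2
  norm_num

theorem simple_of_maximal (α : Y)
    (hmax : ∀ K : Subgroup G, stabilizer G α ≤ K → K = stabilizer G α ∨ K = ⊤)
    (hidx : (stabilizer G α).index = 47104)
    (hcard : Nat.card (stabilizer G α) = 898128000)
    (hsimple : IsSimpleGroup (stabilizer G α))
    (hfaith : ∀ g : G, (∀ y ∈ orbit G α, g • y = y) → g = 1) : IsSimpleGroup G := by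
  classical
  haveI : Fact (Nat.Prime 2) := ⟨Nat.prime_two⟩
  have hcG : Nat.card G = 898128000 * 47104 := by
    rw [← (stabilizer G α).card_mul_index, hidx, hcard]
  haveI : Nontrivial G := by
    apply Finite.one_lt_card_iff_nontrivial.1
    rw [hcG]
    norm_num
  refine ⟨fun N hN => ?_⟩
  by_cases hNb : N = ⊥
  · left
    exact hNb
  right
  haveI := hN
  rcases hmax (N ⊔ stabilizer G α) le_sup_right with hK | hK
  · -- `N` fixes the base point, hence everything
    exfalso
    apply hNb
    have hNH : N ≤ stabilizer G α := by
      rw [← hK]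
      exact le_sup_left
    rw [eq_bot_iff]
    intro n hn
    rw [Subgroup.mem_bot]
    apply hfaith
    rintro _ ⟨g, rfl⟩
    have h1 : g⁻¹ * n * g ∈ N := by
      have := hN.conj_mem n hn g⁻¹
      rwa [inv_inv] at this
    have h2 := hNH h1
    rw [mem_stabilizer_iff] at h2
    show n • g • α = g • α
    have h3 : n • g • α = g • ((g⁻¹ * n * g) • α) := by
      rw [mul_smul, mul_smul, smul_inv_smul]
    rw [h3, h2]
  · haveI : (N.subgroupOf (stabilizer G α)).Normal := Subgroup.normal_subgroupOf
    rcases hsimple.eq_bot_or_eq_top_of_normal (N.subgroupOf (stabilizer G α)) inferInstance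
      with hb | ht
    · -- the regular case
      exfalso
      have hdisj : N ⊓ stabilizer G α = ⊥ := by
        rw [Subgroup.subgroupOf_eq_bot] at hb
        exact disjoint_iff.1 hb
      have hNidx : N.index = 898128000 := by
        have h1 : N.relIndex (N ⊔ stabilizer G α) = N.relIndex (stabilizer G α) :=
          Subgroup.relIndex_sup_left _ _
        rw [hK, Subgroup.relIndex_top_right] at h1
        rw [h1]
        show (N.subgroupOf (stabilizer G α)).index = 898128000
        rw [hb, Subgroup.index_bot, hcard]
      have hNcard : Nat.card N = 47104 := by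
        have := N.card_mul_index
        rw [hNidx, hcG] at this
        have h3 : 898128000 * 47104 = 47104 * 898128000 := by norm_num
        exact Nat.eq_of_mul_eq_mul_right (by norm_num : 0 < 898128000) (this.trans h3)
      -- the Sylow 2-subgroups of `N`
      have hX : Nat.card (Sylow 2 N) = 1 ∨ Nat.card (Sylow 2 N) = 23 := by
        obtain ⟨P⟩ : Nonempty (Sylow 2 N) := inferInstance
        have h1 : Nat.card (Sylow 2 N) ∣ 47104 := by
          have := (P.card_dvd_index).trans (Subgroup.index_dvd_card _)
          rwa [hNcard] at this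
        have h2 : Nat.card (Sylow 2 N) % 2 = 1 := card_sylow_modEq_one 2 N
        exact arith_A3 _ (mem_range_of_dvd _ h1) h1 h2
      letI act : MulAction (stabilizer G α) (Sylow 2 N) :=
        MulAction.compHom (Sylow 2 N)
          ((MulAut.conjNormal (H := N)).comp (stabilizer G α).subtype)
      have hact : ∀ (x : stabilizer G α) (P : Sylow 2 N),
          x • P = (MulAut.conjNormal (x : G) : MulAut N) • P := fun _ _ => rfl
      -- no Sylow subgroup is fixed
      have hnofix : ∀ P : Sylow 2 N, ¬ ∀ x : stabilizer G α, x • P = P := by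
        intro P hfix
        have hPne : (P : Subgroup N) ≠ ⊥ := by
          apply P.ne_bot_of_dvd_card
          rw [hNcard]
          norm_num
        have hQne : (P : Subgroup N).map N.subtype ≠ ⊥ := by
          intro e
          apply hPne
          rw [eq_bot_iff]
          intro x hx
          have : N.subtype x ∈ (P : Subgroup N).map N.subtype := Subgroup.mem_map_of_mem _ hx
          rw [e, Subgroup.mem_bot] at this
          rw [Subgroup.mem_bot]
          exact Subtype.ext this
        have hQN : (P : Subgroup N).map N.subtype ≤ N := Subgroup.map_subtype_le _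
        have hQH : ¬ (P : Subgroup N).map N.subtype ≤ stabilizer G α := by
          intro hle
          apply hQne
          rw [eq_bot_iff, ← hdisj]
          exact le_inf hQN hle
        -- conjugation by the stabiliser preserves `Q`
        have hconj : ∀ x ∈ stabilizer G α, ∀ q ∈ (P : Subgroup N).map N.subtype,
            x * q * x⁻¹ ∈ (P : Subgroup N).map N.subtype := by
          intro x hx q hq
          obtain ⟨n, hn, rfl⟩ := hq
          have h1 := hfix ⟨x, hx⟩
          rw [hact] at h1
          have h2 : (MulAut.conjNormal x : MulAut N) • n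
              ∈ (MulAut.conjNormal x : MulAut N) • (P : Subgroup N) :=
            Subgroup.smul_mem_pointwise_smul n _ _ hn
          rw [← Sylow.pointwise_smul_def, h1] at h2
          refine ⟨(MulAut.conjNormal x : MulAut N) • n, h2, ?_⟩
          show ((MulAut.conjNormal x) n : G) = x * n.1 * x⁻¹
          exact MulAut.conjNormal_apply x n
        have hLH : stabilizer G α ≤
            Subgroup.normalizer (((P : Subgroup N).map N.subtype : Subgroup G) : Set G) := by
          intro x hx
          rw [Subgroup.mem_normalizer_iff]
          intro q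
          constructor
          · exact hconj x hx q
          · intro hq
            have := hconj x⁻¹ (Subgroup.inv_mem _ hx) _ hq
            rw [inv_inv] at this
            have e : x⁻¹ * (x * q * x⁻¹) * x = q := by group
            rwa [e] at this
        have hnormal : ((P : Subgroup N).map N.subtype).Normal := by
          rcases hmax _ hLH with e | e
          · exfalso
            apply hQH
            rw [← e]
            exact Subgroup.le_normalizer
          · exact Subgroup.normalizer_eq_top_iff.1 e
        haveI := hnormal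
        rcases hmax ((P : Subgroup N).map N.subtype ⊔ stabilizer G α) le_sup_right with e | e
        · apply hQH
          rw [← e]
          exact le_sup_left
        · have h1 : ((P : Subgroup N).map N.subtype).relIndex
              ((P : Subgroup N).map N.subtype ⊔ stabilizer G α)
              = ((P : Subgroup N).map N.subtype).relIndex (stabilizer G α) :=
            Subgroup.relIndex_sup_left _ _
          rw [e, Subgroup.relIndex_top_right] at h1
          have h2 : ((P : Subgroup N).map N.subtype).subgroupOf (stabilizer G α) = ⊥ := by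
            rw [Subgroup.subgroupOf_eq_bot, disjoint_iff, eq_bot_iff, ← hdisj]
            exact inf_le_inf_right _ hQN
          have h3 : ((P : Subgroup N).map N.subtype).index = 898128000 := by
            rw [h1]
            show (((P : Subgroup N).map N.subtype).subgroupOf (stabilizer G α)).index = _
            rw [h2, Subgroup.index_bot, hcard]
          have h4 : Nat.card ((P : Subgroup N).map N.subtype) = 47104 := by
            have := ((P : Subgroup N).map N.subtype).card_mul_index
            rw [h3, hcG] at this
            have h5 : 898128000 * 47104 = 47104 * 898128000 := by norm_num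
            exact Nat.eq_of_mul_eq_mul_right (by norm_num : 0 < 898128000) (this.trans h5)
          rw [Subgroup.card_map_of_injective N.subtype_injective] at h4
          obtain ⟨n, hn⟩ := (IsPGroup.iff_card (p := 2)).1 P.2
          rw [hn] at h4
          have h6 : 23 ∣ 2 ^ n := by
            rw [h4]
            norm_num
          have h7 := (Nat.Prime.dvd_of_dvd_pow (by norm_num : Nat.Prime 23) h6)
          revert h7
          norm_num
      rcases hX with hX1 | hX23
      · obtain ⟨P⟩ : Nonempty (Sylow 2 N) := inferInstance
        haveI : Subsingleton (Sylow 2 N) := (Nat.card_eq_one_iff_unique.1 hX1).1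
        exact hnofix P (fun x => Subsingleton.elim _ _)
      · -- orbits of the stabiliser on the 23 Sylow subgroups
        have horb : ∀ P : Sylow 2 N, 15 ≤ (orbit (stabilizer G α) P).ncard ∧
            (orbit (stabilizer G α) P).ncard ≤ 22 := by
          intro P
          have hk1 : (orbit (stabilizer G α) P).ncard ∣ 898128000 := by
            rw [← index_stabilizer, ← hcard]
            exact Subgroup.index_dvd_card _
          have hk2 : (orbit (stabilizer G α) P).ncard ≤ 23 := by
            rw [← hX23, ← Set.ncard_univ]
            exact Set.ncard_le_ncard (Set.subset_univ _) Set.finite_univ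
          have hk3 : 898128000 ∣ ((orbit (stabilizer G α) P).ncard).factorial := by
            have hker := hsimple.eq_bot_or_eq_top_of_normal
              (MulAction.toPermHom (stabilizer G α) (orbit (stabilizer G α) P)).ker inferInstance
            rcases hker with hb' | ht'
            · have hinj := (MonoidHom.ker_eq_bot_iff _).1 hb'
              have := Subgroup.card_dvd_of_injective _ hinj
              rwa [Nat.card_perm, Nat.card_coe_set_eq, hcard] at this
            · exfalso
              apply hnofix P
              intro x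
              have hx : x ∈ (MulAction.toPermHom (stabilizer G α)
                  (orbit (stabilizer G α) P)).ker := by
                rw [ht']
                exact Subgroup.mem_top x
              rw [MonoidHom.mem_ker] at hx
              have := congrArg (fun σ => (σ ⟨P, mem_orbit_self P⟩).1) hx
              exact this
          constructor
          · by_contra hlt
            exact not_dvd_fact _ (by omega) hk3
          · by_contra hgt
            have : (orbit (stabilizer G α) P).ncard = 23 := by omega
            rw [this] at hk1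
            revert hk1
            norm_num
        obtain ⟨P0⟩ : Nonempty (Sylow 2 N) := inferInstance
        have hlt : (orbit (stabilizer G α) P0).ncard < (Set.univ : Set (Sylow 2 N)).ncard := by
          rw [Set.ncard_univ, hX23]
          have := (horb P0).2
          omega
        obtain ⟨P1, -, hP1⟩ := Set.exists_mem_notMem_of_ncard_lt_ncard hlt (Set.toFinite _)
        have hdis : Disjoint (orbit (stabilizer G α) P0) (orbit (stabilizer G α) P1) := by
          rw [Set.disjoint_left]
          intro y hy0 hy1
          apply hP1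
          have e0 := orbit_eq_iff.2 hy0
          have e1 := orbit_eq_iff.2 hy1
          rw [← e0, e1]
          exact mem_orbit_self P1
        have hun : (orbit (stabilizer G α) P0 ∪ orbit (stabilizer G α) P1).ncard ≤ 23 := by
          rw [← hX23, ← Set.ncard_univ]
          exact Set.ncard_le_ncard (Set.subset_univ _) Set.finite_univ
        rw [Set.ncard_union_eq hdis (Set.toFinite _) (Set.toFinite _)] at hun
        have := (horb P0).1
        have := (horb P1).1
        omega
    · have hHN : stabilizer G α ≤ N := Subgroup.subgroupOf_eq_top.1 ht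
      rw [sup_eq_left.2 hHN] at hK
      exact hK

end Cfsg.Agent.Lib.Lead.PS
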