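import Cfsg.Agent.Lib.Lead.Co2A
import Cfsg.Agent.Lib.Lead.PrimSimple

set_option autoImplicit false
set_option linter.style.haveILetI false

/-!
# The stabiliser of a minimal vector of the Leech lattice is simple (the second Conway group)

The stabiliser `G2` of `v32` acts on the `47104` minimal vectors `w` with `v32 · w = -8`; the point
stabiliser is the McLaughlin group, which is simple.  We show that the point stabiliser is a
maximal subgroup, using the fixed points of two coordinate permutations of orders 11 and 7, and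
deduce simplicity.
-/

namespace Cfsg.Agent.Lib.Lead.C2

open Cfsg
open Cfsg.Agent.Lib.Lead.LX Cfsg.Agent.Lib.Lead.CW Cfsg.Agent.Lib.Lead.CO Cfsg.Agent.Lib.Lead.CP
open Cfsg.Agent.Lib.helper3 Cfsg.Agent.Lib.helper4 Cfsg.Agent.S0398 Cfsg.Agent.S1571
open Cfsg.Agent.Lib.Lead.LC Cfsg.Agent.Lib.Lead.LC3 Cfsg.Agent.Lib.Lead.HS
open Cfsg.Agent.Lib.Lead.HSG Cfsg.Agent.Lib.Lead.ML
open MulAction

/-- the stabiliser of the standard minimal vector -/
abbrev G2 : Subgroup ↥Co0 := stabilizer ↥Co0 v32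

/-- the relation defining the suborbit of size 2025 -/
def rel (x y : ↥leechLattice) : Prop := dotInt x.1 y.1 = 16

theorem smulG2 (g : ↥G2) (y : ↥leechLattice) : g • y = g.1.1 y := rfl

theorem mem_orbitG2 (y : ↥leechLattice) :
    y ∈ orbit ↥G2 w0 ↔ sqNorm y.1 = 32 ∧ dotInt v32.1 y.1 = -8 := by
  show y ∈ orbit ↥(stabilizer ↥Co0 v32) w0 ↔ _
  rw [orbit_w0]
  rfl

theorem idxG2 : (stabilizer ↥G2 w0).index = 47104 := by
  rw [index_stabilizer]
  show (orbit ↥(stabilizer ↥Co0 v32) w0).ncard = 47104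
  rw [orbit_w0, ncard_w0]

theorem rel_smul (g : ↥G2) (x y : ↥leechLattice) : rel (g • x) (g • y) ↔ rel x y := by
  unfold rel
  rw [smulG2, smulG2, dot_map]

theorem rel_symm (x y : ↥leechLattice) (h : rel x y) : rel y x := by
  unfold rel at *
  rw [dot_symm]
  exact h

theorem rel_irr : ¬ rel w0 w0 := by
  unfold rel
  rw [dot_self, norm_w0]
  norm_num

/-! ### the suborbit of size 2025 -/

theorem sub_mem_X0 (y : ↥leechLattice) (hy : y ∈ orbit ↥G2 w0) (hr : rel w0 y) :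
    w0 - y ∈ X0 := by
  rw [mem_orbitG2] at hy
  unfold rel at hr
  refine ⟨?_, ?_, ?_⟩
  · show sqNorm (w0.1 - y.1) = 32
    rw [sqNorm_sub, norm_w0, hy.1, hr]
    norm_num
  · show dotInt v32.1 (w0.1 - y.1) = 0
    rw [dot_sub_right, dot_v32_w0, hy.2]
    norm_num
  · show dotInt w0.1 (w0.1 - y.1) = 16
    rw [dot_sub_right, dot_self, norm_w0, hr]
    norm_num

theorem sub_mem_B (x : ↥leechLattice) (hx : x ∈ X0) :
    w0 - x ∈ orbit ↥G2 w0 ∧ rel w0 (w0 - x) := by
  obtain ⟨h1, h2, h3⟩ := hx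
  constructor
  · rw [mem_orbitG2]
    constructor
    · show sqNorm (w0.1 - x.1) = 32
      rw [sqNorm_sub, norm_w0, h1, h3]
      norm_num
    · show dotInt v32.1 (w0.1 - x.1) = -8
      rw [dot_sub_right, dot_v32_w0, h2]
      norm_num
  · show dotInt w0.1 (w0.1 - x.1) = 16
    rw [dot_sub_right, dot_self, norm_w0, h3]
    norm_num

theorem ncard_B : {y | y ∈ orbit ↥G2 w0 ∧ rel w0 y}.ncard = 2025 := by
  rw [← X0_ncard]
  apply Set.ncard_congr (fun y _ => w0 - y)
  · rintro y ⟨h1, h2⟩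
    exact sub_mem_X0 y h1 h2
  · intro a b _ _ h
    exact sub_right_injective h
  · intro x hx
    exact ⟨w0 - x, sub_mem_B x hx, sub_sub_cancel _ _⟩

theorem trans_B (y : ↥leechLattice) (hy : y ∈ orbit ↥G2 w0) (hr : rel w0 y)
    (y' : ↥leechLattice) (hy' : y' ∈ orbit ↥G2 w0) (hr' : rel w0 y') :
    ∃ h ∈ stabilizer ↥G2 w0, h • y = y' := by
  obtain ⟨a1, a2, a3⟩ := sub_mem_X0 y hy hr
  obtain ⟨b1, b2, b3⟩ := sub_mem_X0 y' hy' hr'
  obtain ⟨g, hv, hw, hx⟩ := triple_trans v32 w0 (w0 - y) v32 w0 (w0 - y') norm_v32 norm_w0 a1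
    dot_v32_w0 a2 a3 norm_v32 norm_w0 b1 dot_v32_w0 b2 b3
  refine ⟨⟨g, hv⟩, hw, ?_⟩
  show g.1 y = y'
  rw [Cfsg.Agent.Lib.Lead.CP.map_sub', hw] at hx
  exact sub_right_injective hx

/-! ### group elements -/

/-- a coordinate permutation fixing `∞` and `0`, as an element of `G2` -/
noncomputable def permG (L : List ℕ) (hok : Cfsg.Agent.Lib.Helper12.Golay.okK L = true)
    (h0 : tF L none = none) (h1 : tF L (some 0) = some 0) : ↥G2 :=
  ⟨⟨permE (fperm L) (fperm_mem hok), permE_mem _ _⟩,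
    perm_fix (fperm L) (fperm_mem hok)
      ((fperm_apply (Cfsg.Agent.Lib.Helper12.Golay.okK_valid hok) none).trans h0)
      ((fperm_apply (Cfsg.Agent.Lib.Helper12.Golay.okK_valid hok) (some 0)).trans h1)⟩

theorem permG_apply (L : List ℕ) (hok : Cfsg.Agent.Lib.Helper12.Golay.okK L = true)
    (h0 : tF L none = none) (h1 : tF L (some 0) = some 0) (y : ↥leechLattice) (p : GolayPt) :
    ((permG L hok h0 h1) • y).1 p = y.1 (tF L p) := by
  show y.1 (fperm L p) = _
  rw [fperm_apply (Cfsg.Agent.Lib.Helper12.Golay.okK_valid hok)]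

theorem permG_w0 (L : List ℕ) (hok : Cfsg.Agent.Lib.Helper12.Golay.okK L = true)
    (h0 : tF L none = none) (h1 : tF L (some 0) = some 0) :
    permG L hok h0 h1 ∈ stabilizer ↥G2 w0 := by
  rw [mem_stabilizer_iff]
  exact perm_hL (fperm L) (fperm_mem hok) (some 0) (some 0)
    ((fperm_apply (Cfsg.Agent.Lib.Helper12.Golay.okK_valid hok) (some 0)).trans h1)

theorem permG_pow_apply (L : List ℕ) (hok : Cfsg.Agent.Lib.Helper12.Golay.okK L = true)
    (h0 : tF L none = none) (h1 : tF L (some 0) = some 0) (n : ℕ) (y : ↥leechLattice)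
    (p : GolayPt) : ((permG L hok h0 h1 ^ n) • y).1 p = y.1 ((tF L)^[n] p) := by
  induction n generalizing y with
  | zero => rw [pow_zero, one_smul, Function.iterate_zero_apply]
  | succ n ih =>
    rw [pow_succ, mul_smul, ih, permG_apply, Function.iterate_succ_apply']

theorem permG_pow_one (L : List ℕ) (hok : Cfsg.Agent.Lib.Helper12.Golay.okK L = true)
    (h0 : tF L none = none) (h1 : tF L (some 0) = some 0) (n : ℕ)
    (hn : ∀ p, (tF L)^[n] p = p) : permG L hok h0 h1 ^ n = 1 := by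
  apply Subtype.ext
  apply Subtype.ext
  apply Equiv.ext
  intro y
  apply Subtype.ext
  funext p
  have := permG_pow_apply L hok h0 h1 n y p
  rw [hn] at this
  exact this

theorem permG_fixed (L : List ℕ) (hok : Cfsg.Agent.Lib.Helper12.Golay.okK L = true)
    (h0 : tF L none = none) (h1 : tF L (some 0) = some 0) (y : ↥leechLattice)
    (hy : permG L hok h0 h1 • y = y) (p : GolayPt) : y.1 (tF L p) = y.1 p := by
  rw [← permG_apply L hok h0 h1 y p, hy]

/-- the elements of orders 11, 7 and 5 -/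
noncomputable def g11 : ↥G2 := permG L11 ok11 tbl_facts.1 tbl_facts.2.1
noncomputable def g7 : ↥G2 := permG L7 ok7 tbl_facts.2.2.1 tbl_facts.2.2.2.1
noncomputable def g4 : ↥G2 := permG L4 ok4 tbl_facts.2.2.2.2.1 tbl_facts.2.2.2.2.2

/-- a sign change away from `∞` and `0`, as an element of `G2` -/
noncomputable def flipG (k : ℕ) (h0 : ¬ Cw k none ≠ 0) (h1 : ¬ Cw k (some 0) ≠ 0) : ↥G2 :=
  ⟨⟨flipE (Cw k) (Cw_mem k), flipE_mem _ _⟩, flip_fix (Cw k) (Cw_mem k) h0 h1⟩

theorem flipG_val (k : ℕ) (h0 : ¬ Cw k none ≠ 0) (h1 : ¬ Cw k (some 0) ≠ 0)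
    (y : ↥leechLattice) : ((flipG k h0 h1) • y).1 = flip (Cw k) y.1 := rfl

/-! ### the second fixed point and the additional family -/

/-- the second fixed point of the element of order 11 -/
def β0 : ↥leechLattice := w0 - B0

theorem β0_val : β0.1 = hV none := by
  show w0.1 - B0.1 = hV none
  decide +kernel

theorem β0_mem : β0 ∈ orbit ↥G2 w0 ∧ rel w0 β0 := sub_mem_B B0 B0_mem_X0

theorem hV_none_fix : ∀ p, hV none (tF L11 p) = hV none p := by decide

theorem β0_fix : g11 • β0 = β0 := by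
  apply Subtype.ext
  funext p
  show ((permG L11 ok11 tbl_facts.1 tbl_facts.2.1) • β0).1 p = _
  rw [permG_apply, β0_val]
  exact hV_none_fix p

/-- the additional family -/
noncomputable def tfam (k : ℕ) : ↥leechLattice := β0 - l330 k

/-- the additional set -/
def Tset : Set ↥leechLattice := tfam '' (K330 : Set ℕ)

theorem tfam_facts (k : ℕ) (hk : k ∈ K330) :
    tfam k ∈ orbit ↥G2 w0 ∧ rel β0 (tfam k) ∧ ¬ rel w0 (tfam k) ∧ tfam k ≠ w0 := by
  obtain ⟨⟨h1, h2, h3⟩, h4⟩ := oL_mem330 k hk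
  obtain ⟨hb1, hb2⟩ := β0_mem
  rw [mem_orbitG2] at hb1
  unfold rel at hb2
  have d1 : dotInt β0.1 (l330 k).1 = 16 := by
    show dotInt (w0.1 - B0.1) (l330 k).1 = 16
    rw [dot_sub_left, h3, h4]
    norm_num
  have d2 : dotInt w0.1 (tfam k).1 = 0 := by
    show dotInt w0.1 (β0.1 - (l330 k).1) = 0
    rw [dot_sub_right, hb2, h3]
    norm_num
  refine ⟨?_, ?_, ?_, ?_⟩
  · rw [mem_orbitG2]
    constructor
    · show sqNorm (β0.1 - (l330 k).1) = 32
      rw [sqNorm_sub, hb1.1, h1, d1]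
      norm_num
    · show dotInt v32.1 (β0.1 - (l330 k).1) = -8
      rw [dot_sub_right, hb1.2, h2]
      norm_num
  · show dotInt β0.1 (β0.1 - (l330 k).1) = 16
    rw [dot_sub_right, dot_self, hb1.1, d1]
    norm_num
  · unfold rel
    rw [d2]
    norm_num
  · intro e
    rw [e, dot_self, norm_w0] at d2
    norm_num at d2

theorem Tset_ncard : Tset.ncard = 330 := by
  unfold Tset
  have hinj : Set.InjOn tfam (K330 : Set ℕ) := by
    intro k hk k' hk' h
    have : l330 k = l330 k' := sub_right_injective h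
    exact oL_inj330 k k' hk hk' this
  rw [Set.InjOn.ncard_image hinj, Set.ncard_coe_finset, card_K330]

/-! ### the fixed points -/

theorem sum_of_orbit (y : ↥leechLattice) (hy : y ∈ orbit ↥G2 w0) :
    sqNorm y.1 = 32 ∧ y.1 none + y.1 (some 0) = -2 := by
  rw [mem_orbitG2] at hy
  refine ⟨hy.1, ?_⟩
  have := hy.2
  rw [dot_v32] at this
  omega

theorem fix11 (y : ↥leechLattice) (hy : y ∈ orbit ↥G2 w0) (hf : g11 • y = y) :
    y = w0 ∨ y = β0 := by
  obtain ⟨hN, hs⟩ := sum_of_orbit y hy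
  rcases fix11_class y.1 y.2 hN hs (permG_fixed L11 ok11 _ _ y hf) with h | h
  · left
    exact Subtype.ext h
  · right
    apply Subtype.ext
    rw [β0_val]
    exact h

theorem fix7 (y : ↥leechLattice) (hy : y ∈ orbit ↥G2 w0) (hf : g7 • y = y) (hne : y ≠ w0) :
    rel w0 y ∨ (∃ s : ↥G2, s • y = y ∧ rel w0 (s • w0)) ∨
      (∃ h ∈ stabilizer ↥G2 w0, rel y (h • y)) := by
  obtain ⟨hN, hs⟩ := sum_of_orbit y hy
  rcases fix7_class y.1 y.2 hN hs (permG_fixed L7 ok7 _ _ y hf) with h | h | h | h | h | h | h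
  · exfalso
    exact hne (Subtype.ext h)
  · left
    exact h
  · right
    left
    refine ⟨flipG 88 cert1.1 cert1.2.1, ?_, ?_⟩
    · apply Subtype.ext
      rw [flipG_val, h]
      exact cert1.2.2.1
    · show dotInt w0.1 (flip (Cw 88) w0.1) = 16
      exact cert1.2.2.2
  · right
    left
    refine ⟨flipG 116 cert2.1 cert2.2.1, ?_, ?_⟩
    · apply Subtype.ext
      rw [flipG_val, h]
      exact cert2.2.2.1
    · show dotInt w0.1 (flip (Cw 116) w0.1) = 16
      exact cert2.2.2.2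
  · right
    right
    refine ⟨g4, permG_w0 _ _ _ _, ?_⟩
    have e : (g4 • y).1 = fun p => y.1 (tF L4 p) := by
      funext p
      exact permG_apply L4 ok4 _ _ y p
    unfold rel
    rw [e, h]
    exact cert4
  · right
    right
    refine ⟨g11, permG_w0 _ _ _ _, ?_⟩
    have e : (g11 • y).1 = fun p => y.1 (tF L11 p) := by
      funext p
      exact permG_apply L11 ok11 _ _ y p
    unfold rel
    rw [e, h]
    exact cert5
  · right
    right
    refine ⟨g11, permG_w0 _ _ _ _, ?_⟩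
    have e : (g11 • y).1 = fun p => y.1 (tF L11 p) := by
      funext p
      exact permG_apply L11 ok11 _ _ y p
    unfold rel
    rw [e, h]
    exact cert6

/-! ### maximality and simplicity -/

instance finiteG2 : Finite ↥G2 :=
  Nat.finite_of_card_ne_zero (by
    show Nat.card ↥(stabilizer ↥Co0 v32) ≠ 0
    rw [card_stab_v32]
    norm_num)

theorem hypMax : Cfsg.Agent.Lib.Lead.PS.HypMax (G := ↥G2) w0 β0 rel g11 g7 Tset where
  hidx := idxG2
  hr := rel_smul
  hsymm := rel_symm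
  hirr := rel_irr
  hB := ncard_B
  htr := trans_B
  h11mem := permG_w0 _ _ _ _
  h11 := permG_pow_one _ _ _ _ 11 ord11
  hβ0 := β0_mem.1
  hβ0r := β0_mem.2
  hβ0fix := β0_fix
  hfix11 := fix11
  h7mem := permG_w0 _ _ _ _
  h7 := permG_pow_one _ _ _ _ 7 ord7
  hfix7 := fix7
  hT1 := by
    rintro _ ⟨k, hk, rfl⟩
    exact (tfam_facts k hk).1
  hT2 := by
    rintro _ ⟨k, hk, rfl⟩
    exact (tfam_facts k hk).2.1
  hT3 := by
    rintro _ ⟨k, hk, rfl⟩
    exact (tfam_facts k hk).2.2.1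
  hT4 := by
    rintro _ ⟨k, hk, rfl⟩
    exact (tfam_facts k hk).2.2.2
  hT5 := by
    rw [Tset_ncard]
    norm_num

/-- the point stabiliser is the McLaughlin group -/
def stabMulEquiv : ↥(stabilizer ↥G2 w0) ≃* ↥M0 :=
  { stabEquivM with map_mul' := fun _ _ => rfl }

theorem card_stabG2 : Nat.card ↥(stabilizer ↥G2 w0) = 898128000 := by
  rw [Nat.card_congr stabMulEquiv.toEquiv]
  exact card_M0

theorem simple_stabG2 : IsSimpleGroup ↥(stabilizer ↥G2 w0) := by
  haveI := M0_simple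
  exact stabMulEquiv.isSimpleGroup

theorem faithfulG2 (g : ↥G2) (h : ∀ y ∈ orbit ↥G2 w0, g • y = y) : g = 1 := by
  have hw : g.1.1 w0 = w0 := h w0 (mem_orbit_self w0)
  have hv : g.1.1 v32 = v32 := g.2
  have hg : (⟨g.1, (mem_M0 _).2 ⟨hv, hw⟩⟩ : ↥M0) = 1 := by
    apply faithfulM
    intro x hx
    rw [orbit_B0] at hx
    have h1 := h (w0 - x) (sub_mem_B x hx).1
    have h2 : g.1.1 (w0 - x) = w0 - x := h1
    rw [Cfsg.Agent.Lib.Lead.CP.map_sub', hw] at h2
    exact sub_right_injective h2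
  apply Subtype.ext
  have h3 : (⟨g.1, (mem_M0 _).2 ⟨hv, hw⟩⟩ : ↥M0).1 = (1 : ↥M0).1 := congrArg Subtype.val hg
  exact h3

theorem G2_simple : IsSimpleGroup ↥G2 :=
  Cfsg.Agent.Lib.Lead.PS.simple_of_maximal w0 (Cfsg.Agent.Lib.Lead.PS.maximal hypMax) idxG2
    card_stabG2 simple_stabG2 faithfulG2

/-- conjugation to the standard vector -/
def conjEquiv2 (v : ↥leechLattice) (k0 : ↥Co0) (hv : k0.1 v32 = v) :
    ↥G2 ≃* ↥(stabilizer ↥Co0 v) where
  toFun g := ⟨k0 * g.1 * k0⁻¹, by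
    rw [mem_stabilizer_iff]
    exact Cfsg.Agent.S1584.conj_fix k0 g.1 v32 v hv g.2⟩
  invFun h := ⟨k0⁻¹ * h.1 * k0, by
    have hv' : h.1.1 v = v := h.2
    rw [mem_stabilizer_iff]
    show k0⁻¹.1 (h.1.1 (k0.1 v32)) = v32
    rw [hv, hv', ← hv, inv_apply_apply]⟩
  left_inv g := by
    apply Subtype.ext
    show k0⁻¹ * (k0 * g.1 * k0⁻¹) * k0 = g.1
    group
  right_inv h := by
    apply Subtype.ext
    show k0 * (k0⁻¹ * h.1 * k0) * k0⁻¹ = h.1
    group
  map_mul' a b := by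
    apply Subtype.ext
    show k0 * (a.1 * b.1) * k0⁻¹ = (k0 * a.1 * k0⁻¹) * (k0 * b.1 * k0⁻¹)
    group

theorem isCo2 (v : ↥leechLattice) (hv : sqNorm v.1 = 32) :
    IsCo2 ↥(stabilizer ↥Co0 v) := by
  obtain ⟨g, hg⟩ := trans32 v hv
  have hk : g⁻¹.1 v32 = v := by
    rw [← hg, inv_apply_apply]
  haveI := G2_simple
  refine ⟨(conjEquiv2 v g⁻¹ hk).symm.isSimpleGroup, ?_⟩
  rw [← Nat.card_congr (conjEquiv2 v g⁻¹ hk).toEquiv]
  exact card_stab_v32

end Cfsg.Agent.Lib.Lead.C2
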