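import Cfsg.Agent.Lib.Lead.LeechGen

/-!
# Conway's extra automorphism of the Leech lattice

For the sextet of the tetrad `{∞, 0, 1, 2}` the map `ξ` replaces `x_i` by `s/2 - x_i` on the first
tetrad and by `x_i - s/2` on the other five, `s` the sum of `x` over the tetrad of `i`.
It is an automorphism of the lattice (`xiE ∈ Co0`).
-/

set_option autoImplicit false
open Cfsg

namespace Cfsg.Agent.Lib.Lead.CW

open Cfsg.Agent.Lib.helper3 Cfsg.Agent.Lib.helper4 Cfsg.Agent.S1571 Cfsg.Agent.S0398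

/-! ### the sextet -/

/-- the point with index `n` -/
def ofIdx (n : ℕ) : GolayPt := if n = 23 then none else some (n : ZMod 23)

/-- the `a`-th point of the `t`-th tetrad -/
def pt (t : Fin 6) (a : Fin 4) : GolayPt :=
  ofIdx ((([[23, 0, 1, 2], [4, 13, 16, 22], [3, 5, 14, 17], [6, 7, 19, 21], [9, 10, 15, 20],
    [8, 11, 12, 18]] : List (List ℕ)).getD t.val []).getD a.val 0)

/-- the tetrad of a point -/
def tIdx (p : GolayPt) : Fin 6 :=
  (([0, 0, 0, 2, 1, 2, 3, 3, 5, 4, 4, 5, 5, 1, 2, 4, 1, 2, 5, 3, 4, 3, 1, 0] : List (Fin 6)).getD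
    (gidx p) 0)

/-- the position of a point in its tetrad -/
def aIdx (p : GolayPt) : Fin 4 :=
  (([1, 2, 3, 0, 0, 1, 0, 1, 0, 0, 1, 1, 2, 1, 2, 2, 2, 3, 3, 2, 3, 3, 3, 0] : List (Fin 4)).getD
    (gidx p) 0)

theorem pt_tIdx_aIdx : ∀ p : GolayPt, pt (tIdx p) (aIdx p) = p := by decide +kernel

theorem tIdx_pt : ∀ (t : Fin 6) (a : Fin 4), tIdx (pt t a) = t := by decide +kernel

theorem aIdx_pt : ∀ (t : Fin 6) (a : Fin 4), aIdx (pt t a) = a := by decide +kernel

/-- block coordinates -/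
def blockEquiv : Fin 6 × Fin 4 ≃ GolayPt where
  toFun ta := pt ta.1 ta.2
  invFun p := (tIdx p, aIdx p)
  left_inv ta := by
    apply Prod.ext
    · exact tIdx_pt ta.1 ta.2
    · exact aIdx_pt ta.1 ta.2
  right_inv p := pt_tIdx_aIdx p

theorem sum_blocks (f : GolayPt → ℤ) : ∑ p, f p = ∑ t : Fin 6, ∑ a : Fin 4, f (pt t a) := by
  rw [← Equiv.sum_comp blockEquiv f, Fintype.sum_prod_type]
  rfl

/-! ### the map -/

/-- block sums -/
def bsum (x : V) (t : Fin 6) : ℤ := x (pt t 0) + x (pt t 1) + x (pt t 2) + x (pt t 3)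

/-- the sign of a tetrad -/
def sg (t : Fin 6) : ℤ := if t = 0 then 1 else -1

theorem sg_mul_self (t : Fin 6) : sg t * sg t = 1 := by
  unfold sg
  split_ifs <;> norm_num

/-- Conway's map on vectors -/
def xiV (x : V) : V := fun p => sg (tIdx p) * (bsum x (tIdx p) / 2 - x p)

theorem xiV_pt (x : V) (t : Fin 6) (a : Fin 4) :
    xiV x (pt t a) = sg t * (bsum x t / 2 - x (pt t a)) := by
  unfold xiV
  rw [tIdx_pt]

theorem bsum_add (x y : V) (t : Fin 6) : bsum (x + y) t = bsum x t + bsum y t := by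
  simp only [bsum, Pi.add_apply]
  ring

theorem bsum_neg (x : V) (t : Fin 6) : bsum (-x) t = -bsum x t := by
  simp only [bsum, Pi.neg_apply]
  ring

theorem bsum_even (x : V) (hx : x ∈ leechLattice) (t : Fin 6) : (2 : ℤ) ∣ bsum x t := by
  rw [mem_leechLattice_iff, mem_leechSet_iff] at hx
  obtain ⟨m, h1, -, -⟩ := hx
  have a0 := h1 (pt t 0)
  have a1 := h1 (pt t 1)
  have a2 := h1 (pt t 2)
  have a3 := h1 (pt t 3)
  unfold Int.ModEq at a0 a1 a2 a3
  unfold bsum
  omega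

theorem xiV_add (x y : V) (hx : ∀ t, (2 : ℤ) ∣ bsum x t) (hy : ∀ t, (2 : ℤ) ∣ bsum y t) :
    xiV (x + y) = xiV x + xiV y := by
  funext p
  simp only [xiV, Pi.add_apply, bsum_add]
  obtain ⟨c, hc⟩ := hx (tIdx p)
  obtain ⟨d, hd⟩ := hy (tIdx p)
  rw [hc, hd]
  have h1 : (2 * c + 2 * d) / 2 = c + d := by omega
  have h2 : 2 * c / 2 = c := by omega
  have h3 : 2 * d / 2 = d := by omega
  rw [h1, h2, h3]
  ring

theorem xiV_neg (x : V) (hx : ∀ t, (2 : ℤ) ∣ bsum x t) : xiV (-x) = -xiV x := by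
  funext p
  simp only [xiV, Pi.neg_apply, bsum_neg]
  obtain ⟨c, hc⟩ := hx (tIdx p)
  rw [hc]
  have h1 : -(2 * c) / 2 = -c := by omega
  have h2 : 2 * c / 2 = c := by omega
  rw [h1, h2]
  ring

theorem xiV_zero : xiV 0 = 0 := by
  funext p
  simp [xiV, bsum]

theorem bsum_xiV (x : V) (hx : ∀ t, (2 : ℤ) ∣ bsum x t) (t : Fin 6) :
    bsum (xiV x) t = sg t * bsum x t := by
  obtain ⟨c, hc⟩ := hx t
  have h2 : 2 * c / 2 = c := by omega
  have hb : x (pt t 0) + x (pt t 1) + x (pt t 2) + x (pt t 3) = 2 * c := hc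
  show xiV x (pt t 0) + xiV x (pt t 1) + xiV x (pt t 2) + xiV x (pt t 3) = sg t * bsum x t
  rw [xiV_pt, xiV_pt, xiV_pt, xiV_pt, hc, h2]
  linear_combination (-(sg t)) * hb

theorem xiV_xiV (x : V) (hx : ∀ t, (2 : ℤ) ∣ bsum x t) : xiV (xiV x) = x := by
  funext p
  have hp := pt_tIdx_aIdx p
  rw [← hp, xiV_pt, bsum_xiV x hx, xiV_pt]
  obtain ⟨c, hc⟩ := hx (tIdx p)
  rw [hc]
  have h2 : 2 * c / 2 = c := by omega
  have h3 : sg (tIdx p) * (2 * c) / 2 = sg (tIdx p) * c := by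
    unfold sg
    split_ifs <;> omega
  rw [h2, h3]
  have := sg_mul_self (tIdx p)
  linear_combination (x (pt (tIdx p) (aIdx p))) * this

theorem sqNorm_xiV (x : V) (hx : ∀ t, (2 : ℤ) ∣ bsum x t) : sqNorm (xiV x) = sqNorm x := by
  unfold sqNorm
  rw [sum_blocks, sum_blocks (fun p => x p ^ 2)]
  apply Finset.sum_congr rfl
  intro t _
  rw [Fin.sum_univ_four, Fin.sum_univ_four, xiV_pt, xiV_pt, xiV_pt, xiV_pt]
  obtain ⟨c, hc⟩ := hx t
  have hb : x (pt t 0) + x (pt t 1) + x (pt t 2) + x (pt t 3) = 2 * c := hc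
  rw [hc]
  have h2 : 2 * c / 2 = c := by omega
  rw [h2]
  have := sg_mul_self t
  have e : ∀ z : ℤ, (sg t * z) ^ 2 = z ^ 2 := by
    intro z
    rw [mul_pow, pow_two (sg t), this, one_mul]
  rw [e, e, e, e]
  linear_combination (-2 * c) * hb

/-! ### the images of the generators lie in the lattice -/

theorem e4_mem_leech (i : GolayPt) (hi : i ≠ none) (s : ℤ) (hs : s = 4 ∨ s = -4) :
    e4 i s ∈ leechLattice := by
  rw [mem_leechLattice_iff]
  apply Spor.mem_leechSet_of_const_mod_four _ 0 0 (Int.ModEq.refl _)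
  · intro p
    unfold e4 Int.ModEq
    rcases hs with rfl | rfl <;> split_ifs <;> norm_num
  · have : ∑ p, e4 i s p = 4 + s := by
      unfold e4
      rw [Finset.sum_add_distrib, Finset.sum_ite_eq' Finset.univ none,
        Finset.sum_ite_eq' Finset.univ i, if_pos (Finset.mem_univ _), if_pos (Finset.mem_univ _)]
    rw [this]
    rcases hs with rfl | rfl <;> decide

theorem Gam_sub : ∀ γ ∈ Gam, γ ∈ leechLattice := by
  intro γ hγ
  rcases hγ with ((⟨i, hi, h | h⟩ | ⟨t, rfl⟩) | h) | h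
  · rw [h]; exact e4_mem_leech i hi 4 (Or.inl rfl)
  · rw [h]; exact e4_mem_leech i hi (-4) (Or.inr rfl)
  · exact twoInd_mem _ (Submodule.subset_span (Or.inl ⟨t, rfl⟩))
  · rw [Set.mem_singleton_iff] at h
    rw [h]
    exact twoInd_mem _ one_mem_golay
  · rw [Set.mem_singleton_iff] at h
    rw [h]
    exact x0_mem

set_option maxRecDepth 100000 in
theorem chk_e4 : ∀ i : GolayPt, i ≠ none →
    isLeechB (xiV (e4 i 4)) = true ∧ isLeechB (xiV (e4 i (-4))) = true := by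
  decide +kernel

set_option maxRecDepth 100000 in
theorem chk_qr : ∀ t : ZMod 23, isLeechB (xiV (twoInd (qrWord t))) = true := by
  decide +kernel

set_option maxRecDepth 100000 in
theorem chk_one : isLeechB (xiV (twoInd 1)) = true := by
  decide +kernel

set_option maxRecDepth 100000 in
theorem chk_x0 : isLeechB (xiV x0) = true := by
  decide +kernel

theorem xiV_Gam : ∀ γ ∈ Gam, xiV γ ∈ leechLattice := by
  intro γ hγ
  apply isLeechB_sound
  rcases hγ with ((⟨i, hi, h | h⟩ | ⟨t, rfl⟩) | h) | h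
  · rw [h]; exact (chk_e4 i hi).1
  · rw [h]; exact (chk_e4 i hi).2
  · exact chk_qr t
  · rw [Set.mem_singleton_iff] at h
    rw [h]
    exact chk_one
  · rw [Set.mem_singleton_iff] at h
    rw [h]
    exact chk_x0

theorem xiV_mem (x : V) (hx : x ∈ leechLattice) : xiV x ∈ leechLattice := by
  have key : ∀ x ∈ leechLattice, (∀ t, (2 : ℤ) ∣ bsum x t) ∧ xiV x ∈ leechLattice := by
    apply leech_induction (fun x => (∀ t, (2 : ℤ) ∣ bsum x t) ∧ xiV x ∈ leechLattice)
    · refine ⟨fun t => ?_, ?_⟩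
      · simp [bsum]
      · rw [xiV_zero]
        exact leechLattice.zero_mem
    · rintro x y ⟨hx1, hx2⟩ ⟨hy1, hy2⟩
      refine ⟨fun t => ?_, ?_⟩
      · rw [bsum_add]
        exact dvd_add (hx1 t) (hy1 t)
      · rw [xiV_add x y hx1 hy1]
        exact leechLattice.add_mem hx2 hy2
    · rintro x ⟨hx1, hx2⟩
      refine ⟨fun t => ?_, ?_⟩
      · rw [bsum_neg]
        exact (dvd_neg).2 (hx1 t)
      · rw [xiV_neg x hx1]
        exact leechLattice.neg_mem hx2
    · intro γ hγ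
      exact ⟨bsum_even γ (Gam_sub γ hγ), xiV_Gam γ hγ⟩
  exact (key x hx).2

/-! ### the automorphism -/

/-- Conway's automorphism -/
def xiE : Equiv.Perm leechLattice where
  toFun v := ⟨xiV v.1, xiV_mem v.1 v.2⟩
  invFun v := ⟨xiV v.1, xiV_mem v.1 v.2⟩
  left_inv v := Subtype.ext (xiV_xiV v.1 (bsum_even v.1 v.2))
  right_inv v := Subtype.ext (xiV_xiV v.1 (bsum_even v.1 v.2))

theorem xiE_mem : xiE ∈ Co0 := by
  refine ⟨fun v w => ?_, fun v => ?_⟩
  · apply Subtype.ext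
    exact xiV_add v.1 w.1 (bsum_even v.1 v.2) (bsum_even w.1 w.2)
  · exact sqNorm_xiV v.1 (bsum_even v.1 v.2)

theorem xiE_apply (v : leechLattice) (a : Fin 4) :
    (xiE v).1 (pt 0 a) = bsum v.1 0 / 2 - v.1 (pt 0 a) := by
  show xiV v.1 (pt 0 a) = _
  rw [xiV_pt]
  simp [sg]

end Cfsg.Agent.Lib.Lead.CW
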