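import Mathlib
import Cfsg.Agent.Lib.Helper26.SB.Defs
import Cfsg.Agent.Lib.helper4.ElemClassB
import Cfsg.Agent.Lib.Lead.SBC24Data

/-! # SB-C24 : the kernel checks -/

set_option autoImplicit false
set_option linter.unusedVariables false

namespace Cfsg.Agent.Lib.Helper26.SB

open Cfsg Cfsg.Agent.Lib.helper4 Cfsg.Agent.Lib.Helper12.Golay

/-- iterate a table on a point -/
def sbc24_iter (C : List ℕ) : ℕ → ℕ → ℕ
  | 0, x => x
  | k + 1, x => sbc24_iter C k (C.getD x 0)

/-- the certificate `e` for the candidate `C` -/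
def sbc24_entry (C : List ℕ) (e : ℕ × ℕ × List ℕ) : Bool :=
  if e.2.2.isEmpty then
    decide (e.1 < 24) && !(Nat.beq (sbc24_iter C e.2.1 e.1) e.1) &&
      Nat.beq (sbc24_iter C (2 * e.2.1) e.1) e.1
  else compTbl e.2.2 C == compTbl (reps24.getD e.1 []) e.2.2

/-- the check for one table `H` -/
def sbc24_chk1 (p : List ℕ × List (ℕ × ℕ × List ℕ)) : Bool :=
  (List.range 48).all fun j => forceList (compTbl p.1 (K5L.getD j [])) fun C =>
    sbc24_entry C (p.2.getD j (0, 0, []))

set_option maxRecDepth 1000000 in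
theorem sbc24_checkA : sbc24_pairsA.all sbc24_chk1 = true := by decide +kernel

set_option maxRecDepth 1000000 in
theorem sbc24_checkB : sbc24_pairsB.all sbc24_chk1 = true := by decide +kernel

set_option maxRecDepth 1000000 in
theorem sbc24_checkC : sbc24_pairsC.all sbc24_chk1 = true := by decide +kernel

set_option maxRecDepth 1000000 in
theorem sbc24_checkD : sbc24_pairsD.all sbc24_chk1 = true := by decide +kernel

/-- membership in the group of the code of all tables -/
def sbc24_ok1 (p : List ℕ × List (ℕ × ℕ × List ℕ)) : Bool :=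
  okK p.1 && p.2.all fun e => e.2.2.isEmpty || (okK e.2.2 && decide (e.1 < 13))

set_option maxRecDepth 1000000 in
theorem sbc24_okA : sbc24_pairsA.all sbc24_ok1 = true := by decide +kernel

set_option maxRecDepth 1000000 in
theorem sbc24_okB : sbc24_pairsB.all sbc24_ok1 = true := by decide +kernel

set_option maxRecDepth 1000000 in
theorem sbc24_okC : sbc24_pairsC.all sbc24_ok1 = true := by decide +kernel

set_option maxRecDepth 1000000 in
theorem sbc24_okD : sbc24_pairsD.all sbc24_ok1 = true := by decide +kernel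

set_option maxRecDepth 1000000 in
theorem sbc24_oks : (∀ R ∈ reps24, okK R = true) ∧
    okK sbc24_W3A = true ∧ okK sbc24_W3B = true ∧
    compTbl sbc24_W3A rep3A = compTbl (reps24.getD 1 []) sbc24_W3A ∧
    compTbl sbc24_W3B rep3B = compTbl (reps24.getD 2 []) sbc24_W3B := by
  decide +kernel

theorem sbc24_Hs_complete : ∀ q < 24, q ∉ [12, 14, 16, 17] → ∃ p ∈ sbc24_pairs,
    p.1.getD 0 0 = 12 ∧ p.1.getD 12 0 = 14 ∧ p.1.getD 14 0 = 16 ∧ p.1.getD 16 0 = 17 ∧
      p.1.getD 17 0 = q := by
  decide

end Cfsg.Agent.Lib.Helper26.SB
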