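import Mathlib
import Cfsg.Agent.Lib.Helper26.SB.Defs
import Cfsg.Agent.Lib.helper4.ElemClassB
import Cfsg.Agent.Lib.helper4.ElemResults
import Cfsg.Agent.Lib.Lead.SBC24Chk

/-! # SB-C24 : every element of odd order of `M24` is conjugate to one of the 13 representatives -/

set_option autoImplicit false
set_option linter.unusedVariables false

namespace Cfsg.Agent.Lib.Helper26.SB

open Cfsg Cfsg.Agent.Lib.helper4 Cfsg.Agent.Lib.Helper12.Golay

theorem sbc24_iter_spec (g : Equiv.Perm GolayPt) (k : ℕ) : ∀ x < 24,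
    sbc24_iter (tblOf g) k x = idx ((g ^ k) (pt x)) := by
  induction k with
  | zero =>
    intro x hx
    rw [pow_zero, Equiv.Perm.one_apply, idx_pt hx]
    rfl
  | succ k ih =>
    intro x hx
    show sbc24_iter (tblOf g) k ((tblOf g).getD x 0) = _
    rw [tblOf_getD g hx, ih _ (idx_lt _), pt_idx, pow_succ, Equiv.Perm.mul_apply]

/-- a point in a cycle of even length forces even order -/
theorem sbc24_even {g : Equiv.Perm GolayPt} {p : GolayPt} {m : ℕ} (h1 : (g ^ m) p ≠ p)
    (h2 : (g ^ (2 * m)) p = p) : 2 ∣ orderOf g := by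
  by_contra hnd
  have hodd : Nat.Coprime 2 (orderOf g) := (Nat.Prime.coprime_iff_not_dvd Nat.prime_two).mpr hnd
  have P1 : Function.IsPeriodicPt g (2 * m) p := by
    show g^[2 * m] p = p
    rw [Equiv.Perm.iterate_eq_pow]
    exact h2
  have P2 : Function.IsPeriodicPt g (orderOf g) p := by
    show g^[orderOf g] p = p
    rw [Equiv.Perm.iterate_eq_pow, pow_orderOf_eq_one]
    rfl
  have P := P1.gcd P2
  have hc : Nat.Coprime (Nat.gcd (2 * m) (orderOf g)) 2 :=
    Nat.Coprime.coprime_dvd_left (Nat.gcd_dvd_right _ _) hodd.symm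
  have hd : Nat.gcd (2 * m) (orderOf g) ∣ m := by
    apply hc.dvd_of_dvd_mul_left
    rw [mul_comm]
    exact Nat.gcd_dvd_left _ _
  have P3 : Function.IsPeriodicPt g m p := P.trans_dvd hd
  apply h1
  have : g^[m] p = p := P3
  rwa [Equiv.Perm.iterate_eq_pow] at this

theorem sbc24_conj_of_tbl {W R : List ℕ} (hW : okK W = true) (hR : ValidT R)
    {g : Equiv.Perm GolayPt} (h : compTbl W (tblOf g) = compTbl R W) :
    fperm W * g * (fperm W)⁻¹ = fperm R := by
  have hv := okK_valid hW
  have : fperm W * g = fperm R * fperm W := by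
    apply tblOf_injective
    rw [tblOf_mul, tblOf_mul, tblOf_fperm hv, tblOf_fperm hR, h]
  rw [this]
  group

theorem sbc24_mem_reps {i : ℕ} (hi : i < 13) : reps24.getD i [] ∈ reps24 := by
  have hl : reps24.length = 13 := rfl
  rw [List.getD_eq_getElem _ _ (by rw [hl]; exact hi)]
  exact List.getElem_mem _

theorem sbc24_pairs_facts {p : List ℕ × List (ℕ × ℕ × List ℕ)} (hp : p ∈ sbc24_pairs) :
    sbc24_chk1 p = true ∧ sbc24_ok1 p = true := by
  simp only [sbc24_pairs, List.mem_append] at hp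
  rcases hp with hp | hp | hp | hp
  · exact ⟨List.all_eq_true.mp sbc24_checkA p hp, List.all_eq_true.mp sbc24_okA p hp⟩
  · exact ⟨List.all_eq_true.mp sbc24_checkB p hp, List.all_eq_true.mp sbc24_okB p hp⟩
  · exact ⟨List.all_eq_true.mp sbc24_checkC p hp, List.all_eq_true.mp sbc24_okC p hp⟩
  · exact ⟨List.all_eq_true.mp sbc24_checkD p hp, List.all_eq_true.mp sbc24_okD p hp⟩

/-- the candidates: an element of odd order agreeing with `p.1` on the base points is conjugate to a
representative -/
theorem sbc24_cand {p : List ℕ × List (ℕ × ℕ × List ℕ)} (hp : p ∈ sbc24_pairs)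
    {g : Equiv.Perm GolayPt} (hg : g ∈ M24) (ho : ¬ 2 ∣ orderOf g)
    (hag : ∀ j < 5, g (pt (b5 j)) = pt (p.1.getD (b5 j) 0)) :
    ∃ w ∈ M24, ∃ R ∈ reps24, w * g * w⁻¹ = fperm R := by
  obtain ⟨hchk, hok⟩ := sbc24_pairs_facts hp
  unfold sbc24_ok1 at hok
  rw [Bool.and_eq_true, List.all_eq_true] at hok
  obtain ⟨hokH, hokW⟩ := hok
  obtain ⟨K, hK, e⟩ := enum5 hg hokH hag
  obtain ⟨j, hj, hjK⟩ := List.mem_iff_getElem.mp hK
  have hl : K5L.length = 48 := rfl
  have hj48 : j < 48 := by rw [← hl]; exact hj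
  have hKj : K5L.getD j [] = K := by
    rw [List.getD_eq_getElem _ _ hj]
    exact hjK
  unfold sbc24_chk1 at hchk
  rw [List.all_eq_true] at hchk
  have h1 := hchk j (List.mem_range.mpr hj48)
  rw [forceList_eq, hKj, ← e] at h1
  set en := p.2.getD j (0, 0, []) with hen
  unfold sbc24_entry at h1
  by_cases hemp : en.2.2.isEmpty = true
  · exfalso
    rw [if_pos hemp, Bool.and_eq_true, Bool.and_eq_true, decide_eq_true_eq, Bool.not_eq_true',
      ← Bool.not_eq_true, natBeq_iff, natBeq_iff] at h1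
    obtain ⟨⟨hx, hne⟩, heq⟩ := h1
    rw [sbc24_iter_spec g _ _ hx] at hne heq
    apply ho
    refine sbc24_even (p := pt en.1) (m := en.2.1) ?_ ?_
    · intro h
      apply hne
      rw [h, idx_pt hx]
    · have := congrArg pt heq
      rwa [pt_idx] at this
  · rw [if_neg hemp, beq_iff_eq] at h1
    have hmem : en ∈ p.2 := by
      by_cases hjl : j < p.2.length
      · rw [hen, List.getD_eq_getElem _ _ hjl]
        exact List.getElem_mem _
      · exfalso
        apply hemp
        rw [hen, List.getD_eq_default _ _ (by omega)]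
        rfl
    have h2 := hokW en hmem
    rw [Bool.or_eq_true, Bool.and_eq_true, decide_eq_true_eq] at h2
    rcases h2 with h2 | ⟨hW, hlt⟩
    · exact absurd h2 hemp
    · have hRm := sbc24_mem_reps hlt
      refine ⟨fperm en.2.2, fperm_mem hW, _, hRm, ?_⟩
      exact sbc24_conj_of_tbl hW (okK_valid (sbc24_oks.1 _ hRm)) h1

/-- without five distinct consecutive iterates, an element of odd order has order dividing `3` -/
theorem sbc24_cube {g : Equiv.Perm GolayPt} (ho : ¬ 2 ∣ orderOf g)
    (h5 : ¬ ∃ x : GolayPt, [x, g x, g (g x), g (g (g x)), g (g (g (g x)))].Nodup) : g ^ 3 = 1 := by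
  refine Equiv.ext fun x => ?_
  show (g ^ 3) x = x
  set n := Function.minimalPeriod g x with hn
  have P2 : Function.IsPeriodicPt g (orderOf g) x := by
    show g^[orderOf g] x = x
    rw [Equiv.Perm.iterate_eq_pow, pow_orderOf_eq_one]
    rfl
  have hdvd : n ∣ orderOf g := P2.minimalPeriod_dvd
  have hopos : 0 < orderOf g := orderOf_pos g
  have hnpos : 0 < n := Nat.pos_of_dvd_of_pos hdvd hopos
  have hnodd : ¬ 2 ∣ n := fun h => ho (dvd_trans h hdvd)
  have hn4 : n < 5 := by
    by_contra hge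
    push Not at hge
    apply h5
    refine ⟨x, ?_⟩
    have hinj := Function.iterate_injOn_Iio_minimalPeriod (f := g) (x := x)
    have hne : ∀ i j : ℕ, i < 5 → j < 5 → i ≠ j → g^[i] x ≠ g^[j] x := by
      intro i j hi hj hij h
      exact hij (hinj (Set.mem_Iio.mpr (lt_of_lt_of_le hi hge)) (Set.mem_Iio.mpr (lt_of_lt_of_le hj hge)) h)
    simp only [List.nodup_cons, List.mem_cons, List.not_mem_nil, or_false, not_or,
      List.nodup_nil, and_true, not_false_eq_true]
    refine ⟨⟨hne 0 1 (by norm_num) (by norm_num) (by norm_num),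
      hne 0 2 (by norm_num) (by norm_num) (by norm_num),
      hne 0 3 (by norm_num) (by norm_num) (by norm_num),
      hne 0 4 (by norm_num) (by norm_num) (by norm_num)⟩,
      ⟨hne 1 2 (by norm_num) (by norm_num) (by norm_num),
      hne 1 3 (by norm_num) (by norm_num) (by norm_num),
      hne 1 4 (by norm_num) (by norm_num) (by norm_num)⟩,
      ⟨hne 2 3 (by norm_num) (by norm_num) (by norm_num),
      hne 2 4 (by norm_num) (by norm_num) (by norm_num)⟩,
      hne 3 4 (by norm_num) (by norm_num) (by norm_num)⟩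
  have hn3 : n ∣ 3 := by
    interval_cases n
    · exact one_dvd _
    · exact absurd (dvd_refl 2) hnodd
    · exact dvd_refl _
    · exact absurd (by norm_num : 2 ∣ 4) hnodd
  have P3 : Function.IsPeriodicPt g 3 x := (Function.isPeriodicPt_minimalPeriod g x).trans_dvd hn3
  have : g^[3] x = x := P3
  rwa [Equiv.Perm.iterate_eq_pow] at this

/-- C24: every element of odd order of `M24` is conjugate to one of the 13 representatives. -/
theorem class24 (g : Equiv.Perm GolayPt) (hg : g ∈ M24) (ho : ¬ 2 ∣ orderOf g) :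
    ∃ w ∈ M24, ∃ R ∈ reps24, w * g * w⁻¹ = fperm R := by
  by_cases h5 : ∃ x : GolayPt, [x, g x, g (g x), g (g (g x)), g (g (g (g x)))].Nodup
  · obtain ⟨x, hnd⟩ := h5
    obtain ⟨k, hk, hkx, hg', hact⟩ := conj_base hg (emb5 _ _ _ _ _ hnd)
    have hnd' := hnd
    simp only [List.nodup_cons, List.mem_cons, List.not_mem_nil, or_false, not_or,
      List.nodup_nil, and_true, not_false_eq_true] at hnd'
    obtain ⟨⟨n01, n02, n03, n04⟩, ⟨n12, n13, n14⟩, ⟨n23, n24⟩, n34⟩ := hnd'
    set y := g (g (g (g (g x)))) with hy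
    have l1 : y ≠ g x := fun h => n04 (g.injective h).symm
    have l2 : y ≠ g (g x) := fun h => n03 (g.injective (g.injective h)).symm
    have l3 : y ≠ g (g (g x)) := fun h => n02 (g.injective (g.injective (g.injective h))).symm
    have l4 : y ≠ g (g (g (g x))) :=
      fun h => n01 (g.injective (g.injective (g.injective (g.injective h)))).symm
    have hq : idx (k y) ∉ [12, 14, 16, 17] := by
      simp only [List.mem_cons, List.not_mem_nil, or_false, not_or]
      exact ⟨idx_ne_b5 hkx 1 l1, idx_ne_b5 hkx 2 l2, idx_ne_b5 hkx 3 l3, idx_ne_b5 hkx 4 l4⟩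
    obtain ⟨p, hp, c0, c1, c2, c3, c4⟩ := sbc24_Hs_complete _ (idx_lt (k y)) hq
    have ho' : ¬ 2 ∣ orderOf (k * g * k⁻¹) := by
      have := MulEquiv.orderOf_eq (MulAut.conj k) g
      rw [MulAut.conj_apply] at this
      rw [this]
      exact ho
    have k1 : k (g x) = pt 12 := hkx 1
    have k2 : k (g (g x)) = pt 14 := hkx 2
    have k3 : k (g (g (g x))) = pt 16 := hkx 3
    have k4 : k (g (g (g (g x)))) = pt 17 := hkx 4
    have hag : ∀ j < 5, (k * g * k⁻¹) (pt (b5 j)) = pt (p.1.getD (b5 j) 0) := by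
      intro j hj
      rw [hact ⟨j, hj⟩]
      interval_cases j
      · show k (g x) = pt (p.1.getD 0 0)
        rw [c0, k1]
      · show k (g (g x)) = pt (p.1.getD 12 0)
        rw [c1, k2]
      · show k (g (g (g x))) = pt (p.1.getD 14 0)
        rw [c2, k3]
      · show k (g (g (g (g x)))) = pt (p.1.getD 16 0)
        rw [c3, k4]
      · show k (g (g (g (g (g x))))) = pt (p.1.getD 17 0)
        rw [c4, pt_idx]
    obtain ⟨w, hw, R, hR, e⟩ := sbc24_cand hp hg' ho' hag
    exact ⟨w * k, M24.mul_mem hw hk, R, hR, conj_conj e⟩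
  · have h3 := sbc24_cube ho h5
    have hv0 : ValidT (List.range 24) := by decide
    by_cases h1 : g = 1
    · refine ⟨1, M24.one_mem, List.range 24, by decide, ?_⟩
      rw [h1, one_mul, inv_one, mul_one]
      exact eq_fperm_of_tblOf hv0 tblOf_one
    · obtain ⟨hR, hW3A, hW3B, hcA, hcB⟩ := sbc24_oks
      by_cases hf : ∃ p, g p = p
      · obtain ⟨-, w, hw, e⟩ := class3A hg h3 h1 hf
        have hRm : reps24.getD 1 [] ∈ reps24 := sbc24_mem_reps (by norm_num)
        refine ⟨fperm sbc24_W3A * w, M24.mul_mem (fperm_mem hW3A) hw, _, hRm, ?_⟩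
        apply conj_conj
        rw [e]
        apply sbc24_conj_of_tbl hW3A (okK_valid (hR _ hRm))
        rw [tblOf_fperm (okK_valid okK_rep3A)]
        exact hcA
      · push Not at hf
        obtain ⟨w, hw, e⟩ := class3B hg h3 hf
        have hRm : reps24.getD 2 [] ∈ reps24 := sbc24_mem_reps (by norm_num)
        refine ⟨fperm sbc24_W3B * w, M24.mul_mem (fperm_mem hW3B) hw, _, hRm, ?_⟩
        apply conj_conj
        rw [e]
        apply sbc24_conj_of_tbl hW3B (okK_valid (hR _ hRm))
        rw [tblOf_fperm (okK_valid okK_rep3B)]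
        exact hcB

end Cfsg.Agent.Lib.Helper26.SB
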