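import Mathlib
import Cfsg.Prelude.Def_LieTypeChar
import Cfsg.Prelude.Def_ChevStructure
import Cfsg.Agent.Lib.helper14.SQD.Defs

/-! Project SQD (designer helper14), rows P1 `symm_stable`, P2 `card_symm` (written by lead). -/

set_option autoImplicit false

namespace Cfsg.Agent.Lib.helper14.SQD

open Cfsg Cfsg.Lie Matrix

universe u v

theorem sqdp1_tadj_id {m n : Type*} {R : Type*} [CommRing R] (A : Matrix m n R) :
    tadj (RingHom.id R) A = Aᵀ := by
  unfold tadj
  ext i j
  simp

/-- P1 [E]. `(A * S * Aᵀ)ᵀ = A * Sᵀ * Aᵀ`; `tadj (RingHom.id R) A = Aᵀ` (`Matrix.map_id`). -/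
theorem symm_stable (k : ℕ) (R : Type u) [CommRing R] (A S : Matrix (Fin k) (Fin k) R) (hS : S ∈ symmAdd k R) :
    A * S * tadj (RingHom.id R) A ∈ symmAdd k R := by
  have hS' : Sᵀ = S := hS
  show (A * S * tadj (RingHom.id R) A)ᵀ = A * S * tadj (RingHom.id R) A
  rw [sqdp1_tadj_id, Matrix.transpose_mul, Matrix.transpose_mul, Matrix.transpose_transpose, hS',
    Matrix.mul_assoc]

/-- symmetric matrices are the symmetric functions of two variables -/
def sqdp2_equiv (k : ℕ) (F : Type u) [Field F] :
    symmAdd k F ≃ {f : Fin k → Fin k → F // ∀ a b, f a b = f b a} where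
  toFun S := ⟨fun i j => S.1 i j, fun a b => by
    have h : (S.1)ᵀ = S.1 := S.2
    have := congrFun (congrFun h a) b
    simpa [Matrix.transpose_apply] using this.symm⟩
  invFun f := ⟨Matrix.of f.1, by
    show (Matrix.of f.1)ᵀ = Matrix.of f.1
    ext i j
    simp only [Matrix.transpose_apply, Matrix.of_apply]
    exact f.2 j i⟩
  left_inv S := by
    apply Subtype.ext
    rfl
  right_inv f := by
    apply Subtype.ext
    rfl

/-- P2 [M]. A symmetric matrix is determined by its entries `S i j`, `i ≤ j`; there are `k * (k + 1) / 2` such pairs. -/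
theorem card_symm {F : Type u} [Field F] [Fintype F] (k : ℕ) :
    Nat.card (symmAdd k F) = Fintype.card F ^ (k * (k + 1) / 2) := by
  classical
  rw [Nat.card_congr ((sqdp2_equiv k F).trans Sym2.lift), Nat.card_eq_fintype_card, Fintype.card_fun,
    Sym2.card, Fintype.card_fin, Nat.choose_two_right, Nat.add_sub_cancel, Nat.mul_comm]

end Cfsg.Agent.Lib.helper14.SQD
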