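import Mathlib
import Cfsg.Prelude.Def_LieTypeChar
import Cfsg.Prelude.Def_ChevStructure
import Cfsg.Agent.Lib.helper14.SQD.Defs

/-! Project SQD (designer helper14), row P3 `sg_le_range_sp` (written by lead). -/

set_option autoImplicit false

namespace Cfsg.Agent.Lib.helper14.SQD

open Cfsg Cfsg.Lie Matrix

universe u v

theorem sqdp3_sieg_mem (m : ℕ) (R : Type u) [CommRing R] (S : Matrix (Fin m) (Fin m) R) (hS : Sᵀ = S) :
    Matrix.fromBlocks (1 : Matrix (Fin m) (Fin m) R) S 0 1 ∈ Matrix.symplecticGroup (Fin m) R := by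
  rw [SymplecticGroup.mem_iff, Matrix.J, Matrix.fromBlocks_transpose, Matrix.fromBlocks_multiply,
    Matrix.fromBlocks_multiply]
  simp [hS]

theorem sqdp3_lev_mem (m : ℕ) (R : Type u) [CommRing R] (g : GL (Fin m) R) :
    Matrix.fromBlocks (g : Matrix (Fin m) (Fin m) R) 0 0
      (((g⁻¹ : GL (Fin m) R) : Matrix (Fin m) (Fin m) R))ᵀ ∈ Matrix.symplecticGroup (Fin m) R := by
  have h1 : ((g : Matrix (Fin m) (Fin m) R)) * ((g⁻¹ : GL (Fin m) R) : Matrix (Fin m) (Fin m) R) = 1 := by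
    rw [← Units.val_mul, mul_inv_cancel, Units.val_one]
  have h2 : (((g⁻¹ : GL (Fin m) R) : Matrix (Fin m) (Fin m) R))ᵀ * ((g : Matrix (Fin m) (Fin m) R))ᵀ = 1 := by
    rw [← Matrix.transpose_mul, h1, Matrix.transpose_one]
  rw [SymplecticGroup.mem_iff, Matrix.J, Matrix.fromBlocks_transpose, Matrix.fromBlocks_multiply,
    Matrix.fromBlocks_multiply]
  simp only [Matrix.mul_zero, Matrix.zero_mul, Matrix.mul_one, Matrix.one_mul, add_zero, zero_add,
    Matrix.mul_neg, Matrix.neg_mul, Matrix.transpose_zero, Matrix.transpose_transpose, h1, h2, neg_zero]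

/-- P3 [M]. The generators are symplectic: `SymplecticGroup.mem_iff` (`A * J * Aᵀ = J`, `J = fromBlocks 0 (-1) 1 0`);
for `fromBlocks 1 S 0 1` this is `S = Sᵀ`, for `fromBlocks g 0 0 (g⁻¹)ᵀ` it is `g * (g⁻¹) = 1`; then
`Subgroup.sup_le`, `Subgroup.map_le_iff_le_comap`. -/
theorem sg_le_range_sp (m : ℕ) (R : Type u) [CommRing R] :
    sgGrp (RingHom.id R) (symmAdd m R) ≤ (spToGL m R).range := by
  unfold sgGrp
  apply sup_le
  · unfold siegGrp
    rw [Subgroup.map_le_iff_le_comap]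
    intro S hS
    have hS' : (Multiplicative.toAdd S)ᵀ = Multiplicative.toAdd S := hS
    rw [Subgroup.mem_comap]
    refine ⟨⟨_, sqdp3_sieg_mem m R (Multiplicative.toAdd S) hS'⟩, ?_⟩
    apply Units.ext
    rw [spToGL_coe, siegHom_coe]
  · unfold levGrp
    rw [Subgroup.map_le_iff_le_comap]
    intro g _
    rw [Subgroup.mem_comap]
    refine ⟨⟨_, sqdp3_lev_mem m R g⟩, ?_⟩
    apply Units.ext
    rw [spToGL_coe, levHom_coe]
    congr 1

end Cfsg.Agent.Lib.helper14.SQD
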