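import Mathlib
import Cfsg.Prelude.Def_GeometricClasses
import Cfsg.Agent.Lib.Helper27.ASC.Defs
import Cfsg.Agent.Lib.helper23.ASCO.Defs
import Cfsg.Agent.Lib.Helper19.ASG.Defs
import Cfsg.Agent.Lib.Helper1.ASGCLIF3
import Cfsg.Agent.Lib.Helper25.ASO.Defs
import Cfsg.Agent.Lib.helper23.ASE.Defs
import Cfsg.Agent.Lib.Helper20.ASE10M.Defs

set_option autoImplicit false
set_option linter.unusedVariables false
set_option linter.unusedSectionVars false

/-!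
# E10M F5-POLAR : `efield_polar` (VERBATIM vs `Helper20/ASE10M/FieldSkel5.lean.txt`)
-/

namespace Cfsg.Agent.Lib.Helper16.E10M

open Cfsg Cfsg.Geo Cfsg.Agent.Lib.Helper27.ASC Cfsg.Agent.Lib.helper23.ASCO Cfsg.Agent.Lib.Helper19.ASG
  Cfsg.Agent.Lib.Helper25.ASO
open scoped MatrixGroups Matrix Kronecker

variable {n : ℕ} {F : Type*} [Field F] [Fintype F]

theorem efield_polar {r : ℕ} (Q : QuadraticForm F (Fin n → F)) (K : Subalgebra F (Matrix (Fin n) (Fin n) F))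
    (hK : IsFieldSubalgebra r K) {ℓ : Matrix (Fin n) (Fin n) F →ₗ[F] F} {v w : Fin n → F}
    {s β : Matrix (Fin n) (Fin n) F} (hc : EFieldCoord (⇑Q) K ℓ v w s β)
    (a b a' b' : Matrix (Fin n) (Fin n) F) (ha : a ∈ K) (hb : b ∈ K) (ha' : a' ∈ K) (hb' : b' ∈ K) :
    QuadraticMap.polar (⇑Q) (a *ᵥ v + b *ᵥ w) (a' *ᵥ v + b' *ᵥ w) =
      ℓ ((2 : F) • (a * a') + s * (a * b' + a' * b) + (2 : F) • (β * b * b')) := by
  have hsum : a *ᵥ v + b *ᵥ w + (a' *ᵥ v + b' *ᵥ w) = (a + a') *ᵥ v + (b + b') *ᵥ w := by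
    rw [Matrix.add_mulVec, Matrix.add_mulVec]
    abel
  unfold QuadraticMap.polar
  rw [hsum, hc.quad _ (K.add_mem ha ha') _ (K.add_mem hb hb'), hc.quad a ha b hb, hc.quad a' ha' b' hb',
    ← map_sub, ← map_sub]
  congr 1
  rw [two_smul, two_smul]
  simp only [mul_add, add_mul, mul_assoc]
  rw [hK.comm a' ha' a ha, hK.comm b' hb' b hb]
  abel

end Cfsg.Agent.Lib.Helper16.E10M
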