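import Mathlib
import Cfsg.Prelude.Def_GeometricClasses
import Cfsg.Agent.Lib.Helper27.ASC.Defs
import Cfsg.Agent.Lib.helper23.ASCO.Defs
import Cfsg.Agent.Lib.Helper19.ASG.Defs
import Cfsg.Agent.Lib.Helper1.ASGCLIF3
import Cfsg.Agent.Lib.Helper25.ASO.Defs
import Cfsg.Agent.Lib.helper23.ASE.Defs
import Cfsg.Agent.Lib.Helper20.ASE10M.Defs

set_option autoImplicit false
set_option linter.unusedVariables false
set_option linter.unusedSectionVars false

/-!
# E10M F5-SQ : `efield_sq` (VERBATIM vs `Helper20/ASE10M/FieldSkel5.lean.txt`)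
-/

namespace Cfsg.Agent.Lib.Helper16.E10M

open Cfsg Cfsg.Geo Cfsg.Agent.Lib.Helper27.ASC Cfsg.Agent.Lib.helper23.ASCO Cfsg.Agent.Lib.Helper19.ASG
  Cfsg.Agent.Lib.Helper25.ASO
open scoped MatrixGroups Matrix Kronecker

variable {n : ℕ} {F : Type*} [Field F] [Fintype F]

theorem efield_sq {r : ℕ} (K : Subalgebra F (Matrix (Fin n) (Fin n) F)) (hK : IsFieldSubalgebra r K) (hr : 0 < r)
    (ℓ : Matrix (Fin n) (Fin n) F →ₗ[F] F) (hℓ : ∀ c ∈ K, (∀ k ∈ K, ℓ (k * c) = 0) → c = 0)
    (t : Matrix (Fin n) (Fin n) F) (ht : t ∈ K) (h : ∀ a ∈ K, ℓ (t * a * a) = 0) : t = 0 := by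
  classical
  apply hℓ t ht
  by_cases h2 : (2 : F) = 0
  · -- squaring is onto
    let sq : K → K := fun a => ⟨(a : Matrix (Fin n) (Fin n) F) * a, K.mul_mem a.2 a.2⟩
    have hsqinj : Function.Injective sq := by
      intro a b hab
      have hab' : (a : Matrix (Fin n) (Fin n) F) * a = (b : Matrix (Fin n) (Fin n) F) * b :=
        congrArg Subtype.val hab
      by_contra hne
      have hd0 : (a : Matrix (Fin n) (Fin n) F) - b ≠ 0 := by
        intro h0
        exact hne (Subtype.ext (sub_eq_zero.1 h0))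
      have hdK : (a : Matrix (Fin n) (Fin n) F) - b ∈ K := K.sub_mem a.2 b.2
      obtain ⟨y, hy, hdy⟩ := hK.inv _ hdK hd0
      have hsq0 : ((a : Matrix (Fin n) (Fin n) F) - b) * ((a : Matrix (Fin n) (Fin n) F) - b) = 0 := by
        have h2M : ∀ M : Matrix (Fin n) (Fin n) F, M + M = 0 := by
          intro M
          rw [← two_smul F M, h2, zero_smul]
        rw [sub_mul, mul_sub, mul_sub, hK.comm b b.2 a a.2, ← hab']
        have := h2M ((a : Matrix (Fin n) (Fin n) F) * a - (a : Matrix (Fin n) (Fin n) F) * b)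
        rw [← this]
        abel
      apply hd0
      calc (a : Matrix (Fin n) (Fin n) F) - b
          = ((a : Matrix (Fin n) (Fin n) F) - b) * (((a : Matrix (Fin n) (Fin n) F) - b) * y) := by
            rw [hdy, mul_one]
        _ = 0 := by rw [← mul_assoc, hsq0, zero_mul]
    have hsqsurj : Function.Surjective sq := Finite.injective_iff_surjective.1 hsqinj
    intro k hk
    obtain ⟨a, ha⟩ := hsqsurj ⟨k, hk⟩
    have hak : (a : Matrix (Fin n) (Fin n) F) * a = k := congrArg Subtype.val ha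
    rw [hK.comm k hk t ht, ← hak, ← mul_assoc]
    exact h a a.2
  · intro k hk
    have e1 := h (k + 1) (K.add_mem hk K.one_mem)
    have e2 := h k hk
    have e3 := h 1 K.one_mem
    have hexp : t * (k + 1) * (k + 1) = t * k * k + t * 1 * 1 + (2 : F) • (t * k) := by
      rw [two_smul]
      simp only [mul_add, add_mul, mul_one]
      abel
    rw [hexp, map_add, map_add, e2, e3, map_smul, zero_add, zero_add, smul_eq_mul] at e1
    rw [hK.comm k hk t ht]
    exact (mul_eq_zero.1 e1).resolve_left h2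

end Cfsg.Agent.Lib.Helper16.E10M
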