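import Mathlib
import Cfsg.Prelude.Def_GeometricClasses
import Cfsg.Agent.Lib.Helper27.ASC.Defs
import Cfsg.Agent.Lib.helper23.ASCO.Defs
import Cfsg.Agent.Lib.Helper19.ASG.Defs
import Cfsg.Agent.Lib.Helper1.ASGCLIF3
import Cfsg.Agent.Lib.Helper25.ASO.Defs
import Cfsg.Agent.Lib.helper23.ASE.Defs
import Cfsg.Agent.Lib.Helper27.E10P.Defs
import Cfsg.Agent.Lib.Helper10.TX2SPQ2

set_option autoImplicit false
set_option linter.unusedVariables false
set_option linter.unusedSectionVars false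

/-!
# E10P P2Q2 : `planes_q2` (VERBATIM vs `Helper27/E10P/Skel.lean.txt`)

Corollary of `Helper10.TX2SPQ2` `plus_planes_q2` (`Q v = t`, and `t` is odd, `|F| = 2`).
-/

namespace Cfsg.Agent.Lib.Helper27.E10P

open Cfsg Cfsg.Geo Cfsg.Agent.Lib.Helper27.ASC Cfsg.Agent.Lib.helper23.ASCO Cfsg.Agent.Lib.Helper19.ASG
  Cfsg.Agent.Lib.Helper25.ASO Cfsg.Agent.Lib.helper23.ASE
open scoped MatrixGroups Matrix Kronecker

variable {n : ℕ} {F : Type*} [Field F] [Fintype F]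

/-- `|F| = 2` forces `2 = 0` -/
theorem e10pp2q2_two (hq : Fintype.card F = 2) : (2 : F) = 0 := by
  have h := Nat.cast_card_eq_zero F
  rw [hq] at h
  exact_mod_cast h

theorem planes_q2 (hq : Fintype.card F = 2) (Q : QuadraticForm F (Fin n → F))
    (hQ : (QuadraticMap.polarBilin Q).Nondegenerate) {t : ℕ} (ht : Odd t) (D : Fin t → Submodule F (Fin n → F))
    (hD : IsOrthogonalMDecomposition (⇑Q) 2 D) (hp : ∀ i, IsPlusTypeOn (⇑Q) (D i)) :
    ∃ v : Fin n → F, Q v ≠ 0 ∧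
      decompositionStabilizer D ⊓ isometryGroup F (⇑Q) ≤ subspaceStabilizer (Submodule.span F {v}) := by
  obtain ⟨v, hv0, hQv, hle⟩ := Cfsg.Agent.Lib.Helper15.TX2S.plus_planes_q2 hq Q D hD hp
  refine ⟨v, ?_, hle⟩
  rw [hQv]
  obtain ⟨k, hk⟩ := ht
  rw [hk]
  push_cast
  rw [e10pp2q2_two hq, zero_mul, zero_add]
  exact one_ne_zero

end Cfsg.Agent.Lib.Helper27.E10P
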