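import Cfsg.Agent.Lib.Lead.SLMF2a
import Cfsg.Agent.Lib.helper15.SLM.Defs
import Cfsg.Agent.Lib.helper6.PermChar3
import Cfsg.Agent.Lib.helper7.CharTools
import Cfsg.Agent.Lib.Helper25.CharBasic
import Cfsg.Agent.Lib.Helper25.CharLinear
import Cfsg.Agent.Lib.helper2.CharInd

/-!
# SLM-F2 : `fixed_vector_two`

`q = 2`: an irreducible representation of `SL (Unit ⊕ κ) F` with a nonzero vector fixed by all
`xQ u` and all `dSL A` (together: the stabiliser of the first basis vector) has degree `1` or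
`2^(m+1) - 2`.  Proof: such a vector gives a nonzero intertwining map from the permutation module on
the non-zero vectors; the action is 2-transitive (`q = 2`), so the permutation character is
`1 + χ` with `χ` irreducible.
-/

set_option autoImplicit false
set_option linter.unusedSectionVars false
set_option linter.unusedVariables false
set_option linter.style.haveILetI false

namespace Cfsg.Agent.Lib.Lead.SLMF2

open Matrix MulAction Cfsg.Agent.Lib.helper15.SLM
open scoped ComplexConjugate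

section gen

variable {G : Type*} [Group G] [Fintype G]

/-- `⟨f, f⟩` is a nonnegative real, and vanishes only for `f = 0`. -/
theorem classInner_self_eq (f : G → ℂ) :
    Cfsg.classInner f f = (((Nat.card G : ℝ)⁻¹ * ∑ g : G, Complex.normSq (f g) : ℝ) : ℂ) := by
  unfold Cfsg.classInner
  push_cast
  congr 1
  refine Finset.sum_congr rfl fun g _ => ?_
  rw [Complex.mul_conj]

theorem eq_zero_of_classInner_self (f : G → ℂ) (h : Cfsg.classInner f f = 0) : f = 0 := by
  rw [classInner_self_eq] at h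
  have h1 : (Nat.card G : ℝ)⁻¹ * ∑ g : G, Complex.normSq (f g) = 0 := by exact_mod_cast h
  have hpos : (0 : ℝ) < (Nat.card G : ℝ)⁻¹ := by
    apply inv_pos.mpr
    exact_mod_cast Nat.card_pos
  have h2 : ∑ g : G, Complex.normSq (f g) = 0 := by
    rcases mul_eq_zero.mp h1 with h | h
    · exact absurd h hpos.ne'
    · exact h
  have h3 := (Finset.sum_eq_zero_iff_of_nonneg (fun g _ => Complex.normSq_nonneg (f g))).mp h2
  funext g
  exact Complex.normSq_eq_zero.mp (h3 g (Finset.mem_univ g))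

theorem classInner_self_re_nonneg (f : G → ℂ) : 0 ≤ (Cfsg.classInner f f).re := by
  rw [classInner_self_eq, Complex.ofReal_re]
  apply mul_nonneg
  · apply inv_nonneg.mpr
    exact_mod_cast Nat.zero_le _
  · exact Finset.sum_nonneg fun g _ => Complex.normSq_nonneg (f g)

/-- expansion of `⟨a - b - c, a - b - c⟩` -/
theorem classInner_sub_sub (a b c : G → ℂ) :
    Cfsg.classInner (a - b - c) (a - b - c) =
      Cfsg.classInner a a - Cfsg.classInner a b - Cfsg.classInner a c
      - Cfsg.classInner b a + Cfsg.classInner b b + Cfsg.classInner b c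
      - Cfsg.classInner c a + Cfsg.classInner c b + Cfsg.classInner c c := by
  unfold Cfsg.classInner
  simp only [Pi.sub_apply, map_sub, mul_sub, sub_mul, Finset.sum_sub_distrib]
  ring

end gen

section inter

variable {G : Type*} [Group G] {Ω : Type*} [Fintype Ω] [DecidableEq Ω] [MulAction G Ω]
  {V : Type*} [AddCommGroup V] [Module ℂ V]

/-- a vector fixed by a point stabiliser of a transitive action gives a nonzero intertwining map
from the permutation module -/
theorem exists_intertwining [IsPretransitive G Ω] (a : Ω) (ρ : Representation ℂ G V) (v : V)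
    (hv : v ≠ 0) (hfix : ∀ g ∈ stabilizer G a, ρ g v = v) :
    ∃ T : Representation.IntertwiningMap (Cfsg.permRep ℂ G Ω) ρ, T ≠ 0 := by
  classical
  have hs : ∀ ω : Ω, ∃ g : G, g • a = ω := fun ω => exists_smul_eq G a ω
  choose s hs using hs
  let T0 : (Ω → ℂ) →ₗ[ℂ] V :=
    { toFun := fun f => ∑ ω : Ω, f ω • ρ (s ω) v
      map_add' := by
        intro f f'
        simp only [Pi.add_apply, add_smul, Finset.sum_add_distrib]
      map_smul' := by
        intro c f
        simp only [Pi.smul_apply, smul_eq_mul, RingHom.id_apply, Finset.smul_sum, mul_smul] }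
  have hT0 : ∀ f : Ω → ℂ, T0 f = ∑ ω : Ω, f ω • ρ (s ω) v := fun f => rfl
  have hkey : ∀ (g : G) (ω : Ω), ρ (s (g • ω)) v = ρ (g * s ω) v := by
    intro g ω
    have hmem : (s (g • ω))⁻¹ * (g * s ω) ∈ stabilizer G a := by
      rw [mem_stabilizer_iff, mul_smul, mul_smul, hs ω, inv_smul_eq_iff, hs (g • ω)]
    have h1 := hfix _ hmem
    have h2 : ρ (s (g • ω)) (ρ ((s (g • ω))⁻¹ * (g * s ω)) v) = ρ (g * s ω) v := by
      rw [← Module.End.mul_apply, ← map_mul, mul_inv_cancel_left]
    rw [h1] at h2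
    exact h2
  have hint : ∀ (g : G) (f : Ω → ℂ), T0 (Cfsg.permRep ℂ G Ω g f) = ρ g (T0 f) := by
    intro g f
    rw [hT0, hT0, map_sum]
    have h1 : ∀ ω : Ω, (Cfsg.permRep ℂ G Ω g f) ω = f (g⁻¹ • ω) := fun ω => rfl
    simp only [h1]
    rw [← Equiv.sum_comp (MulAction.toPerm g) (fun ω => f (g⁻¹ • ω) • ρ (s ω) v)]
    refine Finset.sum_congr rfl fun ω _ => ?_
    rw [MulAction.toPerm_apply, inv_smul_smul, hkey, map_smul, map_mul, Module.End.mul_apply]
  refine ⟨LinearMap.intertwiningMap_of_isIntertwiningMap (ρ := Cfsg.permRep ℂ G Ω) (σ := ρ)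
    (f := T0) hint, ?_⟩
  intro h0
  have h1 : T0 (Pi.single a 1) = 0 := by
    have := congrArg (fun T : Representation.IntertwiningMap (Cfsg.permRep ℂ G Ω) ρ =>
      T.toLinearMap (Pi.single a 1)) h0
    simpa using this
  rw [hT0, Finset.sum_eq_single a] at h1
  · rw [Pi.single_eq_same, one_smul] at h1
    have hsa : s a ∈ stabilizer G a := by
      rw [mem_stabilizer_iff]
      exact hs a
    rw [hfix _ hsa] at h1
    exact hv h1
  · intro ω _ hω
    rw [Pi.single_eq_of_ne hω, zero_smul]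
  · intro h
    exact absurd (Finset.mem_univ a) h

/-- hence the character has a positive inner product with the permutation character -/
theorem inner_piChar_pos [Fintype G] [FiniteDimensional ℂ V] [IsPretransitive G Ω] (a : Ω)
    (ρ : Representation ℂ G V) (v : V)
    (hv : v ≠ 0) (hfix : ∀ g ∈ stabilizer G a, ρ g v = v) :
    ∃ m : ℕ, 1 ≤ m ∧
      Cfsg.classInner ρ.character (Cfsg.Agent.Lib.helper6.PermChar.piChar G Ω) = (m : ℂ) := by
  obtain ⟨T, hT⟩ := exists_intertwining a ρ v hv hfix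
  have h1 := Cfsg.Agent.Lib.helper2.classInner_rep_eq_finrank (Cfsg.permRep ℂ G Ω) ρ
  have h2 : (Cfsg.permRep ℂ G Ω).character = Cfsg.Agent.Lib.helper6.PermChar.piChar G Ω := by
    funext g
    unfold Representation.character Cfsg.Agent.Lib.helper6.PermChar.piChar
    rw [Cfsg.Agent.Lib.helper6.PermChar.trace_permRep, Cfsg.Agent.Lib.helper6.PermChar.Pm_trace]
  rw [h2] at h1
  refine ⟨_, ?_, h1⟩
  have : Nontrivial (Representation.IntertwiningMap (Cfsg.permRep ℂ G Ω) ρ) := ⟨⟨T, 0, hT⟩⟩
  exact Module.finrank_pos (R := ℂ) (M := Representation.IntertwiningMap (Cfsg.permRep ℂ G Ω) ρ)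

end inter

section final

variable {G : Type*} [Group G] [Fintype G] {Ω : Type*} [Fintype Ω] [DecidableEq Ω] [MulAction G Ω]
  {V : Type*} [AddCommGroup V] [Module ℂ V] [FiniteDimensional ℂ V]

open Cfsg.Agent.Lib.helper6.PermChar in
/-- the abstract statement: 2-transitive action, irreducible representation with a nonzero vector
fixed by a point stabiliser: the degree is `1` or `|Ω| - 1`. -/
theorem degree_of_fixed_vector [IsPretransitive G Ω] (a : Ω)
    (h2 : Nat.card (orbitRel.Quotient (stabilizer G a) Ω) = 2)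
    (ρ : Representation ℂ G V) [ρ.IsIrreducible] (v : V)
    (hv : v ≠ 0) (hfix : ∀ g ∈ stabilizer G a, ρ g v = v) :
    Module.finrank ℂ V = 1 ∨ Module.finrank ℂ V + 1 = Fintype.card Ω := by
  classical
  obtain ⟨m, hm1, hm⟩ := inner_piChar_pos a ρ v hv hfix
  set χ : G → ℂ := ρ.character with hχ
  set π : G → ℂ := piChar G Ω with hπ
  set one : G → ℂ := fun _ => (1 : ℂ) with hone
  have hχirr : Cfsg.IsIrrCharacter G χ := Cfsg.Agent.Lib.Helper25.isIrrCharacter_of_irreducible ρ
  have h1irr : Cfsg.IsIrrCharacter G one := (Cfsg.Agent.Lib.Helper25.trivIrr G).2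
  have hχ1 : χ 1 = (Module.finrank ℂ V : ℂ) := Representation.char_one ρ
  by_cases htriv : χ = one
  · left
    have : (Module.finrank ℂ V : ℂ) = 1 := by
      rw [← hχ1, htriv]
    exact_mod_cast this
  · right
    have hππ : Cfsg.classInner π π = 2 := by
      rw [hπ, inner_pi_pi a, h2]
      norm_num
    have hπ1 : Cfsg.classInner π one = 1 := inner_pi_triv a
    have h1π : Cfsg.classInner one π = 1 := by
      rw [Cfsg.Agent.Lib.helper2.classInner_conj_symm, hπ1, map_one]
    have hπχ : Cfsg.classInner π χ = (m : ℂ) := by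
      rw [Cfsg.Agent.Lib.helper2.classInner_conj_symm, hm, Complex.conj_natCast]
    have h11 : Cfsg.classInner one one = 1 := Cfsg.Agent.Lib.helper7.h7_irr_norm h1irr
    have hχχ : Cfsg.classInner χ χ = 1 := Cfsg.Agent.Lib.helper7.h7_irr_norm hχirr
    have hχ1' : Cfsg.classInner χ one = 0 :=
      Cfsg.Agent.Lib.helper7.h7_irr_inner_ne hχirr h1irr htriv
    have h1χ : Cfsg.classInner one χ = 0 :=
      Cfsg.Agent.Lib.helper7.h7_irr_inner_ne h1irr hχirr (fun h => htriv h.symm)
    have hδ := classInner_sub_sub π one χ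
    rw [hππ, hπ1, hπχ, h1π, h11, h1χ, hm, hχ1', hχχ] at hδ
    have hnn := classInner_self_re_nonneg (π - one - χ)
    rw [hδ] at hnn
    have hm1' : m = 1 := by
      have : (0 : ℝ) ≤ 2 - 2 * (m : ℝ) := by
        have e : ((2 : ℂ) - 1 - (m : ℂ) - 1 + 1 + 0 - (m : ℂ) + 0 + 1).re = 2 - 2 * (m : ℝ) := by
          simp
          ring
        rw [e] at hnn
        exact hnn
      have : (m : ℝ) ≤ 1 := by linarith
      have : m ≤ 1 := by exact_mod_cast this
      omega
    rw [hm1'] at hδ
    have hδ0 : Cfsg.classInner (π - one - χ) (π - one - χ) = 0 := by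
      rw [hδ]
      norm_num
    have hz := eq_zero_of_classInner_self _ hδ0
    have hz1 := congrFun hz 1
    simp only [Pi.sub_apply, Pi.zero_apply] at hz1
    have hπ1v : π 1 = (Fintype.card Ω : ℂ) := by
      rw [hπ]
      unfold piChar
      rw [Nat.card_eq_fintype_card]
      congr 1
      apply Fintype.card_congr
      refine ⟨fun x => x.1, fun x => ⟨x, by simp⟩, fun x => rfl, fun x => rfl⟩
    rw [hπ1v, hχ1, hone] at hz1
    have : ((Module.finrank ℂ V + 1 : ℕ) : ℂ) = (Fintype.card Ω : ℂ) := by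
      push_cast
      linear_combination -hz1
    exact_mod_cast this

end final

section stab

variable {F : Type*} [Field F] {κ : Type*} [Fintype κ] [DecidableEq κ]

/-- the first basis vector -/
def e0 (F : Type*) [Field F] (κ : Type*) : Unit ⊕ κ → F := Sum.elim (fun _ => 1) (fun _ => 0)

theorem e0_ne_zero : e0 F κ ≠ 0 := by
  intro h
  have := congrFun h (Sum.inl ())
  simp [e0] at this

theorem mulVec_e0 (M : Matrix (Unit ⊕ κ) (Unit ⊕ κ) F) (i : Unit ⊕ κ) :
    (M *ᵥ e0 F κ) i = M i (Sum.inl ()) := by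
  simp [Matrix.mulVec, dotProduct, e0, Fintype.sum_sum_type]

/-- an element of `SL` fixing the first basis vector is `xQ u * dSL A` -/
theorem stab_decomp (g : SpecialLinearGroup (Unit ⊕ κ) F)
    (hg : (g : Matrix (Unit ⊕ κ) (Unit ⊕ κ) F) *ᵥ e0 F κ = e0 F κ) :
    ∃ (u : κ → F) (A : SpecialLinearGroup κ F), g = xQ u * dSL A := by
  set M : Matrix (Unit ⊕ κ) (Unit ⊕ κ) F := (g : Matrix (Unit ⊕ κ) (Unit ⊕ κ) F) with hM
  have hcol : ∀ i, M i (Sum.inl ()) = e0 F κ i := by
    intro i
    have := mulVec_e0 M i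
    rw [hg] at this
    exact this.symm
  have h11 : M.toBlocks₁₁ = 1 := by
    ext i j
    have := hcol (Sum.inl ())
    simp [e0] at this
    simp [Matrix.toBlocks₁₁, this]
  have h21 : M.toBlocks₂₁ = 0 := by
    ext i j
    have := hcol (Sum.inr i)
    simp [e0] at this
    simp [Matrix.toBlocks₂₁, this]
  have hMb : M = fromBlocks 1 M.toBlocks₁₂ 0 M.toBlocks₂₂ := by
    conv_lhs => rw [← Matrix.fromBlocks_toBlocks M, h11, h21]
  have hdet : M.toBlocks₂₂.det = 1 := by
    have h1 : M.det = 1 := g.2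
    rw [hMb, Matrix.det_fromBlocks_zero₂₁, Matrix.det_one, one_mul] at h1
    exact h1
  let A : SpecialLinearGroup κ F := ⟨M.toBlocks₂₂, hdet⟩
  let r : κ → F := fun j => M (Sum.inl ()) (Sum.inr j)
  refine ⟨r ᵥ* ((A⁻¹ : SpecialLinearGroup κ F) : Matrix κ κ F), A, ?_⟩
  apply Subtype.ext
  show M = xMat (r ᵥ* ((A⁻¹ : SpecialLinearGroup κ F) : Matrix κ κ F)) *
    ((dSL A : SpecialLinearGroup (Unit ⊕ κ) F) : Matrix (Unit ⊕ κ) (Unit ⊕ κ) F)
  rw [coe_dSL]
  unfold xMat dMat
  rw [Matrix.fromBlocks_multiply]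
  conv_lhs => rw [hMb]
  have hAinv : ((A⁻¹ : SpecialLinearGroup κ F) : Matrix κ κ F) * (A : Matrix κ κ F) = 1 := by
    rw [← Matrix.SpecialLinearGroup.coe_mul, inv_mul_cancel, Matrix.SpecialLinearGroup.coe_one]
  congr 1
  · simp
  · ext i j
    simp only [Matrix.mul_zero, zero_add, Matrix.mul_apply, replicateRow_apply]
    have h2 : (r ᵥ* ((A⁻¹ : SpecialLinearGroup κ F) : Matrix κ κ F)) ᵥ* (A : Matrix κ κ F) = r := by
      rw [Matrix.vecMul_vecMul, hAinv, Matrix.vecMul_one]
    have h3 : ∑ k, (r ᵥ* ((A⁻¹ : SpecialLinearGroup κ F) : Matrix κ κ F)) k *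
        (A : Matrix κ κ F) k j = r j := congrFun h2 j
    rw [h3]
    rfl
  · simp
  · simp
    rfl

end stab

section cardNZ

theorem card_NZ {F : Type*} [Field F] [Fintype F] {ι : Type*} [Fintype ι] :
    Nat.card (NZ ι F) = Fintype.card F ^ Fintype.card ι - 1 := by
  classical
  unfold NZ
  rw [Nat.card_eq_fintype_card, Fintype.card_subtype, Finset.filter_ne', Finset.card_erase_of_mem
    (Finset.mem_univ _), Finset.card_univ, Fintype.card_fun]

end cardNZ

end Cfsg.Agent.Lib.Lead.SLMF2

namespace Cfsg.Agent.Lib.helper15.SLM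

open Matrix MulAction Cfsg.Agent.Lib.Lead.SLMF2

section Fsec

variable {F : Type*} [Field F] [Fintype F] [DecidableEq F]
  {κ' : Type*} [Fintype κ'] [DecidableEq κ']
  {V : Type*} [AddCommGroup V] [Module ℂ V] [FiniteDimensional ℂ V]

/-- F2 : `q = 2`: an irreducible representation with a nonzero vector fixed by the stabiliser of
the first basis vector has degree `1` or `2^n - 2` -/
theorem fixed_vector_two (hq : Fintype.card F = 2) (m : ℕ)
    {κ : Type*} [Fintype κ] [DecidableEq κ] (hm : Fintype.card κ = m) (hm2 : 2 ≤ m)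
    (ρ : Representation ℂ (SpecialLinearGroup (Unit ⊕ κ) F) V) (hirr : ρ.IsIrreducible)
    (v : V) (hv : v ≠ 0) (hvQ : ∀ u : κ → F, ρ (xQ u) v = v)
    (hvL : ∀ A : SpecialLinearGroup κ F, ρ (dSL A) v = v) :
    Module.finrank ℂ V = 1 ∨ Module.finrank ℂ V = 2 ^ (m + 1) - 2 := by
  classical
  haveI : Fintype (SpecialLinearGroup (Unit ⊕ κ) F) := Fintype.ofFinite _
  have hι : 3 ≤ Fintype.card (Unit ⊕ κ) := by
    rw [Fintype.card_sum, hm, Fintype.card_unit]
    omega
  haveI : Finite (NZ (Unit ⊕ κ) F) := by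
    unfold NZ
    infer_instance
  haveI : Fintype (NZ (Unit ⊕ κ) F) := Fintype.ofFinite _
  haveI : IsPretransitive (SpecialLinearGroup (Unit ⊕ κ) F) (NZ (Unit ⊕ κ) F) := pretransitive hι
  let a : NZ (Unit ⊕ κ) F := ⟨e0 F κ, e0_ne_zero⟩
  have h2 : Nat.card (orbitRel.Quotient (stabilizer (SpecialLinearGroup (Unit ⊕ κ) F) a)
      (NZ (Unit ⊕ κ) F)) = 2 := by
    rw [card_suborbits hι a, hq]
  haveI := hirr
  have hfix : ∀ g ∈ stabilizer (SpecialLinearGroup (Unit ⊕ κ) F) a, ρ g v = v := by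
    intro g hg
    have h1 : g • a = a := mem_stabilizer_iff.mp hg
    have hg' : (g : Matrix (Unit ⊕ κ) (Unit ⊕ κ) F) *ᵥ e0 F κ = e0 F κ := by
      have h3 := congrArg (fun x : NZ (Unit ⊕ κ) F => x.1) h1
      exact h3
    obtain ⟨u, A, rfl⟩ := stab_decomp g hg'
    rw [map_mul, Module.End.mul_apply, hvL, hvQ]
  rcases degree_of_fixed_vector a h2 ρ v hv hfix with h | h
  · left
    exact h
  · right
    rw [← Nat.card_eq_fintype_card, card_NZ, hq, Fintype.card_sum, hm, Fintype.card_unit] at h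
    have h8 : 2 ^ 3 ≤ 2 ^ (1 + m) := Nat.pow_le_pow_right (by norm_num) (by omega)
    have e : 2 ^ (m + 1) = 2 ^ (1 + m) := by rw [add_comm]
    omega

end Fsec

end Cfsg.Agent.Lib.helper15.SLM
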