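import Cfsg.Agent.Lib.Helper27.TS2.Defs
import Cfsg.Agent.Lib.helper6.TSSIEG
import Cfsg.Agent.Lib.Helper21.TPC1

/-!
# Project TS2 (leader helper27), row UFPB (lead)

`ufpB_two` verbatim vs `Helper27/TS2/Skel.lean.txt`: `a = 2`, `b ≥ 7`, `StabB` gives UFP for the Siegel elements `1 ⊗ ρ_{w,m}`.
-/

set_option autoImplicit false
set_option linter.unusedSectionVars false
set_option linter.unusedVariables false

namespace Cfsg.Agent.Lib.Helper21.TS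

open Matrix
open scoped Kronecker
open Cfsg.Agent.Lib.helper7.TP

variable {a b : ℕ} {F : Type*} [Field F]

/-- components of `(1 ⊗ P) v` -/
theorem ts2ufpb_one_kron_mulVec (P : Matrix (Fin b) (Fin b) F) (v : Fin a × Fin b → F)
    (i : Fin a) (j : Fin b) :
    (((1 : Matrix (Fin a) (Fin a) F) ⊗ₖ P) *ᵥ v) (i, j) = (P *ᵥ (fun j' => v (i, j'))) j := by
  classical
  simp only [Matrix.mulVec, dotProduct, Matrix.kroneckerMap_apply, Fintype.sum_prod_type]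
  rw [Finset.sum_eq_single i]
  · simp [Matrix.one_apply]
  · intro i' _ hi'
    simp [Matrix.one_apply, Ne.symm hi']
  · intro h; exact absurd (Finset.mem_univ i) h

theorem ts2ufpb_kron_sub_one (A : Matrix (Fin b) (Fin b) F) :
    (1 : Matrix (Fin a) (Fin a) F) ⊗ₖ (A - 1) = (1 : Matrix (Fin a) (Fin a) F) ⊗ₖ A - 1 := by
  have h : (1 : Matrix (Fin a) (Fin a) F) ⊗ₖ A =
      (1 : Matrix (Fin a) (Fin a) F) ⊗ₖ (A - 1) + (1 : Matrix (Fin a) (Fin a) F) ⊗ₖ (1 : Matrix (Fin b) (Fin b) F) := by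
    rw [← Matrix.kronecker_add, sub_add_cancel]
  rw [h, Matrix.one_kronecker_one, add_sub_cancel_right]

theorem ts2ufpb_N_mulVec (J : Matrix (Fin b) (Fin b) F) (w m x : Fin b → F) :
    (sieg J w m - 1) *ᵥ x = (bf J m x - bf J m m / 2 * bf J w x) • w - bf J w x • m := by
  rw [Matrix.sub_mulVec, Matrix.one_mulVec, sieg_mulVec]
  module

theorem ts2ufpb_N_sq (J : Matrix (Fin b) (Fin b) F) (hJ : Jᵀ = J) (w m x : Fin b → F)
    (hww : bf J w w = 0) (hwm : bf J w m = 0) :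
    ((sieg J w m - 1) * (sieg J w m - 1)) *ᵥ x = (-(bf J m m * bf J w x)) • w := by
  have hmw : bf J m w = 0 := by rw [bf_symm hJ]; exact hwm
  rw [← Matrix.mulVec_mulVec, ts2ufpb_N_mulVec J w m x, Matrix.mulVec_sub, Matrix.mulVec_smul,
    Matrix.mulVec_smul, ts2ufpb_N_mulVec, ts2ufpb_N_mulVec, hww, hwm, hmw]
  module

theorem ts2ufpb_rank_le (J : Matrix (Fin b) (Fin b) F) (w m : Fin b → F) :
    ((1 : Matrix (Fin a) (Fin a) F) ⊗ₖ (sieg J w m - 1)).rank ≤ a * 2 := by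
  classical
  let W : Matrix (Fin b) (Fin 2) F := Matrix.of fun j k => if k = 0 then w j else m j
  let Cf : Matrix (Fin 2) (Fin b) F := Matrix.of fun k j' =>
    if k = 0 then (m ᵥ* J) j' - bf J m m / 2 * (w ᵥ* J) j' else -(w ᵥ* J) j'
  have hN : sieg J w m - 1 = W * Cf := by
    ext j j'
    rw [Matrix.mul_apply, Fin.sum_univ_two]
    simp [sieg, opm, Matrix.vecMulVec_apply, W, Cf]
    ring
  have h1 : (1 : Matrix (Fin a) (Fin a) F) ⊗ₖ (sieg J w m - 1) =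
      ((1 : Matrix (Fin a) (Fin a) F) ⊗ₖ W) * ((1 : Matrix (Fin a) (Fin a) F) ⊗ₖ Cf) := by
    rw [← Matrix.mul_kronecker_mul, Matrix.one_mul, hN]
  rw [h1]
  calc (((1 : Matrix (Fin a) (Fin a) F) ⊗ₖ W) * ((1 : Matrix (Fin a) (Fin a) F) ⊗ₖ Cf)).rank
      ≤ ((1 : Matrix (Fin a) (Fin a) F) ⊗ₖ W).rank := Matrix.rank_mul_le_left _ _
    _ ≤ Fintype.card (Fin a × Fin 2) := Matrix.rank_le_card_width _
    _ = a * 2 := by simp

variable {J1 : Matrix (Fin 2) (Fin 2) F} {J2 : Matrix (Fin b) (Fin b) F}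
  {M : Subgroup (Matrix.GeneralLinearGroup (Fin 2 × Fin b) F)}

/-- UFPB -/
theorem ufpB_two (C : Ctx J1 J2) (hb : 7 ≤ b) (hT0 : T0 J1 J2 ≤ M) (hMS : M ≤ SpV J1 J2)
    (hSB : StabB J1 J2 M) : UfpB J1 J2 M := by
  classical
  intro w m r hw hww hwm hmm hr h hhM ht
  -- notation
  obtain ⟨H, hH⟩ : ∃ H : Matrix (Fin 2 × Fin b) (Fin 2 × Fin b) F, H = (h : Matrix _ _ F) := ⟨_, rfl⟩
  obtain ⟨Hi, hHi⟩ : ∃ Hi : Matrix (Fin 2 × Fin b) (Fin 2 × Fin b) F,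
    Hi = ((h⁻¹ : Matrix.GeneralLinearGroup (Fin 2 × Fin b) F) : Matrix _ _ F) := ⟨_, rfl⟩
  have hHHi : H * Hi = 1 := by rw [hH, hHi, ← Units.val_mul, mul_inv_cancel, Units.val_one]
  have hHiH : Hi * H = 1 := by rw [hH, hHi, ← Units.val_mul, inv_mul_cancel, Units.val_one]
  obtain ⟨N, hN⟩ : ∃ N : Matrix (Fin b) (Fin b) F, N = sieg J2 w m - 1 := ⟨_, rfl⟩
  obtain ⟨α, β, hαβ⟩ := (mem_K0 _).1 ht.1
  have ht1 : ((h * r * h⁻¹ : Matrix.GeneralLinearGroup (Fin 2 × Fin b) F) : Matrix _ _ F) - 1 =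
      H * ((1 : Matrix (Fin 2) (Fin 2) F) ⊗ₖ N) * Hi := by
    rw [Units.val_mul, Units.val_mul, hr, ← hH, ← hHi, hN, ts2ufpb_kron_sub_one,
      Matrix.mul_sub, Matrix.sub_mul, Matrix.mul_one, hHHi]
  -- Step 1 : α is scalar
  have hdetH : IsUnit H.det := by
    rw [hH]; exact (Matrix.isUnit_iff_isUnit_det _).mp (Units.isUnit h)
  have hdetHi : IsUnit Hi.det := by
    rw [hHi]; exact (Matrix.isUnit_iff_isUnit_det _).mp (Units.isUnit h⁻¹)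
  have hrk : ((α : Matrix (Fin 2) (Fin 2) F) ⊗ₖ (β : Matrix (Fin b) (Fin b) F) - 1).rank ≤ 4 := by
    rw [← hαβ, ht1, Matrix.rank_mul_eq_left_of_isUnit_det _ _ hdetHi,
      Matrix.rank_mul_eq_right_of_isUnit_det _ _ hdetH, hN]
    exact ts2ufpb_rank_le J2 w m
  obtain ⟨s, hs⟩ : ∃ s : F, (α : Matrix (Fin 2) (Fin 2) F) = s • 1 := by
    apply tpc1_scalar_of_all_eigen (by norm_num)
    intro u
    by_contra hcon
    push Not at hcon
    have := tpc1_rank_ge (α : Matrix (Fin 2) (Fin 2) F) (β : Matrix (Fin b) (Fin b) F) u hcon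
    omega
  -- Step 2 : t = 1 ⊗ β'
  obtain ⟨B1, hB1⟩ : ∃ B1 : Matrix (Fin b) (Fin b) F,
    B1 = s • (β : Matrix (Fin b) (Fin b) F) - 1 := ⟨_, rfl⟩
  have ht2 : ((h * r * h⁻¹ : Matrix.GeneralLinearGroup (Fin 2 × Fin b) F) : Matrix _ _ F) - 1 =
      (1 : Matrix (Fin 2) (Fin 2) F) ⊗ₖ B1 := by
    rw [hαβ, hs, Matrix.smul_kronecker, ← Matrix.kronecker_smul, hB1, ts2ufpb_kron_sub_one]
  have hcomm : ((1 : Matrix (Fin 2) (Fin 2) F) ⊗ₖ B1) * H =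
      H * ((1 : Matrix (Fin 2) (Fin 2) F) ⊗ₖ N) := by
    rw [← ht2, ht1, Matrix.mul_assoc, hHiH, Matrix.mul_one]
  have hcommi : Hi * ((1 : Matrix (Fin 2) (Fin 2) F) ⊗ₖ B1) =
      ((1 : Matrix (Fin 2) (Fin 2) F) ⊗ₖ N) * Hi := by
    rw [← ht2, ht1, ← Matrix.mul_assoc, ← Matrix.mul_assoc, hHiH, Matrix.one_mul]
  obtain ⟨P, hP⟩ : ∃ P : Matrix (Fin b) (Fin b) F, P = B1 * B1 := ⟨_, rfl⟩
  have hPP : (1 : Matrix (Fin 2) (Fin 2) F) ⊗ₖ P =
      ((1 : Matrix (Fin 2) (Fin 2) F) ⊗ₖ B1) * ((1 : Matrix (Fin 2) (Fin 2) F) ⊗ₖ B1) := by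
    rw [← Matrix.mul_kronecker_mul, Matrix.one_mul, hP]
  have hNN : (1 : Matrix (Fin 2) (Fin 2) F) ⊗ₖ (N * N) =
      ((1 : Matrix (Fin 2) (Fin 2) F) ⊗ₖ N) * ((1 : Matrix (Fin 2) (Fin 2) F) ⊗ₖ N) := by
    rw [← Matrix.mul_kronecker_mul, Matrix.one_mul]
  have hcomm2 : ((1 : Matrix (Fin 2) (Fin 2) F) ⊗ₖ P) * H =
      H * ((1 : Matrix (Fin 2) (Fin 2) F) ⊗ₖ (N * N)) := by
    rw [hPP, hNN, Matrix.mul_assoc, hcomm, ← Matrix.mul_assoc, hcomm, Matrix.mul_assoc]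
  have hcommi2 : Hi * ((1 : Matrix (Fin 2) (Fin 2) F) ⊗ₖ P) =
      ((1 : Matrix (Fin 2) (Fin 2) F) ⊗ₖ (N * N)) * Hi := by
    rw [hPP, hNN, ← Matrix.mul_assoc, hcommi, Matrix.mul_assoc, hcommi, ← Matrix.mul_assoc]
  have hQ : bf J2 m m ≠ 0 := hmm
  -- (E) : (1 ⊗ P) (H (x ⊗ y)) = -(Q f(w,y)) • H (x ⊗ w)
  have hE : ∀ (x : Fin 2 → F) (y : Fin b → F),
      ((1 : Matrix (Fin 2) (Fin 2) F) ⊗ₖ P) *ᵥ (H *ᵥ ten x y) =
        (-(bf J2 m m * bf J2 w y)) • (H *ᵥ ten x w) := by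
    intro x y
    rw [Matrix.mulVec_mulVec, hcomm2, ← Matrix.mulVec_mulVec, kron_mulVec_ten, Matrix.one_mulVec,
      hN, ts2ufpb_N_sq J2 C.sym w m y hww hwm, ten_smul_right, Matrix.mulVec_smul]
  -- (E') : (1 ⊗ P) v = H (x'' ⊗ w)
  have hE' : ∀ v : Fin 2 × Fin b → F, ∃ x'' : Fin 2 → F,
      ((1 : Matrix (Fin 2) (Fin 2) F) ⊗ₖ P) *ᵥ v = H *ᵥ ten x'' w := by
    intro v
    have h1 : ((1 : Matrix (Fin 2) (Fin 2) F) ⊗ₖ P) *ᵥ v =
        H *ᵥ (((1 : Matrix (Fin 2) (Fin 2) F) ⊗ₖ (N * N)) *ᵥ (Hi *ᵥ v)) := by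
      calc ((1 : Matrix (Fin 2) (Fin 2) F) ⊗ₖ P) *ᵥ v
          = (H * Hi) *ᵥ (((1 : Matrix (Fin 2) (Fin 2) F) ⊗ₖ P) *ᵥ v) := by
            rw [hHHi, Matrix.one_mulVec]
        _ = H *ᵥ ((Hi * ((1 : Matrix (Fin 2) (Fin 2) F) ⊗ₖ P)) *ᵥ v) := by
            rw [← Matrix.mulVec_mulVec, ← Matrix.mulVec_mulVec]
        _ = H *ᵥ (((1 : Matrix (Fin 2) (Fin 2) F) ⊗ₖ (N * N)) *ᵥ (Hi *ᵥ v)) := by
            rw [hcommi2, ← Matrix.mulVec_mulVec]
    refine ⟨fun i => -(bf J2 m m * bf J2 w (fun j' => (Hi *ᵥ v) (i, j'))), ?_⟩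
    rw [h1]
    congr 1
    funext p
    obtain ⟨i, j⟩ := p
    rw [ts2ufpb_one_kron_mulVec, hN, ts2ufpb_N_sq J2 C.sym w m _ hww hwm]
    simp [ten]
  -- a vector y0 with f(w,y0) ≠ 0
  obtain ⟨y0, hy0⟩ := bf_nondeg C.det2 hw
  have hc0 : -(bf J2 m m * bf J2 w y0) ≠ 0 := neg_ne_zero.mpr (mul_ne_zero hQ hy0)
  have hHinj : ∀ v : Fin 2 × Fin b → F, H *ᵥ v = 0 → v = 0 := by
    intro v hv
    have := congrArg (Hi *ᵥ ·) hv
    simpa [Matrix.mulVec_mulVec, hHiH] using this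
  -- z0 = H (e ⊗ w) ≠ 0
  have hz0 : H *ᵥ ten (Pi.single (0 : Fin 2) (1 : F)) w ≠ 0 := by
    intro h0
    have h1 := hHinj _ h0
    have h2 : (Pi.single (0 : Fin 2) (1 : F) : Fin 2 → F) = 0 := tpc1_ten_eq_zero h1 hw
    have := congrFun h2 0
    simp at this
  -- w'' ∈ range P, w'' ≠ 0
  obtain ⟨w'', hw''0, y'', hw''⟩ : ∃ w'' : Fin b → F, w'' ≠ 0 ∧ ∃ y'' : Fin b → F, w'' = P *ᵥ y'' := by
    obtain ⟨⟨i, j⟩, hij⟩ := Function.ne_iff.1 hz0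
    have h1 := hE (Pi.single (0 : Fin 2) (1 : F)) y0
    refine ⟨P *ᵥ (fun j' => ((-(bf J2 m m * bf J2 w y0))⁻¹ •
      (H *ᵥ ten (Pi.single (0 : Fin 2) (1 : F)) y0)) (i, j')), ?_, _, rfl⟩
    intro h0
    apply hij
    have h2 := congrFun h0 j
    rw [← ts2ufpb_one_kron_mulVec, Matrix.mulVec_smul, h1, smul_smul, inv_mul_cancel₀ hc0,
      one_smul] at h2
    exact h2
  -- range P ⊆ F w''
  have hrange : ∀ y' : Fin b → F, ∃ c : F, P *ᵥ y' = c • w'' := by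
    intro y'
    obtain ⟨x1, hx1⟩ := hE' (ten (Pi.single (0 : Fin 2) (1 : F)) y'')
    obtain ⟨x2, hx2⟩ := hE' (ten (Pi.single (1 : Fin 2) (1 : F)) y'')
    obtain ⟨x3, hx3⟩ := hE' (ten (Pi.single (0 : Fin 2) (1 : F)) y')
    rw [kron_mulVec_ten, Matrix.one_mulVec, ← hw''] at hx1 hx2
    rw [kron_mulVec_ten, Matrix.one_mulVec] at hx3
    have hdep : ¬ LinearIndependent F ![x1, x2, x3] := by
      intro hli
      have := hli.fintype_card_le_finrank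
      simp at this
    rw [Fintype.not_linearIndependent_iff] at hdep
    obtain ⟨g, hg, hgne⟩ := hdep
    rw [Fin.sum_univ_three] at hg
    simp only [Matrix.cons_val_zero, Matrix.cons_val_one, Matrix.cons_val_two, Matrix.head_cons,
      Matrix.tail_cons] at hg
    have hsum : g 0 • ten (Pi.single (0 : Fin 2) (1 : F)) w'' +
        g 1 • ten (Pi.single (1 : Fin 2) (1 : F)) w'' +
        g 2 • ten (Pi.single (0 : Fin 2) (1 : F)) (P *ᵥ y') = 0 := by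
      rw [hx1, hx2, hx3, ← Matrix.mulVec_smul, ← Matrix.mulVec_smul, ← Matrix.mulVec_smul,
        ← Matrix.mulVec_add, ← Matrix.mulVec_add, ← ten_smul_left, ← ten_smul_left,
        ← ten_smul_left, ← ten_add_left, ← ten_add_left, hg]
      have h0 : ten (0 : Fin 2 → F) w = 0 := by funext p; simp [ten]
      rw [h0, Matrix.mulVec_zero]
    have hrow1 : ∀ j, g 1 * w'' j = 0 := by
      intro j
      have := congrFun hsum (1, j)
      simpa [ten] using this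
    have hrow0 : ∀ j, g 0 * w'' j + g 2 * (P *ᵥ y') j = 0 := by
      intro j
      have := congrFun hsum (0, j)
      simpa [ten] using this
    obtain ⟨j0, hj0⟩ := Function.ne_iff.1 hw''0
    simp only [Pi.zero_apply] at hj0
    have hg1 : g 1 = 0 := by
      rcases mul_eq_zero.1 (hrow1 j0) with h | h
      · exact h
      · exact absurd h hj0
    have hg2 : g 2 ≠ 0 := by
      intro hg2
      have hg0 : g 0 = 0 := by
        have := hrow0 j0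
        rw [hg2, zero_mul, add_zero] at this
        rcases mul_eq_zero.1 this with h | h
        · exact h
        · exact absurd h hj0
      obtain ⟨i, hi⟩ := hgne
      fin_cases i
      · exact hi hg0
      · exact hi hg1
      · exact hi hg2
    refine ⟨-(g 0 / g 2), ?_⟩
    funext j
    have := hrow0 j
    rw [Pi.smul_apply, smul_eq_mul]
    field_simp
    linear_combination this
  -- h maps A ⊗ w into A ⊗ w''
  apply hSB h hhM w w'' hw hw''0 hww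
  intro x
  choose cf hcf using hrange
  refine ⟨fun i => (-(bf J2 m m * bf J2 w y0))⁻¹ *
    cf (fun j' => (H *ᵥ ten x y0) (i, j')), ?_⟩
  have h1 := hE x y0
  have h2 : H *ᵥ ten x w = (-(bf J2 m m * bf J2 w y0))⁻¹ •
      (((1 : Matrix (Fin 2) (Fin 2) F) ⊗ₖ P) *ᵥ (H *ᵥ ten x y0)) := by
    rw [h1, smul_smul, inv_mul_cancel₀ hc0, one_smul]
  rw [← hH, h2]
  funext p
  obtain ⟨i, j⟩ := p
  rw [Pi.smul_apply, ts2ufpb_one_kron_mulVec, hcf]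
  simp [ten, mul_assoc]

end Cfsg.Agent.Lib.Helper21.TS
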