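import Cfsg.Agent.Lib.Helper27.TS2.Defs

/-!
# Project TS2 (leader helper27), row T0RN (lead)

`t0_rn` verbatim vs `Helper27/TS2/Skel.lean.txt`: the elements of `T0` trivial on the layers of `N = A ⊗ w`
act on `N^⊥` as Siegel elements.
-/

set_option autoImplicit false
set_option linter.unusedSectionVars false
set_option linter.unusedVariables false

namespace Cfsg.Agent.Lib.Helper21.TS

open Matrix
open scoped Kronecker
open Cfsg.Agent.Lib.helper7.TP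

variable {a b : ℕ} {F : Type*} [Field F]

/-- a covector is `f(z, ·)` for a symmetric non-degenerate `J`. -/
theorem ts2t0rn_riesz {J : Matrix (Fin b) (Fin b) F} (hJ : Jᵀ = J) (hdet : J.det ≠ 0)
    (φ : Fin b → F) : ∃ z : Fin b → F, ∀ y : Fin b → F, bf J z y = φ ⬝ᵥ y := by
  refine ⟨J⁻¹ *ᵥ φ, fun y => ?_⟩
  have hu : IsUnit J.det := isUnit_iff_ne_zero.mpr hdet
  have h1 : (J⁻¹ *ᵥ φ) ᵥ* J = φ := by
    have : (J⁻¹ *ᵥ φ) ᵥ* J = Jᵀ *ᵥ (J⁻¹ *ᵥ φ) := (Matrix.mulVec_transpose J _).symm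
    rw [this, hJ, Matrix.mulVec_mulVec, Matrix.mul_nonsing_inv J hu, Matrix.one_mulVec]
  simp only [bf]
  rw [Matrix.dotProduct_mulVec, h1]

variable {J1 : Matrix (Fin 2) (Fin 2) F} {J2 : Matrix (Fin b) (Fin b) F}

/-- T0RN -/
theorem t0_rn (C : Ctx J1 J2) (hb : 3 ≤ b) {w : Fin b → F} (hw : w ≠ 0) (hw0 : bf J2 w w = 0)
    (t : Matrix.GeneralLinearGroup (Fin 2 × Fin b) F) (ht : t ∈ T0 J1 J2)
    (h1 : ∀ x : Fin 2 → F, (t : Matrix (Fin 2 × Fin b) (Fin 2 × Fin b) F) *ᵥ ten x w = ten x w)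
    (h2 : ∀ (x : Fin 2 → F) (y : Fin b → F), bf J2 w y = 0 → ∃ x' : Fin 2 → F,
      (t : Matrix (Fin 2 × Fin b) (Fin 2 × Fin b) F) *ᵥ ten x y = ten x y + ten x' w) :
    ∃ z : Fin b → F, bf J2 w z = 0 ∧ ∀ (x : Fin 2 → F) (y : Fin b → F), bf J2 w y = 0 →
      (t : Matrix (Fin 2 × Fin b) (Fin 2 × Fin b) F) *ᵥ ten x y = ten x y + bf J2 z y • ten x w := by
  classical
  obtain ⟨α, β, hαβ⟩ := (mem_K0 t).1 ht.1
  obtain ⟨j0, hj0⟩ := Function.ne_iff.1 hw
  simp only [Pi.zero_apply] at hj0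
  have hact : ∀ (x : Fin 2 → F) (y : Fin b → F),
      (t : Matrix (Fin 2 × Fin b) (Fin 2 × Fin b) F) *ᵥ ten x y =
        ten ((α : Matrix (Fin 2) (Fin 2) F) *ᵥ x) ((β : Matrix (Fin b) (Fin b) F) *ᵥ y) := by
    intro x y; rw [hαβ, kron_mulVec_ten]
  -- the entry relation from h1
  have hent : ∀ (x : Fin 2 → F) (i : Fin 2) (j : Fin b),
      ((α : Matrix (Fin 2) (Fin 2) F) *ᵥ x) i * ((β : Matrix (Fin b) (Fin b) F) *ᵥ w) j =
        x i * w j := by
    intro x i j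
    have := congrFun (h1 x) (i, j)
    rw [hact] at this
    simpa [ten] using this
  obtain ⟨d, hd⟩ : ∃ d : F, d = ((β : Matrix (Fin b) (Fin b) F) *ᵥ w) j0 := ⟨_, rfl⟩
  have hd0 : d ≠ 0 := by
    intro h0
    have := hent (Pi.single 0 1) 0 j0
    rw [← hd, h0, mul_zero] at this
    simp at this
    exact hj0 this.symm
  -- α x = s • x
  obtain ⟨s, hs⟩ : ∃ s : F, s = w j0 / d := ⟨_, rfl⟩
  have hs0 : s ≠ 0 := by rw [hs]; exact div_ne_zero hj0 hd0
  have hα : ∀ x : Fin 2 → F, (α : Matrix (Fin 2) (Fin 2) F) *ᵥ x = s • x := by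
    intro x
    funext i
    have := hent x i j0
    rw [← hd] at this
    rw [Pi.smul_apply, smul_eq_mul, hs]
    field_simp
    linear_combination this
  -- β' = s • β
  obtain ⟨β', hβ'⟩ : ∃ β' : Matrix (Fin b) (Fin b) F,
    β' = s • (β : Matrix (Fin b) (Fin b) F) := ⟨_, rfl⟩
  have hact' : ∀ (x : Fin 2 → F) (y : Fin b → F),
      (t : Matrix (Fin 2 × Fin b) (Fin 2 × Fin b) F) *ᵥ ten x y = ten x (β' *ᵥ y) := by
    intro x y
    rw [hact, hα, ten_smul_left, hβ', Matrix.smul_mulVec, ten_smul_right]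
  -- β' w = w
  have hβw : β' *ᵥ w = w := by
    funext j
    have := congrFun (h1 (Pi.single 0 1)) (0, j)
    rw [hact'] at this
    simpa [ten] using this
  -- for y ⊥ w : β' y = y + c • w
  have hy : ∀ y : Fin b → F, bf J2 w y = 0 → ∃ c : F, β' *ᵥ y = y + c • w := by
    intro y hy
    obtain ⟨x', hx'⟩ := h2 (Pi.single 0 1) y hy
    rw [hact'] at hx'
    refine ⟨x' 0, ?_⟩
    funext j
    have := congrFun hx' (0, j)
    simpa [ten] using this
  -- the covector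
  obtain ⟨φ, hφ⟩ : ∃ φ : Fin b → F, φ = fun j => (β' - 1) j0 j / w j0 := ⟨_, rfl⟩
  have hφy : ∀ y : Fin b → F, φ ⬝ᵥ y = ((β' *ᵥ y) j0 - y j0) / w j0 := by
    intro y
    have h3 : ((β' - 1) *ᵥ y) j0 = (β' *ᵥ y) j0 - y j0 := by
      rw [Matrix.sub_mulVec, Matrix.one_mulVec, Pi.sub_apply]
    rw [← h3, hφ]
    simp only [dotProduct, Matrix.mulVec]
    rw [Finset.sum_div]
    apply Finset.sum_congr rfl
    intro j _
    ring
  obtain ⟨z, hz⟩ := ts2t0rn_riesz C.sym C.det2 φ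
  refine ⟨z, ?_, ?_⟩
  · rw [bf_symm C.sym, hz, hφy, hβw, sub_self, zero_div]
  · intro x y hyw
    obtain ⟨c, hc⟩ := hy y hyw
    have hcz : bf J2 z y = c := by
      rw [hz, hφy, hc]
      simp only [Pi.add_apply, Pi.smul_apply, smul_eq_mul]
      field_simp
      ring
    rw [hact', hc, ten_add_right, ten_smul_right, hcz]

end Cfsg.Agent.Lib.Helper21.TS
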