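import Mathlib

/-!
# Abstract PGRP + SYLOW TRICK (TS a = 2, helper27 NOTES.md step 3) -- lead

Pure group theory: `T ≤ M` subgroups of `G`.
`UFP r` := `∀ h ∈ M, h⁻¹ * r * h ∈ T → h ∈ T`.
-/

set_option autoImplicit false

namespace Cfsg.Agent.Lib.Lead.SylTrick

open scoped Pointwise

variable {G : Type*} [Group G]

/-- abstract PGRP: a finite `p`-subgroup `Q` containing `x ∈ T` such that every `h ∈ Q` with `h⁻¹ x h ∈ T` lies in `T`
is contained in `T` (normaliser condition). -/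
theorem syltrick_pgrp (p : ℕ) [Fact p.Prime] (T Q : Subgroup G) [Finite Q] (hQ : IsPGroup p Q)
    (x : G) (hxQ : x ∈ Q) (hxT : x ∈ T)
    (hUFP : ∀ h ∈ Q, h⁻¹ * x * h ∈ T → h ∈ T) : Q ≤ T := by
  classical
  by_contra hcon
  have : Group.IsNilpotent Q := hQ.isNilpotent
  have hnc : NormalizerCondition Q := Group.normalizerCondition_of_isNilpotent
  set H : Subgroup Q := T.subgroupOf Q with hH
  have hHlt : H < ⊤ := by
    rw [lt_top_iff_ne_top]
    intro htop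
    apply hcon
    intro y hy
    have : (⟨y, hy⟩ : Q) ∈ H := by rw [htop]; exact Subgroup.mem_top _
    exact Subgroup.mem_subgroupOf.mp this
  obtain ⟨hle, hnle⟩ := (hnc H hHlt)
  obtain ⟨v, hvN, hvH⟩ := SetLike.not_le_iff_exists.mp hnle
  apply hvH
  rw [hH, Subgroup.mem_subgroupOf]
  apply hUFP _ v.2
  have hxH : (⟨x, hxQ⟩ : Q) ∈ H := Subgroup.mem_subgroupOf.mpr hxT
  have hvN' := inv_mem hvN
  have := (Subgroup.mem_normalizer_iff.mp hvN' ⟨x, hxQ⟩).mp hxH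
  have h2 := Subgroup.mem_subgroupOf.mp this
  simpa using h2

/-- abstract SYLOW TRICK: `x, r` `p`-elements of `T` with UFP in `M`, `g ∈ M`, `y = g x g⁻¹`, `D = ⟨r, y⟩` finite.
Then some `d ∈ D` has `d * g ∈ T`. -/
theorem syltrick_main (p : ℕ) [Fact p.Prime] (T M : Subgroup G) (hTM : T ≤ M)
    (x r g : G) (hxT : x ∈ T) (hrM : r ∈ M) (hgM : g ∈ M)
    (hx : ∃ k : ℕ, x ^ (p ^ k) = 1) (hr : ∃ k : ℕ, r ^ (p ^ k) = 1)
    (hUFPx : ∀ h ∈ M, h⁻¹ * x * h ∈ T → h ∈ T)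
    (hUFPr : ∀ h ∈ M, h⁻¹ * r * h ∈ T → h ∈ T)
    [Finite (Subgroup.closure ({r, g * x * g⁻¹} : Set G))] :
    ∃ d ∈ Subgroup.closure ({r, g * x * g⁻¹} : Set G), d * g ∈ T := by
  classical
  obtain ⟨y, hy⟩ : ∃ y : G, y = g * x * g⁻¹ := ⟨_, rfl⟩
  rw [← hy]
  obtain ⟨D, hD⟩ : ∃ D : Subgroup G, D = Subgroup.closure ({r, y} : Set G) := ⟨_, rfl⟩
  have hfin : Finite D := by rw [hD, hy]; infer_instance
  rw [← hD]
  have hrD : r ∈ D := by rw [hD]; exact Subgroup.subset_closure (by simp)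
  have hyD : y ∈ D := by rw [hD]; exact Subgroup.subset_closure (by simp)
  have hxM : x ∈ M := hTM hxT
  have hyM : y ∈ M := by rw [hy]; exact mul_mem (mul_mem hgM hxM) (inv_mem hgM)
  have hDM : D ≤ M := by
    rw [hD, Subgroup.closure_le]
    intro z hz
    rcases hz with rfl | hz
    · exact hrM
    · rw [Set.mem_singleton_iff] at hz; rw [hz]; exact hyM
  -- p-groups generated by y and r in D
  have hyp : ∃ k : ℕ, y ^ (p ^ k) = 1 := by
    obtain ⟨k, hk⟩ := hx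
    refine ⟨k, ?_⟩
    rw [hy, conj_pow, hk, mul_one, mul_inv_cancel]
  have hpz : ∀ (z : G) (hz : z ∈ D), (∃ k : ℕ, z ^ (p ^ k) = 1) →
      IsPGroup p (Subgroup.zpowers (⟨z, hz⟩ : D)) := by
    intro z hz ⟨k, hk⟩ w
    obtain ⟨w, hw⟩ := w
    obtain ⟨n, rfl⟩ := Subgroup.mem_zpowers_iff.mp hw
    refine ⟨k, ?_⟩
    have h1 : (⟨z, hz⟩ : D) ^ (p ^ k) = 1 := Subtype.ext (by simpa using hk)
    apply Subtype.ext
    simp only [Subgroup.coe_pow, Subgroup.coe_one]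
    rw [← zpow_natCast, ← zpow_mul, mul_comm, zpow_mul, zpow_natCast, h1, one_zpow]
  obtain ⟨Q, hQ⟩ := (hpz y hyD hyp).exists_le_sylow
  obtain ⟨Q2, hQ2⟩ := (hpz r hrD hr).exists_le_sylow
  obtain ⟨d, hd⟩ := MulAction.exists_smul_eq D Q Q2
  have hrQ2 : (⟨r, hrD⟩ : D) ∈ Q2 := hQ2 (Subgroup.mem_zpowers _)
  have hyQ : (⟨y, hyD⟩ : D) ∈ Q := hQ (Subgroup.mem_zpowers _)
  have hdr : d⁻¹ * ⟨r, hrD⟩ * d ∈ (Q : Subgroup D) := by
    rw [← hd] at hrQ2
    have h1 : (⟨r, hrD⟩ : D) ∈ MulAut.conj d • (Q : Subgroup D) := by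
      rw [← Sylow.pointwise_smul_def, ← Sylow.smul_def]; exact hrQ2
    have h2 := Subgroup.mem_pointwise_smul_iff_inv_smul_mem.mp h1
    simpa [MulAut.smul_def, MulAut.conj_inv_apply] using h2
  refine ⟨(d : G), d.2, ?_⟩
  -- the conjugated p-group
  let φ : D →* G := (MulAut.conj g⁻¹).toMonoidHom.comp D.subtype
  have hφ : ∀ z : D, φ z = g⁻¹ * (z : G) * g := by
    intro z; simp [φ]
  have hfinQ' : Finite ((Q : Subgroup D).map φ) := by
    have : ((Q : Subgroup D).map φ : Set G) = φ '' (Q : Set D) := Subgroup.coe_map _ _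
    apply Set.finite_coe_iff.mpr
    change ((Q : Subgroup D).map φ : Set G).Finite
    rw [this]
    exact (Set.toFinite _).image _
  have hQ'p : IsPGroup p ((Q : Subgroup D).map φ) := Q.isPGroup'.map φ
  have hxQ' : x ∈ (Q : Subgroup D).map φ := by
    refine ⟨⟨y, hyD⟩, hyQ, ?_⟩
    rw [hφ]
    simp only [hy]
    group
  have hQ'T : (Q : Subgroup D).map φ ≤ T := by
    apply syltrick_pgrp p T _ hQ'p x hxQ' hxT
    intro h hh hhT
    apply hUFPx h _ hhT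
    obtain ⟨z, _, rfl⟩ := hh
    rw [hφ]
    exact mul_mem (mul_mem (inv_mem hgM) (hDM z.2)) hgM
  apply hUFPr _ (mul_mem (hDM d.2) hgM)
  have : φ (d⁻¹ * ⟨r, hrD⟩ * d) ∈ (Q : Subgroup D).map φ := ⟨_, hdr, rfl⟩
  have h3 := hQ'T this
  rw [hφ] at h3
  have : ((d : G) * g)⁻¹ * r * ((d : G) * g) = g⁻¹ * ((d⁻¹ * ⟨r, hrD⟩ * d : D) : G) * g := by
    simp only [Subgroup.coe_mul, Subgroup.coe_inv]
    group
  rw [this]
  exact h3


end Cfsg.Agent.Lib.Lead.SylTrick
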