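import Mathlib
import Cfsg.Prelude.Def_GeometricClasses
import Cfsg.Agent.Lib.Helper29.C6P.DefsS

set_option autoImplicit false
set_option linter.unusedVariables false
set_option linter.unusedSectionVars false

/-! # Project C6P (S6000), row S3 (`s_center_scalar`) -/

namespace Cfsg.Agent.Lib.Helper10.C6P

open Cfsg Cfsg.Geo
open scoped MatrixGroups

variable {F : Type*} [Field F] [Fintype F]

omit [Fintype F] in
/-- a power of a scalar matrix -/
theorem c6ps3_smul_pow (c : F) (k : ℕ) :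
    (c • (1 : Matrix (Fin 4) (Fin 4) F)) ^ k = c ^ k • (1 : Matrix (Fin 4) (Fin 4) F) := by
  rw [smul_pow, one_pow]

omit [Fintype F] in
/-- a scalar matrix `c • 1 = 1` has `c = 1` -/
theorem c6ps3_smul_eq_one (c : F) (h : c • (1 : Matrix (Fin 4) (Fin 4) F) = 1) : c = 1 := by
  have := congrFun (congrFun h 0) 0
  simpa using this

omit [Fintype F] in
/-- Schur: central in `R` iff scalar -/
theorem c6ps3_central_iff (R : Subgroup (GL (Fin 4) F)) (hA : ActsAbsolutelyIrreducibly (matrixSet R))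
    (g : GL (Fin 4) F) (hg : g ∈ R) :
    (∀ h ∈ R, g * h = h * g) ↔
      ∃ c : F, (g : Matrix (Fin 4) (Fin 4) F) = c • (1 : Matrix (Fin 4) (Fin 4) F) := by
  constructor
  · intro hc
    apply hA.2
    rintro s ⟨h, hh, rfl⟩
    have := congrArg (fun x : GL (Fin 4) F => (x : Matrix (Fin 4) (Fin 4) F)) (hc h hh)
    simpa using this
  · rintro ⟨c, hc⟩ h hh
    apply Units.ext
    rw [Units.val_mul, Units.val_mul, hc, Matrix.smul_mul, Matrix.mul_smul, Matrix.one_mul,
      Matrix.mul_one]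

theorem s_center_scalar (R : Subgroup (GL (Fin 4) F)) (hA : ActsAbsolutelyIrreducibly (matrixSet R))
    (hZ : Nat.card (Subgroup.center R) = 4) :
    (∀ g ∈ R, (∀ h ∈ R, g * h = h * g) ↔ ∃ c : F, (g : Matrix (Fin 4) (Fin 4) F) = c • (1 : Matrix (Fin 4) (Fin 4) F)) ∧
    (∀ c : F, c ^ 4 = 1 → ∃ g ∈ R, (g : Matrix (Fin 4) (Fin 4) F) = c • (1 : Matrix (Fin 4) (Fin 4) F)) ∧
    (∀ g ∈ R, ∀ c : F, (g : Matrix (Fin 4) (Fin 4) F) = c • (1 : Matrix (Fin 4) (Fin 4) F) → c ^ 4 = 1) := by
  classical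
  have h1 := c6ps3_central_iff R hA
  -- (3)
  have h3 : ∀ g ∈ R, ∀ c : F, (g : Matrix (Fin 4) (Fin 4) F) = c • (1 : Matrix (Fin 4) (Fin 4) F) →
      c ^ 4 = 1 := by
    intro g hg c hc
    have hcen : (⟨g, hg⟩ : R) ∈ Subgroup.center R := by
      rw [Subgroup.mem_center_iff]
      rintro ⟨h, hh⟩
      apply Subtype.ext
      exact ((h1 g hg).mpr ⟨c, hc⟩ h hh).symm
    have hpow : (⟨⟨g, hg⟩, hcen⟩ : Subgroup.center R) ^ 4 = 1 := by
      have h0 : (⟨⟨g, hg⟩, hcen⟩ : Subgroup.center R) ^ Nat.card (Subgroup.center R) = 1 :=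
        pow_card_eq_one'
      rw [hZ] at h0
      exact h0
    have hpow' : g ^ 4 = 1 := by
      have := congrArg (fun z : Subgroup.center R => ((z : R) : GL (Fin 4) F)) hpow
      simpa using this
    have hm : (g : Matrix (Fin 4) (Fin 4) F) ^ 4 = 1 := by
      rw [← Units.val_pow_eq_pow_val, hpow']
      rfl
    rw [hc, c6ps3_smul_pow] at hm
    exact c6ps3_smul_eq_one _ hm
  refine ⟨h1, ?_, h3⟩
  -- (2)
  have hscal : ∀ z : Subgroup.center R, ∃ c : F,
      (((z : R) : GL (Fin 4) F) : Matrix (Fin 4) (Fin 4) F) = c • (1 : Matrix (Fin 4) (Fin 4) F) := by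
    intro z
    apply (h1 _ (z : R).2).mp
    intro h hh
    have := (Subgroup.mem_center_iff.mp z.2) ⟨h, hh⟩
    have h2 := congrArg (fun x : R => (x : GL (Fin 4) F)) this
    exact h2.symm
  choose f hf using hscal
  have hfinj : Function.Injective f := by
    intro z z' hzz
    apply Subtype.ext
    apply Subtype.ext
    apply Units.ext
    rw [hf z, hf z', hzz]
  have : Fintype (Subgroup.center R) := Fintype.ofFinite _
  have hcard : (Finset.univ.image f).card = 4 := by
    rw [Finset.card_image_of_injective _ hfinj, Finset.card_univ, ← Nat.card_eq_fintype_card, hZ]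
  have hsub : Finset.univ.image f ⊆ Polynomial.nthRootsFinset 4 (1 : F) := by
    intro c hc
    obtain ⟨z, -, rfl⟩ := Finset.mem_image.mp hc
    rw [Polynomial.mem_nthRootsFinset (by norm_num)]
    exact h3 _ (z : R).2 (f z) (hf z)
  have hle : (Polynomial.nthRootsFinset 4 (1 : F)).card ≤ (Finset.univ.image f).card := by
    rw [hcard]
    have h4 := Polynomial.card_nthRoots 4 (1 : F)
    unfold Polynomial.nthRootsFinset
    exact le_trans (Multiset.toFinset_card_le _) h4
  have heq := Finset.eq_of_subset_of_card_le hsub hle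
  intro c hc
  have hmem : c ∈ Finset.univ.image f := by
    rw [heq, Polynomial.mem_nthRootsFinset (by norm_num)]
    exact hc
  obtain ⟨z, -, rfl⟩ := Finset.mem_image.mp hmem
  exact ⟨((z : R) : GL (Fin 4) F), (z : R).2, hf z⟩

end Cfsg.Agent.Lib.Helper10.C6P
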