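import Mathlib
import Cfsg.Prelude.Def_GeometricClasses
import Cfsg.Agent.Lib.Helper29.C6P.DefsS
import Cfsg.Agent.Lib.Lead.C6PS3

set_option autoImplicit false
set_option linter.unusedVariables false
set_option linter.unusedSectionVars false

/-! # Project C6P (S6000), row S4 (`s_pm`): core with the conclusions of S1, S2 for the group `↥R` as hypotheses -/

namespace Cfsg.Agent.Lib.Helper10.C6P

open Cfsg Cfsg.Geo
open scoped MatrixGroups

variable {F : Type*} [Field F] [Fintype F]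

omit [Fintype F] in
theorem c6ps4_sq_one (c : F) (h : c * c = 1) : c = 1 ∨ c = -1 := by
  have : (c - 1) * (c + 1) = 0 := by ring_nf; rw [sq, h]; ring
  rcases mul_eq_zero.mp this with h1 | h1
  · left; exact sub_eq_zero.mp h1
  · right; exact eq_neg_of_add_eq_zero_left h1

/-- the exponent hypothesis gives `x ^ 4 = 1` -/
theorem c6ps4_exp (R : Subgroup (GL (Fin 4) F)) (hS : IsSymplecticTypeGroup 2 R) (x : R) : x ^ 4 = 1 := by
  have h := hS.exponent_eq
  have h4 : Monoid.exponent R = 4 := by rw [h]; rfl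
  have h0 := Monoid.pow_exponent_eq_one x
  rw [h4] at h0
  exact h0

theorem c6ps4_core (R : Subgroup (GL (Fin 4) F)) (hS : IsSymplecticTypeGroup 2 R)
    (hA : ActsAbsolutelyIrreducibly (matrixSet R)) (hZ : Nat.card (Subgroup.center R) = 4)
    (hS1 : ∀ x y : R, x * y * x⁻¹ * y⁻¹ ∈ Subgroup.center R)
    (hS2 : ∀ x : R, x ^ 2 ∈ Subgroup.center R) :
    (∀ g ∈ R, (g : Matrix (Fin 4) (Fin 4) F) * (g : Matrix (Fin 4) (Fin 4) F) = 1 ∨
      (g : Matrix (Fin 4) (Fin 4) F) * (g : Matrix (Fin 4) (Fin 4) F) = -1) ∧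
    (∀ g ∈ R, ∀ h ∈ R, (g : Matrix (Fin 4) (Fin 4) F) * (h : Matrix (Fin 4) (Fin 4) F) = (h : Matrix (Fin 4) (Fin 4) F) * g ∨
      (g : Matrix (Fin 4) (Fin 4) F) * (h : Matrix (Fin 4) (Fin 4) F) = -((h : Matrix (Fin 4) (Fin 4) F) * g)) := by
  obtain ⟨h1, -, -⟩ := s_center_scalar R hA hZ
  -- central elements of `R` are scalar
  have hcs : ∀ z : R, z ∈ Subgroup.center R → ∃ c : F,
      ((z : GL (Fin 4) F) : Matrix (Fin 4) (Fin 4) F) = c • (1 : Matrix (Fin 4) (Fin 4) F) := by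
    intro z hz
    apply (h1 _ z.2).mp
    intro h hh
    have := (Subgroup.mem_center_iff.mp hz) ⟨h, hh⟩
    have h2 := congrArg (fun x : R => (x : GL (Fin 4) F)) this
    exact h2.symm
  have hsq : ∀ g ∈ R, (g : Matrix (Fin 4) (Fin 4) F) * (g : Matrix (Fin 4) (Fin 4) F) = 1 ∨
      (g : Matrix (Fin 4) (Fin 4) F) * (g : Matrix (Fin 4) (Fin 4) F) = -1 := by
    intro g hg
    obtain ⟨c, hc⟩ := hcs (⟨g, hg⟩ ^ 2) (hS2 ⟨g, hg⟩)
    have hc' : (g : Matrix (Fin 4) (Fin 4) F) * (g : Matrix (Fin 4) (Fin 4) F) =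
        c • (1 : Matrix (Fin 4) (Fin 4) F) := by
      rw [← hc, ← sq]
      simp
    have h4 := c6ps4_exp R hS ⟨g, hg⟩
    have h4' : (g : Matrix (Fin 4) (Fin 4) F) ^ 4 = 1 := by
      have := congrArg (fun x : R => ((x : GL (Fin 4) F) : Matrix (Fin 4) (Fin 4) F)) h4
      simpa using this
    have hcc : c * c = 1 := by
      have h5 : (g : Matrix (Fin 4) (Fin 4) F) ^ 4 =
          ((g : Matrix (Fin 4) (Fin 4) F) * (g : Matrix (Fin 4) (Fin 4) F)) *
            ((g : Matrix (Fin 4) (Fin 4) F) * (g : Matrix (Fin 4) (Fin 4) F)) := by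
        simp only [pow_succ, pow_zero, one_mul, mul_assoc]
      rw [h5, hc', Matrix.smul_mul, Matrix.one_mul, smul_smul] at h4'
      exact c6ps3_smul_eq_one _ h4'
    rcases c6ps4_sq_one c hcc with rfl | rfl
    · left; rw [hc', one_smul]
    · right; rw [hc', neg_one_smul]
  refine ⟨hsq, ?_⟩
  intro g hg h hh
  obtain ⟨c, hc⟩ := hcs _ (hS1 ⟨g, hg⟩ ⟨h, hh⟩)
  -- g h = c h g
  have hgh : (g : Matrix (Fin 4) (Fin 4) F) * (h : Matrix (Fin 4) (Fin 4) F) =
      c • ((h : Matrix (Fin 4) (Fin 4) F) * (g : Matrix (Fin 4) (Fin 4) F)) := by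
    have e1 : ((((⟨g, hg⟩ : R) * ⟨h, hh⟩ * (⟨g, hg⟩ : R)⁻¹ * (⟨h, hh⟩ : R)⁻¹ : R) : GL (Fin 4) F) :
        Matrix (Fin 4) (Fin 4) F) * ((h : Matrix (Fin 4) (Fin 4) F) * (g : Matrix (Fin 4) (Fin 4) F)) =
        (g : Matrix (Fin 4) (Fin 4) F) * (h : Matrix (Fin 4) (Fin 4) F) := by
      have : ((⟨g, hg⟩ : R) * ⟨h, hh⟩ * (⟨g, hg⟩ : R)⁻¹ * (⟨h, hh⟩ : R)⁻¹ : R) = 
          ⟨g * h * g⁻¹ * h⁻¹, R.mul_mem (R.mul_mem (R.mul_mem hg hh) (R.inv_mem hg)) (R.inv_mem hh)⟩ := rfl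
      rw [this]
      show ((g * h * g⁻¹ * h⁻¹ : GL (Fin 4) F) : Matrix (Fin 4) (Fin 4) F) * _ = _
      rw [← Units.val_mul, ← Units.val_mul, ← Units.val_mul]
      congr 1
      group
    rw [hc, Matrix.smul_mul, Matrix.one_mul] at e1
    exact e1.symm
  -- c ^ 2 = 1 through g ^ 2 scalar
  have hcc : c * c = 1 := by
    have hg2 : ∃ e : F, (g : Matrix (Fin 4) (Fin 4) F) * (g : Matrix (Fin 4) (Fin 4) F) =
        e • (1 : Matrix (Fin 4) (Fin 4) F) ∧ e ≠ 0 := by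
      rcases hsq g hg with h0 | h0
      · exact ⟨1, by rw [h0, one_smul], one_ne_zero⟩
      · exact ⟨-1, by rw [h0, neg_one_smul], by norm_num⟩
    obtain ⟨e, he, he0⟩ := hg2
    -- g g h = c^2 h g g
    have e2 : (g : Matrix (Fin 4) (Fin 4) F) * (g : Matrix (Fin 4) (Fin 4) F) * (h : Matrix (Fin 4) (Fin 4) F) =
        (c * c) • ((h : Matrix (Fin 4) (Fin 4) F) * ((g : Matrix (Fin 4) (Fin 4) F) * (g : Matrix (Fin 4) (Fin 4) F))) := by
      rw [Matrix.mul_assoc, hgh, Matrix.mul_smul, ← Matrix.mul_assoc, hgh, Matrix.smul_mul, smul_smul,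
        Matrix.mul_assoc]
    rw [he, Matrix.smul_mul, Matrix.one_mul, Matrix.mul_smul, Matrix.mul_one, smul_smul] at e2
    -- e • h = (c * c * e) • h, h invertible
    have e3 : (e • (1 : Matrix (Fin 4) (Fin 4) F)) = ((c * c * e) • (1 : Matrix (Fin 4) (Fin 4) F)) := by
      have := congrArg (fun M => M * ((h⁻¹ : GL (Fin 4) F) : Matrix (Fin 4) (Fin 4) F)) e2
      simpa [Matrix.smul_mul] using this
    have e4 := congrFun (congrFun e3 0) 0
    simp only [Matrix.smul_apply, Matrix.one_apply_eq, smul_eq_mul, mul_one] at e4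
    have : (c * c - 1) * e = 0 := by rw [sub_mul, one_mul, ← e4, sub_self]
    rcases mul_eq_zero.mp this with h0 | h0
    · exact sub_eq_zero.mp h0
    · exact absurd h0 he0
  rcases c6ps4_sq_one c hcc with rfl | rfl
  · left; rw [hgh, one_smul]
  · right; rw [hgh, neg_one_smul]

end Cfsg.Agent.Lib.Helper10.C6P
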