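import Mathlib
import Cfsg.Prelude.Def_GeometricClasses
import Cfsg.Agent.Lib.Helper29.C6P.DefsS
import Cfsg.Agent.Lib.Lead.C6PS3

set_option autoImplicit false
set_option linter.unusedVariables false
set_option linter.unusedSectionVars false

/-! # Project C6P (S6000), row S5 (`s_anti`): core with the second conclusion of S4 as hypothesis -/

namespace Cfsg.Agent.Lib.Helper10.C6P

open Cfsg Cfsg.Geo
open scoped MatrixGroups

variable {F : Type*} [Field F] [Fintype F]

omit [Fintype F] in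
theorem c6ps5_core (R : Subgroup (GL (Fin 4) F))
    (hA : ActsAbsolutelyIrreducibly (matrixSet R))
    (hS4 : ∀ g ∈ R, ∀ h ∈ R, (g : Matrix (Fin 4) (Fin 4) F) * (h : Matrix (Fin 4) (Fin 4) F) = (h : Matrix (Fin 4) (Fin 4) F) * g ∨
      (g : Matrix (Fin 4) (Fin 4) F) * (h : Matrix (Fin 4) (Fin 4) F) = -((h : Matrix (Fin 4) (Fin 4) F) * g))
    (g : GL (Fin 4) F) (hg : g ∈ R) (hns : ∀ c : F, (g : Matrix (Fin 4) (Fin 4) F) ≠ c • (1 : Matrix (Fin 4) (Fin 4) F)) :
    ∃ h ∈ R, (h : Matrix (Fin 4) (Fin 4) F) * (g : Matrix (Fin 4) (Fin 4) F) = -((g : Matrix (Fin 4) (Fin 4) F) * h) := by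
  by_contra hcon
  push Not at hcon
  have hcen : ∀ h ∈ R, g * h = h * g := by
    intro h hh
    rcases hS4 h hh g hg with h0 | h0
    · apply Units.ext
      rw [Units.val_mul, Units.val_mul]
      exact h0.symm
    · exact absurd h0 (hcon h hh)
  obtain ⟨c, hc⟩ := (c6ps3_central_iff R hA g hg).mp hcen
  exact hns c hc

end Cfsg.Agent.Lib.Helper10.C6P
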