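import Mathlib
import Cfsg.Prelude.Def_GeometricClasses
import Cfsg.Agent.Lib.Helper29.C6P.DefsS
import Cfsg.Agent.Lib.Lead.C6PS4core
import Cfsg.Agent.Lib.Lead.C6PS5core
import Cfsg.Agent.Lib.Helper29.C6PS1
import Cfsg.Agent.Lib.Helper29.C6PS2

set_option autoImplicit false
set_option linter.unusedVariables false
set_option linter.unusedSectionVars false

/-! # Project C6P (S6000), rows S4 (`s_pm`) and S5 (`s_anti`), verbatim -/

namespace Cfsg.Agent.Lib.Helper10.C6P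

open Cfsg Cfsg.Geo
open scoped MatrixGroups

variable {F : Type*} [Field F] [Fintype F]

theorem s_pm (R : Subgroup (GL (Fin 4) F)) (hS : IsSymplecticTypeGroup 2 R)
    (hA : ActsAbsolutelyIrreducibly (matrixSet R)) (hZ : Nat.card (Subgroup.center R) = 4) :
    (∀ g ∈ R, (g : Matrix (Fin 4) (Fin 4) F) * (g : Matrix (Fin 4) (Fin 4) F) = 1 ∨
      (g : Matrix (Fin 4) (Fin 4) F) * (g : Matrix (Fin 4) (Fin 4) F) = -1) ∧
    (∀ g ∈ R, ∀ h ∈ R, (g : Matrix (Fin 4) (Fin 4) F) * (h : Matrix (Fin 4) (Fin 4) F) = (h : Matrix (Fin 4) (Fin 4) F) * g ∨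
      (g : Matrix (Fin 4) (Fin 4) F) * (h : Matrix (Fin 4) (Fin 4) F) = -((h : Matrix (Fin 4) (Fin 4) F) * g)) := by
  have hexp : ∀ x : R, x ^ 4 = 1 := c6ps4_exp R hS
  exact c6ps4_core R hS hA hZ
    (s_class_two hS.pGroup hS.cyclic_of_characteristic hexp hZ)
    (s_sq_central hS.pGroup hS.cyclic_of_characteristic hexp hZ)

theorem s_anti (R : Subgroup (GL (Fin 4) F)) (hS : IsSymplecticTypeGroup 2 R)
    (hA : ActsAbsolutelyIrreducibly (matrixSet R)) (hZ : Nat.card (Subgroup.center R) = 4)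
    (g : GL (Fin 4) F) (hg : g ∈ R) (hns : ∀ c : F, (g : Matrix (Fin 4) (Fin 4) F) ≠ c • (1 : Matrix (Fin 4) (Fin 4) F)) :
    ∃ h ∈ R, (h : Matrix (Fin 4) (Fin 4) F) * (g : Matrix (Fin 4) (Fin 4) F) = -((g : Matrix (Fin 4) (Fin 4) F) * h) :=
  c6ps5_core R hA (s_pm R hS hA hZ).2 g hg hns

end Cfsg.Agent.Lib.Helper10.C6P
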