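import Cfsg.Agent.Lib.Lead.ConwayHSGroup2
import Cfsg.Agent.Lib.helper3.StW22Swap
import Cfsg.Prelude.Def_Sporadic

set_option autoImplicit false

/-!
# The Higman–Sims graph from the Leech lattice

The 100 minimal vectors attached to the standard pair `u48`, `wS`, two of them joined when their
inner product is `8`, form the point-block graph of the standard `S(3, 6, 22)`; the stabiliser `G0`
of the pair acts faithfully on it.
-/

namespace Cfsg.Agent.Lib.Lead.HSG

open Cfsg
open Cfsg.Agent.Lib.Lead.LX Cfsg.Agent.Lib.Lead.CW Cfsg.Agent.Lib.Lead.CO Cfsg.Agent.Lib.Lead.CP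
open Cfsg.Agent.Lib.helper3 Cfsg.Agent.Lib.helper4 Cfsg.Agent.S0398 Cfsg.Agent.S1571
open Cfsg.Agent.Lib.Lead.LC Cfsg.Agent.Lib.Lead.LC3 Cfsg.Agent.Lib.Lead.HS

theorem smul_mem_XS (g : ↥G0) (y : ↥leechLattice) (hy : y ∈ XS) : g • y ∈ XS := by
  rw [← orbit_v32] at hy ⊢
  obtain ⟨h, rfl⟩ := hy
  exact ⟨g * h, mul_smul g h v32⟩

section model

variable {V : Type*} (Γ : SimpleGraph V) (e : V ≃ ↥XS)
  (hadj : ∀ x y, Γ.Adj x y ↔ dotInt (e x).1.1 (e y).1.1 = 8)

/-- the automorphism induced by an element of `G0` -/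
noncomputable def autOf (g : ↥G0) : Γ ≃g Γ where
  toFun x := e.symm ⟨g • (e x).1, smul_mem_XS g _ (e x).2⟩
  invFun x := e.symm ⟨g⁻¹ • (e x).1, smul_mem_XS g⁻¹ _ (e x).2⟩
  left_inv x := by simp
  right_inv x := by simp
  map_rel_iff' := by
    intro x y
    show Γ.Adj (e.symm ⟨g • (e x).1, smul_mem_XS g _ (e x).2⟩)
      (e.symm ⟨g • (e y).1, smul_mem_XS g _ (e y).2⟩) ↔ Γ.Adj x y
    rw [hadj, hadj, Equiv.apply_symm_apply, Equiv.apply_symm_apply]
    have h := dot_map g.1 (e x).1 (e y).1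
    show dotInt (g.1.1 (e x).1).1 (g.1.1 (e y).1).1 = 8 ↔ _
    rw [h]

theorem autOf_apply (g : ↥G0) (x : V) :
    autOf Γ e hadj g x = e.symm ⟨g • (e x).1, smul_mem_XS g _ (e x).2⟩ := rfl

/-- the action as a homomorphism -/
noncomputable def psi : ↥G0 →* (Γ ≃g Γ) :=
  MonoidHom.mk' (autOf Γ e hadj) (by
    intro a b
    apply RelIso.ext
    intro x
    rw [RelIso.mul_apply, autOf_apply, autOf_apply, autOf_apply]
    congr 1
    apply Subtype.ext
    simp [mul_smul])

theorem psi_apply (g : ↥G0) (x : V) :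
    psi Γ e hadj g x = e.symm ⟨g • (e x).1, smul_mem_XS g _ (e x).2⟩ := rfl

theorem psi_injective : Function.Injective (psi Γ e hadj) := by
  rw [injective_iff_map_eq_one]
  intro g hg
  apply faithful0
  intro y hy
  rw [orbit_v32] at hy
  have h1 : psi Γ e hadj g (e.symm ⟨y, hy⟩) = e.symm ⟨y, hy⟩ := by
    rw [hg]
    rfl
  rw [psi_apply] at h1
  have h2 := e.symm.injective h1
  have h3 := congrArg Subtype.val h2
  simpa using h3

include e hadj in
theorem exists_HS : ∃ H : Subgroup (Γ ≃g Γ), IsHS H := by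
  refine ⟨(psi Γ e hadj).range, ?_, ?_⟩
  · have := G0_simple
    exact (MonoidHom.ofInjective (psi_injective Γ e hadj)).symm.isSimpleGroup
  · rw [← Nat.card_congr (MonoidHom.ofInjective (psi_injective Γ e hadj)).toEquiv, card_G0]

end model

/-! ### the standard objects -/

set_option maxRecDepth 1000000 in
theorem key_chk : ∀ k : Fin 4096, popc (golayMask k) = 8 → Cw k none ≠ 0 → Cw k (some 0) ≠ 0 →
    keyM k = (6, true, true) := by decide +kernel

set_option maxRecDepth 1000000 in
theorem hV_oK_chk : ∀ k : Fin 4096, keyM k = (6, true, true) → ∀ i : GolayPt,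
    dotInt (hV i) (oK k) = if Cw k i ≠ 0 then 8 else 16 := by decide +kernel

set_option maxRecDepth 1000000 in
theorem hV_hV_chk : ∀ i j : GolayPt, dotInt (hV i) (hV j) ≠ 8 := by decide +kernel

theorem mem_supp (k : ℕ) (p : GolayPt) : p ∈ support₂ (Cw k) ↔ Cw k p ≠ 0 := by
  unfold support₂
  rw [Finset.mem_filter]
  exact ⟨fun h => h.2, fun h => ⟨Finset.mem_univ _, h⟩⟩

theorem exists_K77 (o : Finset GolayPt) (ho : o ∈ octads) (h0 : none ∈ o) (h1 : some 0 ∈ o) :
    ∃ k ∈ K77, o = support₂ (Cw k) := by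
  obtain ⟨w, hw, rfl, hn⟩ := (mem_octads_iff o).1 ho
  obtain ⟨k, hk, rfl⟩ := (mem_golayCode_iff w).1 hw
  rw [hammingNorm_gword] at hn
  have m0 : Cw k none ≠ 0 := (mem_supp k none).1 h0
  have m1 : Cw k (some 0) ≠ 0 := (mem_supp k (some 0)).1 h1
  exact ⟨k, (mem_K77 k).2 ⟨hk, key_chk ⟨k, hk⟩ hn m0 m1⟩, rfl⟩

/-- the index of the octad through `∞`, `0` tracing a given block -/
noncomputable def kOf (c : Finset X22) : ℕ :=
  if h : ∃ k ∈ K77, c = dsub (support₂ (Cw k)) then h.choose else 0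

theorem kOf_spec (c : Finset X22) (hc : c ∈ D00) :
    kOf c ∈ K77 ∧ c = dsub (support₂ (Cw (kOf c))) := by
  obtain ⟨o, ho, h0, h1, rfl⟩ := mem_D00_iff.1 hc
  obtain ⟨k, hk, rfl⟩ := exists_K77 o ho h0 h1
  have h : ∃ k' ∈ K77, dsub (support₂ (Cw k)) = dsub (support₂ (Cw k')) := ⟨k, hk, rfl⟩
  unfold kOf
  rw [dif_pos h]
  exact h.choose_spec

theorem K77_flags (k : ℕ) (hk : k ∈ K77) : Cw k none ≠ 0 ∧ Cw k (some 0) ≠ 0 := by
  obtain ⟨_, m0, m1, _⟩ := K77_octad k hk
  exact ⟨(mem_supp k none).1 m0, (mem_supp k (some 0)).1 m1⟩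

theorem dsub_mem_D00 (k : ℕ) (hk : k ∈ K77) : dsub (support₂ (Cw k)) ∈ D00 := by
  obtain ⟨hoct, m0, m1, _⟩ := K77_octad k hk
  exact mem_D00_iff.2 ⟨_, hoct, m0, m1, rfl⟩

/-- lift of a point other than `∞`, `0` -/
def lift22 (i : GolayPt) (h0 : i ≠ none) (h1 : i ≠ some 0) : X22 :=
  ⟨⟨i, h0⟩, fun hh => h1 (congrArg Subtype.val hh)⟩

theorem lift22_val (i : GolayPt) (h0 : i ≠ none) (h1 : i ≠ some 0) :
    ((lift22 i h0 h1).1.1 : GolayPt) = i := rfl

theorem dot_hL_oL (i : GolayPt) (k : ℕ) (hk : k ∈ K77) :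
    dotInt (hL i).1 (oL k).1 = if Cw k i ≠ 0 then 8 else 16 := by
  rw [oL_val k hk]
  rw [mem_K77] at hk
  exact hV_oK_chk ⟨k, hk.1⟩ hk.2 i

theorem dot_oL_oL (k k' : ℕ) (hk : k ∈ K77) (hk' : k' ∈ K77) :
    dotInt (oL k).1 (oL k').1 = 8 ↔
      ∀ i, i ≠ none → i ≠ some 0 → ¬ (Cw k i ≠ 0 ∧ Cw k' i ≠ 0) := by
  classical
  rw [oL_val k hk, oL_val k' hk']
  obtain ⟨a0, a1⟩ := K77_flags k hk
  obtain ⟨b0, b1⟩ := K77_flags k' hk'
  set S : Finset GolayPt := Finset.univ.filter (fun i => Cw k i ≠ 0 ∧ Cw k' i ≠ 0) with hS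
  have memS : ∀ i, i ∈ S ↔ (Cw k i ≠ 0 ∧ Cw k' i ≠ 0) := by
    intro i
    rw [hS, Finset.mem_filter]
    exact ⟨fun h => h.2, fun h => ⟨Finset.mem_univ _, h⟩⟩
  have hdot : dotInt (oK k) (oK k') = 4 * (S.card : ℤ) := by
    unfold dotInt
    have : ∀ i, oK k i * oK k' i = if (Cw k i ≠ 0 ∧ Cw k' i ≠ 0) then (4 : ℤ) else 0 := by
      intro i
      unfold oK
      by_cases h1 : Cw k i ≠ 0 <;> by_cases h2 : Cw k' i ≠ 0 <;> simp [h1, h2]
    simp only [this]
    rw [Finset.sum_ite, Finset.sum_const, Finset.sum_const_zero, add_zero, nsmul_eq_mul]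
    ring
  have hsub : ({none, some 0} : Finset GolayPt) ⊆ S := by
    intro i hi
    rw [Finset.mem_insert, Finset.mem_singleton] at hi
    rcases hi with rfl | rfl
    · exact (memS _).2 ⟨a0, b0⟩
    · exact (memS _).2 ⟨a1, b1⟩
  have hpair : ({none, some 0} : Finset GolayPt).card = 2 := Finset.card_pair (by simp)
  rw [hdot]
  constructor
  · intro h i hi0 hi1 hi
    have hc : S.card = 2 := by omega
    have hEq : ({none, some 0} : Finset GolayPt) = S :=
      Finset.eq_of_subset_of_card_le hsub (by rw [hc, hpair])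
    have : i ∈ ({none, some 0} : Finset GolayPt) := by
      rw [hEq]
      exact (memS i).2 hi
    rw [Finset.mem_insert, Finset.mem_singleton] at this
    rcases this with h | h
    · exact hi0 h
    · exact hi1 h
  · intro h
    have hEq : S = ({none, some 0} : Finset GolayPt) := by
      apply Finset.Subset.antisymm _ hsub
      intro i hi
      rw [Finset.mem_insert, Finset.mem_singleton]
      by_contra hne
      rw [not_or] at hne
      exact h i hne.1 hne.2 ((memS i).1 hi)
    rw [hEq, hpair]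
    norm_num

theorem dot_oL_oL_disj (k k' : ℕ) (hk : k ∈ K77) (hk' : k' ∈ K77) :
    dotInt (oL k).1 (oL k').1 = 8 ↔
      Disjoint (dsub (support₂ (Cw k))) (dsub (support₂ (Cw k'))) := by
  rw [dot_oL_oL k k' hk hk', Finset.disjoint_left]
  constructor
  · intro h p hp hp'
    rw [mem_dsub, mem_supp] at hp hp'
    exact h _ (X22_ne_none p) (X22_ne_zero p) ⟨hp, hp'⟩
  · intro h i h0 h1 hi
    apply h (a := lift22 i h0 h1)
    · rw [mem_dsub, mem_supp]
      exact hi.1
    · rw [mem_dsub, mem_supp]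
      exact hi.2

theorem hL_mem' (p : X22) : hL p.1.1 ∈ XS ∧ dotInt v32.1 (hL p.1.1).1 = 8 := by
  have h := hV_chk p.1.1
  have h2 := h.2.2 (X22_ne_none p) (X22_ne_zero p)
  exact ⟨⟨h.2.1, h2.1, h2.2.1⟩, h2.2.2⟩

theorem oL_eq_of_dsub (k k' : ℕ) (hk : k ∈ K77) (hk' : k' ∈ K77)
    (h : dsub (support₂ (Cw k)) = dsub (support₂ (Cw k'))) : oL k = oL k' := by
  apply Subtype.ext
  rw [oL_val k hk, oL_val k' hk']
  obtain ⟨a0, a1⟩ := K77_flags k hk
  obtain ⟨b0, b1⟩ := K77_flags k' hk'
  funext i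
  unfold oK
  by_cases h0 : i = none
  · subst h0
    rw [if_pos a0, if_pos b0]
  by_cases h1 : i = some 0
  · subst h1
    rw [if_pos a1, if_pos b1]
  have : Cw k i ≠ 0 ↔ Cw k' i ≠ 0 := by
    rw [← mem_supp, ← mem_supp, ← lift22_val i h0 h1, ← mem_dsub, ← mem_dsub, h]
  by_cases hc : Cw k i ≠ 0
  · rw [if_pos hc, if_pos (this.1 hc)]
  · rw [if_neg hc, if_neg (fun h' => hc (this.2 h'))]

/-! ### the model of a general `S(3, 6, 22)` -/

section general

variable {α : Type*} (B : Set (Finset α)) (e : α ≃ X22)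

/-- the vector attached to a vertex of the point-block graph -/
noncomputable def fV : Option (α ⊕ ↥B) → ↥leechLattice
  | none => v32
  | some (Sum.inl a) => hL ((e a).1.1)
  | some (Sum.inr b) => oL (kOf (b.1.image e))

variable (hB : (fun b : Finset α => b.image e) '' B = D00)

include hB in
theorem img_mem (b : ↥B) : b.1.image e ∈ D00 := by
  rw [← hB]
  exact ⟨b.1, b.2, rfl⟩

include hB in
theorem kb_spec (b : ↥B) : kOf (b.1.image e) ∈ K77 ∧
    b.1.image e = dsub (support₂ (Cw (kOf (b.1.image e)))) :=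
  kOf_spec _ (img_mem B e hB b)

include hB in
theorem fV_mem (x : Option (α ⊕ ↥B)) : fV B e x ∈ XS := by
  rcases x with _ | a | b
  · exact v32_mem
  · exact (hL_mem' (e a)).1
  · exact (oL_mem _ (kb_spec B e hB b).1).1

include hB in
theorem dot_v32_fV (x : Option (α ⊕ ↥B)) : dotInt v32.1 (fV B e x).1 =
    match x with
    | none => 32
    | some (Sum.inl _) => 8
    | some (Sum.inr _) => 16 := by
  rcases x with _ | a | b
  · exact dot_v32_self
  · exact (hL_mem' (e a)).2
  · exact (oL_mem _ (kb_spec B e hB b).1).2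

include hB in
theorem mem_block_iff (a : α) (b : ↥B) :
    a ∈ b.1 ↔ Cw (kOf (b.1.image e)) (e a).1.1 ≠ 0 := by
  rw [← mem_supp, ← mem_dsub, ← (kb_spec B e hB b).2]
  exact (Function.Injective.mem_finset_image e.injective).symm

include hB in
theorem adj_iff (x y : Option (α ⊕ ↥B)) :
    (pointBlockGraph B).Adj x y ↔ dotInt (fV B e x).1 (fV B e y).1 = 8 := by
  unfold pointBlockGraph
  rw [SimpleGraph.fromRel_adj]
  rcases x with _ | a | b <;> rcases y with _ | a' | b'
  · -- none none
    have := dot_v32_fV B e hB none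
    constructor
    · intro h
      exact absurd rfl h.1
    · intro h
      change dotInt v32.1 v32.1 = 8 at h
      rw [dot_v32_self] at h
      norm_num at h
  · -- none, point
    have := (hL_mem' (e a')).2
    constructor
    · intro _
      exact this
    · intro _
      exact ⟨by simp, Or.inl trivial⟩
  · -- none, block
    have := (oL_mem _ (kb_spec B e hB b').1).2
    constructor
    · rintro ⟨_, h | h⟩ <;> exact h.elim
    · intro h
      change dotInt v32.1 (oL _).1 = 8 at h
      rw [this] at h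
      norm_num at h
  · -- point, none
    have := (hL_mem' (e a)).2
    constructor
    · intro _
      change dotInt (hL _).1 v32.1 = 8
      rw [dot_symm]
      exact this
    · intro _
      exact ⟨by simp, Or.inr trivial⟩
  · -- point, point
    constructor
    · rintro ⟨_, h | h⟩ <;> exact h.elim
    · intro h
      exact absurd h (hV_hV_chk _ _)
  · -- point, block
    have hd := dot_hL_oL (e a).1.1 _ (kb_spec B e hB b').1
    have hm := mem_block_iff B e hB a b'
    constructor
    · rintro ⟨_, h | h⟩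
      · change a ∈ b'.1 at h
        change dotInt (hL _).1 (oL _).1 = 8
        rw [hd, if_pos (hm.1 h)]
      · exact h.elim
    · intro h
      change dotInt (hL _).1 (oL _).1 = 8 at h
      rw [hd] at h
      refine ⟨by simp, Or.inl ?_⟩
      change a ∈ b'.1
      rw [hm]
      by_contra hc
      rw [if_neg (not_not.2 hc)] at h
      norm_num at h
  · -- block, none
    have := (oL_mem _ (kb_spec B e hB b).1).2
    constructor
    · rintro ⟨_, h | h⟩ <;> exact h.elim
    · intro h
      change dotInt (oL _).1 v32.1 = 8 at h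
      rw [dot_symm, this] at h
      norm_num at h
  · -- block, point
    have hd := dot_hL_oL (e a').1.1 _ (kb_spec B e hB b).1
    have hm := mem_block_iff B e hB a' b
    constructor
    · rintro ⟨_, h | h⟩
      · exact h.elim
      · change a' ∈ b.1 at h
        change dotInt (oL _).1 (hL _).1 = 8
        rw [dot_symm, hd, if_pos (hm.1 h)]
    · intro h
      change dotInt (oL _).1 (hL _).1 = 8 at h
      rw [dot_symm, hd] at h
      refine ⟨by simp, Or.inr ?_⟩
      change a' ∈ b.1
      rw [hm]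
      by_contra hc
      rw [if_neg (not_not.2 hc)] at h
      norm_num at h
  · -- block, block
    have hk := kb_spec B e hB b
    have hk' := kb_spec B e hB b'
    have hd := dot_oL_oL_disj _ _ hk.1 hk'.1
    rw [← hk.2, ← hk'.2, Finset.disjoint_image e.injective] at hd
    constructor
    · rintro ⟨_, h | h⟩
      · exact hd.2 h
      · exact hd.2 h.symm
    · intro h
      change dotInt (oL _).1 (oL _).1 = 8 at h
      refine ⟨?_, Or.inl (hd.1 h)⟩
      intro hbb
      have hbb' : b = b' := by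
        have := Option.some.inj hbb
        exact Sum.inr.inj this
      subst hbb'
      rw [dot_self, (oL_mem _ hk.1).1.1] at h
      norm_num at h

include hB in
theorem fV_injective : Function.Injective (fV B e) := by
  intro x y hxy
  have hx := dot_v32_fV B e hB x
  have hy := dot_v32_fV B e hB y
  rw [hxy] at hx
  rcases x with _ | a | b <;> rcases y with _ | a' | b'
  · rfl
  · rw [hx] at hy; norm_num at hy
  · rw [hx] at hy; norm_num at hy
  · rw [hx] at hy; norm_num at hy
  · have h1 : hL (e a).1.1 = hL (e a').1.1 := hxy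
    have h2 : hV (e a).1.1 = hV (e a').1.1 := congrArg Subtype.val h1
    have h3 := congrFun h2 (e a).1.1
    unfold hV at h3
    rw [if_pos rfl] at h3
    have h4 : ((e a).1.1 : GolayPt) = (e a').1.1 := by
      by_contra hne
      rw [if_neg hne] at h3
      norm_num at h3
    have h5 : e a = e a' := Subtype.ext (Subtype.ext h4)
    rw [e.injective h5]
  · rw [hx] at hy; norm_num at hy
  · rw [hx] at hy; norm_num at hy
  · rw [hx] at hy; norm_num at hy
  · have hk := kb_spec B e hB b
    have hk' := kb_spec B e hB b'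
    have h1 : oL (kOf (b.1.image e)) = oL (kOf (b'.1.image e)) := hxy
    have h2 := oL_inj _ _ hk.1 hk'.1 h1
    have h3 : b.1.image e = b'.1.image e := by
      rw [hk.2, hk'.2, h2]
    have h4 : b.1 = b'.1 := Finset.image_injective e.injective h3
    rw [Subtype.ext h4]

include hB in
theorem fV_surj (y : ↥leechLattice) (hy : y ∈ XS) : ∃ x, fV B e x = y := by
  classical
  by_cases h1 : y = v32
  · exact ⟨none, h1.symm⟩
  by_cases h2 : dotInt v32.1 y.1 = 8
  · obtain ⟨j, hj, rfl⟩ := std_class.1 y hy h2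
    have hne : (⟨some j, by simp⟩ : X23) ≠ y0 := by
      intro hh
      have := congrArg Subtype.val hh
      exact hj (Option.some.inj this)
    refine ⟨some (Sum.inl (e.symm ⟨⟨some j, by simp⟩, hne⟩)), ?_⟩
    show hL ((e (e.symm _)).1.1) = _
    rw [Equiv.apply_symm_apply]
  · obtain ⟨k, hk, rfl⟩ := std_class.2.1 y hy h1 h2
    have hD := dsub_mem_D00 k hk
    rw [← hB] at hD
    obtain ⟨b, hbB, hb⟩ := hD
    refine ⟨some (Sum.inr ⟨b, hbB⟩), ?_⟩
    show oL (kOf (b.image e)) = oL k
    have hb' : b.image e = dsub (support₂ (Cw k)) := hb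
    have hs := kOf_spec _ (dsub_mem_D00 k hk)
    rw [hb']
    exact (oL_eq_of_dsub _ _ hk hs.1 hs.2).symm

/-- the bijection of the vertices with the 100 vectors -/
noncomputable def eV : Option (α ⊕ ↥B) ≃ ↥XS :=
  Equiv.ofBijective (fun x => ⟨fV B e x, fV_mem B e hB x⟩)
    ⟨fun x y h => fV_injective B e hB (congrArg Subtype.val h),
      fun y => by
        obtain ⟨x, hx⟩ := fV_surj B e hB y.1 y.2
        exact ⟨x, Subtype.ext hx⟩⟩

include hB in
theorem main : ∃ H : Subgroup (pointBlockGraph B ≃g pointBlockGraph B), IsHS H :=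
  exists_HS (pointBlockGraph B) (eV B e hB) (fun x y => adj_iff B e hB x y)

end general

end Cfsg.Agent.Lib.Lead.HSG
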