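import Mathlib
import Cfsg.Prelude.Def_SporadicCombinatorics

set_option autoImplicit false

/-! The ternary Golay code of length 12: explicit parametrisation by `(ZMod 3)^6`. -/

namespace Cfsg.Agent.Lib.Lead.TG

open Cfsg

/-- the tetracode words -/
def tv (a b : ZMod 3) : Fin 4 → ZMod 3 := a • ![0, 1, 1, 1] + b • ![1, 0, 1, 2]

theorem mem_tetracode_iff (t : Fin 4 → ZMod 3) : t ∈ Cfsg.tetracode ↔ ∃ a b, tv a b = t := by
  unfold Cfsg.tetracode
  rw [Submodule.mem_span_pair]
  rfl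

/-- decidable form of the membership predicate -/
def Pd (x : ArrayPt → ZMod 3) : Prop :=
  ∃ s : ZMod 3, (∀ i : Fin 4, ∑ r : ZMod 3, x (i, r) = -s) ∧
    ∀ a b : ZMod 3, ∑ i : Fin 4, x (i, tv a b i) = s

instance instDecPd : DecidablePred Pd := fun x => by
  unfold Pd
  infer_instance

theorem mem_code_iff (x : ArrayPt → ZMod 3) : x ∈ Cfsg.ternaryGolayCode ↔ Pd x := by
  show Cfsg.IsTernaryGolayWord x ↔ Pd x
  unfold Cfsg.IsTernaryGolayWord Pd
  constructor
  · rintro ⟨s, h1, h2⟩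
    exact ⟨s, h1, fun a b => h2 _ ((mem_tetracode_iff _).mpr ⟨a, b, rfl⟩)⟩
  · rintro ⟨s, h1, h2⟩
    refine ⟨s, h1, fun t ht => ?_⟩
    obtain ⟨a, b, rfl⟩ := (mem_tetracode_iff t).mp ht
    exact h2 a b

/-- the parameter space -/
abbrev A6 : Type := ZMod 3 × ZMod 3 × ZMod 3 × ZMod 3 × ZMod 3 × ZMod 3

/-- linear index of a point of the array -/
def ix (p : ArrayPt) : Fin 12 := ⟨3 * p.1.val + p.2.val, by
  have h1 := p.1.isLt
  have h2 : p.2.val < 3 := ZMod.val_lt p.2
  omega⟩

/-- the systematic generator matrix (information positions 0,1,2,3,4,6) -/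
def Gm : Fin 6 → Fin 12 → ZMod 3 :=
  ![![1, 0, 0, 0, 0, 1, 0, 0, 1, 1, 1, 2],
    ![0, 1, 0, 0, 0, 1, 0, 2, 2, 2, 0, 2],
    ![0, 0, 1, 0, 0, 1, 0, 1, 0, 2, 1, 1],
    ![0, 0, 0, 1, 0, 2, 0, 2, 1, 2, 1, 0],
    ![0, 0, 0, 0, 1, 2, 0, 1, 2, 0, 1, 2],
    ![0, 0, 0, 0, 0, 0, 1, 1, 1, 2, 2, 2]]

/-- the code word with parameter `a` -/
def gen (a : A6) : ArrayPt → ZMod 3 := fun p =>
  a.1 * Gm 0 (ix p) + a.2.1 * Gm 1 (ix p) + a.2.2.1 * Gm 2 (ix p) + a.2.2.2.1 * Gm 3 (ix p) +
    a.2.2.2.2.1 * Gm 4 (ix p) + a.2.2.2.2.2 * Gm 5 (ix p)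

/-- the information coordinates of a word -/
def info (x : ArrayPt → ZMod 3) : A6 :=
  (x (0, 0), x (0, 1), x (0, 2), x (1, 0), x (1, 1), x (2, 0))

/-- a word vanishing on the information set -/
def ext (b : A6) : ArrayPt → ZMod 3 := fun p =>
  (![0, 0, 0, 0, 0, b.1, 0, b.2.1, b.2.2.1, b.2.2.2.1, b.2.2.2.2.1, b.2.2.2.2.2] : Fin 12 → ZMod 3)
    (ix p)

/-- the non-information coordinates of a word -/
def rest (x : ArrayPt → ZMod 3) : A6 :=
  (x (1, 2), x (2, 1), x (2, 2), x (3, 0), x (3, 1), x (3, 2))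

theorem gen_mem : ∀ a : A6, Pd (gen a) := by decide +kernel

theorem info_gen : ∀ a : A6, info (gen a) = a := by decide +kernel

theorem ext_zero : ∀ b : A6, Pd (ext b) → b = 0 := by decide +kernel

theorem ext_zero' : ∀ p : ArrayPt, ext 0 p = 0 := by decide +kernel

theorem info_sub (x y : ArrayPt → ZMod 3) : info (x - y) = info x - info y := rfl

theorem eq_ext_of_info_zero : ∀ (y : ArrayPt → ZMod 3), info y = 0 → y = ext (rest y) := by
  intro y h
  have h0 : y (0, 0) = 0 := congrArg (fun t : A6 => t.1) h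
  have h1 : y (0, 1) = 0 := congrArg (fun t : A6 => t.2.1) h
  have h2 : y (0, 2) = 0 := congrArg (fun t : A6 => t.2.2.1) h
  have h3 : y (1, 0) = 0 := congrArg (fun t : A6 => t.2.2.2.1) h
  have h4 : y (1, 1) = 0 := congrArg (fun t : A6 => t.2.2.2.2.1) h
  have h5 : y (2, 0) = 0 := congrArg (fun t : A6 => t.2.2.2.2.2) h
  funext p
  obtain ⟨i, r⟩ := p
  have hr : r = 0 ∨ r = 1 ∨ r = 2 := by
    revert r; decide
  fin_cases i <;> rcases hr with rfl | rfl | rfl
  · exact h0
  · exact h1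
  · exact h2
  · exact h3
  · exact h4
  · rfl
  · exact h5
  · rfl
  · rfl
  · rfl
  · rfl
  · rfl

/-- every code word is `gen` of its information coordinates -/
theorem eq_gen_info (x : ArrayPt → ZMod 3) (hx : x ∈ Cfsg.ternaryGolayCode) :
    x = gen (info x) := by
  have hg : gen (info x) ∈ Cfsg.ternaryGolayCode := (mem_code_iff _).mpr (gen_mem _)
  have hy : x - gen (info x) ∈ Cfsg.ternaryGolayCode := Submodule.sub_mem _ hx hg
  have hi : info (x - gen (info x)) = 0 := by
    rw [info_sub, info_gen, sub_self]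
  have h1 := eq_ext_of_info_zero _ hi
  have h2 : rest (x - gen (info x)) = 0 := by
    apply ext_zero
    rw [← h1]
    exact (mem_code_iff _).mp hy
  rw [h2] at h1
  have h3 : x - gen (info x) = 0 := by
    rw [h1]
    funext p
    exact ext_zero' p
  exact sub_eq_zero.mp h3

theorem gen_mem_code (a : A6) : gen a ∈ Cfsg.ternaryGolayCode := (mem_code_iff _).mpr (gen_mem a)

theorem gen_injective : Function.Injective gen := by
  intro a b h
  rw [← info_gen a, ← info_gen b, h]

theorem mem_code_iff_gen (x : ArrayPt → ZMod 3) :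
    x ∈ Cfsg.ternaryGolayCode ↔ ∃ a : A6, gen a = x :=
  ⟨fun hx => ⟨info x, (eq_gen_info x hx).symm⟩, fun ⟨a, ha⟩ => ha ▸ gen_mem_code a⟩

/-- the parametrisation of the code -/
noncomputable def equivCode : A6 ≃ ↥Cfsg.ternaryGolayCode :=
  Equiv.ofBijective (fun a => ⟨gen a, gen_mem_code a⟩)
    ⟨fun a b h => gen_injective (congrArg Subtype.val h),
     fun x => ⟨info x.1, Subtype.ext (eq_gen_info x.1 x.2).symm⟩⟩

theorem card_code : Nat.card ↥Cfsg.ternaryGolayCode = 729 := by
  rw [← Nat.card_congr equivCode, Nat.card_eq_fintype_card]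
  simp [Fintype.card_prod, ZMod.card]

/-- counting code words with a property of the parameter -/
theorem ncard_code_weight (k : ℕ) :
    {x : ArrayPt → ZMod 3 | x ∈ Cfsg.ternaryGolayCode ∧ (Cfsg.ternarySupport x).card = k}.ncard =
      (Finset.univ.filter (fun a : A6 => (Cfsg.ternarySupport (gen a)).card = k)).card := by
  have : {x : ArrayPt → ZMod 3 | x ∈ Cfsg.ternaryGolayCode ∧ (Cfsg.ternarySupport x).card = k} =
      gen '' ↑(Finset.univ.filter (fun a : A6 => (Cfsg.ternarySupport (gen a)).card = k)) := by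
    ext x
    simp only [Set.mem_setOf_eq, Set.mem_image, Finset.coe_filter, Finset.mem_univ, true_and]
    constructor
    · rintro ⟨hx, hk⟩
      exact ⟨info x, by rw [← eq_gen_info x hx]; exact hk, (eq_gen_info x hx).symm⟩
    · rintro ⟨a, hk, rfl⟩
      exact ⟨gen_mem_code a, hk⟩
  rw [this, Set.ncard_image_of_injective _ gen_injective, Set.ncard_coe_finset]

theorem weights : ∀ a : A6, a ≠ 0 → (Cfsg.ternarySupport (gen a)).card = 6 ∨
    (Cfsg.ternarySupport (gen a)).card = 9 ∨ (Cfsg.ternarySupport (gen a)).card = 12 := by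
  decide +kernel

theorem count6 : (Finset.univ.filter (fun a : A6 => (Cfsg.ternarySupport (gen a)).card = 6)).card = 264 := by
  decide +kernel

theorem count9 : (Finset.univ.filter (fun a : A6 => (Cfsg.ternarySupport (gen a)).card = 9)).card = 440 := by
  decide +kernel

theorem count12 : (Finset.univ.filter (fun a : A6 => (Cfsg.ternarySupport (gen a)).card = 12)).card = 24 := by
  decide +kernel

theorem gen_zero : gen 0 = 0 := by
  funext p
  simp [gen]

theorem norm_zero : ∀ a : A6, ∑ p : ArrayPt, gen a p * gen a p = 0 := by decide +kernel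

end Cfsg.Agent.Lib.Lead.TG
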