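import Mathlib
import Cfsg.Prelude.Def_Classical
import Cfsg.Agent.Lib.Lead.OrthOdd

set_option autoImplicit false

/-! Transfer of isometry groups along a field isomorphism. -/

namespace Cfsg.Agent.Lib.Lead.IT

open Matrix Cfsg.Agent.Lib.Lead.OG

section
variable {ι : Type} [Fintype ι] [DecidableEq ι] {F K : Type*} [Field F] [Field K]

/-- The isomorphism `GL ι F ≃* GL ι K` induced by a ring isomorphism. -/
noncomputable def glEquiv (φ : F ≃+* K) : GL ι F ≃* GL ι K :=
  Units.mapEquiv (RingEquiv.mapMatrix φ (m := ι)).toMulEquiv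

theorem glEquiv_val (φ : F ≃+* K) (g : GL ι F) :
    ((glEquiv φ g : GL ι K) : Matrix ι ι K) = (g : Matrix ι ι F).map φ := rfl

theorem glEquiv_symm_val (φ : F ≃+* K) (g : GL ι K) :
    (((glEquiv φ).symm g : GL ι F) : Matrix ι ι F) = (g : Matrix ι ι K).map φ.symm := rfl

theorem map_mulVec' (φ : F ≃+* K) (M : Matrix ι ι F) (u : ι → F) :
    (M.map φ) *ᵥ (φ ∘ u) = φ ∘ (M *ᵥ u) := by
  funext i
  simp only [Matrix.mulVec, dotProduct, Matrix.map_apply, Function.comp, map_sum, map_mul]

/-- Isometry groups of "the same" form over isomorphic fields are isomorphic. -/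
theorem isoTransfer (φ : F ≃+* K) (QF : (ι → F) → F) (QK : (ι → K) → K)
    (h : ∀ v, QK (φ ∘ v) = φ (QF v)) :
    Nonempty (↥(Cfsg.isometryGroup F QF) ≃* ↥(Cfsg.isometryGroup K QK)) := by
  have hsymm : ∀ w : ι → K, φ ∘ (φ.symm ∘ w) = w := by
    intro w; funext i; simp
  have hmap : (Cfsg.isometryGroup F QF).map (glEquiv φ).toMonoidHom = Cfsg.isometryGroup K QK := by
    ext g'
    constructor
    · rintro ⟨g, hg, rfl⟩
      rw [SetLike.mem_coe, mem_isometryGroup_iff] at hg
      rw [mem_isometryGroup_iff]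
      intro w
      show QK (((glEquiv φ g : GL ι K) : Matrix ι ι K) *ᵥ w) = QK w
      rw [glEquiv_val, ← hsymm w, map_mulVec', h, h, hg]
    · intro hg'
      rw [mem_isometryGroup_iff] at hg'
      refine ⟨(glEquiv φ).symm g', ?_, by simp⟩
      rw [SetLike.mem_coe, mem_isometryGroup_iff]
      intro u
      apply φ.injective
      rw [← h, ← h, ← map_mulVec']
      have : ((((glEquiv φ).symm g' : GL ι F) : Matrix ι ι F)).map φ = (g' : Matrix ι ι K) := by
        rw [glEquiv_symm_val]
        ext i j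
        simp
      rw [this, hg']
  exact ⟨((glEquiv φ).subgroupMap (Cfsg.isometryGroup F QF)).trans (MulEquiv.subgroupCongr hmap)⟩

end

end Cfsg.Agent.Lib.Lead.IT
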