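import Mathlib

set_option autoImplicit false

namespace Cfsg.Agent.Lib.Lead.AffSL2

open Matrix

variable (F : Type*) [Field F] (k : ℕ)

abbrev Vk := Matrix (Fin 2) (Fin k) F

def actAut (g : Matrix.SpecialLinearGroup (Fin 2) F) : MulAut (Multiplicative (Vk F k)) where
  toFun x := Multiplicative.ofAdd ((g : Matrix (Fin 2) (Fin 2) F) * Multiplicative.toAdd x)
  invFun x := Multiplicative.ofAdd (((g⁻¹ : Matrix.SpecialLinearGroup (Fin 2) F) : Matrix (Fin 2) (Fin 2) F)
    * Multiplicative.toAdd x)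
  left_inv x := by
    apply Multiplicative.toAdd.injective
    show ((g⁻¹ : Matrix.SpecialLinearGroup (Fin 2) F) : Matrix (Fin 2) (Fin 2) F)
      * ((g : Matrix (Fin 2) (Fin 2) F) * Multiplicative.toAdd x) = Multiplicative.toAdd x
    rw [← Matrix.mul_assoc, ← Matrix.SpecialLinearGroup.coe_mul, inv_mul_cancel,
      Matrix.SpecialLinearGroup.coe_one, Matrix.one_mul]
  right_inv x := by
    apply Multiplicative.toAdd.injective
    show (g : Matrix (Fin 2) (Fin 2) F)
      * (((g⁻¹ : Matrix.SpecialLinearGroup (Fin 2) F) : Matrix (Fin 2) (Fin 2) F) * Multiplicative.toAdd x)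
      = Multiplicative.toAdd x
    rw [← Matrix.mul_assoc, ← Matrix.SpecialLinearGroup.coe_mul, mul_inv_cancel,
      Matrix.SpecialLinearGroup.coe_one, Matrix.one_mul]
  map_mul' x y := by
    apply Multiplicative.toAdd.injective
    show (g : Matrix (Fin 2) (Fin 2) F) * (Multiplicative.toAdd x + Multiplicative.toAdd y)
      = (g : Matrix (Fin 2) (Fin 2) F) * Multiplicative.toAdd x
        + (g : Matrix (Fin 2) (Fin 2) F) * Multiplicative.toAdd y
    rw [Matrix.mul_add]

def act : Matrix.SpecialLinearGroup (Fin 2) F →* MulAut (Multiplicative (Vk F k)) where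
  toFun := actAut F k
  map_one' := by
    apply MulEquiv.ext
    intro x
    apply Multiplicative.toAdd.injective
    show ((1 : Matrix.SpecialLinearGroup (Fin 2) F) : Matrix (Fin 2) (Fin 2) F) * Multiplicative.toAdd x
      = Multiplicative.toAdd x
    rw [Matrix.SpecialLinearGroup.coe_one, Matrix.one_mul]
  map_mul' g h := by
    apply MulEquiv.ext
    intro x
    apply Multiplicative.toAdd.injective
    show ((g * h : Matrix.SpecialLinearGroup (Fin 2) F) : Matrix (Fin 2) (Fin 2) F) * Multiplicative.toAdd x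
      = (g : Matrix (Fin 2) (Fin 2) F) * ((h : Matrix (Fin 2) (Fin 2) F) * Multiplicative.toAdd x)
    rw [Matrix.SpecialLinearGroup.coe_mul, Matrix.mul_assoc]

theorem act_apply (g : Matrix.SpecialLinearGroup (Fin 2) F) (x : Multiplicative (Vk F k)) :
    act F k g x = Multiplicative.ofAdd ((g : Matrix (Fin 2) (Fin 2) F) * Multiplicative.toAdd x) := rfl

abbrev Aff := Multiplicative (Vk F k) ⋊[act F k] Matrix.SpecialLinearGroup (Fin 2) F

variable {F k}

theorem pow_right (x : Aff F k) (n : ℕ) : (x ^ n).right = x.right ^ n :=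
  map_pow (SemidirectProduct.rightHom : Aff F k →* _) x n

theorem pow_left (x : Aff F k) (n : ℕ) :
    Multiplicative.toAdd (x ^ n).left
      = (∑ i ∈ Finset.range n, ((x.right : Matrix (Fin 2) (Fin 2) F)) ^ i) * Multiplicative.toAdd x.left := by
  induction n with
  | zero => simp
  | succ n ih =>
    rw [pow_succ, SemidirectProduct.mul_left, toAdd_mul, ih, pow_right, act_apply, toAdd_ofAdd,
      Finset.sum_range_succ, Matrix.add_mul, Matrix.SpecialLinearGroup.coe_pow]

theorem sq_eq_one_of_right [CharP F 2] (y : Aff F k) (hy : y.right = 1) : y ^ 2 = 1 := by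
  apply SemidirectProduct.ext
  · apply Multiplicative.toAdd.injective
    rw [pow_left, hy]
    simp only [Finset.sum_range_succ, Finset.sum_range_zero, Matrix.SpecialLinearGroup.coe_one,
      pow_zero, pow_one, zero_add, SemidirectProduct.one_left, toAdd_one]
    rw [Matrix.add_mul, Matrix.one_mul]
    ext i j
    simp [CharTwo.add_self_eq_zero]
  · rw [pow_right, hy, one_pow]
    rfl

theorem pow_two_mul_orderOf [CharP F 2] (x : Aff F k) : x ^ (2 * orderOf x.right) = 1 := by
  rw [mul_comm, pow_mul]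
  apply sq_eq_one_of_right
  rw [pow_right, pow_orderOf_eq_one]

theorem tr_zero_sq [CharP F 2] (g : Matrix.SpecialLinearGroup (Fin 2) F)
    (ht : (g : Matrix (Fin 2) (Fin 2) F) 0 0 + (g : Matrix (Fin 2) (Fin 2) F) 1 1 = 0) : g ^ 2 = 1 := by
  have hdet := g.det_coe
  rw [Matrix.det_fin_two] at hdet
  have h11 : (g : Matrix (Fin 2) (Fin 2) F) 1 1 = (g : Matrix (Fin 2) (Fin 2) F) 0 0 := by
    have := CharTwo.add_eq_zero.mp ht
    exact this.symm
  apply Subtype.ext
  rw [Matrix.SpecialLinearGroup.coe_pow, Matrix.SpecialLinearGroup.coe_one, pow_two]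
  ext i j
  fin_cases i <;> fin_cases j <;> simp [Matrix.mul_apply, Fin.sum_univ_two]
  · rw [h11] at hdet
    have h2 : (-1 : F) = 1 := CharTwo.neg_eq _
    linear_combination hdet + (g : Matrix (Fin 2) (Fin 2) F) 0 1 * (g : Matrix (Fin 2) (Fin 2) F) 1 0 * (CharTwo.two_eq_zero (R := F))
  · rw [h11]
    have := CharTwo.add_self_eq_zero ((g : Matrix (Fin 2) (Fin 2) F) 0 0 * (g : Matrix (Fin 2) (Fin 2) F) 0 1)
    linear_combination this
  · rw [h11]
    have := CharTwo.add_self_eq_zero ((g : Matrix (Fin 2) (Fin 2) F) 1 0 * (g : Matrix (Fin 2) (Fin 2) F) 0 0)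
    linear_combination this
  · rw [h11] at hdet ⊢
    linear_combination hdet + (g : Matrix (Fin 2) (Fin 2) F) 0 1 * (g : Matrix (Fin 2) (Fin 2) F) 1 0 * (CharTwo.two_eq_zero (R := F))

theorem det_sub_one [CharP F 2] (g : Matrix.SpecialLinearGroup (Fin 2) F) :
    ((g : Matrix (Fin 2) (Fin 2) F) - 1).det
      = (g : Matrix (Fin 2) (Fin 2) F) 0 0 + (g : Matrix (Fin 2) (Fin 2) F) 1 1 := by
  have hdet := g.det_coe
  rw [Matrix.det_fin_two] at hdet
  rw [Matrix.det_fin_two]
  simp only [Matrix.sub_apply, Matrix.one_apply_eq, Matrix.one_apply_ne, ne_eq, zero_ne_one,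
    one_ne_zero, not_false_eq_true, sub_zero, Fin.isValue]
  have h2 : (2 : F) = 0 := CharTwo.two_eq_zero
  linear_combination hdet + (1 - (g : Matrix (Fin 2) (Fin 2) F) 0 0 - (g : Matrix (Fin 2) (Fin 2) F) 1 1) * h2

theorem pow_eq_one_of_sq_ne [CharP F 2] (x : Aff F k) (n : ℕ) (hn : x.right ^ n = 1)
    (h2 : x.right ^ 2 ≠ 1) : x ^ n = 1 := by
  have hdet : ((x.right : Matrix (Fin 2) (Fin 2) F) - 1).det ≠ 0 := by
    rw [det_sub_one]
    intro h
    exact h2 (tr_zero_sq x.right h)
  have hgeom := geom_sum_mul (x.right : Matrix (Fin 2) (Fin 2) F) n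
  have hpow : (x.right : Matrix (Fin 2) (Fin 2) F) ^ n = 1 := by
    rw [← Matrix.SpecialLinearGroup.coe_pow, hn, Matrix.SpecialLinearGroup.coe_one]
  rw [hpow, sub_self] at hgeom
  have hunit : IsUnit ((x.right : Matrix (Fin 2) (Fin 2) F) - 1) := by
    rw [Matrix.isUnit_iff_isUnit_det]
    exact isUnit_iff_ne_zero.mpr hdet
  have hsum : (∑ i ∈ Finset.range n, (x.right : Matrix (Fin 2) (Fin 2) F) ^ i) = 0 := by
    obtain ⟨u, hu⟩ := hunit
    have := congrArg (fun M => M * (u⁻¹ : (Matrix (Fin 2) (Fin 2) F)ˣ).val) hgeom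
    simp only [zero_mul] at this
    rw [← hu, Matrix.mul_assoc] at this
    simpa using this
  apply SemidirectProduct.ext
  · apply Multiplicative.toAdd.injective
    rw [pow_left, hsum, Matrix.zero_mul]
    rfl
  · rw [pow_right, hn]
    rfl

theorem exists_order_iff [CharP F 2] (p q : ℕ) (hp : p.Prime) (hq : q.Prime) (hpq : p ≠ q) :
    (∃ x : Aff F k, orderOf x = p * q) ↔
      (∃ g : Matrix.SpecialLinearGroup (Fin 2) F, orderOf g = p * q) := by
  constructor
  · rintro ⟨x, hx⟩
    have hm : orderOf x.right ∣ p * q := by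
      rw [← hx]
      exact orderOf_map_dvd (SemidirectProduct.rightHom : Aff F k →* _) x
    have h2m : p * q ∣ 2 * orderOf x.right := by
      rw [← hx]
      exact orderOf_dvd_of_pow_eq_one (pow_two_mul_orderOf x)
    have hpos : 0 < orderOf x.right := by
      rcases Nat.eq_zero_or_pos (orderOf x.right) with h | h
      · rw [h, zero_dvd_iff] at hm
        exact absurd hm (Nat.mul_ne_zero hp.ne_zero hq.ne_zero)
      · exact h
    by_cases hfull : orderOf x.right = p * q
    · exact ⟨x.right, hfull⟩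
    exfalso
    have key : ∀ (r s : ℕ), r.Prime → s.Prime → r ≠ s → orderOf x = r * s → orderOf x.right = r →
        False := by
      intro r s hr hs hrs hxo hmr
      have h1 : r * s ∣ 2 * r := by
        rw [← hxo, ← hmr]
        exact orderOf_dvd_of_pow_eq_one (pow_two_mul_orderOf x)
      have h2 : s ∣ 2 := by
        have : r * s ∣ r * 2 := by rwa [mul_comm 2 r] at h1
        exact (Nat.mul_dvd_mul_iff_left hr.pos).mp this
      have hs2 : s = 2 := (Nat.prime_dvd_prime_iff_eq hs Nat.prime_two).mp h2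
      have hr2 : r ≠ 2 := fun h => hrs (h.trans hs2.symm)
      have hsq : x.right ^ 2 ≠ 1 := by
        intro h
        have := orderOf_dvd_of_pow_eq_one h
        rw [hmr] at this
        exact hr2 ((Nat.prime_dvd_prime_iff_eq hr Nat.prime_two).mp this)
      have hone : x ^ r = 1 := pow_eq_one_of_sq_ne x r (by rw [← hmr, pow_orderOf_eq_one]) hsq
      have := orderOf_dvd_of_pow_eq_one hone
      rw [hxo] at this
      have h3 : r * s ≤ r := Nat.le_of_dvd hr.pos this
      have : r * 2 ≤ r := by rwa [hs2] at h3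
      have := hr.pos
      omega
    rcases (Nat.dvd_mul).mp hm with ⟨a, b, ha, hb, hab⟩
    rcases (Nat.dvd_prime hp).mp ha with ha1 | hap <;> rcases (Nat.dvd_prime hq).mp hb with hb1 | hbq
    · rw [ha1, hb1, one_mul] at hab
      rw [← hab] at h2m
      have : p * q ≤ 2 := Nat.le_of_dvd (by norm_num) (by simpa using h2m)
      have h1 := hp.two_le
      have h2 := hq.two_le
      nlinarith
    · rw [ha1, hbq, one_mul] at hab
      exact key q p hq hp hpq.symm (by rw [hx, mul_comm]) hab.symm
    · rw [hap, hb1, mul_one] at hab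
      exact key p q hp hq hpq hx hab.symm
    · rw [hap, hbq] at hab
      exact hfull hab.symm
  · rintro ⟨g, hg⟩
    refine ⟨SemidirectProduct.inr g, ?_⟩
    rw [orderOf_injective (SemidirectProduct.inr : _ →* Aff F k) SemidirectProduct.inr_injective, hg]


theorem center_eq_bot [CharP F 2] :
    Subgroup.center (Matrix.SpecialLinearGroup (Fin 2) F) = ⊥ := by
  rw [eq_bot_iff]
  intro A hA
  obtain ⟨r, hr, hrA⟩ := Matrix.SpecialLinearGroup.mem_center_iff.mp hA
  rw [Fintype.card_fin] at hr
  have h1 : (r - 1) ^ 2 = 0 := by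
    have h2 : (2 : F) = 0 := CharTwo.two_eq_zero
    linear_combination hr - r * h2 + h2
  have h3 : r = 1 := by
    have := pow_eq_zero_iff (two_ne_zero) |>.mp h1
    exact sub_eq_zero.mp this
  rw [Subgroup.mem_bot]
  apply Subtype.ext
  rw [← hrA, h3, map_one, Matrix.SpecialLinearGroup.coe_one]

noncomputable def pslEquiv [CharP F 2] :
    Matrix.ProjectiveSpecialLinearGroup (Fin 2) F ≃* Matrix.SpecialLinearGroup (Fin 2) F :=
  (QuotientGroup.quotientMulEquivOfEq center_eq_bot).trans QuotientGroup.quotientBot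

theorem card_aff [Fintype F] :
    Nat.card (Aff F k) = Fintype.card F ^ (2 * k) * Nat.card (Matrix.SpecialLinearGroup (Fin 2) F) := by
  classical
  have h1 : Nat.card (Aff F k)
      = Nat.card (Multiplicative (Vk F k)) * Nat.card (Matrix.SpecialLinearGroup (Fin 2) F) := by
    rw [Nat.card_congr SemidirectProduct.equivProd, Nat.card_prod]
  rw [h1]
  congr 1
  rw [Nat.card_congr Multiplicative.toAdd, Nat.card_eq_fintype_card]
  show Fintype.card (Fin 2 → Fin k → F) = _
  rw [Fintype.card_fun, Fintype.card_fun, Fintype.card_fin, Fintype.card_fin, ← pow_mul, mul_comm]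

theorem exists_involution [CharP F 2] :
    ∃ g : Matrix.SpecialLinearGroup (Fin 2) F, orderOf g = 2 := by
  have hdet : (!![1, 1; 0, 1] : Matrix (Fin 2) (Fin 2) F).det = 1 := by simp [Matrix.det_fin_two]
  obtain ⟨u, hu⟩ : ∃ u : Matrix.SpecialLinearGroup (Fin 2) F,
      (u : Matrix (Fin 2) (Fin 2) F) = !![1, 1; 0, 1] := ⟨⟨_, hdet⟩, rfl⟩
  refine ⟨u, orderOf_eq_prime ?_ ?_⟩
  · apply Subtype.ext
    rw [Matrix.SpecialLinearGroup.coe_pow, Matrix.SpecialLinearGroup.coe_one, hu, pow_two]
    ext i j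
    fin_cases i <;> fin_cases j <;> simp [Matrix.mul_apply, Fin.sum_univ_two]
    exact CharTwo.add_self_eq_zero (1 : F)
  · intro h
    have h1 := congrArg (fun A : Matrix.SpecialLinearGroup (Fin 2) F => (A : Matrix (Fin 2) (Fin 2) F) 0 1) h
    simp only [hu, Matrix.SpecialLinearGroup.coe_one] at h1
    simp at h1

end Cfsg.Agent.Lib.Lead.AffSL2
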