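import Mathlib
import Cfsg.Agent.Lib.helper7.BD.D1Defs
import Cfsg.Agent.Lib.helper7.BD.D1Defs2
import Cfsg.Agent.Lib.Lead.BD4THETAPOW
import Cfsg.Agent.Lib.Helper27.BD3LAM
import Cfsg.Agent.Lib.Helper1.BD3BLK

/-!
# Project BD, stage B, wave 4, piece BPOW : `root_block_pow`

The power maps `d ↦ d ^ m` (`m` prime to `|G|`, `m ≡ 1` modulo the `p'`-part of `|G|`) permute the root
block `b = {Λ^a θ}` and fix `θ`.
-/

set_option autoImplicit false
set_option linter.unusedVariables false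
set_option linter.unusedSectionVars false
set_option linter.style.haveILetI false

namespace Cfsg.Agent.Lib.helper7.BD

open Cfsg.Agent.Lib.helper7

universe u

section root

variable {G : Type u} [Group G] [Fintype G] {M : Ideal Cfsg.AlgInt} {p : ℕ} [Fact p.Prime]
  {P : Sylow p G} {B : Set (Cfsg.IrrCharacter G)}
  {b : Set (Cfsg.IrrCharacter (Subgroup.centralizer ((P : Subgroup G) : Set G)))}
  {θ : Cfsg.IrrCharacter (Subgroup.centralizer ((P : Subgroup G) : Set G))} {T : Subgroup G}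

/-- the parametrization of `b` : `ξ 0 = θ` -/
theorem bd4bpow_zero (ξ : Fin p → Cfsg.IrrCharacter (Subgroup.centralizer ((P : Subgroup G) : Set G)))
    (Λ : ↥(Subgroup.centralizer ((P : Subgroup G) : Set G)) →* ℂˣ)
    (hξ : ∀ (a : Fin p) (c : ↥(Subgroup.centralizer ((P : Subgroup G) : Set G))),
        (ξ a : ↥(Subgroup.centralizer ((P : Subgroup G) : Set G)) → ℂ) c =
          ((Λ c : ℂˣ) : ℂ) ^ (a : ℕ) *
            (θ : ↥(Subgroup.centralizer ((P : Subgroup G) : Set G)) → ℂ) c)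
    (a : Fin p) (ha : (a : ℕ) = 0) : ξ a = θ := by
  apply Subtype.ext
  funext c
  rw [hξ, ha, pow_zero, one_mul]

/-- the key computation : `ξ_a (d ^ m) = ξ_a' (d)` if `a m ≡ a' (mod p)` -/
theorem bd4bpow_key (h : RootHyp p M P B b θ T) (m : ℕ) (hm : m.Coprime (Nat.card G))
    (hm1 : m ≡ 1 [MOD Nat.card G / p ^ (Nat.card G).factorization p])
    (ξ : Fin p → Cfsg.IrrCharacter (Subgroup.centralizer ((P : Subgroup G) : Set G)))
    (Λ : ↥(Subgroup.centralizer ((P : Subgroup G) : Set G)) →* ℂˣ)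
    (hΛ3 : ∀ c : ↥(Subgroup.centralizer ((P : Subgroup G) : Set G)), Λ c ^ p = 1)
    (hξ : ∀ (a : Fin p) (c : ↥(Subgroup.centralizer ((P : Subgroup G) : Set G))),
        (ξ a : ↥(Subgroup.centralizer ((P : Subgroup G) : Set G)) → ℂ) c =
          ((Λ c : ℂˣ) : ℂ) ^ (a : ℕ) *
            (θ : ↥(Subgroup.centralizer ((P : Subgroup G) : Set G)) → ℂ) c)
    (a a' : Fin p) (haa : (a : ℕ) * m ≡ (a' : ℕ) [MOD p])
    (d : ↥(Subgroup.centralizer ((P : Subgroup G) : Set G))) :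
    (ξ a : ↥(Subgroup.centralizer ((P : Subgroup G) : Set G)) → ℂ) (d ^ m) =
      (ξ a' : ↥(Subgroup.centralizer ((P : Subgroup G) : Set G)) → ℂ) d := by
  rw [hξ, hξ, root_theta_pow h m hm hm1 d, map_pow]
  congr 1
  have h1 : ((Λ d ^ m : ℂˣ) ^ (a : ℕ)) = Λ d ^ (a' : ℕ) := by
    rw [← pow_mul, mul_comm m, pow_eq_pow_iff_modEq]
    exact haa.of_dvd (orderOf_dvd_of_pow_eq_one (hΛ3 d))
  have h2 := congrArg (fun u : ℂˣ => (u : ℂ)) h1
  simpa only [Units.val_pow_eq_pow_val] using h2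

/-- `p` does not divide `m` -/
theorem bd4bpow_not_dvd (h : RootHyp p M P B b θ T) (m : ℕ) (hm : m.Coprime (Nat.card G)) :
    ¬ p ∣ m := by
  have hp := (Fact.out : p.Prime)
  intro hpm
  have hdvd : p ∣ Nat.card G := by
    have := (P : Subgroup G).card_subgroup_dvd_card
    rwa [h.card_P] at this
  have := Nat.dvd_gcd hpm hdvd
  rw [hm.gcd_eq_one] at this
  exact hp.one_lt.ne' (Nat.dvd_one.mp this)

/-- BPOW : the power maps permute `b` -/
theorem root_block_pow (h : RootHyp p M P B b θ T) (m : ℕ) (hm : m.Coprime (Nat.card G))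
    (hm1 : m ≡ 1 [MOD Nat.card G / p ^ (Nat.card G).factorization p])
    (ξ : Cfsg.IrrCharacter (Subgroup.centralizer ((P : Subgroup G) : Set G))) (hξ : ξ ∈ b) :
    ∃ ξ' ∈ b, (ξ = θ ↔ ξ' = θ) ∧
      ∀ d : ↥(Subgroup.centralizer ((P : Subgroup G) : Set G)),
        (ξ : ↥(Subgroup.centralizer ((P : Subgroup G) : Set G)) → ℂ) (d ^ m) =
          (ξ' : ↥(Subgroup.centralizer ((P : Subgroup G) : Set G)) → ℂ) d := by
  have hp := (Fact.out : p.Prime)
  obtain ⟨Λ, hΛ1, hΛ2, hΛ3⟩ := root_exists_Lambda P h.card_P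
  obtain ⟨Ξ, hinj, hrange, hΞ⟩ := root_block_param h Λ hΛ1 hΛ2 hΛ3
  obtain ⟨a, rfl⟩ : ∃ a, Ξ a = ξ := by
    rw [← hrange] at hξ
    exact hξ
  have hlt : (a : ℕ) * m % p < p := Nat.mod_lt _ hp.pos
  set a' : Fin p := ⟨(a : ℕ) * m % p, hlt⟩ with ha'
  have haa : (a : ℕ) * m ≡ (a' : ℕ) [MOD p] := (Nat.mod_modEq _ _).symm
  have h0 : Fin p := ⟨0, hp.pos⟩
  have hθ0 : ∀ a₀ : Fin p, (a₀ : ℕ) = 0 → Ξ a₀ = θ := fun a₀ h0 => bd4bpow_zero Ξ Λ hΞ a₀ h0
  have hθ0' : ∀ a₁ : Fin p, Ξ a₁ = θ → (a₁ : ℕ) = 0 := by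
    intro a₁ h1
    have h2 := hθ0 ⟨0, hp.pos⟩ rfl
    have := hinj (h1.trans h2.symm)
    rw [this]
  refine ⟨Ξ a', ?_, ?_, fun d => bd4bpow_key h m hm hm1 Ξ Λ hΛ3 hΞ a a' haa d⟩
  · rw [← hrange]
    exact Set.mem_range_self a'
  · constructor
    · intro h1
      apply hθ0
      have := hθ0' a h1
      show (a : ℕ) * m % p = 0
      rw [this, zero_mul, Nat.zero_mod]
    · intro h1
      apply hθ0
      have h2 : (a : ℕ) * m % p = 0 := hθ0' a' h1
      have h3 : p ∣ (a : ℕ) * m := Nat.dvd_of_mod_eq_zero h2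
      rcases hp.dvd_mul.mp h3 with h4 | h4
      · exact Nat.eq_zero_of_dvd_of_lt h4 a.2
      · exact absurd h4 (bd4bpow_not_dvd h m hm)

end root

end Cfsg.Agent.Lib.helper7.BD
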