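import Mathlib
import Cfsg.Agent.Lib.helper7.BD.D1Defs
import Cfsg.Agent.Lib.helper7.BD.D1Defs2
import Cfsg.Agent.Lib.Lead.BD4THETAPOW
import Cfsg.Agent.Lib.Lead.BD4BPOW
import Cfsg.Agent.Lib.Helper27.BD3LAM
import Cfsg.Agent.Lib.Helper1.BD3BLK

/-!
# Project BD, stage B, wave 4, piece BTRANS : `root_block_trans`

The power maps `d ↦ d ^ m` are transitive on `b ∖ {θ}`.
-/

set_option autoImplicit false
set_option linter.unusedVariables false
set_option linter.unusedSectionVars false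
set_option linter.style.haveILetI false

namespace Cfsg.Agent.Lib.helper7.BD

open Cfsg.Agent.Lib.helper7

universe u

/-- the arithmetic : for `0 < a, a' < p` and `g'` prime to `p` there is `m` prime to `p g'` with
`m ≡ 1 (mod g')` and `a m ≡ a' (mod p)` -/
theorem bd4btrans_arith {p : ℕ} (hp : p.Prime) (g' : ℕ) (hco : Nat.Coprime p g') (a a' : ℕ)
    (ha : ¬ p ∣ a) (ha' : ¬ p ∣ a') :
    ∃ m : ℕ, m.Coprime (p * g') ∧ m ≡ 1 [MOD g'] ∧ a * m ≡ a' [MOD p] := by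
  haveI : Fact p.Prime := ⟨hp⟩
  have haZ : (a : ZMod p) ≠ 0 := by
    rwa [Ne, ZMod.natCast_eq_zero_iff]
  have ha'Z : (a' : ZMod p) ≠ 0 := by
    rwa [Ne, ZMod.natCast_eq_zero_iff]
  set m₀ : ℕ := ((a' : ZMod p) / (a : ZMod p)).val with hm₀
  have hm₀Z : ((m₀ : ℕ) : ZMod p) = (a' : ZMod p) / (a : ZMod p) := by
    rw [hm₀, ZMod.natCast_val, ZMod.cast_id', id]
  obtain ⟨m, hmp, hmg⟩ := Nat.chineseRemainder hco m₀ 1
  have hmZ : ((m : ℕ) : ZMod p) = (a' : ZMod p) / (a : ZMod p) := by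
    rw [← hm₀Z]
    exact (ZMod.natCast_eq_natCast_iff _ _ _).mpr hmp
  have ham : a * m ≡ a' [MOD p] := by
    rw [← ZMod.natCast_eq_natCast_iff]
    push_cast
    rw [hmZ, mul_div_cancel₀ _ haZ]
  refine ⟨m, ?_, hmg, ham⟩
  apply Nat.Coprime.mul_right
  · rw [Nat.coprime_comm, hp.coprime_iff_not_dvd]
    intro hpm
    apply ha'
    have h1 : p ∣ a * m := Dvd.dvd.mul_left hpm a
    exact (Nat.modEq_zero_iff_dvd.mp (ham.symm.trans (Nat.modEq_zero_iff_dvd.mpr h1)))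
  · have := hmg.gcd_eq
    rw [Nat.Coprime, this]
    exact Nat.gcd_one_left _

section root

variable {G : Type u} [Group G] [Fintype G] {M : Ideal Cfsg.AlgInt} {p : ℕ} [Fact p.Prime]
  {P : Sylow p G} {B : Set (Cfsg.IrrCharacter G)}
  {b : Set (Cfsg.IrrCharacter (Subgroup.centralizer ((P : Subgroup G) : Set G)))}
  {θ : Cfsg.IrrCharacter (Subgroup.centralizer ((P : Subgroup G) : Set G))} {T : Subgroup G}

/-- BTRANS : the power maps are transitive on `b ∖ {θ}` -/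
theorem root_block_trans (h : RootHyp p M P B b θ T)
    (ξ ξ' : Cfsg.IrrCharacter (Subgroup.centralizer ((P : Subgroup G) : Set G))) (hξ : ξ ∈ b)
    (hξ' : ξ' ∈ b) (hne : ξ ≠ θ) (hne' : ξ' ≠ θ) :
    ∃ m : ℕ, m.Coprime (Nat.card G) ∧
      m ≡ 1 [MOD Nat.card G / p ^ (Nat.card G).factorization p] ∧
      ∀ d : ↥(Subgroup.centralizer ((P : Subgroup G) : Set G)),
        (ξ : ↥(Subgroup.centralizer ((P : Subgroup G) : Set G)) → ℂ) (d ^ m) =
          (ξ' : ↥(Subgroup.centralizer ((P : Subgroup G) : Set G)) → ℂ) d := by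
  have hp := (Fact.out : p.Prime)
  obtain ⟨Λ, hΛ1, hΛ2, hΛ3⟩ := root_exists_Lambda P h.card_P
  obtain ⟨Ξ, hinj, hrange, hΞ⟩ := root_block_param h Λ hΛ1 hΛ2 hΛ3
  obtain ⟨a, rfl⟩ : ∃ a, Ξ a = ξ := by
    rw [← hrange] at hξ
    exact hξ
  obtain ⟨a', rfl⟩ : ∃ a, Ξ a = ξ' := by
    rw [← hrange] at hξ'
    exact hξ'
  have hnd : ∀ a₀ : Fin p, Ξ a₀ ≠ θ → ¬ p ∣ (a₀ : ℕ) := by
    intro a₀ h0 hdvd
    apply h0
    exact bd4bpow_zero Ξ Λ hΞ a₀ (Nat.eq_zero_of_dvd_of_lt hdvd a₀.2)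
  have hcard := bd4thetapow_card h
  have hco : Nat.Coprime p (Nat.card G / p ^ (Nat.card G).factorization p) :=
    Nat.coprime_ordCompl hp Nat.card_pos.ne'
  obtain ⟨m, hm, hm1, ham⟩ := bd4btrans_arith hp _ hco (a : ℕ) (a' : ℕ) (hnd a hne) (hnd a' hne')
  rw [← hcard] at hm
  exact ⟨m, hm, hm1, fun d => bd4bpow_key h m hm hm1 Ξ Λ hΛ3 hΞ a a' ham d⟩

end root

end Cfsg.Agent.Lib.helper7.BD
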