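import Mathlib
import Cfsg.Agent.Lib.Helper10.C6P.Defs
import Cfsg.Agent.Lib.Lead.C6PS3
import Cfsg.Agent.Lib.Lead.C6PS4

set_option autoImplicit false
set_option linter.unusedVariables false
set_option linter.unusedSectionVars false

/-! # Project C6P (S6000), row BCTX (`rctx_of_std`) -/

namespace Cfsg.Agent.Lib.Helper10.C6P

open Polynomial Matrix

variable {F : Type*} [Field F]

section fin

variable [Fintype F] {p : ℕ} [Fact p.Prime] [CharP F p]

omit [Fact p.Prime] [CharP F p] in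
/-- the centre has order four -/
theorem c6pbctx_center (R : Subgroup (GL (Fin 4) F)) (hR : Cfsg.Geo.IsLinearSymplecticTypeData 2 R) :
    Nat.card (Subgroup.center R) = 4 := by
  obtain ⟨p', e, -, -, hcase⟩ := hR.field
  rcases hcase with ⟨hodd, -⟩ | ⟨-, -, hc, -⟩ | ⟨-, -, h2, -⟩
  · exfalso
    revert hodd
    decide
  · exact hc
  · exfalso
    rw [Fintype.card_fin] at h2
    omega

theorem rctx_of_std (hF : Fintype.card F = p) (hp4 : p % 4 = 1) (R : Subgroup (GL (Fin 4) F))
    (hR : Cfsg.Geo.IsLinearSymplecticTypeData 2 R) (hR6 : Nat.card R = 2 ^ 6) (i : F) (P : GL (Fin 4) F) (hi : i * i = -1)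
    (hstd : ∀ g : GL (Fin 4) F, g ∈ R ↔ ∃ a b c d e : ℕ,
        (g : Matrix (Fin 4) (Fin 4) F) =
          (P : Matrix (Fin 4) (Fin 4) F) * pauliM i a b c d e * ((P⁻¹ : GL (Fin 4) F) : Matrix (Fin 4) (Fin 4) F)) :
    RCtx i R := by
  have hZ := c6pbctx_center R hR
  have hA := hR.absIrred
  have hS := hR.symplecticType
  obtain ⟨s1, s2, s3⟩ := s_center_scalar R hA hZ
  obtain ⟨-, s4⟩ := s_pm R hS hA hZ
  have hi4 : i ^ 4 = 1 := by
    have : i ^ 4 = (i * i) * (i * i) := by ring
    rw [this, hi]; ring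
  refine ⟨hi, ?_, ?_, s2 i hi4, s3, ?_, ?_, ?_, ?_, ?_⟩
  · intro h2
    have h2' : ((2 : ℕ) : F) = 0 := by exact_mod_cast h2
    have := (CharP.cast_eq_zero_iff F p 2).mp h2'
    have hp : p.Prime := Fact.out
    have hle := Nat.le_of_dvd (by norm_num) this
    have := hp.two_le
    interval_cases p
    omega
  · rw [hR6]; norm_num
  · intro g hg hc
    exact (s1 g hg).mp (fun h hh => (hc h hh).symm)
  · intro g hg h hh
    exact s4 h hh g hg
  · intro g hg hns
    exact s_anti R hS hA hZ g hg hns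
  · intro M hM
    apply hA.2
    rintro s ⟨g, hg, rfl⟩
    exact hM g hg
  · intro W hW
    apply hA.1
    rintro s ⟨g, hg, rfl⟩
    exact hW g hg

end fin

end Cfsg.Agent.Lib.Helper10.C6P
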