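import Mathlib

set_option autoImplicit false
set_option linter.unusedSectionVars false
set_option linter.style.haveILetI false

/-!
# A simplicity criterion for rank 3 groups of degree 100

A finite group acting faithfully and transitively on 100 points, with a simple point stabiliser
having exactly two further orbits, of sizes 22 and 77, is simple.
-/

namespace Cfsg.Agent.Lib.Lead.R3S

open MulAction
open scoped Pointwise

variable {G Y : Type*} [Group G] [Finite G] [MulAction G Y]

/-- the orbit of `x0` under a subgroup, as a set -/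
def orb (N : Subgroup G) (x0 : Y) : Set Y := {y | ∃ n ∈ N, n • x0 = y}

theorem orb_eq_orbit (N : Subgroup G) (x0 : Y) : orb N x0 = orbit ↥N x0 := by
  ext y
  constructor
  · rintro ⟨n, hn, rfl⟩
    exact ⟨⟨n, hn⟩, rfl⟩
  · rintro ⟨n, rfl⟩
    exact ⟨n.1, n.2, rfl⟩

theorem stab_sub (N : Subgroup G) (x0 : Y) :
    stabilizer ↥N x0 = (stabilizer G x0).subgroupOf N := by
  ext g
  rw [mem_stabilizer_iff, Subgroup.mem_subgroupOf, mem_stabilizer_iff]
  rfl

/-- the size of the orbit of a subgroup `N` is the index of the point stabiliser in `N` -/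
theorem ncard_orb (N : Subgroup G) (x0 : Y) :
    (orb N x0).ncard = (stabilizer G x0).relIndex N := by
  rw [orb_eq_orbit, ← index_stabilizer, stab_sub]
  rfl

/-- the orbit of a normal subgroup agrees with the orbit of its product with the stabiliser -/
theorem orb_sup (N : Subgroup G) [N.Normal] (x0 : Y) :
    orb (N ⊔ stabilizer G x0) x0 = orb N x0 := by
  ext y
  constructor
  · rintro ⟨g, hg, rfl⟩
    have : g ∈ ((N ⊔ stabilizer G x0 : Subgroup G) : Set G) := hg
    rw [Subgroup.normal_mul, Set.mem_mul] at this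
    obtain ⟨n, hn, k, hk, rfl⟩ := this
    refine ⟨n, hn, ?_⟩
    rw [mul_smul, mem_stabilizer_iff.1 hk]
  · rintro ⟨n, hn, rfl⟩
    exact ⟨n, Subgroup.mem_sup_left hn, rfl⟩

/-- the orbit of a normal subgroup has size dividing the degree -/
theorem ncard_orb_dvd (N : Subgroup G) [N.Normal] (x0 : Y) :
    (orb N x0).ncard ∣ (stabilizer G x0).index := by
  rw [← orb_sup, ncard_orb, ← Subgroup.relIndex_mul_index (le_sup_right : stabilizer G x0 ≤ N ⊔ _)]
  exact dvd_mul_right _ _

variable (x0 : Y) (S1 S2 : Set Y)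

/-- the hypotheses of the criterion -/
structure Hyp : Prop where
  hX : orbit G x0 = {x0} ∪ S1 ∪ S2
  hx1 : x0 ∉ S1
  hx2 : x0 ∉ S2
  hd : Disjoint S1 S2
  hc : (stabilizer G x0).index = 100
  h1 : S1.ncard = 22
  h2 : S2.ncard = 77
  ht1 : ∀ y ∈ S1, ∀ y' ∈ S1, ∃ g ∈ stabilizer G x0, g • y = y'
  ht2 : ∀ y ∈ S2, ∀ y' ∈ S2, ∃ g ∈ stabilizer G x0, g • y = y'
  hK : IsSimpleGroup ↥(stabilizer G x0)
  hfaith : ∀ g : G, (∀ y ∈ orbit G x0, g • y = y) → g = 1

variable {x0 S1 S2}

theorem orb_sub (N : Subgroup G) : orb N x0 ⊆ orbit G x0 := by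
  rintro y ⟨n, -, rfl⟩
  exact ⟨n, rfl⟩

theorem orb_inv (N : Subgroup G) [hN : N.Normal] (k : G) (hk : k ∈ stabilizer G x0) (y : Y)
    (hy : y ∈ orb N x0) : k • y ∈ orb N x0 := by
  obtain ⟨n, hn, rfl⟩ := hy
  refine ⟨k * n * k⁻¹, hN.conj_mem n hn k, ?_⟩
  have hk' : k⁻¹ • x0 = x0 := by
    rw [inv_smul_eq_iff, mem_stabilizer_iff.1 hk]
  rw [mul_smul, mul_smul, hk']

theorem ncard_orb_cases (h : Hyp (G := G) x0 S1 S2) (N : Subgroup G) [N.Normal] :
    (orb N x0).ncard = 1 ∨ (orb N x0).ncard = 100 := by
  classical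
  have hf1 : S1.Finite := Set.finite_of_ncard_ne_zero (by rw [h.h1]; norm_num)
  have hf2 : S2.Finite := Set.finite_of_ncard_ne_zero (by rw [h.h2]; norm_num)
  have hx0 : x0 ∈ orb N x0 := ⟨1, N.one_mem, one_smul _ _⟩
  have full1 : (∃ y ∈ S1, y ∈ orb N x0) → S1 ⊆ orb N x0 := by
    rintro ⟨y, hy, hyO⟩ y' hy'
    obtain ⟨g, hg, rfl⟩ := h.ht1 y hy y' hy'
    exact orb_inv N g hg y hyO
  have full2 : (∃ y ∈ S2, y ∈ orb N x0) → S2 ⊆ orb N x0 := by
    rintro ⟨y, hy, hyO⟩ y' hy'
    obtain ⟨g, hg, rfl⟩ := h.ht2 y hy y' hy'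
    exact orb_inv N g hg y hyO
  have hsub : orb N x0 ⊆ {x0} ∪ S1 ∪ S2 := by
    rw [← h.hX]
    exact orb_sub N
  have hdvd := ncard_orb_dvd N x0
  rw [h.hc] at hdvd
  have d1 : Disjoint ({x0} : Set Y) S1 := Set.disjoint_singleton_left.2 h.hx1
  have d2 : Disjoint ({x0} : Set Y) S2 := Set.disjoint_singleton_left.2 h.hx2
  by_cases e1 : ∃ y ∈ S1, y ∈ orb N x0
  · by_cases e2 : ∃ y ∈ S2, y ∈ orb N x0
    · right
      have : orb N x0 = {x0} ∪ S1 ∪ S2 := by
        apply Set.Subset.antisymm hsub
        rintro y ((hy | hy) | hy)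
        · rw [Set.mem_singleton_iff.1 hy]
          exact hx0
        · exact full1 e1 hy
        · exact full2 e2 hy
      rw [this, Set.ncard_union_eq (Set.disjoint_union_left.2 ⟨d2, h.hd⟩)
        ((Set.finite_singleton _).union hf1) hf2,
        Set.ncard_union_eq d1 (Set.finite_singleton _) hf1, Set.ncard_singleton, h.h1, h.h2]
    · exfalso
      have : orb N x0 = {x0} ∪ S1 := by
        apply Set.Subset.antisymm
        · intro y hy
          rcases hsub hy with (hy' | hy') | hy'
          · exact Or.inl hy'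
          · exact Or.inr hy'
          · exact absurd ⟨y, hy', hy⟩ e2
        · rintro y (hy | hy)
          · rw [Set.mem_singleton_iff.1 hy]
            exact hx0
          · exact full1 e1 hy
      rw [this, Set.ncard_union_eq d1 (Set.finite_singleton _) hf1, Set.ncard_singleton,
        h.h1] at hdvd
      revert hdvd
      decide
  · by_cases e2 : ∃ y ∈ S2, y ∈ orb N x0
    · exfalso
      have : orb N x0 = {x0} ∪ S2 := by
        apply Set.Subset.antisymm
        · intro y hy
          rcases hsub hy with (hy' | hy') | hy'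
          · exact Or.inl hy'
          · exact absurd ⟨y, hy', hy⟩ e1
          · exact Or.inr hy'
        · rintro y (hy | hy)
          · rw [Set.mem_singleton_iff.1 hy]
            exact hx0
          · exact full2 e2 hy
      rw [this, Set.ncard_union_eq d2 (Set.finite_singleton _) hf2, Set.ncard_singleton,
        h.h2] at hdvd
      revert hdvd
      decide
    · left
      have : orb N x0 = {x0} := by
        apply Set.Subset.antisymm
        · intro y hy
          rcases hsub hy with (hy' | hy') | hy'
          · exact hy'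
          · exact absurd ⟨y, hy', hy⟩ e1
          · exact absurd ⟨y, hy', hy⟩ e2
        · intro y hy
          rw [Set.mem_singleton_iff.1 hy]
          exact hx0
      rw [this, Set.ncard_singleton]

/-- a normal subgroup fixing the base point is trivial -/
theorem eq_bot_of_ncard_one (h : Hyp (G := G) x0 S1 S2) (N : Subgroup G) [hN : N.Normal]
    (h1 : (orb N x0).ncard = 1) : N = ⊥ := by
  have hK := h.hK
  have hle : N ≤ stabilizer G x0 := by
    intro n hn
    rw [mem_stabilizer_iff]
    obtain ⟨a, ha⟩ := Set.ncard_eq_one.1 h1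
    have m1 : n • x0 ∈ orb N x0 := ⟨n, hn, rfl⟩
    have m2 : x0 ∈ orb N x0 := ⟨1, N.one_mem, one_smul _ _⟩
    rw [ha, Set.mem_singleton_iff] at m1 m2
    rw [m1, m2]
  have hnorm : (N.subgroupOf (stabilizer G x0)).Normal := hN.subgroupOf _
  rcases hK.eq_bot_or_eq_top_of_normal _ hnorm with hb | ht
  · rw [Subgroup.subgroupOf_eq_bot] at hb
    exact disjoint_self.1 (hb.mono_right hle)
  · exfalso
    rw [Subgroup.subgroupOf_eq_top] at ht
    have hEq : N = stabilizer G x0 := le_antisymm hle ht
    have htriv : ∀ k ∈ stabilizer G x0, k = 1 := by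
      intro k hk
      apply h.hfaith
      rintro y ⟨g, rfl⟩
      have hk' : g⁻¹ * k * g ∈ stabilizer G x0 := by
        rw [← hEq]
        have := hN.conj_mem k (hEq ▸ hk) g⁻¹
        rwa [inv_inv] at this
      have : (g⁻¹ * k * g) • x0 = x0 := mem_stabilizer_iff.1 hk'
      show k • g • x0 = g • x0
      calc k • g • x0 = g • (g⁻¹ * k * g) • x0 := by
            rw [← mul_smul, ← mul_smul]
            congr 1
            group
        _ = g • x0 := by rw [this]
    obtain ⟨a, b, hab⟩ := hK.toNontrivial.exists_pair_ne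
    apply hab
    apply Subtype.ext
    rw [htriv a.1 a.2, htriv b.1 b.2]

theorem simple (h : Hyp (G := G) x0 S1 S2) : IsSimpleGroup G := by
  classical
  have hK := h.hK
  haveI : Nontrivial G := by
    obtain ⟨a, b, hab⟩ := hK.toNontrivial.exists_pair_ne
    exact ⟨⟨a.1, b.1, fun e => hab (Subtype.ext e)⟩⟩
  refine ⟨fun N hN => ?_⟩
  by_contra hcon
  push Not at hcon
  obtain ⟨hNbot, hNtop⟩ := hcon
  have hO : (orb N x0).ncard = 100 := by
    rcases ncard_orb_cases h N with h1 | h1
    · exact absurd (eq_bot_of_ncard_one h N h1) hNbot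
    · exact h1
  have hnorm : ((N ⊓ stabilizer G x0).subgroupOf (stabilizer G x0)).Normal := by
    have : (N.subgroupOf (stabilizer G x0)).Normal := hN.subgroupOf _
    rwa [Subgroup.inf_subgroupOf_right]
  rw [Subgroup.inf_subgroupOf_right] at hnorm
  rcases hK.eq_bot_or_eq_top_of_normal _ hnorm with hb | ht
  · -- regular normal subgroup of order 100
    rw [Subgroup.subgroupOf_eq_bot] at hb
    have hcardN : Nat.card ↥N = 100 := by
      have h1 := ncard_orb N x0
      rw [hO] at h1
      have h2 : (stabilizer G x0).subgroupOf N = ⊥ := by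
        rw [Subgroup.subgroupOf_eq_bot]
        exact hb.symm
      have h3 : (stabilizer G x0).relIndex N = Nat.card ↥N := by
        show ((stabilizer G x0).subgroupOf N).index = _
        rw [h2, Subgroup.index_bot]
      omega
    haveI : Fact (Nat.Prime 5) := ⟨by norm_num⟩
    let P : Sylow 5 ↥N := default
    obtain ⟨k, hk⟩ := IsPGroup.exists_card_eq P.2
    have hmul := (P : Subgroup ↥N).card_mul_index
    rw [hcardN] at hmul
    have hnd := P.not_dvd_index
    have hk' : Nat.card ↥(P : Subgroup ↥N) = 5 ^ k := hk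
    rw [hk'] at hmul
    have hk2 : k = 2 ∧ (P : Subgroup ↥N).index = 4 := by
      have hk3 : k < 3 := by
        by_contra hge
        push Not at hge
        have : 5 ^ 3 ≤ 5 ^ k := Nat.pow_le_pow_right (by norm_num) hge
        have hpos : 0 < (P : Subgroup ↥N).index := by
          rcases Nat.eq_zero_or_pos (P : Subgroup ↥N).index with h0 | h0
          · rw [h0] at hmul
            omega
          · exact h0
        nlinarith
      interval_cases k
      · exfalso
        apply hnd
        have : (P : Subgroup ↥N).index = 100 := by omega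
        rw [this]
        norm_num
      · exfalso
        apply hnd
        have : (P : Subgroup ↥N).index = 20 := by omega
        rw [this]
        norm_num
      · exact ⟨rfl, by omega⟩
    obtain ⟨rfl, hidx⟩ := hk2
    have hn5 : Nat.card (Sylow 5 ↥N) = 1 := by
      have d := P.card_dvd_index
      rw [hidx] at d
      have m := card_sylow_modEq_one 5 ↥N
      have hle := Nat.le_of_dvd (by norm_num) d
      unfold Nat.ModEq at m
      have hpos : 0 < Nat.card (Sylow 5 ↥N) := Nat.card_pos
      interval_cases (Nat.card (Sylow 5 ↥N)) <;> simp_all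
    haveI : Subsingleton (Sylow 5 ↥N) := (Nat.card_eq_one_iff_unique.1 hn5).1
    haveI hchar : (P : Subgroup ↥N).Characteristic := Sylow.characteristic_of_subsingleton P
    have hPn : ((P : Subgroup ↥N).map N.subtype).Normal :=
      ConjAct.normal_of_characteristic_of_normal
    have hPcard : Nat.card ↥((P : Subgroup ↥N).map N.subtype) = 25 := by
      rw [← Nat.card_congr ((P : Subgroup ↥N).equivMapOfInjective N.subtype
        N.subtype_injective).toEquiv, hk']
      norm_num
    have hcase := @ncard_orb_cases G Y _ _ _ x0 S1 S2 h _ hPn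
    have hdv : (orb ((P : Subgroup ↥N).map N.subtype) x0).ncard ∣ 25 := by
      rw [ncard_orb, ← hPcard]
      exact Subgroup.index_dvd_card _
    rcases hcase with c1 | c1
    · have := @eq_bot_of_ncard_one G Y _ _ _ x0 S1 S2 h _ hPn c1
      rw [this, Subgroup.card_bot] at hPcard
      omega
    · rw [c1] at hdv
      revert hdv
      decide
  · -- the stabiliser lies in `N`
    rw [Subgroup.subgroupOf_eq_top] at ht
    have hle : stabilizer G x0 ≤ N := ht
    have h1 := ncard_orb (N ⊔ stabilizer G x0) x0
    rw [orb_sup, hO] at h1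
    have h2 := Subgroup.relIndex_mul_index (le_sup_right : stabilizer G x0 ≤ N ⊔ stabilizer G x0)
    rw [← h1, h.hc] at h2
    have h3 : (N ⊔ stabilizer G x0).index = 1 := by omega
    rw [Subgroup.index_eq_one, sup_eq_left.2 hle] at h3
    exact hNtop h3

end Cfsg.Agent.Lib.Lead.R3S
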