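import Mathlib
import Cfsg.Agent.Lib.Lead.Rank3Simple

set_option autoImplicit false
set_option linter.unusedSectionVars false
set_option linter.style.haveILetI false

/-!
# A simplicity criterion for an imprimitive action of degree 552

A finite group acting faithfully and transitively on 552 points, with a simple point stabiliser
whose further orbits are a fixed point and two orbits of size 275, is simple, provided that the
two large suborbits are distinguished by an invariant symmetric function with suitable values.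
-/

namespace Cfsg.Agent.Lib.Lead.R5S

open MulAction Cfsg.Agent.Lib.Lead.R3S
open scoped Pointwise

variable {G Y : Type*} [Group G] [Finite G] [MulAction G Y]

variable (x0 t0 : Y) (S2 S3 : Set Y) (d : Y → Y → ℤ)

/-- the hypotheses of the criterion -/
structure Hyp552 : Prop where
  hX : orbit G x0 = {x0} ∪ {t0} ∪ S2 ∪ S3
  hxt : x0 ≠ t0
  hx2 : x0 ∉ S2
  hx3 : x0 ∉ S3
  ht2' : t0 ∉ S2
  ht3' : t0 ∉ S3
  hd23 : Disjoint S2 S3
  hc : (stabilizer G x0).index = 552
  h2 : S2.ncard = 275
  h3 : S3.ncard = 275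
  ht0 : ∀ g ∈ stabilizer G x0, g • t0 = t0
  ht2 : ∀ y ∈ S2, ∀ y' ∈ S2, ∃ g ∈ stabilizer G x0, g • y = y'
  ht3 : ∀ y ∈ S3, ∀ y' ∈ S3, ∃ g ∈ stabilizer G x0, g • y = y'
  hK : IsSimpleGroup ↥(stabilizer G x0)
  hfaith : ∀ g : G, (∀ y ∈ orbit G x0, g • y = y) → g = 1
  hd : ∀ (g : G) (a b : Y), d (g • a) (g • b) = d a b
  hsymm : ∀ a b : Y, d a b = d b a
  hS2 : ∀ y ∈ orbit G x0, (y ∈ S2 ↔ d x0 y = 16)
  hS3 : ∀ y ∈ orbit G x0, (y ∈ S3 ↔ d x0 y = 8)
  he2 : ∃ y ∈ S2, ∃ z ∈ S2, y ≠ z ∧ d y z ≠ 16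
  he3 : ∃ y ∈ S3, ∃ z ∈ S3, y ≠ z ∧ d y z ≠ 8
  hcen : ∀ z : G, (∀ g : G, g * z = z * g) → z • x0 = t0 → False

variable {x0 t0 S2 S3 d}

theorem inter_cases' (O S : Set Y) (hfull : (∃ y ∈ S, y ∈ O) → S ⊆ O) :
    S ∩ O = ∅ ∨ S ∩ O = S := by
  by_cases e : ∃ y ∈ S, y ∈ O
  · right
    exact Set.inter_eq_left.2 (hfull e)
  · left
    ext y
    simp only [Set.mem_inter_iff, Set.mem_empty_iff_false, iff_false, not_and]
    intro hy hyO
    exact e ⟨y, hy, hyO⟩

theorem orb_cases5 (h : Hyp552 (G := G) x0 t0 S2 S3 d) (N : Subgroup G) [N.Normal] :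
    orb N x0 = {x0} ∨ orb N x0 = {x0} ∪ {t0} ∨ orb N x0 = {x0} ∪ S2 ∨ orb N x0 = {x0} ∪ S3 ∨
      orb N x0 = orbit G x0 := by
  classical
  have hf2 : S2.Finite := Set.finite_of_ncard_ne_zero (by rw [h.h2]; norm_num)
  have hf3 : S3.Finite := Set.finite_of_ncard_ne_zero (by rw [h.h3]; norm_num)
  have hx0 : x0 ∈ orb N x0 := ⟨1, N.one_mem, one_smul _ _⟩
  have full1 : (∃ y ∈ ({t0} : Set Y), y ∈ orb N x0) → ({t0} : Set Y) ⊆ orb N x0 := by
    rintro ⟨y, hy, hyO⟩ y' hy'
    rw [Set.mem_singleton_iff] at hy hy'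
    rw [hy', ← hy]
    exact hyO
  have full2 : (∃ y ∈ S2, y ∈ orb N x0) → S2 ⊆ orb N x0 := by
    rintro ⟨y, hy, hyO⟩ y' hy'
    obtain ⟨g, hg, rfl⟩ := h.ht2 y hy y' hy'
    exact orb_inv N g hg y hyO
  have full3 : (∃ y ∈ S3, y ∈ orb N x0) → S3 ⊆ orb N x0 := by
    rintro ⟨y, hy, hyO⟩ y' hy'
    obtain ⟨g, hg, rfl⟩ := h.ht3 y hy y' hy'
    exact orb_inv N g hg y hyO
  have hsub : orb N x0 ⊆ {x0} ∪ {t0} ∪ S2 ∪ S3 := by
    rw [← h.hX]
    exact orb_sub N
  have hdec : orb N x0 = {x0} ∪ {t0} ∩ orb N x0 ∪ S2 ∩ orb N x0 ∪ S3 ∩ orb N x0 := by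
    apply Set.Subset.antisymm
    · intro y hy
      rcases hsub hy with ((hy' | hy') | hy') | hy'
      · exact Or.inl (Or.inl (Or.inl hy'))
      · exact Or.inl (Or.inl (Or.inr ⟨hy', hy⟩))
      · exact Or.inl (Or.inr ⟨hy', hy⟩)
      · exact Or.inr ⟨hy', hy⟩
    · rintro y (((hy | hy) | hy) | hy)
      · rw [Set.mem_singleton_iff.1 hy]
        exact hx0
      · exact hy.2
      · exact hy.2
      · exact hy.2
  have hdvd := ncard_orb_dvd N x0
  rw [h.hc] at hdvd
  have dxt : Disjoint ({x0} : Set Y) {t0} := Set.disjoint_singleton.2 h.hxt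
  have dx2 : Disjoint ({x0} : Set Y) S2 := Set.disjoint_singleton_left.2 h.hx2
  have dx3 : Disjoint ({x0} : Set Y) S3 := Set.disjoint_singleton_left.2 h.hx3
  have dt2 : Disjoint ({t0} : Set Y) S2 := Set.disjoint_singleton_left.2 h.ht2'
  have dt3 : Disjoint ({t0} : Set Y) S3 := Set.disjoint_singleton_left.2 h.ht3'
  have c2 : (({x0} : Set Y) ∪ {t0}).ncard = 2 := by
    rw [Set.ncard_union_eq dxt (Set.finite_singleton _) (Set.finite_singleton _),
      Set.ncard_singleton, Set.ncard_singleton]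
  rcases inter_cases' (orb N x0) {t0} full1 with c1 | c1 <;>
  rcases inter_cases' (orb N x0) S2 full2 with c2' | c2' <;>
  rcases inter_cases' (orb N x0) S3 full3 with c3 | c3 <;>
  rw [c1, c2', c3] at hdec
  · left
    rw [hdec]
    simp
  · right; right; right; left
    rw [hdec]
    simp
  · right; right; left
    rw [hdec]
    simp
  · exfalso
    rw [hdec, Set.union_empty, Set.ncard_union_eq (Set.disjoint_union_left.2 ⟨dx3, h.hd23⟩)
      ((Set.finite_singleton _).union hf2) hf3,
      Set.ncard_union_eq dx2 (Set.finite_singleton _) hf2, Set.ncard_singleton, h.h2, h.h3] at hdvd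
    revert hdvd
    decide
  · right; left
    rw [hdec]
    simp
  · exfalso
    rw [hdec, Set.union_empty, Set.ncard_union_eq (Set.disjoint_union_left.2 ⟨dx3, dt3⟩)
      ((Set.finite_singleton _).union (Set.finite_singleton _)) hf3, c2, h.h3] at hdvd
    revert hdvd
    decide
  · exfalso
    rw [hdec, Set.union_empty, Set.ncard_union_eq (Set.disjoint_union_left.2 ⟨dx2, dt2⟩)
      ((Set.finite_singleton _).union (Set.finite_singleton _)) hf2, c2, h.h2] at hdvd
    revert hdvd
    decide
  · right; right; right; right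
    rw [hdec, h.hX]

/-- a normal subgroup fixing the base point is trivial -/
theorem eq_bot_of_orb_singleton (h : Hyp552 (G := G) x0 t0 S2 S3 d) (N : Subgroup G)
    [hN : N.Normal] (h1 : orb N x0 = {x0}) : N = ⊥ := by
  have hK := h.hK
  have hle : N ≤ stabilizer G x0 := by
    intro n hn
    rw [mem_stabilizer_iff]
    have m1 : n • x0 ∈ orb N x0 := ⟨n, hn, rfl⟩
    rw [h1, Set.mem_singleton_iff] at m1
    exact m1
  have hnorm : (N.subgroupOf (stabilizer G x0)).Normal := hN.subgroupOf _
  rcases hK.eq_bot_or_eq_top_of_normal _ hnorm with hb | ht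
  · rw [Subgroup.subgroupOf_eq_bot] at hb
    exact disjoint_self.1 (hb.mono_right hle)
  · exfalso
    rw [Subgroup.subgroupOf_eq_top] at ht
    have hEq : N = stabilizer G x0 := le_antisymm hle ht
    have htriv : ∀ k ∈ stabilizer G x0, k = 1 := by
      intro k hk
      apply h.hfaith
      rintro y ⟨g, rfl⟩
      have hk' : g⁻¹ * k * g ∈ stabilizer G x0 := by
        rw [← hEq]
        have := hN.conj_mem k (hEq ▸ hk) g⁻¹
        rwa [inv_inv] at this
      have : (g⁻¹ * k * g) • x0 = x0 := mem_stabilizer_iff.1 hk'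
      show k • g • x0 = g • x0
      calc k • g • x0 = g • (g⁻¹ * k * g) • x0 := by
            rw [← mul_smul, ← mul_smul]
            congr 1
            group
        _ = g • x0 := by rw [this]
    obtain ⟨a, b, hab⟩ := hK.toNontrivial.exists_pair_ne
    apply hab
    apply Subtype.ext
    rw [htriv a.1 a.2, htriv b.1 b.2]

/-- a normal subgroup containing the point stabiliser has a large orbit -/
theorem big_of_le (h : Hyp552 (G := G) x0 t0 S2 S3 d) (N : Subgroup G) [hN : N.Normal]
    (hle : stabilizer G x0 ≤ N) : 275 ≤ (orb N x0).ncard := by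
  classical
  have hXf : (orbit G x0).Finite := Set.finite_of_ncard_ne_zero (by
    rw [← index_stabilizer, h.hc]; norm_num)
  have hOf : (orb N x0).Finite := hXf.subset (orb_sub N)
  have hne : S2.Nonempty := by
    rw [← Set.ncard_pos (Set.finite_of_ncard_ne_zero (by rw [h.h2]; norm_num)), h.h2]
    norm_num
  obtain ⟨y, hy⟩ := hne
  have hyX : y ∈ orbit G x0 := by
    rw [h.hX]
    exact Or.inl (Or.inr hy)
  obtain ⟨g, rfl⟩ := hyX
  have hg : (fun m : G => m • x0) g = g • x0 := rfl
  rw [hg] at hy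
  have hzX : g⁻¹ • x0 ∈ orbit G x0 := ⟨g⁻¹, rfl⟩
  have hz : g⁻¹ • x0 ∈ S2 := by
    rw [h.hS2 _ hzX, ← h.hd g, smul_inv_smul, h.hsymm, ← h.hS2 _ ⟨g, rfl⟩]
    exact hy
  have hsub : (fun w => g • w) '' S2 ⊆ orb N x0 := by
    rintro _ ⟨w, hw, rfl⟩
    obtain ⟨k, hk, hkz⟩ := h.ht2 _ hz w hw
    refine ⟨g * k * g⁻¹, hN.conj_mem k (hle hk) g, ?_⟩
    rw [mul_smul, mul_smul, hkz]
  have hc : ((fun w => g • w) '' S2).ncard = 275 := by
    rw [Set.ncard_image_of_injective _ (MulAction.injective g), h.h2]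
  rw [← hc]
  exact Set.ncard_le_ncard hsub hOf

/-- the points of an orbit of the shape `{x0} ∪ S` are pairwise at the same distance -/
theorem pairs_const (N : Subgroup G) (S : Set Y) (c : ℤ)
    (hd : ∀ (g : G) (a b : Y), d (g • a) (g • b) = d a b)
    (hS : ∀ y ∈ S, d x0 y = c) (hO : orb N x0 = {x0} ∪ S) :
    ∀ y ∈ S, ∀ z ∈ S, y ≠ z → d y z = c := by
  intro y hy z hz hyz
  have hyO : y ∈ orb N x0 := by
    rw [hO]
    exact Or.inr hy
  have hzO : z ∈ orb N x0 := by
    rw [hO]
    exact Or.inr hz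
  obtain ⟨n, hn, rfl⟩ := hyO
  obtain ⟨m, hm, rfl⟩ := hzO
  have hw : (n⁻¹ * m) • x0 ∈ orb N x0 := ⟨n⁻¹ * m, N.mul_mem (N.inv_mem hn) hm, rfl⟩
  rw [hO] at hw
  rcases hw with hw | hw
  · exfalso
    apply hyz
    rw [Set.mem_singleton_iff, mul_smul, inv_smul_eq_iff] at hw
    exact hw.symm
  · have := hS _ hw
    rw [← hd n, mul_smul, smul_inv_smul] at this
    exact this

/-- there is no regular normal subgroup -/
theorem no_regular5 (h : Hyp552 (G := G) x0 t0 S2 S3 d) (N : Subgroup G) [hN : N.Normal]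
    (hO : orb N x0 = orbit G x0) (hb : Disjoint N (stabilizer G x0)) : False := by
  classical
  haveI : Fact (Nat.Prime 2) := ⟨by norm_num⟩
  haveI : Fact (Nat.Prime 3) := ⟨by norm_num⟩
  haveI : Fact (Nat.Prime 23) := ⟨by norm_num⟩
  -- regularity
  have hreg : ∀ a ∈ N, ∀ b ∈ N, a • x0 = b • x0 → a = b := by
    intro a ha b hb' hab
    have h1 : b⁻¹ * a ∈ N := N.mul_mem (N.inv_mem hb') ha
    have h2 : b⁻¹ * a ∈ stabilizer G x0 := by
      rw [mem_stabilizer_iff, mul_smul, hab, inv_smul_smul]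
    have h3 : b⁻¹ * a = 1 := by
      have := hb.le_bot ⟨h1, h2⟩
      exact Subgroup.mem_bot.1 this
    exact (inv_mul_eq_one.1 h3).symm
  have hcardN : Nat.card ↥N = 552 := by
    have h1 := ncard_orb N x0
    rw [hO, ← index_stabilizer, h.hc] at h1
    have h2 : (stabilizer G x0).subgroupOf N = ⊥ := by
      rw [Subgroup.subgroupOf_eq_bot]
      exact hb.symm
    have h3 : (stabilizer G x0).relIndex N = Nat.card ↥N := by
      show ((stabilizer G x0).subgroupOf N).index = _
      rw [h2, Subgroup.index_bot]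
    omega
  -- conjugacy of elements with images in the same suborbit
  have hconj : ∀ (S : Set Y), (∀ y ∈ S, ∀ y' ∈ S, ∃ g ∈ stabilizer G x0, g • y = y') →
      ∀ a ∈ N, ∀ b ∈ N, a • x0 ∈ S → b • x0 ∈ S → orderOf a = orderOf b := by
    intro S hS a ha b hb' haS hbS
    obtain ⟨k, hk, hkab⟩ := hS _ haS _ hbS
    have hk' : k⁻¹ • x0 = x0 := by
      rw [inv_smul_eq_iff, mem_stabilizer_iff.1 hk]
    have h1 : k * a * k⁻¹ ∈ N := hN.conj_mem a ha k
    have h2 : (k * a * k⁻¹) • x0 = b • x0 := by
      rw [mul_smul, mul_smul, hk', hkab]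
    have h3 := hreg _ h1 _ hb' h2
    rw [← h3]
    have := (MulAut.conj k).orderOf_eq a
    rw [MulAut.conj_apply] at this
    exact this.symm
  -- the element mapping the base point to its mate
  have ht0X : t0 ∈ orb N x0 := by
    rw [hO, h.hX]
    exact Or.inl (Or.inl (Or.inr rfl))
  obtain ⟨t, htN, htx⟩ := ht0X
  have htcomm : ∀ k ∈ stabilizer G x0, k * t * k⁻¹ = t := by
    intro k hk
    have hk' : k⁻¹ • x0 = x0 := by
      rw [inv_smul_eq_iff, mem_stabilizer_iff.1 hk]
    apply hreg _ (hN.conj_mem t htN k) _ htN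
    rw [mul_smul, mul_smul, hk', htx, h.ht0 k hk]
  have hfix : ∀ k ∈ stabilizer G x0, k • (t • t0) = t • t0 := by
    intro k hk
    have e : k * t = t * k := by
      have := htcomm k hk
      rw [mul_inv_eq_iff_eq_mul] at this
      exact this
    rw [← mul_smul, e, mul_smul, h.ht0 k hk]
  have hnofix : ∀ (S : Set Y), S.ncard = 275 →
      (∀ y ∈ S, ∀ y' ∈ S, ∃ g ∈ stabilizer G x0, g • y = y') → t • t0 ∉ S := by
    intro S hSc hS hmem
    have hsub : S ⊆ {t • t0} := by
      intro y' hy'
      obtain ⟨k, hk, hky⟩ := hS _ hmem y' hy'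
      rw [hfix k hk] at hky
      rw [Set.mem_singleton_iff, hky]
    have := Set.ncard_le_ncard hsub (Set.finite_singleton _)
    rw [hSc, Set.ncard_singleton] at this
    omega
  have htt : t * t = 1 := by
    have hmem : t • t0 ∈ orbit G x0 := by
      rw [← htx, ← mul_smul]
      exact ⟨t * t, rfl⟩
    rw [h.hX] at hmem
    rcases hmem with ((hm | hm) | hm) | hm
    · rw [Set.mem_singleton_iff, ← htx, ← mul_smul] at hm
      exact hreg _ (N.mul_mem htN htN) _ N.one_mem (by rw [hm, one_smul])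
    · exfalso
      rw [Set.mem_singleton_iff] at hm
      have h1 : (t * t) • x0 = t • x0 := by
        rw [mul_smul, htx, hm]
      have h2 := hreg _ (N.mul_mem htN htN) _ htN h1
      have h3 : t = 1 := by
        have := mul_left_cancel (a := t) (b := t) (c := 1) (by rw [h2, mul_one])
        exact this
      rw [h3, one_smul] at htx
      exact h.hxt htx
    · exact absurd hm (hnofix S2 h.h2 h.ht2)
    · exact absurd hm (hnofix S3 h.h3 h.ht3)
  have hot : orderOf t ∣ 2 := by
    apply orderOf_dvd_of_pow_eq_one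
    rw [pow_two, htt]
  -- classification of the elements
  have hclass : ∀ a ∈ N, a = 1 ∨ a = t ∨ a • x0 ∈ S2 ∨ a • x0 ∈ S3 := by
    intro a ha
    have hmem : a • x0 ∈ orbit G x0 := ⟨a, rfl⟩
    rw [h.hX] at hmem
    rcases hmem with ((hm | hm) | hm) | hm
    · left
      rw [Set.mem_singleton_iff] at hm
      exact hreg _ ha _ N.one_mem (by rw [hm, one_smul])
    · right; left
      rw [Set.mem_singleton_iff] at hm
      exact hreg _ ha _ htN (by rw [hm, htx])
    · exact Or.inr (Or.inr (Or.inl hm))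
    · exact Or.inr (Or.inr (Or.inr hm))
  -- elements of orders 3 and 23
  obtain ⟨a3', ha3'⟩ := exists_prime_orderOf_dvd_card' (G := ↥N) 3 (by rw [hcardN]; norm_num)
  obtain ⟨b', hb''⟩ := exists_prime_orderOf_dvd_card' (G := ↥N) 23 (by rw [hcardN]; norm_num)
  have ha3 : orderOf a3'.1 = 3 := by rw [Subgroup.orderOf_coe]; exact ha3'
  have hb23 : orderOf b'.1 = 23 := by rw [Subgroup.orderOf_coe]; exact hb''
  have hne : ∀ a : G, (orderOf a = 3 ∨ orderOf a = 23) → a ≠ 1 ∧ a ≠ t := by
    intro a ha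
    constructor
    · rintro rfl
      rw [orderOf_one] at ha
      omega
    · rintro rfl
      have := Nat.le_of_dvd (by norm_num) hot
      rcases ha with ha | ha
      · rw [ha] at hot
        revert hot
        decide
      · rw [ha] at hot
        revert hot
        decide
  have hord : ∀ a ∈ N, a ≠ 1 → a ≠ t → orderOf a = 3 ∨ orderOf a = 23 := by
    intro a ha ha1 hat
    obtain ⟨n31, n3t⟩ := hne a3'.1 (Or.inl ha3)
    obtain ⟨nb1, nbt⟩ := hne b'.1 (Or.inr hb23)
    have ca := hclass a ha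
    have c3 := hclass a3'.1 a3'.2
    have cb := hclass b'.1 b'.2
    rcases ca with ca | ca | ca | ca
    · exact absurd ca ha1
    · exact absurd ca hat
    · rcases c3 with c3 | c3 | c3 | c3
      · exact absurd c3 n31
      · exact absurd c3 n3t
      · left
        rw [hconj S2 h.ht2 a ha a3'.1 a3'.2 ca c3, ha3]
      · rcases cb with cb | cb | cb | cb
        · exact absurd cb nb1
        · exact absurd cb nbt
        · right
          rw [hconj S2 h.ht2 a ha b'.1 b'.2 ca cb, hb23]
        · exfalso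
          have := hconj S3 h.ht3 a3'.1 a3'.2 b'.1 b'.2 c3 cb
          rw [ha3, hb23] at this
          omega
    · rcases c3 with c3 | c3 | c3 | c3
      · exact absurd c3 n31
      · exact absurd c3 n3t
      · rcases cb with cb | cb | cb | cb
        · exact absurd cb nb1
        · exact absurd cb nbt
        · exfalso
          have := hconj S2 h.ht2 a3'.1 a3'.2 b'.1 b'.2 c3 cb
          rw [ha3, hb23] at this
          omega
        · right
          rw [hconj S3 h.ht3 a ha b'.1 b'.2 ca cb, hb23]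
      · left
        rw [hconj S3 h.ht3 a ha a3'.1 a3'.2 ca c3, ha3]
  -- a subgroup of order 4
  obtain ⟨K, hK⟩ := Sylow.exists_subgroup_card_pow_prime (G := ↥N) 2 (n := 2)
    (by rw [hcardN]; norm_num)
  have hKsub : (K : Set ↥N) ⊆ {1, ⟨t, htN⟩} := by
    intro k hk
    have hdvd : orderOf k ∣ 4 := by
      have := Subgroup.orderOf_dvd_natCard K hk
      rw [hK] at this
      exact this
    rw [← Subgroup.orderOf_coe] at hdvd
    by_cases k1 : k.1 = 1
    · left
      exact Subtype.ext k1
    · by_cases kt : k.1 = t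
      · right
        rw [Set.mem_singleton_iff]
        exact Subtype.ext kt
      · exfalso
        rcases hord k.1 k.2 k1 kt with ho | ho
        · rw [ho] at hdvd
          revert hdvd
          decide
        · rw [ho] at hdvd
          revert hdvd
          decide
  have hle := Set.ncard_le_ncard hKsub (Set.toFinite _)
  have hcK : (K : Set ↥N).ncard = 4 := by
    rw [← Nat.card_coe_set_eq]
    exact hK
  have hle2 : ({1, ⟨t, htN⟩} : Set ↥N).ncard ≤ 2 := by
    have := Set.ncard_insert_le (1 : ↥N) {⟨t, htN⟩}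
    rw [Set.ncard_singleton] at this
    exact this
  omega

theorem simple5 (h : Hyp552 (G := G) x0 t0 S2 S3 d) : IsSimpleGroup G := by
  classical
  have hK := h.hK
  haveI : Nontrivial G := by
    obtain ⟨a, b, hab⟩ := hK.toNontrivial.exists_pair_ne
    exact ⟨⟨a.1, b.1, fun e => hab (Subtype.ext e)⟩⟩
  refine ⟨fun N hN => ?_⟩
  by_contra hcon
  push Not at hcon
  obtain ⟨hNbot, hNtop⟩ := hcon
  have hnorm : ((N ⊓ stabilizer G x0).subgroupOf (stabilizer G x0)).Normal := by
    have : (N.subgroupOf (stabilizer G x0)).Normal := hN.subgroupOf _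
    rwa [Subgroup.inf_subgroupOf_right]
  rw [Subgroup.inf_subgroupOf_right] at hnorm
  have hxtc : (({x0} : Set Y) ∪ {t0}).ncard = 2 := by
    rw [Set.ncard_union_eq (Set.disjoint_singleton.2 h.hxt) (Set.finite_singleton _)
      (Set.finite_singleton _), Set.ncard_singleton, Set.ncard_singleton]
  rcases orb_cases5 h N with c | c | c | c | c
  · exact hNbot (eq_bot_of_orb_singleton h N c)
  · -- orbit of size two
    rcases hK.eq_bot_or_eq_top_of_normal _ hnorm with hb | ht
    · rw [Subgroup.subgroupOf_eq_bot] at hb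
      have hcardN : Nat.card ↥N = 2 := by
        have h1 := ncard_orb N x0
        rw [c, hxtc] at h1
        have h2 : (stabilizer G x0).subgroupOf N = ⊥ := by
          rw [Subgroup.subgroupOf_eq_bot]
          exact hb.symm
        have h3 : (stabilizer G x0).relIndex N = Nat.card ↥N := by
          show ((stabilizer G x0).subgroupOf N).index = _
          rw [h2, Subgroup.index_bot]
        omega
      obtain ⟨z, hz1, hzu⟩ := (Nat.card_eq_two_iff' (1 : ↥N)).1 hcardN
      have hzc : ∀ g : G, g * z.1 = z.1 * g := by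
        intro g
        have hm : g * z.1 * g⁻¹ ∈ N := hN.conj_mem z.1 z.2 g
        have hne : (⟨g * z.1 * g⁻¹, hm⟩ : ↥N) ≠ 1 := by
          intro e
          have e' : g * z.1 * g⁻¹ = 1 := congrArg Subtype.val e
          apply hz1
          apply Subtype.ext
          show z.1 = 1
          have : z.1 = g⁻¹ * (g * z.1 * g⁻¹) * g := by group
          rw [this, e']
          group
        have := hzu _ hne
        have e' : g * z.1 * g⁻¹ = z.1 := congrArg Subtype.val this
        exact mul_inv_eq_iff_eq_mul.1 e'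
      have hzx : z.1 • x0 = t0 := by
        have hm : z.1 • x0 ∈ orb N x0 := ⟨z.1, z.2, rfl⟩
        rw [c] at hm
        rcases hm with hm | hm
        · exfalso
          apply hz1
          apply Subtype.ext
          have : z.1 ∈ N ⊓ stabilizer G x0 := ⟨z.2, mem_stabilizer_iff.2 hm⟩
          rw [hb.eq_bot] at this
          exact Subgroup.mem_bot.1 this
        · exact hm
      exact h.hcen z.1 hzc hzx
    · rw [Subgroup.subgroupOf_eq_top] at ht
      have := big_of_le h N ht
      rw [c, hxtc] at this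
      omega
  · -- orbit `{x0} ∪ S2`
    obtain ⟨y, hy, z, hz, hyz, hdyz⟩ := h.he2
    have hS : ∀ y ∈ S2, d x0 y = 16 := by
      intro y hy
      have hyX : y ∈ orbit G x0 := by
        rw [h.hX]
        exact Or.inl (Or.inr hy)
      exact (h.hS2 y hyX).1 hy
    exact hdyz (pairs_const N S2 16 h.hd hS c y hy z hz hyz)
  · -- orbit `{x0} ∪ S3`
    obtain ⟨y, hy, z, hz, hyz, hdyz⟩ := h.he3
    have hS : ∀ y ∈ S3, d x0 y = 8 := by
      intro y hy
      have hyX : y ∈ orbit G x0 := by
        rw [h.hX]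
        exact Or.inr hy
      exact (h.hS3 y hyX).1 hy
    exact hdyz (pairs_const N S3 8 h.hd hS c y hy z hz hyz)
  · -- transitive normal subgroup
    rcases hK.eq_bot_or_eq_top_of_normal _ hnorm with hb | ht
    · rw [Subgroup.subgroupOf_eq_bot] at hb
      exact no_regular5 h N c hb
    · rw [Subgroup.subgroupOf_eq_top] at ht
      have hle : stabilizer G x0 ≤ N := ht
      have hO : (orb N x0).ncard = 552 := by
        rw [c, ← index_stabilizer, h.hc]
      have h1 := ncard_orb (N ⊔ stabilizer G x0) x0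
      rw [orb_sup, hO] at h1
      have h2 := Subgroup.relIndex_mul_index
        (le_sup_right : stabilizer G x0 ≤ N ⊔ stabilizer G x0)
      rw [← h1, h.hc] at h2
      have h3 : (N ⊔ stabilizer G x0).index = 1 := by
        rcases Nat.eq_zero_or_pos (N ⊔ stabilizer G x0).index with h0 | h0
        · rw [h0] at h2
          omega
        · nlinarith
      rw [Subgroup.index_eq_one, sup_eq_left.2 hle] at h3
      exact hNtop h3

end Cfsg.Agent.Lib.Lead.R5S
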