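import Cfsg.Agent.Lib.Lead.McL5
import Cfsg.Agent.Lib.Lead.Rank552Simple
import Cfsg.Agent.S1578
import Cfsg.Agent.S1579
import Cfsg.Agent.S1580

set_option autoImplicit false
set_option linter.style.haveILetI false

/-!
# The stabiliser of a vector of sum of squares 48 is simple of order 495766656000
-/

namespace Cfsg.Agent.Lib.Lead.C3

open Cfsg
open Cfsg.Agent.Lib.Lead.LX Cfsg.Agent.Lib.Lead.CW Cfsg.Agent.Lib.Lead.CO Cfsg.Agent.Lib.Lead.CP
open Cfsg.Agent.Lib.helper3 Cfsg.Agent.Lib.helper4 Cfsg.Agent.S0398 Cfsg.Agent.S1571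
open Cfsg.Agent.Lib.Lead.LC Cfsg.Agent.Lib.Lead.LC3 Cfsg.Agent.Lib.Lead.HS
open Cfsg.Agent.Lib.Lead.HSG Cfsg.Agent.Lib.Lead.ML
open MulAction
open scoped Pointwise

/-- the stabiliser of the standard vector of sum of squares 48 -/
abbrev G3 : Subgroup ↥Co0 := stabilizer ↥Co0 u48

theorem u48_eq : u48 = v32 + w0 := by
  apply Subtype.ext
  funext p
  show u48v p = v32.1 p + hV (some 0) p
  rw [v32_apply]
  unfold u48v hV
  by_cases h0 : p = none
  · subst h0
    simp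
  · by_cases h1 : p = some 0
    · subst h1
      simp
    · simp [h0, h1]

theorem w0_eq : w0 = u48 - v32 := by
  rw [u48_eq]
  abel

theorem map_sub' (g : ↥Co0) (a b : ↥leechLattice) : g.1 (a - b) = g.1 a - g.1 b := by
  rw [sub_eq_add_neg, g.2.1, map_neg', ← sub_eq_add_neg]

theorem fix_w0 (g : ↥Co0) (hu : g.1 u48 = u48) (hv : g.1 v32 = v32) : g.1 w0 = w0 := by
  rw [w0_eq, map_sub', hu, hv]

theorem fix_u48 (g : ↥Co0) (hv : g.1 v32 = v32) (hw : g.1 w0 = w0) : g.1 u48 = u48 := by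
  rw [u48_eq, g.2.1, hv, hw]

/-- the 552 points -/
def Om : Set ↥leechLattice := {y | sqNorm y.1 = 32 ∧ sqNorm (u48 - y).1 = 32}

theorem Om_ncard : Om.ncard = 552 := Cfsg.Agent.S1578.result u48 frame_chk.1

theorem Om_finite : Om.Finite := Set.finite_of_ncard_ne_zero (by rw [Om_ncard]; norm_num)

theorem mem_Om (y : ↥leechLattice) : y ∈ Om ↔ sqNorm y.1 = 32 ∧ dotInt u48.1 y.1 = 24 := by
  constructor
  · rintro ⟨h1, h2⟩
    have h3 : sqNorm (u48.1 - y.1) = 32 := h2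
    rw [sqNorm_sub, frame_chk.1, h1] at h3
    exact ⟨h1, by omega⟩
  · rintro ⟨h1, h2⟩
    refine ⟨h1, ?_⟩
    show sqNorm (u48.1 - y.1) = 32
    rw [sqNorm_sub, frame_chk.1, h1, h2]
    norm_num

theorem v32_mem_Om : v32 ∈ Om := (mem_Om _).2 ⟨norm_v32, frame_chk.2.2.2.1⟩

theorem dot_u48_w0 : dotInt u48.1 w0.1 = 24 := by
  rw [w0_eq]
  show dotInt u48.1 (u48.1 - v32.1) = 24
  rw [dot_sub_right, dot_self, frame_chk.1, frame_chk.2.2.2.1]
  norm_num

theorem w0_mem_Om : w0 ∈ Om := (mem_Om _).2 ⟨norm_w0, dot_u48_w0⟩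

/-- the mate of a point -/
theorem mate_mem (y : ↥leechLattice) (hy : y ∈ Om) : u48 - y ∈ Om := by
  refine ⟨hy.2, ?_⟩
  have : u48 - (u48 - y) = y := by abel
  rw [this]
  exact hy.1

theorem G3_smul_mem (g : ↥G3) (y : ↥leechLattice) (hy : y ∈ Om) : g • y ∈ Om := by
  rw [mem_Om] at hy ⊢
  have hg : g.1.1 u48 = u48 := g.2
  refine ⟨?_, ?_⟩
  · show sqNorm (g.1.1 y).1 = 32
    rw [g.1.2.2]
    exact hy.1
  · show dotInt u48.1 (g.1.1 y).1 = 24
    have := dot_map g.1 u48 y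
    rw [hg] at this
    rw [this]
    exact hy.2

theorem orbit_G3 : orbit ↥G3 v32 = Om := by
  ext y
  constructor
  · rintro ⟨g, rfl⟩
    exact G3_smul_mem g v32 v32_mem_Om
  · intro hy
    obtain ⟨g, hu, hv⟩ := Cfsg.Agent.S1579.result u48 v32 y frame_chk.1
      ⟨v32_mem_Om.1, v32_mem_Om.2⟩ ⟨hy.1, hy.2⟩
    exact ⟨⟨g, hu⟩, hv⟩

theorem index_H3 : (stabilizer ↥G3 v32).index = 552 := by
  rw [index_stabilizer, orbit_G3, Om_ncard]

/-- the point stabiliser is the stabiliser of the standard McLaughlin frame -/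
def stabEquiv3 : ↥(stabilizer ↥G3 v32) ≃* ↥M0 where
  toFun k := ⟨k.1.1, (mem_M0 _).2 ⟨k.2, fix_w0 k.1.1 k.1.2 k.2⟩⟩
  invFun m := ⟨⟨m.1, fix_u48 m.1 ((mem_M0 _).1 m.2).1 ((mem_M0 _).1 m.2).2⟩,
    ((mem_M0 _).1 m.2).1⟩
  left_inv _ := rfl
  right_inv _ := rfl
  map_mul' _ _ := rfl

theorem H3_simple : IsSimpleGroup ↥(stabilizer ↥G3 v32) := by
  haveI := M0_simple
  exact stabEquiv3.isSimpleGroup

/-! ### the two large suborbits -/

/-- the points at distance 16 -/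
def A2 : Set ↥leechLattice :=
  {x | sqNorm x.1 = 32 ∧ sqNorm (u48 - x).1 = 32 ∧ dotInt v32.1 x.1 = 16}

/-- the points at distance 8 -/
def A3 : Set ↥leechLattice :=
  {x | sqNorm x.1 = 32 ∧ sqNorm (u48 - x).1 = 32 ∧ dotInt v32.1 x.1 = 8}

theorem mem_A2 (x : ↥leechLattice) : x ∈ A2 ↔ x ∈ Om ∧ dotInt v32.1 x.1 = 16 :=
  ⟨fun h => ⟨⟨h.1, h.2.1⟩, h.2.2⟩, fun h => ⟨h.1.1, h.1.2, h.2⟩⟩

theorem mem_A3 (x : ↥leechLattice) : x ∈ A3 ↔ x ∈ Om ∧ dotInt v32.1 x.1 = 8 :=
  ⟨fun h => ⟨⟨h.1, h.2.1⟩, h.2.2⟩, fun h => ⟨h.1.1, h.1.2, h.2⟩⟩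

theorem A2_ncard : A2.ncard = 275 :=
  (Cfsg.Agent.S1580.result u48 v32 frame_chk.1 ⟨v32_mem_Om.1, v32_mem_Om.2⟩).1

theorem A2_trans (x : ↥leechLattice) (hx : x ∈ A2) (x' : ↥leechLattice) (hx' : x' ∈ A2) :
    ∃ g : ↥Co0, g.1 u48 = u48 ∧ g.1 v32 = v32 ∧ g.1 x = x' :=
  (Cfsg.Agent.S1580.result u48 v32 frame_chk.1 ⟨v32_mem_Om.1, v32_mem_Om.2⟩).2 x hx x' hx'

theorem dot_v32_u48 : dotInt v32.1 u48.1 = 24 := by
  rw [dot_symm]
  exact frame_chk.2.2.2.1

theorem mate_A2 (x : ↥leechLattice) (hx : x ∈ A2) : u48 - x ∈ A3 := by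
  rw [mem_A2] at hx
  rw [mem_A3]
  refine ⟨mate_mem x hx.1, ?_⟩
  show dotInt v32.1 (u48.1 - x.1) = 8
  rw [dot_sub_right, dot_v32_u48, hx.2]
  norm_num

theorem mate_A3 (x : ↥leechLattice) (hx : x ∈ A3) : u48 - x ∈ A2 := by
  rw [mem_A3] at hx
  rw [mem_A2]
  refine ⟨mate_mem x hx.1, ?_⟩
  show dotInt v32.1 (u48.1 - x.1) = 16
  rw [dot_sub_right, dot_v32_u48, hx.2]
  norm_num

theorem A3_ncard : A3.ncard = 275 := by
  rw [← A2_ncard]
  symm
  apply Set.ncard_congr (fun x _ => u48 - x)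
  · intro x hx
    exact mate_A2 x hx
  · intro a b _ _ h
    exact sub_right_injective h
  · intro y hy
    refine ⟨u48 - y, mate_A3 y hy, ?_⟩
    show u48 - (u48 - y) = y
    abel

theorem A3_trans (y : ↥leechLattice) (hy : y ∈ A3) (y' : ↥leechLattice) (hy' : y' ∈ A3) :
    ∃ g : ↥Co0, g.1 u48 = u48 ∧ g.1 v32 = v32 ∧ g.1 y = y' := by
  obtain ⟨g, hu, hv, hx⟩ := A2_trans _ (mate_A3 y hy) _ (mate_A3 y' hy')
  refine ⟨g, hu, hv, ?_⟩
  rw [map_sub', hu] at hx
  exact sub_right_injective hx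

theorem Om_eq : Om = {v32} ∪ {w0} ∪ A2 ∪ A3 := by
  have f2 : A2.Finite := Set.finite_of_ncard_ne_zero (by rw [A2_ncard]; norm_num)
  have f3 : A3.Finite := Set.finite_of_ncard_ne_zero (by rw [A3_ncard]; norm_num)
  have hU : ({v32} : Set ↥leechLattice) ∪ {w0} ∪ A2 ∪ A3 ⊆ Om := by
    rintro z (((hz | hz) | hz) | hz)
    · rw [Set.mem_singleton_iff.1 hz]
      exact v32_mem_Om
    · rw [Set.mem_singleton_iff.1 hz]
      exact w0_mem_Om
    · exact ((mem_A2 z).1 hz).1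
    · exact ((mem_A3 z).1 hz).1
  have d1 : Disjoint ({v32} : Set ↥leechLattice) {w0} := by
    rw [Set.disjoint_singleton]
    intro h
    have := dot_v32_w0
    rw [← h, dot_self, norm_v32] at this
    omega
  have d2 : Disjoint (({v32} : Set ↥leechLattice) ∪ {w0}) A2 := by
    rw [Set.disjoint_union_left, Set.disjoint_singleton_left, Set.disjoint_singleton_left]
    refine ⟨fun h => ?_, fun h => ?_⟩
    · have := ((mem_A2 _).1 h).2
      rw [dot_self, norm_v32] at this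
      omega
    · have := ((mem_A2 _).1 h).2
      rw [dot_v32_w0] at this
      omega
  have d3 : Disjoint (({v32} : Set ↥leechLattice) ∪ {w0} ∪ A2) A3 := by
    rw [Set.disjoint_union_left, Set.disjoint_union_left, Set.disjoint_singleton_left,
      Set.disjoint_singleton_left]
    refine ⟨⟨fun h => ?_, fun h => ?_⟩, Set.disjoint_left.2 fun z h1 h2 => ?_⟩
    · have := ((mem_A3 _).1 h).2
      rw [dot_self, norm_v32] at this
      omega
    · have := ((mem_A3 _).1 h).2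
      rw [dot_v32_w0] at this
      omega
    · have e1 := ((mem_A2 _).1 h1).2
      have e2 := ((mem_A3 _).1 h2).2
      omega
  have hcard : (({v32} : Set ↥leechLattice) ∪ {w0} ∪ A2 ∪ A3).ncard = 552 := by
    rw [Set.ncard_union_eq d3 (((Set.finite_singleton _).union (Set.finite_singleton _)).union f2)
      f3, Set.ncard_union_eq d2 ((Set.finite_singleton _).union (Set.finite_singleton _)) f2,
      Set.ncard_union_eq d1 (Set.finite_singleton _) (Set.finite_singleton _),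
      Set.ncard_singleton, Set.ncard_singleton, A2_ncard, A3_ncard]
  symm
  apply Set.eq_of_subset_of_ncard_le hU _ Om_finite
  rw [hcard, Om_ncard]

/-! ### faithfulness and the centre -/

theorem hL_mem_Om (j : ZMod 23) (hj : j ≠ 0) : hL (some j) ∈ Om :=
  (mem_Om _).2 ⟨(hL_mem j hj).1.1, (hL_mem j hj).1.2.1⟩

theorem faithful3 (g : ↥G3) (h : ∀ y ∈ orbit ↥G3 v32, g • y = y) : g = 1 := by
  rw [orbit_G3] at h
  have hu : g.1.1 u48 = u48 := g.2
  have hfix : ∀ y ∈ Om, g.1.1 y = y := h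
  have hall : ∀ y : ↥leechLattice, g.1.1 y = y := by
    intro y
    have hz : ∀ z : ↥leechLattice, g.1.1 z = z → dotInt z.1 ((g.1.1 y).1 - y.1) = 0 := by
      intro z hz
      have := dot_map g.1 z y
      rw [hz] at this
      rw [dot_sub_right, this]
      ring
    have hd : (g.1.1 y).1 - y.1 = 0 := by
      apply lin_zero
      · intro j hj
        exact hz (hL (some j)) (hfix _ (hL_mem_Om j hj))
      · exact hz v32 (hfix _ v32_mem_Om)
      · exact hz u48 hu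
    apply Subtype.ext
    exact sub_eq_zero.1 hd
  apply Subtype.ext
  apply Subtype.ext
  apply Equiv.ext
  exact hall

theorem dot_ev (x : GolayPt → ℤ) (i : GolayPt) : dotInt x (ev i).1 = 8 * x i := by
  unfold dotInt
  rw [ev_val, Finset.sum_eq_single i]
  · rw [Pi.single_eq_same]
    ring
  · intro k _ hk
    rw [Pi.single_eq_of_ne hk, mul_zero]
  · intro h
    exact absurd (Finset.mem_univ _) h

theorem no_center3 (z : ↥G3) (hz : ∀ g : ↥G3, g * z = z * g) (hzv : z • v32 = w0) : False := by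
  have hzu : z.1.1 u48 = u48 := z.2
  have hzv' : z.1.1 v32 = w0 := hzv
  -- `z` maps every point to its mate
  have hmate : ∀ y ∈ Om, z.1.1 y = u48 - y := by
    intro y hy
    rw [← orbit_G3] at hy
    obtain ⟨g, rfl⟩ := hy
    have hg : g.1.1 u48 = u48 := g.2
    have e1 : z.1.1 (g.1.1 v32) = (z * g).1.1 v32 := rfl
    have e2 : (g * z).1.1 v32 = g.1.1 (z.1.1 v32) := rfl
    show z.1.1 (g.1.1 v32) = u48 - g.1.1 v32
    rw [e1, ← hz g, e2, hzv', w0_eq, map_sub', hg]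
  set e : ↥leechLattice := ev (some 0) with he
  set E : ↥leechLattice := z.1.1 e with hE
  have c0 : dotInt u48.1 e.1 = 8 := by
    rw [he, dot_ev]
    show 8 * u48v (some 0) = 8
    unfold u48v
    simp
  have k1 : ∀ y ∈ Om, dotInt y.1 E.1 + dotInt y.1 e.1 = 8 := by
    intro y hy
    have ha := mate_mem y hy
    have hza : z.1.1 (u48 - y) = y := by
      rw [hmate _ ha]
      abel
    have h1 := dot_map z.1 (u48 - y) e
    rw [hza] at h1
    have h2 : dotInt (u48 - y).1 e.1 = dotInt u48.1 e.1 - dotInt y.1 e.1 :=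
      dot_sub_left u48.1 y.1 e.1
    rw [h2, c0] at h1
    have h3 : dotInt y.1 E.1 = 8 - dotInt y.1 e.1 := h1
    omega
  have k2 : dotInt u48.1 E.1 = 8 := by
    have h1 := dot_map z.1 u48 e
    rw [hzu, c0] at h1
    exact h1
  set f : GolayPt → ℤ := (E.1 + e.1) + (E.1 + e.1) + (E.1 + e.1) - u48.1 with hf
  have kf : ∀ y ∈ Om, dotInt y.1 f = 0 := by
    intro y hy
    have h1 := k1 y hy
    have h2 := ((mem_Om y).1 hy).2
    rw [dot_symm] at h2
    rw [hf, dot_sub_right, dot_add_right, dot_add_right, dot_add_right, h2]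
    omega
  have kfu : dotInt u48.1 f = 0 := by
    rw [hf, dot_sub_right, dot_add_right, dot_add_right, dot_add_right, dot_self, frame_chk.1, k2,
      c0]
    norm_num
  have hf0 : f = 0 := by
    apply lin_zero
    · intro j hj
      exact kf _ (hL_mem_Om j hj)
    · exact kf _ v32_mem_Om
    · exact kfu
  have h0 := congrFun hf0 (some 0)
  have h1 : f (some 0) = (E.1 (some 0) + e.1 (some 0)) + (E.1 (some 0) + e.1 (some 0))
      + (E.1 (some 0) + e.1 (some 0)) - u48v (some 0) := rfl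
  rw [h1] at h0
  have h2 : u48v (some 0) = 1 := by
    unfold u48v
    simp
  rw [h2] at h0
  have h3 : (0 : GolayPt → ℤ) (some 0) = 0 := rfl
  rw [h3] at h0
  omega

/-! ### the criterion -/

theorem hyp3 : Cfsg.Agent.Lib.Lead.R5S.Hyp552 (G := ↥G3) v32 w0 A2 A3
    (fun a b => dotInt a.1 b.1) := by
  classical
  have tr : ∀ (S : Set ↥leechLattice), (∀ y ∈ S, ∀ y' ∈ S,
      ∃ g : ↥Co0, g.1 u48 = u48 ∧ g.1 v32 = v32 ∧ g.1 y = y') →
      ∀ y ∈ S, ∀ y' ∈ S, ∃ g ∈ stabilizer ↥G3 v32, g • y = y' := by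
    intro S hS y hy y' hy'
    obtain ⟨g, hu, hv, hyy⟩ := hS y hy y' hy'
    exact ⟨⟨g, hu⟩, hv, hyy⟩
  have hne12 : (some 1 : GolayPt) ≠ some 2 := by decide
  refine ⟨?_, ?_, ?_, ?_, ?_, ?_, ?_, index_H3, A2_ncard, A3_ncard, ?_, tr A2 A2_trans,
    tr A3 A3_trans, H3_simple, faithful3, ?_, ?_, ?_, ?_, ?_, ?_, ?_⟩
  · rw [orbit_G3]
    exact Om_eq
  · intro h
    have := dot_v32_w0
    rw [← h, dot_self, norm_v32] at this
    omega
  · intro h
    have := ((mem_A2 _).1 h).2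
    rw [dot_self, norm_v32] at this
    omega
  · intro h
    have := ((mem_A3 _).1 h).2
    rw [dot_self, norm_v32] at this
    omega
  · intro h
    have := ((mem_A2 _).1 h).2
    rw [dot_v32_w0] at this
    omega
  · intro h
    have := ((mem_A3 _).1 h).2
    rw [dot_v32_w0] at this
    omega
  · rw [Set.disjoint_left]
    intro z h1 h2
    have e1 := ((mem_A2 _).1 h1).2
    have e2 := ((mem_A3 _).1 h2).2
    omega
  · intro g hg
    have hu : g.1.1 u48 = u48 := g.2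
    have hv : g.1.1 v32 = v32 := hg
    exact fix_w0 g.1 hu hv
  · intro g a b
    exact dot_map g.1 a b
  · intro a b
    exact dot_symm a.1 b.1
  · intro y hy
    rw [orbit_G3] at hy
    rw [mem_A2]
    exact ⟨fun h => h.2, fun h => ⟨hy, h⟩⟩
  · intro y hy
    rw [orbit_G3] at hy
    rw [mem_A3]
    exact ⟨fun h => h.2, fun h => ⟨hy, h⟩⟩
  · -- two points of `A2` at distance 8
    obtain ⟨k, hk⟩ : K77.Nonempty := Finset.card_pos.1 (by rw [card_K77]; norm_num)
    obtain ⟨hoct, m0, m1, -⟩ := K77_octad k hk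
    have h8 := octads_card_eq hoct
    obtain ⟨a, -, ha⟩ := Finset.exists_mem_notMem_of_card_lt_card
      (s := support₂ (Cw k)) (t := Finset.univ) (by
        rw [h8, Finset.card_univ, card_pts]
        norm_num)
    have ha0 : a ≠ none := fun h => ha (h ▸ m0)
    have ha1 : a ≠ some 0 := fun h => ha (h ▸ m1)
    have hak : ¬ Cw k a ≠ 0 := fun h => ha ((mem_supp k a).2 h)
    obtain ⟨j, rfl⟩ : ∃ j : ZMod 23, a = some j := by
      rcases a with _ | j
      · exact absurd rfl ha0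
      · exact ⟨j, rfl⟩
    have hj : j ≠ 0 := fun h => ha1 (by rw [h])
    have hy : u48 - hL (some j) ∈ A2 := by
      apply mate_A3
      rw [mem_A3]
      exact ⟨hL_mem_Om j hj, (hL_mem j hj).2⟩
    have hzm : oL k ∈ A2 := by
      rw [mem_A2]
      exact ⟨(mem_Om _).2 ⟨(oL_mem k hk).1.1, (oL_mem k hk).1.2.1⟩, (oL_mem k hk).2⟩
    have hdot : dotInt (u48 - hL (some j)).1 (oL k).1 = 8 := by
      show dotInt (u48.1 - (hL (some j)).1) (oL k).1 = 8
      rw [dot_sub_left, dot_hL_oL (some j) k hk, if_neg hak, (oL_mem k hk).1.2.1]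
      norm_num
    refine ⟨_, hy, _, hzm, ?_, ?_⟩
    · intro h
      rw [h, dot_self, (oL_mem k hk).1.1] at hdot
      omega
    · show dotInt (u48 - hL (some j)).1 (oL k).1 ≠ 16
      rw [hdot]
      norm_num
  · -- two points of `A3` at distance 16
    have m1 : hL (some 1) ∈ A3 := by
      rw [mem_A3]
      exact ⟨hL_mem_Om 1 (by decide), (hL_mem 1 (by decide)).2⟩
    have m2 : hL (some 2) ∈ A3 := by
      rw [mem_A3]
      exact ⟨hL_mem_Om 2 (by decide), (hL_mem 2 (by decide)).2⟩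
    refine ⟨_, m1, _, m2, ?_, ?_⟩
    · intro h
      exact (by decide : (1 : ZMod 23) ≠ 2) (hL_inj 1 2 h)
    · exact hV_hV_chk (some 1) (some 2)
  · intro z hz hzv
    exact no_center3 z hz hzv

theorem G3_simple : IsSimpleGroup ↥G3 := by
  haveI : Finite ↥G3 := Nat.finite_of_card_ne_zero (by
    show Nat.card ↥(stabilizer ↥Co0 u48) ≠ 0
    rw [card_stab_u48]
    norm_num)
  exact Cfsg.Agent.Lib.Lead.R5S.simple5 hyp3

/-- conjugation of the standard stabiliser onto the stabiliser of any such vector -/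
def conjEquiv3 (v : ↥leechLattice) (k0 : ↥Co0) (hv : k0.1 u48 = v) :
    ↥G3 ≃* ↥(stabilizer ↥Co0 v) where
  toFun g := ⟨k0 * g.1 * k0⁻¹, by
    rw [mem_stabilizer_iff]
    exact Cfsg.Agent.S1584.conj_fix k0 g.1 u48 v hv g.2⟩
  invFun h := ⟨k0⁻¹ * h.1 * k0, by
    have hv' : h.1.1 v = v := h.2
    rw [mem_stabilizer_iff]
    show k0⁻¹.1 (h.1.1 (k0.1 u48)) = u48
    rw [hv, hv', ← hv, inv_apply_apply]⟩
  left_inv g := by
    apply Subtype.ext
    show k0⁻¹ * (k0 * g.1 * k0⁻¹) * k0 = g.1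
    group
  right_inv h := by
    apply Subtype.ext
    show k0 * (k0⁻¹ * h.1 * k0) * k0⁻¹ = h.1
    group
  map_mul' a b := by
    apply Subtype.ext
    show k0 * (a.1 * b.1) * k0⁻¹ = (k0 * a.1 * k0⁻¹) * (k0 * b.1 * k0⁻¹)
    group

theorem isCo3 (v : ↥leechLattice) (hv : sqNorm v.1 = 48) :
    IsCo3 ↥(stabilizer ↥Co0 v) := by
  obtain ⟨g, hg⟩ := trans48 v hv
  have hk : g⁻¹.1 u48 = v := by
    rw [← hg, inv_apply_apply]
  haveI := G3_simple
  refine ⟨(conjEquiv3 v g⁻¹ hk).symm.isSimpleGroup, ?_⟩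
  rw [← Nat.card_congr (conjEquiv3 v g⁻¹ hk).toEquiv]
  exact card_stab_u48

end Cfsg.Agent.Lib.Lead.C3
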