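import Cfsg.Agent.Lib.Lead.McL5

set_option autoImplicit false

/-!
# The Higman–Sims frame inside the third Conway group: four families of minimal vectors

Standard frame: `u48 = (5, 1^23)`, `xS = (-4, 4, 0^22) = -(u48 + wS)`, so that the stabiliser of
`u48` and `xS` is the group `G0` of `ConwayHSGroup`.  Four families of minimal vectors `y` with
`u48 · y = -16`, on each of which the stabiliser `M22` of `v32` in `G0` is transitive, and an
abstract double counting lemma bounding the `G0`-orbits from below.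
-/

namespace Cfsg.Agent.Lib.Lead.R5

open Cfsg
open Cfsg.Agent.Lib.Lead.LX Cfsg.Agent.Lib.Lead.CW Cfsg.Agent.Lib.Lead.CO Cfsg.Agent.Lib.Lead.CP
open Cfsg.Agent.Lib.helper3 Cfsg.Agent.Lib.helper4 Cfsg.Agent.S0398 Cfsg.Agent.S1571
open Cfsg.Agent.Lib.Lead.LC Cfsg.Agent.Lib.Lead.LC3 Cfsg.Agent.Lib.Lead.HS
open Cfsg.Agent.Lib.Lead.HSG Cfsg.Agent.Lib.Lead.ML
open MulAction

/-! ### abstract double counting -/

theorem orbit_count {G α : Type*} [Group G] [MulAction G α]
    (m₀ y₀ : α) (rel : α → α → Prop)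
    (hrel : ∀ (g : G) (m y : α), rel (g • m) (g • y) ↔ rel m y)
    (hM : (orbit G m₀).Finite) (hO : (orbit G y₀).Finite)
    (F : Finset α)
    (hF : ∀ y ∈ F, rel m₀ y ∧ ∃ h : G, h • m₀ = m₀ ∧ h • y₀ = y)
    (t : ℕ) (ht : {m | m ∈ orbit G m₀ ∧ rel m y₀}.ncard ≤ t) :
    (orbit G m₀).ncard * F.card ≤ (orbit G y₀).ncard * t := by
  classical
  set A := hM.toFinset with hA
  set B := hO.toFinset with hB
  have memA : ∀ m, m ∈ A ↔ m ∈ orbit G m₀ := fun m => Set.Finite.mem_toFinset hM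
  have memB : ∀ y, y ∈ B ↔ y ∈ orbit G y₀ := fun y => Set.Finite.mem_toFinset hO
  have cA : (orbit G m₀).ncard = A.card := Set.ncard_eq_toFinset_card _ hM
  have cB : (orbit G y₀).ncard = B.card := Set.ncard_eq_toFinset_card _ hO
  have h1 : A.card * F.card ≤ ∑ m ∈ A, (B.filter (fun y => rel m y)).card := by
    rw [← smul_eq_mul, ← Finset.sum_const]
    apply Finset.sum_le_sum
    intro m hm
    obtain ⟨g, rfl⟩ := (memA m).1 hm
    apply Finset.card_le_card_of_injOn (fun y => g • y)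
    · intro y hy
      obtain ⟨hr, h, _, hy0⟩ := hF y hy
      rw [Finset.mem_coe, Finset.mem_filter, memB]
      refine ⟨⟨g * h, ?_⟩, (hrel g m₀ y).2 hr⟩
      show (g * h) • y₀ = g • y
      rw [mul_smul, hy0]
    · intro a _ b _ hab
      exact MulAction.injective g hab
  have h2 : ∑ y ∈ B, (A.filter (fun m => rel m y)).card ≤ B.card * t := by
    rw [← smul_eq_mul, ← Finset.sum_const]
    apply Finset.sum_le_sum
    intro y hy
    obtain ⟨g, rfl⟩ := (memB y).1 hy
    refine le_trans ?_ ht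
    have hfin : {m | m ∈ orbit G m₀ ∧ rel m y₀}.Finite := hM.subset (fun m hm => hm.1)
    rw [← Finset.card_image_of_injective (A.filter (fun m => rel m (g • y₀)))
      (MulAction.injective g⁻¹), ← Set.ncard_coe_finset]
    apply Set.ncard_le_ncard _ hfin
    intro m hm
    rw [Finset.mem_coe, Finset.mem_image] at hm
    obtain ⟨m', hm', rfl⟩ := hm
    rw [Finset.mem_filter, memA] at hm'
    refine ⟨?_, ?_⟩
    · obtain ⟨k, rfl⟩ := hm'.1
      exact ⟨g⁻¹ * k, mul_smul _ _ _⟩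
    · have := (hrel g⁻¹ m' (g • y₀)).2 hm'.2
      rwa [inv_smul_smul] at this
  have h3 : ∑ m ∈ A, (B.filter (fun y => rel m y)).card
      = ∑ y ∈ B, (A.filter (fun m => rel m y)).card := by
    simp only [Finset.card_filter]
    exact Finset.sum_comm
  rw [cA, cB]
  calc A.card * F.card ≤ _ := h1
    _ = _ := h3
    _ ≤ _ := h2

/-! ### the frame -/

/-- the minimal vector `(-4, 4, 0^22)` -/
def xS : ↥leechLattice := -B0

theorem xS_apply (p : GolayPt) : xS.1 p = -(B0.1 p) := rfl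

theorem neg_apply' (z : ↥leechLattice) (p : GolayPt) : (-z).1 p = -(z.1 p) := rfl

theorem neg_val' (z : ↥leechLattice) : (-z).1 = -(z.1) := rfl

set_option maxRecDepth 1000000 in
theorem B0_eq_chk : ∀ p : GolayPt, B0.1 p = u48.1 p + wS.1 p := by decide +kernel

theorem B0_eq : B0 = u48 + wS := by
  apply Subtype.ext
  funext p
  exact B0_eq_chk p

theorem map_zero' (g : ↥Co0) : g.1 0 = 0 := by
  have h := map_add' g 0 0
  rw [add_zero] at h
  have : g.1 0 + 0 = g.1 0 + g.1 0 := by rw [add_zero]; exact h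
  exact (add_left_cancel this).symm

theorem map_neg' (g : ↥Co0) (a : ↥leechLattice) : g.1 (-a) = -(g.1 a) := by
  have h := map_add' g a (-a)
  rw [add_neg_cancel, map_zero'] at h
  exact (neg_eq_of_add_eq_zero_right h.symm).symm

theorem G0_eq : stabilizer ↥Co0 u48 ⊓ stabilizer ↥Co0 xS = G0 := by
  ext g
  rw [Subgroup.mem_inf, mem_stabilizer_iff, mem_stabilizer_iff, mem_G0]
  constructor
  · rintro ⟨h1, h2⟩
    have h1' : g.1 u48 = u48 := h1
    have h2' : g.1 (-B0) = -B0 := h2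
    refine ⟨h1', ?_⟩
    rw [map_neg', neg_inj, B0_eq, map_add', h1'] at h2'
    exact add_left_cancel h2'
  · rintro ⟨h1, h2⟩
    refine ⟨h1, ?_⟩
    show g.1 (-B0) = -B0
    rw [map_neg', B0_eq, map_add', h1, h2]

theorem dot_xS (y : GolayPt → ℤ) : dotInt xS.1 y = -(4 * y none - 4 * y (some 0)) := by
  show dotInt (-(B0.1)) y = _
  rw [dot_neg_left, dot_B0]

theorem dot_u48 (y : GolayPt → ℤ) : dotInt u48.1 y = (∑ p, y p) + 4 * y none := dot_u48v y

theorem sqNorm_neg (z : GolayPt → ℤ) : sqNorm (-z) = sqNorm z := by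
  unfold sqNorm
  apply Finset.sum_congr rfl
  intro p _
  rw [Pi.neg_apply, neg_sq]

/-- the set on which the stabiliser of `u48` acts -/
def Ystd : Set ↥leechLattice := {y | sqNorm y.1 = 32 ∧ dotInt u48.1 y.1 = -16}

theorem Ystd_ncard : Ystd.ncard = 11178 :=
  (Cfsg.Agent.S1640.result u48 frame_chk.1).1

theorem Ystd_finite : Ystd.Finite := Set.finite_of_ncard_ne_zero (by rw [Ystd_ncard]; norm_num)

theorem xS_mem : xS ∈ Ystd ∧ dotInt xS.1 xS.1 = 32 := by
  have e1 : B0.1 none = 4 := by rw [B0_apply]; simp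
  have e2 : B0.1 (some 0) = -4 := by rw [B0_apply]; simp
  have hs : ∑ p, B0.1 p = 0 := by
    have := dot_u48 B0.1
    have h2 : dotInt u48.1 B0.1 = 16 := by
      rw [B0_eq]
      show dotInt u48.1 (u48.1 + wS.1) = 16
      rw [dot_add_right, dot_self, frame_chk.1, frame_chk.2.2.1]
      norm_num
    rw [h2, e1] at this
    omega
  refine ⟨⟨?_, ?_⟩, ?_⟩
  · show sqNorm (-(B0.1)) = 32
    rw [sqNorm_neg]
    exact frame2_chk.2.2.2.2.1
  · show dotInt u48.1 (-(B0.1)) = -16
    rw [dot_neg_right, dot_u48, hs, e1]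
    norm_num
  · rw [dot_xS]
    show -(4 * (-(B0.1 none)) - 4 * (-(B0.1 (some 0)))) = 32
    rw [e1, e2]
    norm_num

/-- the elements of `G0` preserve `Ystd` -/
theorem G0_smul_mem (g : ↥G0) (y : ↥leechLattice) (hy : y ∈ Ystd) : g • y ∈ Ystd := by
  have hg := (mem_G0 g.1).1 g.2
  refine ⟨?_, ?_⟩
  · show sqNorm (g.1.1 y).1 = 32
    rw [g.1.2.2]
    exact hy.1
  · show dotInt u48.1 (g.1.1 y).1 = -16
    have := dot_map g.1 u48 y
    rw [hg.1] at this
    rw [this]
    exact hy.2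

theorem orbit_sub_Ystd (y : ↥leechLattice) (hy : y ∈ Ystd) : orbit ↥G0 y ⊆ Ystd := by
  rintro z ⟨g, rfl⟩
  exact G0_smul_mem g y hy

theorem G0_fix_xS (g : ↥G0) : g • xS = xS := by
  have hg := (mem_G0 g.1).1 g.2
  show g.1.1 (-B0) = -B0
  rw [map_neg', B0_eq, map_add', hg.1, hg.2]

theorem orbit_dot_xS (y z : ↥leechLattice) (hz : z ∈ orbit ↥G0 y) :
    dotInt xS.1 z.1 = dotInt xS.1 y.1 := by
  obtain ⟨g, rfl⟩ := hz
  have := dot_map g.1 xS y
  have h2 : g.1.1 xS = xS := G0_fix_xS g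
  rw [h2] at this
  exact this

/-- coordinate permutations fixing `∞` and `0`, as elements of `G0` -/
def tauG (ρ : Equiv.Perm GolayPt) (hρ : ρ ∈ M24) (h0 : ρ none = none)
    (h1 : ρ (some 0) = some 0) : ↥G0 :=
  ⟨⟨permE ρ hρ, permE_mem ρ hρ⟩, (mem_G0 _).2 ⟨perm_fix_u48 ρ hρ h0, perm_fix_wS ρ hρ h1⟩⟩

theorem tauG_smul (ρ : Equiv.Perm GolayPt) (hρ : ρ ∈ M24) (h0 : ρ none = none)
    (h1 : ρ (some 0) = some 0) (y : ↥leechLattice) (p : GolayPt) :
    (tauG ρ hρ h0 h1 • y).1 p = y.1 (ρ p) := rfl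

theorem tauG_v32 (ρ : Equiv.Perm GolayPt) (hρ : ρ ∈ M24) (h0 : ρ none = none)
    (h1 : ρ (some 0) = some 0) : tauG ρ hρ h0 h1 • v32 = v32 := perm_fix ρ hρ h0 h1

/-- moving a negated vector by a coordinate permutation -/
theorem tauG_neg (ρ : Equiv.Perm GolayPt) (hρ : ρ ∈ M24) (h0 : ρ none = none)
    (h1 : ρ (some 0) = some 0) (z z' : ↥leechLattice) (h : ∀ p, z.1 (ρ p) = z'.1 p) :
    tauG ρ hρ h0 h1 • (-z) = -z' := by
  apply Subtype.ext
  funext p
  rw [tauG_smul, neg_apply', neg_apply', h p]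

/-! ### the four families -/

/-- the vectors `(4, -4 at j)` -/
def eL (j : ZMod 23) : ↥leechLattice :=
  ⟨e4 (some j) (-4), e4_mem_leech (some j) (by simp) (-4) (Or.inr rfl)⟩

theorem eL_apply (j : ZMod 23) (p : GolayPt) :
    (eL j).1 p = (if p = none then 4 else 0) + (if p = some j then -4 else 0) := rfl

open Classical in
/-- the fourth family in the lattice -/
noncomputable def l176 (k : ℕ) : ↥leechLattice :=
  if h : f1232 k (some 0) ∈ leechLattice then ⟨f1232 k (some 0), h⟩ else 0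

theorem f176_ok (k : ℕ) (hk : k < 4096) (hkey : keyM k = (7, false, true)) :
    f1232 k (some 0) ∈ leechLattice ∧ sqNorm (f1232 k (some 0)) = 32 ∧
      ∑ q, f1232 k (some 0) q = 12 ∧ f1232 k (some 0) none = 1 ∧
      f1232 k (some 0) (some 0) = 3 := by
  obtain ⟨c8, cn, c0⟩ := key176_chk ⟨k, hk⟩ hkey
  have hc := card_supp k c8
  have hpn : (some 0 : GolayPt) ≠ none := by simp
  have heq : ∀ q, f1232 k (some 0) q
      = (if Cw k q ≠ 0 then -1 else 1) + (if q = some 0 then 4 else 0) := by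
    intro q
    unfold f1232
    by_cases h1 : q = some 0
    · subst h1
      rw [if_pos rfl, if_pos c0, if_pos rfl]
      norm_num
    · rw [if_neg h1, if_neg h1]
      norm_num
  have hsum : ∑ q, f1232 k (some 0) q = 12 := by
    rw [Finset.sum_congr rfl (fun q _ => heq q), Finset.sum_add_distrib,
      sum_two k hc, Finset.sum_ite_eq' Finset.univ (some 0), if_pos (Finset.mem_univ _)]
    norm_num
  have vn : f1232 k (some 0) none = 1 := by
    unfold f1232
    rw [if_neg (Ne.symm hpn), if_neg (not_not.2 cn)]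
  have v0 : f1232 k (some 0) (some 0) = 3 := by
    unfold f1232
    rw [if_pos rfl]
  refine ⟨?_, ?_, hsum, vn, v0⟩
  · apply mem_of_shape (f1232 k (some 0)) k 1 3 1 (by norm_num) (by norm_num) (by norm_num)
    · intro q hq
      unfold f1232
      by_cases h1 : q = some 0
      · rw [if_pos h1]
      · rw [if_neg h1, if_pos hq]
        norm_num
    · intro q hq
      unfold f1232
      have h1 : q ≠ some 0 := fun h => hq (h ▸ c0)
      rw [if_neg h1, if_neg hq]
    · rw [hsum]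
      norm_num
  · unfold sqNorm
    have : ∀ q, f1232 k (some 0) q ^ 2 = 1 + (if q = some 0 then 8 else 0) := by
      intro q
      unfold f1232
      by_cases h1 : q = some 0
      · rw [if_pos h1, if_pos h1]
        norm_num
      · rw [if_neg h1, if_neg h1]
        by_cases hq : Cw k q ≠ 0
        · rw [if_pos hq]
          norm_num
        · rw [if_neg hq]
          norm_num
    rw [Finset.sum_congr rfl (fun q _ => this q), Finset.sum_add_distrib,
      Finset.sum_ite_eq' Finset.univ (some 0), if_pos (Finset.mem_univ _), Finset.sum_const,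
      Finset.card_univ, card_pts]
    norm_num

theorem l176_val (k : ℕ) (hk : k ∈ K176) : (l176 k).1 = f1232 k (some 0) := by
  rw [mem_K176] at hk
  unfold l176
  rw [dif_pos (f176_ok k hk.1 hk.2).1]

theorem l176_inj (k k' : ℕ) (hk : k ∈ K176) (hk' : k' ∈ K176) (h : l176 k = l176 k') :
    k = k' := by
  have h1 : f1232 k (some 0) = f1232 k' (some 0) := by
    rw [← l176_val k hk, ← l176_val k' hk', h]
  rw [mem_K176] at hk hk'
  obtain ⟨-, -, c0⟩ := key176_chk ⟨k, hk.1⟩ hk.2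
  obtain ⟨-, -, c0'⟩ := key176_chk ⟨k', hk'.1⟩ hk'.2
  apply Cw_supp_inj k k' hk.1 hk'.1
  intro q
  by_cases hq : q = some 0
  · rw [hq]
    exact ⟨fun _ => c0', fun _ => c0⟩
  have h2 := congrFun h1 q
  unfold f1232 at h2
  rw [if_neg hq, if_neg hq] at h2
  by_cases a : Cw k q ≠ 0 <;> by_cases b : Cw k' q ≠ 0
  · exact ⟨fun _ => b, fun _ => a⟩
  · rw [if_pos a, if_neg b] at h2
    omega
  · rw [if_neg a, if_pos b] at h2
    omega
  · exact ⟨fun x => absurd x a, fun x => absurd x b⟩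

theorem eL_inj (j j' : ZMod 23) (h : eL j = eL j') : j = j' := by
  have h1 : (eL j).1 (some j) = (eL j').1 (some j) := by rw [h]
  have hn : (some j : GolayPt) ≠ none := by simp
  have e1 : (eL j).1 (some j) = -4 := by
    rw [eL_apply, if_neg hn, if_pos rfl]
    norm_num
  by_contra hne
  have hne' : (some j : GolayPt) ≠ some j' := fun hh => hne (Option.some.inj hh)
  have e2 : (eL j').1 (some j) = 0 := by
    rw [eL_apply, if_neg hn, if_neg hne']
    norm_num
  rw [e1, e2] at h1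
  omega

/-! ### membership and invariants of the families -/

/-- data of a negated vector from the data of the vector -/
theorem neg_data (z : ↥leechLattice) (c k : ℤ) (hN : sqNorm z.1 = 32)
    (hs : (∑ p, z.1 p) + 4 * z.1 none = 16) (hB : 4 * z.1 none - 4 * z.1 (some 0) = c)
    (hv : 4 * z.1 none + 4 * z.1 (some 0) = -k) :
    -z ∈ Ystd ∧ dotInt xS.1 (-z).1 = c ∧ dotInt v32.1 (-z).1 = k := by
  refine ⟨⟨?_, ?_⟩, ?_, ?_⟩
  · rw [neg_val', sqNorm_neg]
    exact hN
  · rw [neg_val', dot_neg_right, dot_u48, hs]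
  · rw [dot_xS, neg_apply', neg_apply']
    omega
  · rw [neg_val', dot_neg_right, dot_v32]
    omega

theorem fam16_mem (j : ZMod 23) (hj : j ≠ 0) :
    -(eL j) ∈ Ystd ∧ dotInt xS.1 (-(eL j)).1 = 16 ∧ dotInt v32.1 (-(eL j)).1 = -16 := by
  have hj' : (some 0 : GolayPt) ≠ some j := by
    intro h
    exact hj (Option.some.inj h).symm
  have e1 : (eL j).1 none = 4 := by rw [eL_apply]; simp
  have e2 : (eL j).1 (some 0) = 0 := by
    rw [eL_apply, if_neg (by simp), if_neg hj']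
    rfl
  have hs : ∑ p, (eL j).1 p = 0 := by
    have h1 : ∀ p, (eL j).1 p = (if p = none then (4 : ℤ) else 0)
        + (if p = some j then (-4 : ℤ) else 0) := fun p => eL_apply j p
    rw [Finset.sum_congr rfl (fun p _ => h1 p), Finset.sum_add_distrib,
      Finset.sum_ite_eq' Finset.univ none, Finset.sum_ite_eq' Finset.univ (some j),
      if_pos (Finset.mem_univ _), if_pos (Finset.mem_univ _)]
    norm_num
  have hN : sqNorm (eL j).1 = 32 := by
    unfold sqNorm
    have h1 : ∀ p, (eL j).1 p ^ 2 = (if p = none then (16 : ℤ) else 0)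
        + (if p = some j then (16 : ℤ) else 0) := by
      intro p
      rw [eL_apply]
      by_cases a : p = none
      · subst a
        rw [if_pos rfl, if_neg (by simp), if_pos rfl, if_neg (by simp)]
        norm_num
      · by_cases b : p = some j
        · rw [if_neg a, if_pos b, if_neg a, if_pos b]
          norm_num
        · rw [if_neg a, if_neg b, if_neg a, if_neg b]
          norm_num
    rw [Finset.sum_congr rfl (fun p _ => h1 p), Finset.sum_add_distrib,
      Finset.sum_ite_eq' Finset.univ none, Finset.sum_ite_eq' Finset.univ (some j),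
      if_pos (Finset.mem_univ _), if_pos (Finset.mem_univ _)]
    norm_num
  apply neg_data (eL j) 16 (-16) hN
  · rw [hs, e1]; norm_num
  · rw [e1, e2]; norm_num
  · rw [e1, e2]; norm_num

theorem fam8_mem (a : ℕ × GolayPt) (ha : a ∈ P1232) :
    -(l1232 a) ∈ Ystd ∧ dotInt xS.1 (-(l1232 a)).1 = 8 ∧ dotInt v32.1 (-(l1232 a)).1 = 0 := by
  have hv := l1232_val a ha
  rw [mem_P1232, mem_K176] at ha
  obtain ⟨h1, h2, h3, h4, h5⟩ := f1232_ok a.1 ha.1.1 ha.1.2 a.2 ha.2.1 ha.2.2
  rw [dot_v32] at h3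
  rw [dot_w0v] at h4
  rw [dot_B0] at h5
  apply neg_data (l1232 a) 8 0
  · rw [hv]; exact h2
  · rw [hv]; omega
  · rw [hv]; omega
  · rw [hv]; omega

theorem fam0_mem (k : ℕ) (hk : k ∈ K330) :
    -(l330 k) ∈ Ystd ∧ dotInt xS.1 (-(l330 k)).1 = 0 ∧ dotInt v32.1 (-(l330 k)).1 = 0 := by
  have hv := oL_val330 k hk
  rw [mem_K330] at hk
  obtain ⟨h1, h2, h3, h4, h5⟩ := f330_ok k hk.1 hk.2
  rw [dot_v32] at h3
  rw [dot_w0v] at h4
  rw [dot_B0] at h5
  apply neg_data (l330 k) 0 0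
  · rw [hv]; exact h2
  · rw [hv]; omega
  · rw [hv]; omega
  · rw [hv]; omega

theorem famm8_mem (k : ℕ) (hk : k ∈ K176) :
    -(l176 k) ∈ Ystd ∧ dotInt xS.1 (-(l176 k)).1 = -8 ∧ dotInt v32.1 (-(l176 k)).1 = -16 := by
  have hv := l176_val k hk
  rw [mem_K176] at hk
  obtain ⟨h1, h2, h3, h4, h5⟩ := f176_ok k hk.1 hk.2
  apply neg_data (l176 k) (-8) (-16)
  · rw [hv]; exact h2
  · rw [hv, h3, h4]; norm_num
  · rw [hv, h4, h5]; norm_num
  · rw [hv, h4, h5]; norm_num

/-! ### local transitivity -/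

theorem fam16_trans (j j' : ZMod 23) (hj : j ≠ 0) (hj' : j' ≠ 0) :
    ∃ h : ↥G0, h • v32 = v32 ∧ h • (-(eL j)) = -(eL j') := by
  obtain ⟨π, hπ, p0, p1, p2⟩ := exists_perm_h j j' hj hj'
  refine ⟨tauG π hπ p0 p1, tauG_v32 π hπ p0 p1, tauG_neg π hπ p0 p1 _ _ ?_⟩
  intro p
  rw [eL_apply, eL_apply]
  have e0 : π p = none ↔ p = none :=
    ⟨fun h => π.injective (h.trans p0.symm), fun h => by rw [h]; exact p0⟩
  have e1 : π p = some j ↔ p = some j' :=
    ⟨fun h => π.injective (h.trans p2.symm), fun h => by rw [h]; exact p2⟩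
  rw [if_congr e0 rfl rfl, if_congr e1 rfl rfl]

theorem fam8_trans (a a' : ℕ × GolayPt) (ha : a ∈ P1232) (ha' : a' ∈ P1232) :
    ∃ h : ↥G0, h • v32 = v32 ∧ h • (-(l1232 a)) = -(l1232 a') := by
  have hv := l1232_val a ha
  have hv' := l1232_val a' ha'
  rw [mem_P1232, mem_K176] at ha ha'
  obtain ⟨hk, hp1, hp⟩ := ha
  obtain ⟨hk', hp1', hp'⟩ := ha'
  obtain ⟨π, hπ, h0, h1, hq, hpp⟩ :=
    trans1232 a.1 a'.1 hk.1 hk'.1 hk.2 hk'.2 a.2 a'.2 hp1 hp hp1' hp'
  refine ⟨tauG π hπ h0 h1, tauG_v32 π hπ h0 h1, tauG_neg π hπ h0 h1 _ _ ?_⟩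
  intro q
  rw [hv, hv']
  have e1 : π q = a.2 ↔ q = a'.2 :=
    ⟨fun h => π.injective (h.trans hpp.symm), fun h => by rw [h]; exact hpp⟩
  unfold f1232
  exact if_congr e1 rfl (if_congr (hq q) rfl rfl)

theorem fam0_trans (k k' : ℕ) (hk : k ∈ K330) (hk' : k' ∈ K330) :
    ∃ h : ↥G0, h • v32 = v32 ∧ h • (-(l330 k)) = -(l330 k') := by
  have hv := oL_val330 k hk
  have hv' := oL_val330 k' hk'
  rw [mem_K330] at hk hk'
  obtain ⟨π, hπ, h0, h1, hq⟩ := trans330 k k' hk.1 hk'.1 hk.2 hk'.2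
  refine ⟨tauG π hπ h0 h1, tauG_v32 π hπ h0 h1, tauG_neg π hπ h0 h1 _ _ ?_⟩
  intro p
  rw [hv, hv']
  unfold oK
  exact if_congr (hq p) rfl rfl

theorem exists_pt (k : ℕ) (hk : k ∈ K176) : ∃ p : GolayPt, p ≠ some 0 ∧ Cw k p ≠ 0 := by
  classical
  have hc : (P1232.filter (fun a => a.1 = k)).Nonempty := by
    by_contra hne
    rw [Finset.not_nonempty_iff_eq_empty] at hne
    have h1 := card_P1232
    rw [Finset.card_eq_sum_card_fiberwise (f := Prod.fst) (t := K176)
      (fun a ha => ((mem_P1232 a).1 ha).1)] at h1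
    have h2 : ∀ k' ∈ K176, (P1232.filter (fun a => a.1 = k')).card ≤ 7 := by
      intro k' hk'
      have hsub : P1232.filter (fun a => a.1 = k')
          ⊆ ((Finset.univ.filter (fun p : GolayPt => p ≠ some 0 ∧ Cw k' p ≠ 0)).image
            (fun p => (k', p))) := by
        intro a ha
        rw [Finset.mem_filter, mem_P1232] at ha
        rw [Finset.mem_image]
        refine ⟨a.2, ?_, ?_⟩
        · rw [Finset.mem_filter]
          refine ⟨Finset.mem_univ _, ha.1.2.1, ?_⟩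
          rw [← ha.2]
          exact ha.1.2.2
        · rw [← ha.2]
      refine le_trans (Finset.card_le_card hsub) (le_trans Finset.card_image_le ?_)
      rw [mem_K176] at hk'
      obtain ⟨c8, cn, c0⟩ := key176_chk ⟨k', hk'.1⟩ hk'.2
      have hc := card_supp k' c8
      have hsub2 : Finset.univ.filter (fun p : GolayPt => p ≠ some 0 ∧ Cw k' p ≠ 0)
          ⊆ (support₂ (Cw k')).erase (some 0) := by
        intro p hp
        rw [Finset.mem_filter] at hp
        rw [Finset.mem_erase]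
        exact ⟨hp.2.1, (mem_supp k' p).2 hp.2.2⟩
      refine le_trans (Finset.card_le_card hsub2) ?_
      rw [Finset.card_erase_of_mem ((mem_supp k' _).2 c0), hc]
    have h3 : ∑ k' ∈ K176, (P1232.filter (fun a => a.1 = k')).card
        ≤ ∑ k' ∈ K176.erase k, 7 := by
      rw [← Finset.add_sum_erase K176 _ hk, hne, Finset.card_empty, zero_add]
      apply Finset.sum_le_sum
      intro k' hk'
      exact h2 k' (Finset.mem_of_mem_erase hk')
    rw [Finset.sum_const, Finset.card_erase_of_mem hk, card_K176, smul_eq_mul] at h3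
    omega
  obtain ⟨a, ha⟩ := hc
  rw [Finset.mem_filter, mem_P1232] at ha
  refine ⟨a.2, ha.1.2.1, ?_⟩
  rw [← ha.2]
  exact ha.1.2.2

theorem famm8_trans (k k' : ℕ) (hk : k ∈ K176) (hk' : k' ∈ K176) :
    ∃ h : ↥G0, h • v32 = v32 ∧ h • (-(l176 k)) = -(l176 k') := by
  have hv := l176_val k hk
  have hv' := l176_val k' hk'
  obtain ⟨p, hp1, hp⟩ := exists_pt k hk
  obtain ⟨p', hp1', hp'⟩ := exists_pt k' hk'
  rw [mem_K176] at hk hk'
  obtain ⟨π, hπ, h0, h1, hq, -⟩ :=
    trans1232 k k' hk.1 hk'.1 hk.2 hk'.2 p p' hp1 hp hp1' hp'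
  refine ⟨tauG π hπ h0 h1, tauG_v32 π hπ h0 h1, tauG_neg π hπ h0 h1 _ _ ?_⟩
  intro q
  rw [hv, hv']
  have e1 : π q = some 0 ↔ q = some 0 :=
    ⟨fun h => π.injective (h.trans h1.symm), fun h => by rw [h]; exact h1⟩
  unfold f1232
  exact if_congr e1 rfl (if_congr (hq q) rfl rfl)

end Cfsg.Agent.Lib.Lead.R5
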