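import Cfsg.Agent.Lib.Lead.Co3R5a

set_option autoImplicit false

/-!
# The orbits of the Higman–Sims group on the 11178 points of the third Conway group
-/

namespace Cfsg.Agent.Lib.Lead.R5

open Cfsg
open Cfsg.Agent.Lib.Lead.LX Cfsg.Agent.Lib.Lead.CW Cfsg.Agent.Lib.Lead.CO Cfsg.Agent.Lib.Lead.CP
open Cfsg.Agent.Lib.helper3 Cfsg.Agent.Lib.helper4 Cfsg.Agent.S0398 Cfsg.Agent.S1571
open Cfsg.Agent.Lib.Lead.LC Cfsg.Agent.Lib.Lead.LC3 Cfsg.Agent.Lib.Lead.HS
open Cfsg.Agent.Lib.Lead.HSG Cfsg.Agent.Lib.Lead.ML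
open MulAction

/-- number of the 100 vectors with a prescribed dot product with `z`, counted on the explicit list -/
def Tc (z : GolayPt → ℤ) (k : ℤ) : ℕ :=
  (if dotInt v32.1 z = k then 1 else 0)
    + ((Finset.univ.erase (0 : ZMod 23)).filter (fun j => dotInt (hV (some j)) z = k)).card
    + (K77.filter (fun q => dotInt (oK q) z = k)).card

theorem XS_count_le (z : GolayPt → ℤ) (k : ℤ) :
    {m : ↥leechLattice | m ∈ XS ∧ dotInt m.1 z = k}.ncard ≤ Tc z k := by
  classical
  obtain ⟨cls1, cls2, -, -⟩ := std_class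
  set A1 : Finset ↥leechLattice := if dotInt v32.1 z = k then {v32} else ∅ with hA1
  set A2 : Finset ↥leechLattice :=
    ((Finset.univ.erase (0 : ZMod 23)).filter (fun j => dotInt (hV (some j)) z = k)).image
      (fun j => hL (some j)) with hA2
  set A3 : Finset ↥leechLattice := (K77.filter (fun q => dotInt (oK q) z = k)).image oL with hA3
  have hsub : {m : ↥leechLattice | m ∈ XS ∧ dotInt m.1 z = k}
      ⊆ ((A1 ∪ A2 ∪ A3 : Finset ↥leechLattice) : Set ↥leechLattice) := by
    rintro m ⟨hm, hd⟩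
    rw [Finset.mem_coe, Finset.mem_union, Finset.mem_union]
    by_cases h0 : m = v32
    · left; left
      subst h0
      rw [hA1, if_pos hd]
      exact Finset.mem_singleton_self _
    · by_cases h8 : dotInt v32.1 m.1 = 8
      · obtain ⟨j, hj, rfl⟩ := cls1 m hm h8
        left; right
        rw [hA2, Finset.mem_image]
        exact ⟨j, Finset.mem_filter.2 ⟨Finset.mem_erase.2 ⟨hj, Finset.mem_univ _⟩, hd⟩, rfl⟩
      · obtain ⟨q, hq, rfl⟩ := cls2 m hm h0 h8
        right
        rw [hA3, Finset.mem_image]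
        refine ⟨q, Finset.mem_filter.2 ⟨hq, ?_⟩, rfl⟩
        rw [← oL_val q hq]
        exact hd
  have c1 : A1.card ≤ (if dotInt v32.1 z = k then 1 else 0) := by
    rw [hA1]
    split_ifs <;> simp
  calc {m : ↥leechLattice | m ∈ XS ∧ dotInt m.1 z = k}.ncard
      ≤ ((A1 ∪ A2 ∪ A3 : Finset ↥leechLattice) : Set ↥leechLattice).ncard :=
        Set.ncard_le_ncard hsub (Finset.finite_toSet _)
    _ = (A1 ∪ A2 ∪ A3).card := Set.ncard_coe_finset _
    _ ≤ A1.card + A2.card + A3.card :=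
        le_trans (Finset.card_union_le _ _) (Nat.add_le_add_right (Finset.card_union_le _ _) _)
    _ ≤ Tc z k := by
        unfold Tc
        exact Nat.add_le_add (Nat.add_le_add c1 Finset.card_image_le) Finset.card_image_le

set_option maxRecDepth 1000000 in
set_option maxHeartbeats 0 in
theorem Tc_16 : Tc (e4 (some 1) (-4)) 16 = 2 := by decide +kernel

set_option maxRecDepth 1000000 in
set_option maxHeartbeats 0 in
theorem Tc_8 : Tc (f1232 5 (some 2)) 0 = 22 := by decide +kernel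

set_option maxRecDepth 1000000 in
set_option maxHeartbeats 0 in
theorem Tc_0 : Tc (oK 2) 0 = 8 := by decide +kernel

set_option maxRecDepth 1000000 in
set_option maxHeartbeats 0 in
theorem Tc_m8 : Tc (f1232 5 (some 0)) 16 = 50 := by decide +kernel

set_option maxRecDepth 1000000 in
theorem idx_chk : keyM 5 = (7, false, true) ∧ keyM 2 = (8, false, false) ∧
    Cw 5 (some 2) ≠ 0 := by decide +kernel

theorem mem5 : 5 ∈ K176 := (mem_K176 5).2 ⟨by norm_num, idx_chk.1⟩

theorem mem2 : 2 ∈ K330 := (mem_K330 2).2 ⟨by norm_num, idx_chk.2.1⟩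

theorem mem52 : ((5, some 2) : ℕ × GolayPt) ∈ P1232 :=
  (mem_P1232 _).2 ⟨mem5, by decide, idx_chk.2.2⟩

theorem orbit_v32_ncard : (orbit ↥G0 v32).ncard = 100 := by
  rw [orbit_v32, XS_ncard]

theorem orbit_v32_finite : (orbit ↥G0 v32).Finite :=
  Set.finite_of_ncard_ne_zero (by rw [orbit_v32_ncard]; norm_num)

/-- lower bound for an orbit of `G0` from a family on which the stabiliser of `v32` is transitive -/
theorem lower (y₀ : ↥leechLattice) (z₀ : GolayPt → ℤ) (hz : y₀.1 = -z₀) (hy : y₀ ∈ Ystd)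
    (k : ℤ) (t : ℕ) (hT : Tc z₀ (-k) = t) (F : Finset ↥leechLattice)
    (hF : ∀ y ∈ F, dotInt v32.1 y.1 = k ∧ ∃ h : ↥G0, h • v32 = v32 ∧ h • y₀ = y) :
    100 * F.card ≤ (orbit ↥G0 y₀).ncard * t := by
  have hO : (orbit ↥G0 y₀).Finite := Ystd_finite.subset (orbit_sub_Ystd y₀ hy)
  have := orbit_count (G := ↥G0) v32 y₀ (fun m y => dotInt m.1 y.1 = k) ?_ orbit_v32_finite hO F hF
    t ?_
  · rw [orbit_v32_ncard] at this
    exact this
  · intro g m y
    show dotInt (g.1.1 m).1 (g.1.1 y).1 = k ↔ _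
    rw [dot_map]
  · have hset : {m : ↥leechLattice | m ∈ orbit ↥G0 v32 ∧ dotInt m.1 y₀.1 = k}
        = {m : ↥leechLattice | m ∈ XS ∧ dotInt m.1 z₀ = -k} := by
      ext m
      simp only [Set.mem_setOf_eq]
      rw [orbit_v32, hz, dot_neg_right]
      constructor
      · rintro ⟨a, b⟩
        exact ⟨a, by omega⟩
      · rintro ⟨a, b⟩
        exact ⟨a, by omega⟩
    show {m : ↥leechLattice | m ∈ orbit ↥G0 v32 ∧ dotInt m.1 y₀.1 = k}.ncard ≤ t
    rw [hset, ← hT]
    exact XS_count_le z₀ (-k)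

/-- the orbits of the stabiliser of the standard pair -/
theorem orbits_std5 : ∃ y1 ∈ Ystd, ∃ y2 ∈ Ystd, ∃ y3 ∈ Ystd, ∃ y4 ∈ Ystd,
    (orbit ↥G0 y1).ncard = 352 ∧ (orbit ↥G0 y2).ncard = 1100 ∧ (orbit ↥G0 y3).ncard = 4125 ∧
    (orbit ↥G0 y4).ncard = 5600 ∧
    Ystd = {xS} ∪ orbit ↥G0 y1 ∪ orbit ↥G0 y2 ∪ orbit ↥G0 y3 ∪ orbit ↥G0 y4 := by
  classical
  have one_ne : (1 : ZMod 23) ≠ 0 := by decide
  obtain ⟨m1, d1, r1⟩ := famm8_mem 5 mem5
  obtain ⟨m2, d2, r2⟩ := fam16_mem 1 one_ne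
  obtain ⟨m3, d3, r3⟩ := fam0_mem 2 mem2
  obtain ⟨m4, d4, r4⟩ := fam8_mem (5, some 2) mem52
  set O1 := orbit ↥G0 (-(l176 5)) with hO1
  set O2 := orbit ↥G0 (-(eL 1)) with hO2
  set O3 := orbit ↥G0 (-(l330 2)) with hO3
  set O4 := orbit ↥G0 (-(l1232 (5, some 2))) with hO4
  have s1 : O1 ⊆ Ystd := orbit_sub_Ystd _ m1
  have s2 : O2 ⊆ Ystd := orbit_sub_Ystd _ m2
  have s3 : O3 ⊆ Ystd := orbit_sub_Ystd _ m3
  have s4 : O4 ⊆ Ystd := orbit_sub_Ystd _ m4
  have f1 : O1.Finite := Ystd_finite.subset s1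
  have f2 : O2.Finite := Ystd_finite.subset s2
  have f3 : O3.Finite := Ystd_finite.subset s3
  have f4 : O4.Finite := Ystd_finite.subset s4
  -- lower bounds
  have l1 : 352 ≤ O1.ncard := by
    have h := lower (-(l176 5)) (f1232 5 (some 0)) (by rw [neg_val', l176_val 5 mem5]) m1 (-16) 50
      (by rw [neg_neg]; exact Tc_m8) (K176.image (fun k => -(l176 k))) ?_
    · rw [Finset.card_image_of_injOn, card_K176, ← hO1] at h
      · omega
      · intro a ha b hb hab
        exact l176_inj a b ha hb (neg_injective hab)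
    · intro y hy
      rw [Finset.mem_image] at hy
      obtain ⟨k, hk, rfl⟩ := hy
      exact ⟨(famm8_mem k hk).2.2, famm8_trans 5 k mem5 hk⟩
  have l2 : 1100 ≤ O2.ncard := by
    have h := lower (-(eL 1)) (e4 (some 1) (-4)) rfl m2 (-16) 2
      (by rw [neg_neg]; exact Tc_16)
      (((Finset.univ : Finset (ZMod 23)).erase 0).image (fun j => -(eL j))) ?_
    · rw [Finset.card_image_of_injOn, Finset.card_erase_of_mem (Finset.mem_univ _),
        Finset.card_univ, ZMod.card, ← hO2] at h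
      · omega
      · intro a _ b _ hab
        exact eL_inj a b (neg_injective hab)
    · intro y hy
      rw [Finset.mem_image] at hy
      obtain ⟨j, hj, rfl⟩ := hy
      have hj0 : j ≠ 0 := (Finset.mem_erase.1 hj).1
      exact ⟨(fam16_mem j hj0).2.2, fam16_trans 1 j one_ne hj0⟩
  have l3 : 4125 ≤ O3.ncard := by
    have h := lower (-(l330 2)) (oK 2) (by rw [neg_val', oL_val330 2 mem2]) m3 0 8
      (by rw [neg_zero]; exact Tc_0) (K330.image (fun k => -(l330 k))) ?_
    · rw [Finset.card_image_of_injOn, card_K330, ← hO3] at h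
      · omega
      · intro a ha b hb hab
        exact oL_inj330 a b ha hb (neg_injective hab)
    · intro y hy
      rw [Finset.mem_image] at hy
      obtain ⟨k, hk, rfl⟩ := hy
      exact ⟨(fam0_mem k hk).2.2, fam0_trans 2 k mem2 hk⟩
  have l4 : 5600 ≤ O4.ncard := by
    have h := lower (-(l1232 (5, some 2))) (f1232 5 (some 2))
      (by rw [neg_val', l1232_val _ mem52]) m4 0 22
      (by rw [neg_zero]; exact Tc_8) (P1232.image (fun a => -(l1232 a))) ?_
    · rw [Finset.card_image_of_injOn, card_P1232, ← hO4] at h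
      · omega
      · intro a ha b hb hab
        exact l1232_inj a b ha hb (neg_injective hab)
    · intro y hy
      rw [Finset.mem_image] at hy
      obtain ⟨a, ha, rfl⟩ := hy
      exact ⟨(fam8_mem a ha).2.2, fam8_trans (5, some 2) a mem52 ha⟩
  -- the invariant separating the orbits
  have e1 : ∀ z ∈ O1, dotInt xS.1 z.1 = -8 := fun z hz => (orbit_dot_xS _ z hz).trans d1
  have e2 : ∀ z ∈ O2, dotInt xS.1 z.1 = 16 := fun z hz => (orbit_dot_xS _ z hz).trans d2
  have e3 : ∀ z ∈ O3, dotInt xS.1 z.1 = 0 := fun z hz => (orbit_dot_xS _ z hz).trans d3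
  have e4' : ∀ z ∈ O4, dotInt xS.1 z.1 = 8 := fun z hz => (orbit_dot_xS _ z hz).trans d4
  have eB : dotInt xS.1 xS.1 = 32 := xS_mem.2
  have dB1 : Disjoint ({xS} : Set ↥leechLattice) O1 := by
    rw [Set.disjoint_singleton_left]
    intro h
    have := e1 _ h
    omega
  have d12 : Disjoint (({xS} : Set ↥leechLattice) ∪ O1) O2 := by
    rw [Set.disjoint_union_left, Set.disjoint_singleton_left]
    refine ⟨fun h => ?_, Set.disjoint_left.2 fun z h1 h2 => ?_⟩
    · have := e2 _ h
      omega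
    · have := e1 z h1
      have := e2 z h2
      omega
  have d123 : Disjoint (({xS} : Set ↥leechLattice) ∪ O1 ∪ O2) O3 := by
    rw [Set.disjoint_union_left, Set.disjoint_union_left, Set.disjoint_singleton_left]
    refine ⟨⟨fun h => ?_, Set.disjoint_left.2 fun z h1 h2 => ?_⟩,
      Set.disjoint_left.2 fun z h1 h2 => ?_⟩
    · have := e3 _ h
      omega
    · have := e1 z h1
      have := e3 z h2
      omega
    · have := e2 z h1
      have := e3 z h2
      omega
  have d1234 : Disjoint (({xS} : Set ↥leechLattice) ∪ O1 ∪ O2 ∪ O3) O4 := by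
    rw [Set.disjoint_union_left, Set.disjoint_union_left, Set.disjoint_union_left,
      Set.disjoint_singleton_left]
    refine ⟨⟨⟨fun h => ?_, Set.disjoint_left.2 fun z h1 h2 => ?_⟩,
      Set.disjoint_left.2 fun z h1 h2 => ?_⟩, Set.disjoint_left.2 fun z h1 h2 => ?_⟩
    · have := e4' _ h
      omega
    · have := e1 z h1
      have := e4' z h2
      omega
    · have := e2 z h1
      have := e4' z h2
      omega
    · have := e3 z h1
      have := e4' z h2
      omega
  have hU : ({xS} : Set ↥leechLattice) ∪ O1 ∪ O2 ∪ O3 ∪ O4 ⊆ Ystd := by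
    rintro z ((((hz | hz) | hz) | hz) | hz)
    · rw [Set.mem_singleton_iff.1 hz]
      exact xS_mem.1
    · exact s1 hz
    · exact s2 hz
    · exact s3 hz
    · exact s4 hz
  have hcard : (({xS} : Set ↥leechLattice) ∪ O1 ∪ O2 ∪ O3 ∪ O4).ncard
      = 1 + O1.ncard + O2.ncard + O3.ncard + O4.ncard := by
    rw [Set.ncard_union_eq d1234 ((((Set.finite_singleton _).union f1).union f2).union f3) f4,
      Set.ncard_union_eq d123 (((Set.finite_singleton _).union f1).union f2) f3,
      Set.ncard_union_eq d12 ((Set.finite_singleton _).union f1) f2,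
      Set.ncard_union_eq dB1 (Set.finite_singleton _) f1, Set.ncard_singleton]
  have hle := Set.ncard_le_ncard hU Ystd_finite
  rw [hcard, Ystd_ncard] at hle
  have c1 : O1.ncard = 352 := by omega
  have c2 : O2.ncard = 1100 := by omega
  have c3 : O3.ncard = 4125 := by omega
  have c4 : O4.ncard = 5600 := by omega
  refine ⟨_, m1, _, m2, _, m3, _, m4, c1, c2, c3, c4, ?_⟩
  symm
  apply Set.eq_of_subset_of_ncard_le hU _ Ystd_finite
  rw [hcard, Ystd_ncard]
  omega

end Cfsg.Agent.Lib.Lead.R5
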