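import Cfsg.Agent.Lib.Lead.ConwayT3

set_option autoImplicit false

/-!
# Pairs of vectors of sum of squares 48 with dot product `-32`

`hs_pair`: such ordered pairs form one orbit of the automorphism group of the lattice.
-/

namespace Cfsg.Agent.Lib.Lead.CP

open Cfsg
open Cfsg.Agent.Lib.Lead.LX Cfsg.Agent.Lib.Lead.CW Cfsg.Agent.Lib.Lead.CO
open Cfsg.Agent.Lib.helper3 Cfsg.Agent.Lib.helper4 Cfsg.Agent.S0398 Cfsg.Agent.S1571

theorem dot_symm (a b : GolayPt → ℤ) : dotInt a b = dotInt b a := by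
  unfold dotInt
  exact Finset.sum_congr rfl (fun p _ => mul_comm _ _)

theorem dot_add_left (a b c : GolayPt → ℤ) : dotInt (a + b) c = dotInt a c + dotInt b c := by
  unfold dotInt
  rw [← Finset.sum_add_distrib]
  exact Finset.sum_congr rfl (fun p _ => by simp only [Pi.add_apply]; ring)

theorem dot_add_right (a b c : GolayPt → ℤ) : dotInt a (b + c) = dotInt a b + dotInt a c := by
  rw [dot_symm, dot_add_left, dot_symm b, dot_symm c]

theorem dot_neg_left (a c : GolayPt → ℤ) : dotInt (-a) c = -dotInt a c := by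
  unfold dotInt
  rw [← Finset.sum_neg_distrib]
  exact Finset.sum_congr rfl (fun p _ => by simp only [Pi.neg_apply]; ring)

theorem dot_neg_right (a c : GolayPt → ℤ) : dotInt a (-c) = -dotInt a c := by
  rw [dot_symm, dot_neg_left, dot_symm]

theorem dot_sub_left (a b c : GolayPt → ℤ) : dotInt (a - b) c = dotInt a c - dotInt b c := by
  rw [sub_eq_add_neg, dot_add_left, dot_neg_left]
  ring

theorem dot_sub_right (a b c : GolayPt → ℤ) : dotInt a (b - c) = dotInt a b - dotInt a c := by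
  rw [sub_eq_add_neg, dot_add_right, dot_neg_right]
  ring

theorem dot_self (a : GolayPt → ℤ) : dotInt a a = sqNorm a := by
  unfold dotInt sqNorm
  exact Finset.sum_congr rfl (fun p _ => by ring)

theorem map_add' (g : ↥Co0) (a b : ↥leechLattice) : g.1 (a + b) = g.1 a + g.1 b := g.2.1 a b

theorem map_sub' (g : ↥Co0) (a b : ↥leechLattice) : g.1 (a - b) = g.1 a - g.1 b := by
  rw [sub_eq_add_neg, map_add', map_neg', sub_eq_add_neg]

theorem inv_apply_apply (g : ↥Co0) (y : ↥leechLattice) : g⁻¹.1 (g.1 y) = y := by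
  show (g⁻¹ * g).1 y = y
  rw [inv_mul_cancel]
  rfl

theorem apply_inv_apply (g : ↥Co0) (y : ↥leechLattice) : g.1 (g⁻¹.1 y) = y := by
  show (g * g⁻¹).1 y = y
  rw [mul_inv_cancel]
  rfl

/-- ordered pairs of vectors of sum of squares 48 with dot product `-32` form one orbit -/
theorem hs_pair (v w v' w' : ↥leechLattice) (hv : sqNorm v.1 = 48) (hw : sqNorm w.1 = 48)
    (hvw : dotInt v.1 w.1 = -32) (hv' : sqNorm v'.1 = 48) (hw' : sqNorm w'.1 = 48)
    (hvw' : dotInt v'.1 w'.1 = -32) : ∃ g : ↥Co0, g.1 v = v' ∧ g.1 w = w' := by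
  have key : ∀ a b : ↥leechLattice, sqNorm a.1 = 48 → sqNorm b.1 = 48 → dotInt a.1 b.1 = -32 →
      sqNorm (-(a + b)).1 = 32 ∧ dotInt (-(a + b)).1 a.1 = -16 := by
    intro a b ha hb hab
    constructor
    · show sqNorm (-(a.1 + b.1)) = 32
      rw [sqNorm_neg, sqNorm_add, ha, hb, hab]
      norm_num
    · show dotInt (-(a.1 + b.1)) a.1 = -16
      rw [dot_neg_left, dot_add_left, dot_self, ha, dot_symm, hab]
      norm_num
  obtain ⟨h1, h2⟩ := key v w hv hw hvw
  obtain ⟨h1', h2'⟩ := key v' w' hv' hw' hvw'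
  obtain ⟨g, hg1, hg2⟩ := t3_pair (-(v + w)) v (-(v' + w')) v' h1 h1' hv hv' h2 h2'
  refine ⟨g, hg2, ?_⟩
  rw [map_neg', map_add', hg2] at hg1
  have := neg_injective hg1
  exact add_left_cancel this

theorem B0_apply (p : GolayPt) :
    B0.1 p = (if p = none then 4 else 0) + (if p = some 0 then -4 else 0) := rfl

theorem dot_B0 (x : GolayPt → ℤ) : dotInt B0.1 x = 4 * x none - 4 * x (some 0) := by
  unfold dotInt
  have : ∀ p, B0.1 p * x p = (if p = none then 4 * x none else 0)
      + (if p = some 0 then -(4 * x (some 0)) else 0) := by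
    intro p
    rw [B0_apply]
    by_cases h0 : p = none
    · subst h0
      simp
    · by_cases h1 : p = some 0
      · subst h1
        simp
      · rw [if_neg h0, if_neg h1, if_neg h0, if_neg h1]
        ring
  rw [Finset.sum_congr rfl (fun p _ => this p), Finset.sum_add_distrib,
    Finset.sum_ite_eq' Finset.univ none, Finset.sum_ite_eq' Finset.univ (some 0),
    if_pos (Finset.mem_univ _), if_pos (Finset.mem_univ _)]
  ring

/-- sign changes away from `∞` and `0` fix `B0` -/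
theorem flip_fix_B0 (c : GolayPt → ZMod 2) (hc : c ∈ golayCode) (h0 : ¬ c none ≠ 0)
    (h1 : ¬ c (some 0) ≠ 0) : (flipE c hc) B0 = B0 := by
  apply Subtype.ext
  funext p
  show (if c p ≠ 0 then -(B0.1 p) else B0.1 p) = B0.1 p
  by_cases hp : c p ≠ 0
  · rw [if_pos hp]
    have hp0 : p ≠ none := by
      rintro rfl
      exact h0 hp
    have hp1 : p ≠ some 0 := by
      rintro rfl
      exact h1 hp
    rw [B0_apply, if_neg hp0, if_neg hp1]
    norm_num
  · rw [if_neg hp]

/-- two vectors of sum of squares 48 with entries `-5`, `1` at `∞`, `0` differ by a sign change on a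
codeword avoiding `∞` and `0` -/
theorem t3_flip (u u' : ↥leechLattice) (hN : sqNorm u.1 = 48) (hN' : sqNorm u'.1 = 48)
    (h0 : u.1 none = -5) (h0' : u'.1 none = -5) (h1 : u.1 (some 0) = 1)
    (h1' : u'.1 (some 0) = 1) :
    ∃ (c : GolayPt → ZMod 2) (hc : c ∈ golayCode), ¬ c none ≠ 0 ∧ ¬ c (some 0) ≠ 0 ∧
      (flipE c hc) u = u' := by
  have shape : ∀ y : ↥leechLattice, sqNorm y.1 = 48 → y.1 none = -5 →
      ∀ r, r ≠ none → y.1 r = 1 ∨ y.1 r = -1 := by
    intro y hy hy0 r hr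
    have hod : ∀ p, y.1 p % 2 = 1 := by
      rcases parity_cases y.1 y.2 with hev | hod
      · have := hev none
        omega
      · exact hod
    obtain ⟨hc, hsh⟩ := odd48 y hy hod
    have c5 : cnt y.1 5 = 1 := by
      have := cnt_pos_of y.1 none 5 (by rw [hy0]; rfl)
      omega
    have c3 : cnt y.1 3 = 0 := by omega
    have n3 := natAbs_ne_of_cnt_zero y.1 3 c3 r
    rcases hsh r with h | h | h
    · omega
    · exact absurd h n3
    · exact absurd (eq_of_cnt_one y.1 5 c5 none r (by rw [hy0]; rfl) h) hr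
  have hu := u.2
  rw [mem_leechLattice_iff, mem_leechSet_iff] at hu
  obtain ⟨m, -, -, hcode⟩ := hu
  have hu' := u'.2
  rw [mem_leechLattice_iff, mem_leechSet_iff] at hu'
  obtain ⟨m', -, -, hcode'⟩ := hu'
  have hd : ind4 u.1 3 + ind4 u'.1 3 ∈ golayCode := golayCode.add_mem (hcode 3) (hcode' 3)
  have key : ∀ p, (ind4 u.1 3 + ind4 u'.1 3) p ≠ 0 ↔ u.1 p ≠ u'.1 p := by
    intro p
    rw [Pi.add_apply]
    by_cases hp : p = none
    · subst hp
      have a1 : ind4 u.1 3 none ≠ 0 := by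
        rw [Cfsg.Agent.Lib.Lead.LC.ind4_ne_zero_iff, h0]
        decide
      have a2 : ind4 u'.1 3 none ≠ 0 := by
        rw [Cfsg.Agent.Lib.Lead.LC.ind4_ne_zero_iff, h0']
        decide
      rw [(Cfsg.Agent.Lib.Lead.LC.zmod2_ne_zero_iff _).1 a1,
        (Cfsg.Agent.Lib.Lead.LC.zmod2_ne_zero_iff _).1 a2, h0, h0']
      simp
      decide
    · have b1 : ind4 u.1 3 p ≠ 0 ↔ u.1 p = -1 := by
        rw [Cfsg.Agent.Lib.Lead.LC.ind4_ne_zero_iff]
        rcases shape u hN h0 p hp with h | h <;> rw [h] <;> decide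
      have b2 : ind4 u'.1 3 p ≠ 0 ↔ u'.1 p = -1 := by
        rw [Cfsg.Agent.Lib.Lead.LC.ind4_ne_zero_iff]
        rcases shape u' hN' h0' p hp with h | h <;> rw [h] <;> decide
      have z : ∀ a b : ZMod 2, (a + b ≠ 0) ↔ ((a ≠ 0) ↔ ¬ (b ≠ 0)) := by decide
      rw [z, b1, b2]
      rcases shape u hN h0 p hp with h | h <;> rcases shape u' hN' h0' p hp with h' | h' <;>
        rw [h, h'] <;> simp
  have c0 : ¬ (ind4 u.1 3 + ind4 u'.1 3) none ≠ 0 := by
    rw [key, h0, h0']
    simp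
  have c1 : ¬ (ind4 u.1 3 + ind4 u'.1 3) (some 0) ≠ 0 := by
    rw [key, h1, h1']
    simp
  refine ⟨_, hd, c0, c1, ?_⟩
  apply Subtype.ext
  funext p
  show (if (ind4 u.1 3 + ind4 u'.1 3) p ≠ 0 then -(u.1 p) else u.1 p) = u'.1 p
  by_cases hp : (ind4 u.1 3 + ind4 u'.1 3) p ≠ 0
  · rw [if_pos hp]
    have hne := (key p).1 hp
    have hpn : p ≠ none := by
      rintro rfl
      exact hne (by rw [h0, h0'])
    rcases shape u hN h0 p hpn with h | h <;> rcases shape u' hN' h0' p hpn with h' | h' <;>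
      rw [h, h'] at hne ⊢ <;> first | rfl | exact absurd rfl hne
  · rw [if_neg hp]
    by_contra hne
    exact hp ((key p).2 hne)

end Cfsg.Agent.Lib.Lead.CP
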