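import Cfsg.Agent.S1583

set_option autoImplicit false

/-!
# The standard Higman–Sims frame

`vS = (5, 1, 1, …)`, `wS = -(1, 5, 1, …)`, point `v32 = (4, 4, 0, …)`.  The 100 attached minimal
vectors are `v32`, the 22 vectors `hV (some j)` and the 77 vectors `oK k` (octads through `∞`, `0`).
-/

namespace Cfsg.Agent.Lib.Lead.HS

open Cfsg
open Cfsg.Agent.Lib.Lead.LX Cfsg.Agent.Lib.Lead.CW Cfsg.Agent.Lib.Lead.CO Cfsg.Agent.Lib.Lead.CP
open Cfsg.Agent.Lib.helper3 Cfsg.Agent.Lib.helper4 Cfsg.Agent.S0398 Cfsg.Agent.S1571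
open Cfsg.Agent.Lib.Lead.LC Cfsg.Agent.Lib.Lead.LC3

/-- second vector of the standard pair -/
def wSv : GolayPt → ℤ := fun p => if p = some 0 then -5 else -1

set_option maxRecDepth 100000 in
theorem wS_chk : isLeechB wSv = true := by decide +kernel

def wS : ↥leechLattice := ⟨wSv, isLeechB_sound _ wS_chk⟩

set_option maxRecDepth 100000 in
theorem frame_chk : sqNorm u48.1 = 48 ∧ sqNorm wS.1 = 48 ∧ dotInt u48.1 wS.1 = -32 ∧
    dotInt u48.1 v32.1 = 24 ∧ dotInt wS.1 v32.1 = -24 := by decide +kernel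

/-- the vectors `(1, …, 1, -3, 1, …, 1)` -/
def hV (i : GolayPt) : GolayPt → ℤ := fun p => if p = i then -3 else 1

set_option maxRecDepth 1000000 in
theorem hV_chk : ∀ i : GolayPt, isLeechB (hV i) = true ∧ sqNorm (hV i) = 32 ∧
    (i ≠ none → i ≠ some 0 → dotInt u48v (hV i) = 24 ∧ dotInt wSv (hV i) = -24 ∧
      dotInt v32.1 (hV i) = 8) := by decide +kernel

def hL (i : GolayPt) : ↥leechLattice := ⟨hV i, isLeechB_sound _ (hV_chk i).1⟩

/-- twice the indicator of a codeword -/
def oK (k : ℕ) : GolayPt → ℤ := fun p => if Cw k p ≠ 0 then 2 else 0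

set_option maxRecDepth 1000000 in
theorem oK_chk : ∀ k : Fin 4096, keyM k = (6, true, true) →
    isLeechB (oK k) = true ∧ sqNorm (oK k) = 32 ∧ dotInt u48v (oK k) = 24 ∧
      dotInt wSv (oK k) = -24 ∧ dotInt v32.1 (oK k) = 16 ∧ popc (golayMask k) = 8 := by
  decide +kernel

def oL (k : ℕ) : ↥leechLattice :=
  if h : isLeechB (oK k) = true then ⟨oK k, isLeechB_sound _ h⟩ else 0

/-- indices of the octads through `∞` and `0` -/
def K77 : Finset ℕ := (Finset.range 4096).filter (fun k => keyM k = (6, true, true))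

theorem mem_K77 (k : ℕ) : k ∈ K77 ↔ k < 4096 ∧ keyM k = (6, true, true) := by
  unfold K77
  rw [Finset.mem_filter, Finset.mem_range]

theorem card_K77 : K77.card = 77 :=
  keyM_count ((6, true, true), 77) (by simp [keyTable])

theorem oL_val (k : ℕ) (hk : k ∈ K77) : (oL k).1 = oK k := by
  rw [mem_K77] at hk
  unfold oL
  rw [dif_pos (oK_chk ⟨k, hk.1⟩ hk.2).1]

/-- the 100 vectors of the standard frame -/
def XS : Set ↥leechLattice :=
  {y | sqNorm y.1 = 32 ∧ dotInt u48.1 y.1 = 24 ∧ dotInt wS.1 y.1 = -24}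

theorem XS_ncard : XS.ncard = 100 :=
  (Cfsg.Agent.S1583.result u48 wS frame_chk.1 frame_chk.2.1 frame_chk.2.2.1).1

theorem v32_mem : v32 ∈ XS := ⟨norm_v32, frame_chk.2.2.2.1, frame_chk.2.2.2.2⟩

theorem hL_mem (j : ZMod 23) (hj : j ≠ 0) : hL (some j) ∈ XS ∧ dotInt v32.1 (hL (some j)).1 = 8 := by
  have h := hV_chk (some j)
  have h2 := h.2.2 (by simp) (by simpa using hj)
  exact ⟨⟨h.2.1, h2.1, h2.2.1⟩, h2.2.2⟩

theorem oL_mem (k : ℕ) (hk : k ∈ K77) : oL k ∈ XS ∧ dotInt v32.1 (oL k).1 = 16 := by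
  have hv := oL_val k hk
  rw [mem_K77] at hk
  have h := oK_chk ⟨k, hk.1⟩ hk.2
  refine ⟨⟨?_, ?_, ?_⟩, ?_⟩
  · rw [hv]; exact h.2.1
  · rw [hv]; exact h.2.2.1
  · rw [hv]; exact h.2.2.2.1
  · rw [hv]; exact h.2.2.2.2.1

theorem hL_inj (j j' : ZMod 23) (h : hL (some j) = hL (some j')) : j = j' := by
  have h1 := congrArg (fun y : ↥leechLattice => y.1 (some j)) h
  have h2 : hV (some j) (some j) = hV (some j') (some j) := h1
  unfold hV at h2
  rw [if_pos rfl] at h2
  by_contra hne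
  rw [if_neg (by simpa using hne)] at h2
  omega

theorem oL_inj (k k' : ℕ) (hk : k ∈ K77) (hk' : k' ∈ K77) (h : oL k = oL k') : k = k' := by
  have h1 : oK k = oK k' := by
    rw [← oL_val k hk, ← oL_val k' hk', h]
  rw [mem_K77] at hk hk'
  apply Cw_injOn hk.1 hk'.1
  funext p
  have h2 := congrFun h1 p
  unfold oK at h2
  rcases zmod2_eq (Cw k p) with a | a <;> rcases zmod2_eq (Cw k' p) with b | b <;>
    rw [a, b] at h2 ⊢ <;> simp at h2

theorem dot_v32_self : dotInt v32.1 v32.1 = 32 := by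
  rw [dot_self]
  exact norm_v32

/-- classification of the 99 further vectors in the standard frame -/
theorem std_class :
    (∀ y ∈ XS, dotInt v32.1 y.1 = 8 → ∃ j : ZMod 23, j ≠ 0 ∧ y = hL (some j)) ∧
    (∀ y ∈ XS, y ≠ v32 → dotInt v32.1 y.1 ≠ 8 → ∃ k ∈ K77, y = oL k) ∧
    {y | y ∈ XS ∧ dotInt v32.1 y.1 = 8}.ncard = 22 ∧
    {y | y ∈ XS ∧ y ≠ v32 ∧ dotInt v32.1 y.1 ≠ 8}.ncard = 77 := by
  classical
  have hfin : XS.Finite := Set.finite_of_ncard_ne_zero (by rw [XS_ncard]; norm_num)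
  have hFX : hfin.toFinset.card = 100 := by
    rw [← Set.ncard_eq_toFinset_card XS hfin, XS_ncard]
  have memFX : ∀ y, y ∈ hfin.toFinset ↔ y ∈ XS := fun y => Set.Finite.mem_toFinset hfin
  set FX := hfin.toFinset with hFXdef
  set FH : Finset ↥leechLattice :=
    ((Finset.univ : Finset (ZMod 23)).erase 0).image (fun j => hL (some j)) with hFH
  set FO : Finset ↥leechLattice := K77.image oL with hFO
  set FS1 : Finset ↥leechLattice := FX.filter (fun y => dotInt v32.1 y.1 = 8) with hFS1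
  set FS2 : Finset ↥leechLattice :=
    FX.filter (fun y => y ≠ v32 ∧ dotInt v32.1 y.1 ≠ 8) with hFS2
  have cFH : FH.card = 22 := by
    rw [hFH, Finset.card_image_of_injective _ (fun j j' h => hL_inj j j' h),
      Finset.card_erase_of_mem (Finset.mem_univ _), Finset.card_univ, ZMod.card]
  have cFO : FO.card = 77 := by
    rw [hFO, Finset.card_image_of_injOn (fun k hk k' hk' h => oL_inj k k' hk hk' h), card_K77]
  have sH : FH ⊆ FS1 := by
    intro y hy
    rw [hFH, Finset.mem_image] at hy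
    obtain ⟨j, hj, rfl⟩ := hy
    have hj0 : j ≠ 0 := Finset.ne_of_mem_erase hj
    rw [hFS1, Finset.mem_filter, memFX]
    exact hL_mem j hj0
  have sO : FO ⊆ FS2 := by
    intro y hy
    rw [hFO, Finset.mem_image] at hy
    obtain ⟨k, hk, rfl⟩ := hy
    have h := oL_mem k hk
    rw [hFS2, Finset.mem_filter, memFX]
    refine ⟨h.1, ?_, by rw [h.2]; norm_num⟩
    intro he
    have := h.2
    rw [he, dot_v32_self] at this
    omega
  have hcard : FX.card = 1 + FS1.card + FS2.card := by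
    have hsplit : FX = insert v32 (FS1 ∪ FS2) := by
      ext y
      rw [Finset.mem_insert, Finset.mem_union, hFS1, hFS2, Finset.mem_filter, Finset.mem_filter]
      constructor
      · intro hy
        by_cases h1 : y = v32
        · exact Or.inl h1
        · by_cases h2 : dotInt v32.1 y.1 = 8
          · exact Or.inr (Or.inl ⟨hy, h2⟩)
          · exact Or.inr (Or.inr ⟨hy, h1, h2⟩)
      · rintro (h | h | h)
        · rw [h, memFX]
          exact v32_mem
        · exact h.1
        · exact h.1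
    have hnot : v32 ∉ FS1 ∪ FS2 := by
      rw [Finset.mem_union, hFS1, hFS2, Finset.mem_filter, Finset.mem_filter]
      rintro (h | h)
      · have := h.2
        rw [dot_v32_self] at this
        omega
      · exact h.2.1 rfl
    have hdisj : Disjoint FS1 FS2 := by
      rw [Finset.disjoint_left]
      intro y h1 h2
      rw [hFS1, Finset.mem_filter] at h1
      rw [hFS2, Finset.mem_filter] at h2
      exact h2.2.2 h1.2
    rw [hsplit, Finset.card_insert_of_notMem hnot, Finset.card_union_of_disjoint hdisj]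
    ring
  have l1 := Finset.card_le_card sH
  have l2 := Finset.card_le_card sO
  have e1 : FH = FS1 := Finset.eq_of_subset_of_card_le sH (by omega)
  have e2 : FO = FS2 := Finset.eq_of_subset_of_card_le sO (by omega)
  refine ⟨?_, ?_, ?_, ?_⟩
  · intro y hy hd
    have : y ∈ FS1 := by
      rw [hFS1, Finset.mem_filter, memFX]
      exact ⟨hy, hd⟩
    rw [← e1, hFH, Finset.mem_image] at this
    obtain ⟨j, hj, rfl⟩ := this
    exact ⟨j, Finset.ne_of_mem_erase hj, rfl⟩
  · intro y hy hne hd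
    have : y ∈ FS2 := by
      rw [hFS2, Finset.mem_filter, memFX]
      exact ⟨hy, hne, hd⟩
    rw [← e2, hFO, Finset.mem_image] at this
    obtain ⟨k, hk, rfl⟩ := this
    exact ⟨k, hk, rfl⟩
  · have : {y | y ∈ XS ∧ dotInt v32.1 y.1 = 8} = ↑FS1 := by
      ext y
      rw [Finset.mem_coe, hFS1, Finset.mem_filter, memFX]
      rfl
    rw [this, Set.ncard_coe_finset, ← e1, cFH]
  · have : {y | y ∈ XS ∧ y ≠ v32 ∧ dotInt v32.1 y.1 ≠ 8} = ↑FS2 := by
      ext y
      rw [Finset.mem_coe, hFS2, Finset.mem_filter, memFX]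
      rfl
    rw [this, Set.ncard_coe_finset, ← e2, cFO]

end Cfsg.Agent.Lib.Lead.HS
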