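import Cfsg.Agent.Lib.Lead.ConwayHS2
import Cfsg.Agent.Lib.helper3.GolaySteiner
import Cfsg.Agent.Lib.helper3.GolayAut

set_option autoImplicit false

/-!
# The point stabiliser of the standard Higman–Sims frame

The permutations of the code fixing `∞` and `0` fix the standard frame and are transitive on the
22 vectors `hL (some j)` and on the 77 vectors `oL k`.
-/

namespace Cfsg.Agent.Lib.Lead.HS

open Cfsg
open Cfsg.Agent.Lib.Lead.LX Cfsg.Agent.Lib.Lead.CW Cfsg.Agent.Lib.Lead.CO Cfsg.Agent.Lib.Lead.CP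
open Cfsg.Agent.Lib.helper3 Cfsg.Agent.Lib.helper4 Cfsg.Agent.S0398 Cfsg.Agent.S1571
open Cfsg.Agent.Lib.Lead.LC Cfsg.Agent.Lib.Lead.LC3
open scoped Pointwise

theorem permE_apply (π : Equiv.Perm GolayPt) (hπ : π ∈ M24) (y : ↥leechLattice) (p : GolayPt) :
    ((permE π hπ) y).1 p = y.1 (π p) := rfl

theorem perm_fix_u48 (π : Equiv.Perm GolayPt) (hπ : π ∈ M24) (h0 : π none = none) :
    (permE π hπ) u48 = u48 := by
  apply Subtype.ext
  funext p
  rw [permE_apply]
  show u48v (π p) = u48v p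
  unfold u48v
  by_cases hp : p = none
  · subst hp
    rw [h0]
  · have : π p ≠ none := by
      intro h
      rw [← h0] at h
      exact hp (π.injective h)
    rw [if_neg hp, if_neg this]

theorem perm_fix_wS (π : Equiv.Perm GolayPt) (hπ : π ∈ M24) (h1 : π (some 0) = some 0) :
    (permE π hπ) wS = wS := by
  apply Subtype.ext
  funext p
  rw [permE_apply]
  show wSv (π p) = wSv p
  unfold wSv
  by_cases hp : p = some 0
  · subst hp
    rw [h1]
  · have : π p ≠ some 0 := by
      intro h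
      rw [← h1] at h
      exact hp (π.injective h)
    rw [if_neg hp, if_neg this]

theorem perm_hL (π : Equiv.Perm GolayPt) (hπ : π ∈ M24) (i i' : GolayPt) (h : π i' = i) :
    (permE π hπ) (hL i) = hL i' := by
  apply Subtype.ext
  funext p
  rw [permE_apply]
  show hV i (π p) = hV i' p
  unfold hV
  by_cases hp : p = i'
  · subst hp
    rw [if_pos h, if_pos rfl]
  · have : π p ≠ i := by
      intro h'
      rw [← h] at h'
      exact hp (π.injective h')
    rw [if_neg hp, if_neg this]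

theorem perm_oL (π : Equiv.Perm GolayPt) (hπ : π ∈ M24) (k k' : ℕ) (hk : k ∈ K77) (hk' : k' ∈ K77)
    (h : ∀ p, Cw k (π p) ≠ 0 ↔ Cw k' p ≠ 0) : (permE π hπ) (oL k) = oL k' := by
  apply Subtype.ext
  funext p
  rw [permE_apply, oL_val k hk, oL_val k' hk']
  unfold oK
  by_cases hp : Cw k' p ≠ 0
  · rw [if_pos hp, if_pos ((h p).2 hp)]
  · rw [if_neg hp, if_neg (fun h' => hp ((h p).1 h'))]

theorem exists_perm_h (j j' : ZMod 23) (hj : j ≠ 0) (hj' : j' ≠ 0) :
    ∃ π ∈ M24, π none = none ∧ π (some 0) = some 0 ∧ π (some j') = some j := by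
  obtain ⟨π1, hπ1, a1, b1, c1⟩ := exists_perm3 (some j) (by simp) (by simpa using hj)
  obtain ⟨π2, hπ2, a2, b2, c2⟩ := exists_perm3 (some j') (by simp) (by simpa using hj')
  refine ⟨π1 * π2⁻¹, M24.mul_mem hπ1 (M24.inv_mem hπ2), ?_, ?_, ?_⟩
  · rw [Equiv.Perm.mul_apply, Equiv.Perm.inv_eq_iff_eq.2 a2.symm, a1]
  · rw [Equiv.Perm.mul_apply, Equiv.Perm.inv_eq_iff_eq.2 b2.symm, b1]
  · rw [Equiv.Perm.mul_apply, Equiv.Perm.inv_eq_iff_eq.2 c2.symm, c1]

theorem inj5 (p : Fin 5 → GolayPt) (h01 : p 0 ≠ p 1) (h02 : p 0 ≠ p 2) (h03 : p 0 ≠ p 3)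
    (h04 : p 0 ≠ p 4) (h12 : p 1 ≠ p 2) (h13 : p 1 ≠ p 3) (h14 : p 1 ≠ p 4) (h23 : p 2 ≠ p 3)
    (h24 : p 2 ≠ p 4) (h34 : p 3 ≠ p 4) : Function.Injective p := by
  intro i j hij
  fin_cases i <;> fin_cases j <;>
    first
    | rfl
    | exact absurd hij h01
    | exact absurd hij.symm h01
    | exact absurd hij h02
    | exact absurd hij.symm h02
    | exact absurd hij h03
    | exact absurd hij.symm h03
    | exact absurd hij h04
    | exact absurd hij.symm h04
    | exact absurd hij h12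
    | exact absurd hij.symm h12
    | exact absurd hij h13
    | exact absurd hij.symm h13
    | exact absurd hij h14
    | exact absurd hij.symm h14
    | exact absurd hij h23
    | exact absurd hij.symm h23
    | exact absurd hij h24
    | exact absurd hij.symm h24
    | exact absurd hij h34
    | exact absurd hij.symm h34

/-- data of an octad through `∞` and `0` -/
theorem K77_octad (k : ℕ) (hk : k ∈ K77) :
    support₂ (Cw k) ∈ octads ∧ none ∈ support₂ (Cw k) ∧ some 0 ∈ support₂ (Cw k) ∧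
    ∃ a b c : GolayPt, a ∈ support₂ (Cw k) ∧ b ∈ support₂ (Cw k) ∧ c ∈ support₂ (Cw k) ∧
      a ≠ none ∧ a ≠ some 0 ∧ b ≠ none ∧ b ≠ some 0 ∧ c ≠ none ∧ c ≠ some 0 ∧
      a ≠ b ∧ a ≠ c ∧ b ≠ c := by
  rw [mem_K77] at hk
  have hchk := oK_chk ⟨k, hk.1⟩ hk.2
  have hkey := hk.2
  unfold keyM at hkey
  rw [Prod.mk.injEq, Prod.mk.injEq] at hkey
  have h0 : Cw k none ≠ 0 := of_decide_eq_true hkey.2.1
  have h1 : Cw k (some 0) ≠ 0 := of_decide_eq_true hkey.2.2
  have hoct : support₂ (Cw k) ∈ octads := by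
    rw [mem_octads_iff]
    refine ⟨Cw k, Cw_mem k, rfl, ?_⟩
    show hammingNorm (gword (golayMask k)) = 8
    rw [hammingNorm_gword]
    exact hchk.2.2.2.2.2
  have m0 : none ∈ support₂ (Cw k) := by
    unfold support₂
    rw [Finset.mem_filter]
    exact ⟨Finset.mem_univ _, h0⟩
  have m1 : some 0 ∈ support₂ (Cw k) := by
    unfold support₂
    rw [Finset.mem_filter]
    exact ⟨Finset.mem_univ _, h1⟩
  have hcard : (support₂ (Cw k)).card = 8 := octads_card_eq hoct
  have m1' : some 0 ∈ (support₂ (Cw k)).erase none := Finset.mem_erase.2 ⟨by simp, m1⟩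
  have hT : 2 < (((support₂ (Cw k)).erase none).erase (some 0)).card := by
    rw [Finset.card_erase_of_mem m1', Finset.card_erase_of_mem m0, hcard]
    norm_num
  obtain ⟨a, b, c, ha, hb, hc, hab, hac, hbc⟩ := Finset.two_lt_card_iff.1 hT
  rw [Finset.mem_erase, Finset.mem_erase] at ha hb hc
  exact ⟨hoct, m0, m1, a, b, c, ha.2.2, hb.2.2, hc.2.2, ha.2.1, ha.1, hb.2.1, hb.1, hc.2.1, hc.1,
    hab, hac, hbc⟩

theorem exists_perm_o (k k' : ℕ) (hk : k ∈ K77) (hk' : k' ∈ K77) :
    ∃ π ∈ M24, π none = none ∧ π (some 0) = some 0 ∧ ∀ p, Cw k (π p) ≠ 0 ↔ Cw k' p ≠ 0 := by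
  classical
  obtain ⟨hoct, m0, m1, a, b, c, ha, hb, hc, a0, a1, b0, b1, c0, c1, hab, hac, hbc⟩ := K77_octad k hk
  obtain ⟨hoct', m0', m1', a', b', c', ha', hb', hc', a0', a1', b0', b1', c0', c1', hab', hac',
    hbc'⟩ := K77_octad k' hk'
  have h5 := Cfsg.Agent.S0366.result
  rw [MulAction.isMultiplyPretransitive_iff] at h5
  obtain ⟨g, hg⟩ := h5 ⟨![none, some 0, a', b', c'], inj5 _ (by simp) (Ne.symm a0') (Ne.symm b0')
      (Ne.symm c0') (Ne.symm a1') (Ne.symm b1') (Ne.symm c1') hab' hac' hbc'⟩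
    ⟨![none, some 0, a, b, c], inj5 _ (by simp) (Ne.symm a0) (Ne.symm b0)
      (Ne.symm c0) (Ne.symm a1) (Ne.symm b1) (Ne.symm c1) hab hac hbc⟩
  have g0 : g.1 none = none := congrArg (fun f : Fin 5 ↪ GolayPt => f 0) hg
  have g1 : g.1 (some 0) = some 0 := congrArg (fun f : Fin 5 ↪ GolayPt => f 1) hg
  have g2 : g.1 a' = a := congrArg (fun f : Fin 5 ↪ GolayPt => f 2) hg
  have g3 : g.1 b' = b := congrArg (fun f : Fin 5 ↪ GolayPt => f 3) hg
  have g4 : g.1 c' = c := congrArg (fun f : Fin 5 ↪ GolayPt => f 4) hg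
  have hoct2 : g.1 • support₂ (Cw k') ∈ octads := smul_octads_of_mem_M24 g.2 _ hoct'
  have heq : g.1 • support₂ (Cw k') = support₂ (Cw k) := by
    by_contra hne
    have hle := octads_inter_card_le hoct2 hoct hne
    have hsub : ({none, some 0, a, b, c} : Finset GolayPt)
        ⊆ g.1 • support₂ (Cw k') ∩ support₂ (Cw k) := by
      intro q hq
      rw [Finset.mem_insert, Finset.mem_insert, Finset.mem_insert, Finset.mem_insert,
        Finset.mem_singleton] at hq
      rw [Finset.mem_inter]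
      rcases hq with rfl | rfl | rfl | rfl | rfl
      · refine ⟨?_, m0⟩
        rw [← g0]
        exact Finset.smul_mem_smul_finset m0'
      · refine ⟨?_, m1⟩
        rw [← g1]
        exact Finset.smul_mem_smul_finset m1'
      · refine ⟨?_, ha⟩
        rw [← g2]
        exact Finset.smul_mem_smul_finset ha'
      · refine ⟨?_, hb⟩
        rw [← g3]
        exact Finset.smul_mem_smul_finset hb'
      · refine ⟨?_, hc⟩
        rw [← g4]
        exact Finset.smul_mem_smul_finset hc'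
    have hc5 : ({none, some 0, a, b, c} : Finset GolayPt).card = 5 := by
      rw [Finset.card_insert_of_notMem, Finset.card_insert_of_notMem,
        Finset.card_insert_of_notMem, Finset.card_insert_of_notMem, Finset.card_singleton]
      · simp [hbc]
      · simp [hab, hac]
      · simp [Ne.symm a1, Ne.symm b1, Ne.symm c1]
      · simp [Ne.symm a0, Ne.symm b0, Ne.symm c0]
    have := Finset.card_le_card hsub
    omega
  refine ⟨g.1, g.2, g0, g1, fun p => ?_⟩
  have e1 : Cw k (g.1 p) ≠ 0 ↔ g.1 p ∈ support₂ (Cw k) := by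
    unfold support₂
    rw [Finset.mem_filter]
    simp
  have e2 : Cw k' p ≠ 0 ↔ p ∈ support₂ (Cw k') := by
    unfold support₂
    rw [Finset.mem_filter]
    simp
  rw [e1, e2, ← heq]
  exact Finset.smul_mem_smul_finset_iff g.1

end Cfsg.Agent.Lib.Lead.HS
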