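import Cfsg.Agent.Lib.Lead.ConwayOct

/-!
# Transitivity on pairs (minimal vector, vector of sum of squares 48) with dot product `-16`

`t3_pair`: the automorphism group is transitive on the ordered pairs `(x, u)` with `x` minimal,
`u` of sum of squares 48 and coordinate dot product `-16`.
-/

set_option autoImplicit false
open Cfsg

namespace Cfsg.Agent.Lib.Lead.CP

open Cfsg.Agent.Lib.Lead.LX Cfsg.Agent.Lib.Lead.CW Cfsg.Agent.Lib.Lead.CO
open Cfsg.Agent.Lib.helper3 Cfsg.Agent.Lib.helper4 Cfsg.Agent.S0398 Cfsg.Agent.S1571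

theorem RelF.symm {w w' : ↥leechLattice} (h : RelF w w') : RelF w' w := by
  obtain ⟨g, hg1, hg2⟩ := h
  refine ⟨g⁻¹, ?_, ?_⟩
  · rw [← hg1]
    show (g⁻¹ * g).1 _ = _
    rw [inv_mul_cancel, hg1]
    rfl
  · rw [← hg2]
    show (g⁻¹ * g).1 _ = _
    rw [inv_mul_cancel]
    rfl

theorem RelF.trans {w w' w'' : ↥leechLattice} (h : RelF w w') (h' : RelF w' w'') : RelF w w'' := by
  obtain ⟨g, hg1, hg2⟩ := h
  obtain ⟨k, hk1, hk2⟩ := h'
  refine ⟨k * g, ?_, ?_⟩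
  · show k.1 (g.1 v32) = v32
    rw [hg1, hk1]
  · show k.1 (g.1 w) = w''
    rw [hg2, hk2]

/-- counts for an even vector of sum of squares 48 -/
theorem even48 (u : ↥leechLattice) (hN : sqNorm u.1 = 48) (hev : ∀ p, u.1 p % 2 = 0) :
    8 ≤ cnt u.1 2 ∧ 12 ≤ cnt u.1 0 := by
  obtain ⟨z1, z3, z5, z7⟩ := even_facts u.1 hev
  have ht := cnt_total u.1 (by omega)
  have hn := norm_nat u.1 48 (by exact_mod_cast hN) (by norm_num)
  have hw := weight_cases u.1 u.2 (by omega)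
  by_cases h0 : cnt u.1 2 + cnt u.1 6 = 0
  · exfalso
    have c2 : cnt u.1 2 = 0 := by omega
    have c6 : cnt u.1 6 = 0 := by omega
    have h4 : ∀ p, u.1 p % 4 = 0 := by
      intro p
      have hb := natAbs_lt_nine u.1 (by omega) p
      have n2 := natAbs_ne_of_cnt_zero u.1 2 c2 p
      have n6 := natAbs_ne_of_cnt_zero u.1 6 c6 p
      have := hev p
      omega
    have := cnt_four_even u.1 u.2 (by omega) h4
    omega
  · omega

theorem exists_outside (u : ↥leechLattice) (n : ℕ) (hm : 3 ≤ cnt u.1 n) :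
    ∃ p, p ≠ none ∧ p ≠ some 0 ∧ (u.1 p).natAbs = n := by
  unfold cnt at hm
  have h1 := Finset.pred_card_le_card_erase
    (s := Finset.univ.filter (fun p => (u.1 p).natAbs = n)) (a := none)
  have h2 := Finset.pred_card_le_card_erase
    (s := (Finset.univ.filter (fun p => (u.1 p).natAbs = n)).erase none) (a := some 0)
  have hpos : 0 < (((Finset.univ.filter (fun p => (u.1 p).natAbs = n)).erase none).erase
      (some 0)).card := by omega
  obtain ⟨p, hp⟩ := Finset.card_pos.1 hpos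
  rw [Finset.mem_erase, Finset.mem_erase, Finset.mem_filter] at hp
  exact ⟨p, hp.2.1, hp.1, hp.2.2.2⟩

/-- from an even vector to the shape `(-3, -1)` -/
theorem t3E (u : ↥leechLattice) (hN : sqNorm u.1 = 48) (hev : ∀ p, u.1 p % 2 = 0)
    (hs : u.1 none + u.1 (some 0) = -4) :
    ∃ h : ↥Co0, h.1 v32 = v32 ∧ (h.1 u).1 none = -3 ∧ (h.1 u).1 (some 0) = -1 := by
  obtain ⟨c2, c0⟩ := even48 u hN hev
  obtain ⟨p, hp0, hp1, hpa⟩ := exists_outside u 2 (by omega)
  obtain ⟨q, hq0, hq1, hqa⟩ := exists_outside u 0 (by omega)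
  have hpq : p ≠ q := by
    rintro rfl
    omega
  have hq : u.1 q = 0 := by omega
  obtain ⟨ε2, hε2, e2⟩ := exists_eps (u.1 p) 2 (by omega) 2 (Or.inl rfl)
  obtain ⟨h, r1, r2, hv, hx⟩ := move p q hp0 hp1 hq0 hq1 hpq ε2 1 hε2 (Or.inl rfl)
  obtain ⟨f0, f1, -, -⟩ := hx u
  refine ⟨h, hv, ?_, ?_⟩
  · rw [f0, hs, e2, hq]
    norm_num
  · rw [f1, hs, e2, hq]
    norm_num

/-- shape of an odd vector of sum of squares 48 -/
theorem odd48 (u : ↥leechLattice) (hN : sqNorm u.1 = 48) (hod : ∀ p, u.1 p % 2 = 1) :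
    ((cnt u.1 3 = 3 ∧ cnt u.1 5 = 0) ∨ (cnt u.1 3 = 0 ∧ cnt u.1 5 = 1)) ∧
      ∀ p, (u.1 p).natAbs = 1 ∨ (u.1 p).natAbs = 3 ∨ (u.1 p).natAbs = 5 := by
  obtain ⟨z0, z2, z4, z6, z8⟩ := odd_facts u.1 hod
  have ht := cnt_total u.1 (by omega)
  have hn := norm_nat u.1 48 (by exact_mod_cast hN) (by norm_num)
  have c7 : cnt u.1 7 = 0 := by omega
  refine ⟨by omega, fun p => ?_⟩
  have hb := natAbs_lt_nine u.1 (by omega) p
  have n7 := natAbs_ne_of_cnt_zero u.1 7 c7 p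
  have := hod p
  omega

/-- from the shape `(-3, -1)` to the shape `(-5, 1)` -/
theorem t3O (u : ↥leechLattice) (hN : sqNorm u.1 = 48) (h0 : u.1 none = -3)
    (h1 : u.1 (some 0) = -1) :
    ∃ h : ↥Co0, h.1 v32 = v32 ∧ (h.1 u).1 none = -5 ∧ (h.1 u).1 (some 0) = 1 := by
  have hod : ∀ p, u.1 p % 2 = 1 := by
    rcases parity_cases u.1 u.2 with hev | hod
    · have := hev none
      omega
    · exact hod
  obtain ⟨hc, hsh⟩ := odd48 u hN hod
  have c3 : cnt u.1 3 = 3 := by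
    have := cnt_pos_of u.1 none 3 (by rw [h0]; rfl)
    omega
  unfold cnt at c3
  have m0 : none ∈ Finset.univ.filter (fun p => (u.1 p).natAbs = 3) :=
    Finset.mem_filter.2 ⟨Finset.mem_univ _, by rw [h0]; rfl⟩
  have hS' : 1 < ((Finset.univ.filter (fun p => (u.1 p).natAbs = 3)).erase none).card := by
    rw [Finset.card_erase_of_mem m0, c3]
    norm_num
  obtain ⟨p, hp, q, hq, hpq⟩ := Finset.one_lt_card.1 hS'
  rw [Finset.mem_erase, Finset.mem_filter] at hp hq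
  obtain ⟨hp0, -, hpa⟩ := hp
  obtain ⟨hq0, -, hqa⟩ := hq
  have hp1 : p ≠ some 0 := by
    rintro rfl
    rw [h1] at hpa
    simp at hpa
  have hq1 : q ≠ some 0 := by
    rintro rfl
    rw [h1] at hqa
    simp at hqa
  obtain ⟨ε2, hε2, e2⟩ := exists_eps (u.1 p) 3 (by omega) 3 (Or.inl rfl)
  obtain ⟨ε3, hε3, e3⟩ := exists_eps (u.1 q) 3 (by omega) (-3) (Or.inr rfl)
  obtain ⟨h, r1, r2, hv, hx⟩ := move p q hp0 hp1 hq0 hq1 hpq ε2 ε3 hε2 hε3
  obtain ⟨f0, f1, -, -⟩ := hx u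
  refine ⟨h, hv, ?_, ?_⟩
  · rw [f0, h0, h1, e2, e3]
    norm_num
  · rw [f1, h0, h1, e2, e3]
    norm_num

/-- every vector of sum of squares 48 with `u ∞ + u 0 = -4` reaches the shape `(-5, 1)` -/
theorem t3_main (u : ↥leechLattice) (hN : sqNorm u.1 = 48)
    (hs : u.1 none + u.1 (some 0) = -4) :
    ∃ h : ↥Co0, h.1 v32 = v32 ∧ (h.1 u).1 none = -5 := by
  have fromO : ∀ u' : ↥leechLattice, sqNorm u'.1 = 48 → u'.1 none = -3 → u'.1 (some 0) = -1 →
      ∃ h : ↥Co0, h.1 v32 = v32 ∧ (h.1 u').1 none = -5 := by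
    intro u' hN' a b
    obtain ⟨h, hv, f0, -⟩ := t3O u' hN' a b
    exact ⟨h, hv, f0⟩
  rcases parity_cases u.1 u.2 with hev | hod
  · obtain ⟨h, hv, f0, f1⟩ := t3E u hN hev hs
    obtain ⟨k, hk, g0⟩ := fromO (h.1 u) (by rw [h.2.2]; exact hN) f0 f1
    refine ⟨k * h, ?_, g0⟩
    show k.1 (h.1 v32) = v32
    rw [hv, hk]
  · obtain ⟨hc, hsh⟩ := odd48 u hN hod
    have hA := hsh none
    have hB := hsh (some 0)
    have hcases : (u.1 none = -5 ∧ u.1 (some 0) = 1) ∨ (u.1 none = 1 ∧ u.1 (some 0) = -5) ∨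
        (u.1 none = -3 ∧ u.1 (some 0) = -1) ∨ (u.1 none = -1 ∧ u.1 (some 0) = -3) := by omega
    rcases hcases with ⟨a, b⟩ | ⟨a, b⟩ | ⟨a, b⟩ | ⟨a, b⟩
    · exact ⟨1, rfl, a⟩
    · obtain ⟨g, hg, hx⟩ := swap_move
      refine ⟨g, hg, ?_⟩
      rw [(hx u).1]
      exact b
    · exact fromO u hN a b
    · obtain ⟨g, hg, hx⟩ := swap_move
      obtain ⟨k, hk, g0⟩ := fromO (g.1 u) (by rw [g.2.2]; exact hN)
        (by rw [(hx u).1]; exact b) (by rw [(hx u).2]; exact a)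
      refine ⟨k * g, ?_, g0⟩
      show k.1 (g.1 v32) = v32
      rw [hg, hk]

/-- two vectors of shape `(-5, ±1^23)` are equivalent under the stabiliser of `v32` -/
theorem t3_final (u u' : ↥leechLattice) (hN : sqNorm u.1 = 48) (hN' : sqNorm u'.1 = 48)
    (h0 : u.1 none = -5) (h0' : u'.1 none = -5) (h1 : u.1 (some 0) = 1)
    (h1' : u'.1 (some 0) = 1) : RelF u u' := by
  have shape : ∀ y : ↥leechLattice, sqNorm y.1 = 48 → y.1 none = -5 →
      ∀ r, r ≠ none → y.1 r = 1 ∨ y.1 r = -1 := by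
    intro y hy hy0 r hr
    have hod : ∀ p, y.1 p % 2 = 1 := by
      rcases parity_cases y.1 y.2 with hev | hod
      · have := hev none
        omega
      · exact hod
    obtain ⟨hc, hsh⟩ := odd48 y hy hod
    have c5 : cnt y.1 5 = 1 := by
      have := cnt_pos_of y.1 none 5 (by rw [hy0]; rfl)
      omega
    have c3 : cnt y.1 3 = 0 := by omega
    have n3 := natAbs_ne_of_cnt_zero y.1 3 c3 r
    rcases hsh r with h | h | h
    · omega
    · exact absurd h n3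
    · exact absurd (eq_of_cnt_one y.1 5 c5 none r (by rw [hy0]; rfl) h) hr
  have hu := u.2
  rw [mem_leechLattice_iff, mem_leechSet_iff] at hu
  obtain ⟨m, -, -, hcode⟩ := hu
  have hu' := u'.2
  rw [mem_leechLattice_iff, mem_leechSet_iff] at hu'
  obtain ⟨m', -, -, hcode'⟩ := hu'
  have hd : ind4 u.1 3 + ind4 u'.1 3 ∈ golayCode := golayCode.add_mem (hcode 3) (hcode' 3)
  have key : ∀ p, (ind4 u.1 3 + ind4 u'.1 3) p ≠ 0 ↔ u.1 p ≠ u'.1 p := by
    intro p
    rw [Pi.add_apply]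
    by_cases hp : p = none
    · subst hp
      have a1 : ind4 u.1 3 none ≠ 0 := by
        rw [Cfsg.Agent.Lib.Lead.LC.ind4_ne_zero_iff, h0]
        decide
      have a2 : ind4 u'.1 3 none ≠ 0 := by
        rw [Cfsg.Agent.Lib.Lead.LC.ind4_ne_zero_iff, h0']
        decide
      rw [(Cfsg.Agent.Lib.Lead.LC.zmod2_ne_zero_iff _).1 a1,
        (Cfsg.Agent.Lib.Lead.LC.zmod2_ne_zero_iff _).1 a2, h0, h0']
      simp
      decide
    · have b1 : ind4 u.1 3 p ≠ 0 ↔ u.1 p = -1 := by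
        rw [Cfsg.Agent.Lib.Lead.LC.ind4_ne_zero_iff]
        rcases shape u hN h0 p hp with h | h <;> rw [h] <;> decide
      have b2 : ind4 u'.1 3 p ≠ 0 ↔ u'.1 p = -1 := by
        rw [Cfsg.Agent.Lib.Lead.LC.ind4_ne_zero_iff]
        rcases shape u' hN' h0' p hp with h | h <;> rw [h] <;> decide
      have z : ∀ a b : ZMod 2, (a + b ≠ 0) ↔ ((a ≠ 0) ↔ ¬ (b ≠ 0)) := by decide
      rw [z, b1, b2]
      rcases shape u hN h0 p hp with h | h <;> rcases shape u' hN' h0' p hp with h' | h' <;>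
        rw [h, h'] <;> simp
  have c0 : ¬ (ind4 u.1 3 + ind4 u'.1 3) none ≠ 0 := by
    rw [key, h0, h0']
    simp
  have c1 : ¬ (ind4 u.1 3 + ind4 u'.1 3) (some 0) ≠ 0 := by
    rw [key, h1, h1']
    simp
  apply RelF.of_step ⟨flipE _ hd, flipE_mem _ hd⟩ (flip_fix _ hd c0 c1)
  have : (flipE _ hd) u = u' := by
    apply Subtype.ext
    funext p
    show (if (ind4 u.1 3 + ind4 u'.1 3) p ≠ 0 then -(u.1 p) else u.1 p) = u'.1 p
    by_cases hp : (ind4 u.1 3 + ind4 u'.1 3) p ≠ 0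
    · rw [if_pos hp]
      have hne := (key p).1 hp
      have hpn : p ≠ none := by
        rintro rfl
        exact hne (by rw [h0, h0'])
      rcases shape u hN h0 p hpn with h | h <;> rcases shape u' hN' h0' p hpn with h' | h' <;>
        rw [h, h'] at hne ⊢ <;> first | rfl | exact absurd rfl hne
    · rw [if_neg hp]
      by_contra hne
      exact hp ((key p).2 hne)
  show RelF ((flipE _ hd) u) u'
  rw [this]
  exact RelF.refl _

/-- the stabiliser of `v32` is transitive on the vectors of sum of squares 48 with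
`u ∞ + u 0 = -4` -/
theorem t3_stab (u u' : ↥leechLattice) (hN : sqNorm u.1 = 48) (hN' : sqNorm u'.1 = 48)
    (hs : u.1 none + u.1 (some 0) = -4) (hs' : u'.1 none + u'.1 (some 0) = -4) : RelF u u' := by
  obtain ⟨h, hv, f0⟩ := t3_main u hN hs
  obtain ⟨h', hv', f0'⟩ := t3_main u' hN' hs'
  have sum_pres : ∀ (k : ↥Co0) (y : ↥leechLattice), k.1 v32 = v32 →
      (k.1 y).1 none + (k.1 y).1 (some 0) = y.1 none + y.1 (some 0) := by
    intro k y hk
    have := dot_map k v32 y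
    rw [hk, dot_v32, dot_v32] at this
    omega
  have f1 : (h.1 u).1 (some 0) = 1 := by
    have := sum_pres h u hv
    omega
  have f1' : (h'.1 u').1 (some 0) = 1 := by
    have := sum_pres h' u' hv'
    omega
  have r1 : RelF u (h.1 u) := ⟨h, hv, rfl⟩
  have r2 : RelF u' (h'.1 u') := ⟨h', hv', rfl⟩
  have r3 := t3_final (h.1 u) (h'.1 u') (by rw [h.2.2]; exact hN) (by rw [h'.2.2]; exact hN')
    f0 f0' f1 f1'
  exact (r1.trans r3).trans r2.symm

/-- ordered pairs (minimal vector, vector of sum of squares 48) with dot product `-16` form one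
orbit -/
theorem t3_pair (x u x' u' : ↥leechLattice) (hx : sqNorm x.1 = 32) (hx' : sqNorm x'.1 = 32)
    (hu : sqNorm u.1 = 48) (hu' : sqNorm u'.1 = 48) (hd : dotInt x.1 u.1 = -16)
    (hd' : dotInt x'.1 u'.1 = -16) : ∃ g : ↥Co0, g.1 x = x' ∧ g.1 u = u' := by
  obtain ⟨g0, hg0⟩ := trans32 x hx
  obtain ⟨g0', hg0'⟩ := trans32 x' hx'
  have h1 : dotInt v32.1 (g0.1 u).1 = -16 := by
    rw [← hg0, dot_map]
    exact hd
  have h1' : dotInt v32.1 (g0'.1 u').1 = -16 := by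
    rw [← hg0', dot_map]
    exact hd'
  rw [dot_v32] at h1 h1'
  obtain ⟨k, hk1, hk2⟩ := t3_stab (g0.1 u) (g0'.1 u') (by rw [g0.2.2]; exact hu)
    (by rw [g0'.2.2]; exact hu') (by omega) (by omega)
  have hinv : ∀ y : ↥leechLattice, g0'⁻¹.1 (g0'.1 y) = y := by
    intro y
    show (g0'⁻¹ * g0').1 y = y
    rw [inv_mul_cancel]
    rfl
  refine ⟨g0'⁻¹ * (k * g0), ?_, ?_⟩
  · show g0'⁻¹.1 (k.1 (g0.1 x)) = x'
    rw [hg0, hk1, ← hg0', hinv]
  · show g0'⁻¹.1 (k.1 (g0.1 u)) = u'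
    rw [hk2, hinv]

end Cfsg.Agent.Lib.Lead.CP
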