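import Cfsg.Agent.Lib.Lead.LeechMark

set_option autoImplicit false

/-!
# Vectors of sum of squares 48 of the rank-24 lattice with `x ∞ + x 0 = -4`
-/

namespace Cfsg.Agent.Lib.Lead.LC3

open Cfsg Finset
open Cfsg.Agent.Lib.helper3 Cfsg.Agent.Lib.helper4 Cfsg.Agent.Lib.Lead.LC Cfsg.Agent.Lib.Lead.LC2

def Ev1t : Finset ℤ := {2, -2, 6, -6}
def Ev0t : Finset ℤ := {0, 4, -4}
def Od1t : Finset ℤ := {1, -3, 5}
def Od0t : Finset ℤ := {-1, 3, -5}

theorem entries48 (x : GolayPt → ℤ) (hx : x ∈ leechLattice) (hN : sqNorm x = 48) :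
    (∀ i, x i ∈ Ev1t ∪ Ev0t) ∨ (∀ i, x i ∈ Od1t ∪ Od0t) := by
  rw [mem_leechLattice_iff, mem_leechSet_iff] at hx
  obtain ⟨m, hm, -, -⟩ := hx
  have hb : ∀ i, -6 ≤ x i ∧ x i ≤ 6 := by
    intro i
    have h1 : x i ^ 2 ≤ sqNorm x := by
      unfold sqNorm
      exact Finset.single_le_sum (f := fun j => x j ^ 2) (fun j _ => sq_nonneg _) (Finset.mem_univ i)
    rw [hN] at h1
    constructor <;> nlinarith
  rcases Int.emod_two_eq_zero_or_one m with h | h
  · left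
    intro i
    have h2 : x i % 2 = 0 := by have := hm i; change x i % 2 = m % 2 at this; omega
    obtain ⟨hlo, hhi⟩ := hb i
    generalize x i = a at *
    interval_cases a <;> simp_all [Ev1t, Ev0t]
  · right
    intro i
    have h2 : x i % 2 = 1 := by have := hm i; change x i % 2 = m % 2 at this; omega
    obtain ⟨hlo, hhi⟩ := hb i
    generalize x i = a at *
    interval_cases a <;> simp_all [Od1t, Od0t]

theorem evt_od_disjoint (a : ℤ) (h : a ∈ Ev1t ∪ Ev0t) (h' : a ∈ Od1t ∪ Od0t) : False := by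
  simp only [Ev1t, Ev0t, Od1t, Od0t, Finset.mem_union, Finset.mem_insert, Finset.mem_singleton]
    at h h'
  omega

/-- the number of vectors of sum of squares 48 with `x ∞ + x 0 = s`, as a computable expression -/
theorem count48_expr (s : ℤ) :
    {x : GolayPt → ℤ | x ∈ leechLattice ∧ sqNorm x = 48 ∧ x none + x (some 0) = s}.ncard
      = (keyTable.map (fun p => p.2 * gM Ev1t Ev0t 48 (4 * (2 : ℤ).toNat) s
          p.1.1 p.1.2.1 p.1.2.2)).sum
        + (keyTable.map (fun p => p.2 * gM Od1t Od0t 48 (4 * (1 : ℤ).toNat) s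
          p.1.1 p.1.2.1 p.1.2.2)).sum := by
  classical
  obtain ⟨F1, hF1, hc1⟩ := core_gen2 Ev1t Ev0t 2 (Or.inr rfl) (by decide) (by decide)
    (fun x => ∑ i, (x i).natAbs ^ 2 = 48 ∧ x none + x (some 0) = s)
    (fun C => gM Ev1t Ev0t 48 (4 * (2 : ℤ).toNat) s (wtM C) (decide (C none ≠ 0))
      (decide (C (some 0) ≠ 0)))
    (fun C => card_marked C _ _ (by decide) (by decide) 48 _ s)
  obtain ⟨F2, hF2, hc2⟩ := core_gen2 Od1t Od0t 1 (Or.inl rfl) (by decide) (by decide)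
    (fun x => ∑ i, (x i).natAbs ^ 2 = 48 ∧ x none + x (some 0) = s)
    (fun C => gM Od1t Od0t 48 (4 * (1 : ℤ).toNat) s (wtM C) (decide (C none ≠ 0))
      (decide (C (some 0) ≠ 0)))
    (fun C => card_marked C _ _ (by decide) (by decide) 48 _ s)
  have k1 := sum_by_key (fun c => gM Ev1t Ev0t 48 (4 * (2 : ℤ).toNat) s c.1 c.2.1 c.2.2)
  have k2 := sum_by_key (fun c => gM Od1t Od0t 48 (4 * (1 : ℤ).toNat) s c.1 c.2.1 c.2.2)
  have hc1' : F1.card = (keyTable.map (fun p => p.2 * gM Ev1t Ev0t 48 (4 * (2 : ℤ).toNat) s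
      p.1.1 p.1.2.1 p.1.2.2)).sum := by
    rw [hc1, ← k1]
    rfl
  have hc2' : F2.card = (keyTable.map (fun p => p.2 * gM Od1t Od0t 48 (4 * (1 : ℤ).toNat) s
      p.1.1 p.1.2.1 p.1.2.2)).sum := by
    rw [hc2, ← k2]
    rfl
  have hset : {x : GolayPt → ℤ | x ∈ leechLattice ∧ sqNorm x = 48 ∧ x none + x (some 0) = s}
      = ↑(F1 ∪ F2) := by
    ext x
    simp only [Set.mem_ofPred_eq, Finset.coe_union, Set.mem_union, Finset.mem_coe, hF1, hF2]
    have hn : sqNorm x = 48 ↔ ∑ i, (x i).natAbs ^ 2 = 48 := by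
      rw [sqNorm_eq_cast]
      exact_mod_cast Iff.rfl
    constructor
    · rintro ⟨h1, h2, h3⟩
      rcases entries48 x h1 h2 with h | h
      · exact Or.inl ⟨h1, ⟨hn.1 h2, h3⟩, h⟩
      · exact Or.inr ⟨h1, ⟨hn.1 h2, h3⟩, h⟩
    · rintro (⟨h1, ⟨h2, h3⟩, -⟩ | ⟨h1, ⟨h2, h3⟩, -⟩) <;> exact ⟨h1, hn.2 h2, h3⟩
  rw [hset, Set.ncard_coe_finset, Finset.card_union_of_disjoint, hc1', hc2']
  rw [Finset.disjoint_left]
  intro x hx hx'
  exact evt_od_disjoint (x none) (((hF1 x).1 hx).2.2 none) (((hF2 x).1 hx').2.2 none)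

set_option maxRecDepth 1000000 in
theorem num48_even_m4 : (keyTable.map (fun p => p.2 * gM Ev1t Ev0t 48 (4 * (2 : ℤ).toNat) (-4)
    p.1.1 p.1.2.1 p.1.2.2)).sum = 478720 := by decide +kernel

set_option maxRecDepth 1000000 in
theorem num48_odd_m4 : (keyTable.map (fun p => p.2 * gM Od1t Od0t 48 (4 * (1 : ℤ).toNat) (-4)
    p.1.1 p.1.2.1 p.1.2.2)).sum = 475136 := by decide +kernel

/-- the number of vectors of sum of squares 48 with `x ∞ + x 0 = -4` -/
theorem count48 :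
    {x : GolayPt → ℤ | x ∈ leechLattice ∧ sqNorm x = 48 ∧ x none + x (some 0) = -4}.ncard
      = 953856 := by
  rw [count48_expr, num48_even_m4, num48_odd_m4]

end Cfsg.Agent.Lib.Lead.LC3
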