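import Cfsg.Agent.S1584
import Cfsg.Agent.S1640
import Cfsg.Agent.S0378
import Cfsg.Agent.S0379
import Cfsg.Agent.Lib.Lead.Rank3Simple
import Cfsg.Agent.Lib.Lead.ConwayOrder

set_option autoImplicit false

/-!
# The stabiliser of the standard Higman–Sims frame is simple of order 44352000
-/

namespace Cfsg.Agent.Lib.Lead.HS

open Cfsg
open Cfsg.Agent.Lib.Lead.LX Cfsg.Agent.Lib.Lead.CW Cfsg.Agent.Lib.Lead.CO Cfsg.Agent.Lib.Lead.CP
open Cfsg.Agent.Lib.helper3 Cfsg.Agent.Lib.helper4 Cfsg.Agent.S0398 Cfsg.Agent.S1571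
open Cfsg.Agent.Lib.Lead.LC Cfsg.Agent.Lib.Lead.LC3

instance finite_Co0 : Finite ↥Co0 := Nat.finite_of_card_ne_zero (by rw [card_Co0]; norm_num)

/-- the stabiliser of the standard frame -/
def G0 : Subgroup ↥Co0 := MulAction.stabilizer ↥Co0 u48 ⊓ MulAction.stabilizer ↥Co0 wS

theorem mem_G0 (g : ↥Co0) : g ∈ G0 ↔ g.1 u48 = u48 ∧ g.1 wS = wS := by
  unfold G0
  rw [Subgroup.mem_inf, MulAction.mem_stabilizer_iff, MulAction.mem_stabilizer_iff]
  rfl

theorem orbit_u48 : MulAction.orbit ↥Co0 u48 = {u : ↥leechLattice | sqNorm u.1 = 48} := by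
  ext u
  constructor
  · rintro ⟨g, rfl⟩
    show sqNorm (g.1 u48).1 = 48
    rw [g.2.2]
    exact frame_chk.1
  · intro hu
    obtain ⟨g, hg⟩ := trans48 u hu
    refine ⟨g⁻¹, ?_⟩
    show g⁻¹.1 u48 = u
    rw [← hg, inv_apply_apply]

theorem ncard_48 : {u : ↥leechLattice | sqNorm u.1 = 48}.ncard = 16773120 := by
  rw [← Cfsg.Agent.S1578.card_F48, ← Set.ncard_coe_finset]
  apply Set.ncard_congr (fun u _ => u.1)
  · intro u hu
    rw [Finset.mem_coe, Cfsg.Agent.S1578.mem_F48]
    exact ⟨u.2, hu⟩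
  · intro a b _ _ h
    exact Subtype.ext h
  · intro b hb
    rw [Finset.mem_coe, Cfsg.Agent.S1578.mem_F48] at hb
    exact ⟨⟨b, hb.1⟩, hb.2, rfl⟩

theorem card_stab_u48 : Nat.card ↥(MulAction.stabilizer ↥Co0 u48) = 495766656000 := by
  have h1 := MulAction.index_stabilizer ↥Co0 u48
  rw [orbit_u48, ncard_48] at h1
  have h2 := (MulAction.stabilizer ↥Co0 u48).card_mul_index
  rw [h1, card_Co0] at h2
  have h3 : 8292375 * (4096 * 244823040) = 495766656000 * 16773120 := by norm_num
  exact Nat.eq_of_mul_eq_mul_right (by norm_num : 0 < 16773120) (h2.trans h3)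

theorem orbit_wS : MulAction.orbit ↥(MulAction.stabilizer ↥Co0 u48) wS
    = {w : ↥leechLattice | sqNorm w.1 = 48 ∧ dotInt u48.1 w.1 = -32} := by
  ext w
  constructor
  · rintro ⟨g, rfl⟩
    have hg : g.1.1 u48 = u48 := g.2
    constructor
    · show sqNorm (g.1.1 wS).1 = 48
      rw [g.1.2.2]
      exact frame_chk.2.1
    · show dotInt u48.1 (g.1.1 wS).1 = -32
      have := dot_map g.1 u48 wS
      rw [hg] at this
      rw [this]
      exact frame_chk.2.2.1
  · rintro ⟨h1, h2⟩
    obtain ⟨g, hg1, hg2⟩ := hs_pair u48 wS u48 w frame_chk.1 frame_chk.2.1 frame_chk.2.2.1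
      frame_chk.1 h1 h2
    exact ⟨⟨g, hg1⟩, hg2⟩

theorem ncard_wS : {w : ↥leechLattice | sqNorm w.1 = 48 ∧ dotInt u48.1 w.1 = -32}.ncard
    = 11178 := by
  rw [← (Cfsg.Agent.S1640.result u48 frame_chk.1).1]
  have hu := frame_chk.1
  apply Set.ncard_congr (fun w _ => -(u48 + w))
  · rintro w ⟨h1, h2⟩
    constructor
    · show sqNorm (-(u48.1 + w.1)) = 32
      rw [sqNorm_neg, sqNorm_add, hu, h1, h2]
      norm_num
    · show dotInt u48.1 (-(u48.1 + w.1)) = -16
      rw [dot_neg_right, dot_add_right, dot_self, hu, h2]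
      norm_num
  · intro a b _ _ h
    have := neg_injective h
    exact add_left_cancel this
  · rintro x ⟨h1, h2⟩
    have h1' : sqNorm x.1 = 32 := h1
    have h2' : dotInt u48.1 x.1 = -16 := h2
    refine ⟨-x - u48, ⟨?_, ?_⟩, ?_⟩
    · show sqNorm (-x.1 - u48.1) = 48
      rw [sqNorm_sub, sqNorm_neg, h1', hu, dot_neg_left, dot_symm, h2']
      norm_num
    · show dotInt u48.1 (-x.1 - u48.1) = -32
      rw [dot_sub_right, dot_neg_right, h2', dot_self, hu]
      norm_num
    · show -(u48 + (-x - u48)) = x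
      abel

/-- the joint stabiliser as a stabiliser in a stabiliser -/
def stabEquiv : ↥(MulAction.stabilizer ↥(MulAction.stabilizer ↥Co0 u48) wS) ≃ ↥G0 where
  toFun g := ⟨g.1.1, (mem_G0 _).2 ⟨g.1.2, g.2⟩⟩
  invFun g := ⟨⟨g.1, ((mem_G0 _).1 g.2).1⟩, ((mem_G0 _).1 g.2).2⟩
  left_inv _ := rfl
  right_inv _ := rfl

theorem card_G0 : Nat.card ↥G0 = 44352000 := by
  rw [← Nat.card_congr stabEquiv]
  have h1 := MulAction.index_stabilizer ↥(MulAction.stabilizer ↥Co0 u48) wS
  rw [orbit_wS, ncard_wS] at h1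
  have h2 := (MulAction.stabilizer ↥(MulAction.stabilizer ↥Co0 u48) wS).card_mul_index
  rw [h1, card_stab_u48] at h2
  have h3 : 495766656000 = 44352000 * 11178 := by norm_num
  exact Nat.eq_of_mul_eq_mul_right (by norm_num : 0 < 11178) (h2.trans h3)

theorem orbit_v32 : MulAction.orbit ↥G0 v32 = XS := by
  ext y
  constructor
  · rintro ⟨g, rfl⟩
    obtain ⟨hu, hw⟩ := (mem_G0 _).1 g.2
    refine ⟨?_, ?_, ?_⟩
    · show sqNorm (g.1.1 v32).1 = 32
      rw [g.1.2.2]
      exact norm_v32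
    · show dotInt u48.1 (g.1.1 v32).1 = 24
      have := dot_map g.1 u48 v32
      rw [hu] at this
      rw [this]
      exact frame_chk.2.2.2.1
    · show dotInt wS.1 (g.1.1 v32).1 = -24
      have := dot_map g.1 wS v32
      rw [hw] at this
      rw [this]
      exact frame_chk.2.2.2.2
  · intro hy
    obtain ⟨g, hu, hw, hx⟩ := (Cfsg.Agent.S1583.result u48 wS frame_chk.1 frame_chk.2.1
      frame_chk.2.2.1).2 v32 v32_mem y hy
    exact ⟨⟨g, (mem_G0 _).2 ⟨hu, hw⟩⟩, hx⟩

/-- the two suborbits -/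
def T1 : Set ↥leechLattice := {y | y ∈ XS ∧ dotInt v32.1 y.1 = 8}

def T2 : Set ↥leechLattice := {y | y ∈ XS ∧ y ≠ v32 ∧ dotInt v32.1 y.1 ≠ 8}

theorem dot_hV (i : GolayPt) (d : GolayPt → ℤ) : dotInt (hV i) d = (∑ p, d p) - 4 * d i := by
  unfold dotInt hV
  have : ∀ p, (if p = i then (-3 : ℤ) else 1) * d p = d p - (if p = i then 4 * d i else 0) := by
    intro p
    by_cases h : p = i
    · subst h
      rw [if_pos rfl, if_pos rfl]
      ring
    · rw [if_neg h, if_neg h]
      ring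
  rw [Finset.sum_congr rfl (fun p _ => this p), Finset.sum_sub_distrib,
    Finset.sum_ite_eq' Finset.univ i, if_pos (Finset.mem_univ _)]

theorem dot_u48v (d : GolayPt → ℤ) : dotInt u48v d = (∑ p, d p) + 4 * d none := by
  unfold dotInt u48v
  have : ∀ p : GolayPt, (if p = none then (5 : ℤ) else 1) * d p
      = d p + (if p = none then 4 * d none else 0) := by
    intro p
    by_cases h : p = none
    · subst h
      rw [if_pos rfl, if_pos rfl]
      ring
    · rw [if_neg h, if_neg h]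
      ring
  rw [Finset.sum_congr rfl (fun p _ => this p), Finset.sum_add_distrib,
    Finset.sum_ite_eq' Finset.univ none, if_pos (Finset.mem_univ _)]

/-- a vector orthogonal to the frame vectors vanishes -/
theorem lin_zero (d : GolayPt → ℤ) (h1 : ∀ j : ZMod 23, j ≠ 0 → dotInt (hV (some j)) d = 0)
    (h2 : dotInt v32.1 d = 0) (h3 : dotInt u48v d = 0) : d = 0 := by
  rw [dot_v32] at h2
  rw [dot_u48v] at h3
  have h1' : ∀ j : ZMod 23, j ≠ 0 → (∑ p, d p) = 4 * d (some j) := by
    intro j hj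
    have := h1 j hj
    rw [dot_hV] at this
    omega
  have hs : (∑ p, d p) = d none + (d (some 0)
      + ∑ j ∈ (Finset.univ : Finset (ZMod 23)).erase 0, d (some j)) := by
    rw [Fintype.sum_option,
      Finset.add_sum_erase Finset.univ (fun j : ZMod 23 => d (some j)) (Finset.mem_univ 0)]
  have h4 : 4 * ∑ j ∈ (Finset.univ : Finset (ZMod 23)).erase 0, d (some j)
      = 22 * (∑ p, d p) := by
    rw [Finset.mul_sum]
    have : ∀ j ∈ (Finset.univ : Finset (ZMod 23)).erase 0, 4 * d (some j) = ∑ p, d p := by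
      intro j hj
      exact (h1' j (Finset.ne_of_mem_erase hj)).symm
    rw [Finset.sum_congr rfl this, Finset.sum_const, Finset.card_erase_of_mem (Finset.mem_univ _),
      Finset.card_univ, ZMod.card]
    simp
  have hs0 : (∑ p, d p) = 0 := by omega
  funext p
  show d p = 0
  rcases p with _ | j
  · show d none = 0
    omega
  · by_cases hj : j = 0
    · subst hj
      show d (some 0) = 0
      have : d none = 0 := by omega
      omega
    · have := h1' j hj
      show d (some j) = 0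
      omega

theorem faithful0 (g : ↥G0) (h : ∀ y ∈ MulAction.orbit ↥G0 v32, g • y = y) : g = 1 := by
  rw [orbit_v32] at h
  obtain ⟨hu, hw⟩ := (mem_G0 _).1 g.2
  have hfix : ∀ y ∈ XS, g.1.1 y = y := h
  have hall : ∀ y : ↥leechLattice, g.1.1 y = y := by
    intro y
    have hz : ∀ z : ↥leechLattice, g.1.1 z = z → dotInt z.1 ((g.1.1 y).1 - y.1) = 0 := by
      intro z hz
      have := dot_map g.1 z y
      rw [hz] at this
      rw [dot_sub_right, this]
      ring
    have hd : (g.1.1 y).1 - y.1 = 0 := by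
      apply lin_zero
      · intro j hj
        exact hz (hL (some j)) (hfix _ (hL_mem j hj).1)
      · exact hz v32 (hfix _ v32_mem)
      · exact hz u48 hu
    apply Subtype.ext
    exact sub_eq_zero.1 hd
  apply Subtype.ext
  apply Subtype.ext
  apply Equiv.ext
  exact hall

end Cfsg.Agent.Lib.Lead.HS
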