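import Cfsg.Agent.Lib.Lead.ConwayHSGroup
import Cfsg.Prelude.Def_Sporadic

set_option autoImplicit false
set_option linter.style.haveILetI false

/-!
# The stabiliser of the standard Higman–Sims frame is simple (continued)
-/

namespace Cfsg.Agent.Lib.Lead.HS

open Cfsg
open Cfsg.Agent.Lib.Lead.LX Cfsg.Agent.Lib.Lead.CW Cfsg.Agent.Lib.Lead.CO Cfsg.Agent.Lib.Lead.CP
open Cfsg.Agent.Lib.helper3 Cfsg.Agent.Lib.helper4 Cfsg.Agent.S0398 Cfsg.Agent.S1571
open Cfsg.Agent.Lib.Lead.LC Cfsg.Agent.Lib.Lead.LC3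

/-- the point stabiliser -/
abbrev K0 : Subgroup ↥G0 := MulAction.stabilizer ↥G0 v32

theorem index_K0 : K0.index = 100 := by
  show (MulAction.stabilizer ↥G0 v32).index = 100
  rw [MulAction.index_stabilizer, orbit_v32, XS_ncard]

theorem card_K0 : Nat.card ↥K0 = 443520 := by
  have h := K0.card_mul_index
  rw [index_K0, card_G0] at h
  omega

/-- the two-point stabiliser of the code -/
abbrev M22' : Subgroup ↥M24 :=
  MulAction.stabilizer ↥M24 (none : GolayPt) ⊓ MulAction.stabilizer ↥M24 (some 0 : GolayPt)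

theorem M22'_fix (π : ↥M22') : π.1.1 none = none ∧ π.1.1 (some 0) = some 0 := by
  have h := π.2
  rw [Subgroup.mem_inf, MulAction.mem_stabilizer_iff, MulAction.mem_stabilizer_iff] at h
  exact h

theorem inv_fix (ρ : Equiv.Perm GolayPt) (p : GolayPt) (h : ρ p = p) : ρ⁻¹ p = p := by
  rw [Equiv.Perm.inv_eq_iff_eq, h]

/-- a permutation fixing `∞` and `0`, as an element of the point stabiliser -/
def phi0 (ρ : Equiv.Perm GolayPt) (hρ : ρ ∈ M24) (h0 : ρ none = none)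
    (h1 : ρ (some 0) = some 0) : ↥K0 :=
  ⟨⟨⟨permE ρ hρ, permE_mem ρ hρ⟩, (mem_G0 _).2 ⟨perm_fix_u48 ρ hρ h0, perm_fix_wS ρ hρ h1⟩⟩,
    perm_fix ρ hρ h0 h1⟩

theorem phi0_apply (ρ : Equiv.Perm GolayPt) (hρ : ρ ∈ M24) (h0 : ρ none = none)
    (h1 : ρ (some 0) = some 0) (y : ↥leechLattice) (p : GolayPt) :
    ((phi0 ρ hρ h0 h1).1.1.1 y).1 p = y.1 (ρ p) := rfl

theorem K0_ext (a b : ↥K0) (h : ∀ (y : ↥leechLattice) (p : GolayPt),
    (a.1.1.1 y).1 p = (b.1.1.1 y).1 p) : a = b := by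
  apply Subtype.ext
  apply Subtype.ext
  apply Subtype.ext
  apply Equiv.ext
  intro y
  apply Subtype.ext
  funext p
  exact h y p

/-- the action of the two-point stabiliser of the code -/
noncomputable def phi : ↥M22' →* ↥K0 :=
  MonoidHom.mk' (fun π => phi0 (π.1.1)⁻¹ (M24.inv_mem π.1.2)
      (inv_fix _ _ (M22'_fix π).1) (inv_fix _ _ (M22'_fix π).2)) (by
    intro π σ
    apply K0_ext
    intro y p
    show y.1 (((π * σ).1.1)⁻¹ p) = y.1 ((σ.1.1)⁻¹ ((π.1.1)⁻¹ p))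
    have : (π * σ).1.1 = π.1.1 * σ.1.1 := rfl
    rw [this, mul_inv_rev, Equiv.Perm.mul_apply])

theorem phi_apply (π : ↥M22') (y : ↥leechLattice) (p : GolayPt) :
    ((phi π).1.1.1 y).1 p = y.1 ((π.1.1)⁻¹ p) := rfl

theorem phi_injective : Function.Injective phi := by
  rw [injective_iff_map_eq_one]
  intro π hπ
  have h : ∀ i : GolayPt, (π.1.1)⁻¹ i = i := by
    intro i
    have h1 := phi_apply π (hL i) i
    rw [hπ] at h1
    have h2 : hV i i = hV i ((π.1.1)⁻¹ i) := h1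
    unfold hV at h2
    rw [if_pos rfl] at h2
    by_contra hne
    rw [if_neg hne] at h2
    omega
  apply Subtype.ext
  apply Subtype.ext
  have : (π.1.1)⁻¹ = 1 := Equiv.ext h
  exact inv_eq_one.1 this

theorem phi_surjective : Function.Surjective phi := by
  have hc : Nat.card ↥K0 ≤ Nat.card ↥M22' := by
    rw [card_K0, Cfsg.Agent.S0378.result none (some 0) (by simp)]
  exact (phi_injective.bijective_of_nat_card_le hc).2

theorem K0_simple : IsSimpleGroup ↥K0 := by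
  haveI : IsSimpleGroup ↥M22' := Cfsg.Agent.S0379.result none (some 0) (by simp)
  haveI : Nontrivial ↥K0 := by
    apply Finite.one_lt_card_iff_nontrivial.1
    rw [card_K0]
    norm_num
  exact IsSimpleGroup.isSimpleGroup_of_surjective phi phi_surjective

theorem dot_v32_self' : dotInt v32.1 v32.1 = 32 := by
  rw [dot_self]
  exact norm_v32

theorem hyp0 : Cfsg.Agent.Lib.Lead.R3S.Hyp (G := ↥G0) v32 T1 T2 := by
  obtain ⟨-, -, cnt1, cnt2⟩ := std_class
  have h3 := (Cfsg.Agent.S1584.result u48 wS v32 frame_chk.1 frame_chk.2.1 frame_chk.2.2.1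
    v32_mem).2.2
  refine ⟨?_, ?_, ?_, ?_, index_K0, cnt1, cnt2, ?_, ?_, K0_simple, faithful0⟩
  · rw [orbit_v32]
    ext y
    constructor
    · intro hy
      by_cases h1 : y = v32
      · exact Or.inl (Or.inl h1)
      · by_cases h2 : dotInt v32.1 y.1 = 8
        · exact Or.inl (Or.inr ⟨hy, h2⟩)
        · exact Or.inr ⟨hy, h1, h2⟩
    · rintro ((h | h) | h)
      · rw [Set.mem_singleton_iff.1 h]
        exact v32_mem
      · exact h.1
      · exact h.1
  · intro h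
    have := h.2
    rw [dot_v32_self'] at this
    omega
  · intro h
    exact h.2.1 rfl
  · rw [Set.disjoint_left]
    intro y h1 h2
    exact h2.2.2 h1.2
  · intro y hy y' hy'
    have n1 : y ≠ v32 := by
      rintro rfl
      have := hy.2
      rw [dot_v32_self'] at this
      omega
    have n1' : y' ≠ v32 := by
      rintro rfl
      have := hy'.2
      rw [dot_v32_self'] at this
      omega
    obtain ⟨g, hu, hw, hx, hyy⟩ := h3 y hy.1 y' hy'.1 n1 n1'
      ⟨fun _ => hy'.2, fun _ => hy.2⟩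
    exact ⟨⟨g, (mem_G0 _).2 ⟨hu, hw⟩⟩, hx, hyy⟩
  · intro y hy y' hy'
    obtain ⟨g, hu, hw, hx, hyy⟩ := h3 y hy.1 y' hy'.1 hy.2.1 hy'.2.1
      ⟨fun h => absurd h hy.2.2, fun h => absurd h hy'.2.2⟩
    exact ⟨⟨g, (mem_G0 _).2 ⟨hu, hw⟩⟩, hx, hyy⟩

theorem G0_simple : IsSimpleGroup ↥G0 := Cfsg.Agent.Lib.Lead.R3S.simple hyp0

/-- conjugation of the standard stabiliser onto the stabiliser of any such pair -/
def conjEquiv (v w : ↥leechLattice) (k0 : ↥Co0) (hv : k0.1 u48 = v) (hw : k0.1 wS = w) :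
    ↥G0 ≃* ↥(MulAction.stabilizer ↥Co0 v ⊓ MulAction.stabilizer ↥Co0 w) where
  toFun g := ⟨k0 * g.1 * k0⁻¹, by
    obtain ⟨hu, hw'⟩ := (mem_G0 _).1 g.2
    rw [Subgroup.mem_inf, MulAction.mem_stabilizer_iff, MulAction.mem_stabilizer_iff]
    exact ⟨Cfsg.Agent.S1584.conj_fix k0 g.1 u48 v hv hu,
      Cfsg.Agent.S1584.conj_fix k0 g.1 wS w hw hw'⟩⟩
  invFun h := ⟨k0⁻¹ * h.1 * k0, by
    have h2 := h.2
    rw [Subgroup.mem_inf, MulAction.mem_stabilizer_iff, MulAction.mem_stabilizer_iff] at h2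
    have hv' : h.1.1 v = v := h2.1
    have hw' : h.1.1 w = w := h2.2
    rw [mem_G0]
    constructor
    · show k0⁻¹.1 (h.1.1 (k0.1 u48)) = u48
      rw [hv, hv', ← hv, inv_apply_apply]
    · show k0⁻¹.1 (h.1.1 (k0.1 wS)) = wS
      rw [hw, hw', ← hw, inv_apply_apply]⟩
  left_inv g := by
    apply Subtype.ext
    show k0⁻¹ * (k0 * g.1 * k0⁻¹) * k0 = g.1
    group
  right_inv h := by
    apply Subtype.ext
    show k0 * (k0⁻¹ * h.1 * k0) * k0⁻¹ = h.1
    group
  map_mul' a b := by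
    apply Subtype.ext
    show k0 * (a.1 * b.1) * k0⁻¹ = (k0 * a.1 * k0⁻¹) * (k0 * b.1 * k0⁻¹)
    group

theorem isHS (v w : ↥leechLattice) (hv : sqNorm v.1 = 48) (hw : sqNorm w.1 = 48)
    (hvw : dotInt v.1 w.1 = -32) :
    IsHS ↥(MulAction.stabilizer ↥Co0 v ⊓ MulAction.stabilizer ↥Co0 w) := by
  obtain ⟨k0, h1, h2⟩ := hs_pair u48 wS v w frame_chk.1 frame_chk.2.1 frame_chk.2.2.1 hv hw hvw
  haveI := G0_simple
  refine ⟨(conjEquiv v w k0 h1 h2).symm.isSimpleGroup, ?_⟩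
  rw [← Nat.card_congr (conjEquiv v w k0 h1 h2).toEquiv, card_G0]

end Cfsg.Agent.Lib.Lead.HS
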