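import Cfsg.Agent.Lib.Lead.ConwayPairs

/-!
# Moves fixing the minimal vector `4e_∞ + 4e_0`

* `tool2`: the basic move (four coordinates, with signs, brought to the first tetrad, then
  Conway's map), uniformly in the vector;
* `move`: an automorphism fixing `v32 = 4e_∞ + 4e_0` built from `tool2`, with its effect on the
  coordinates `∞`, `0` of any lattice vector;
* `RelF`: equivalence of lattice vectors under the stabiliser of `v32`.
-/

set_option autoImplicit false
open Cfsg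

namespace Cfsg.Agent.Lib.Lead.CP

open Cfsg.Agent.Lib.Lead.LX Cfsg.Agent.Lib.Lead.CW Cfsg.Agent.Lib.Lead.CO
open Cfsg.Agent.Lib.helper3 Cfsg.Agent.Lib.helper4 Cfsg.Agent.S0398 Cfsg.Agent.S1571

theorem pt02 : pt 0 2 = some 1 := by decide +kernel

theorem pt03 : pt 0 3 = some 2 := by decide +kernel

/-- uniform version of the basic move -/
theorem tool2 (a : Fin 4 ↪ GolayPt) (ε : Fin 4 → ℤ) (hε : ∀ j, ε j = 1 ∨ ε j = -1) :
    ∃ g : ↥Co0, ∀ (x : ↥leechLattice) (j : Fin 4), (g.1 x).1 (pt 0 j)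
      = (ε 0 * x.1 (a 0) + ε 1 * x.1 (a 1) + ε 2 * x.1 (a 2) + ε 3 * x.1 (a 3)) / 2
        - ε j * x.1 (a j) := by
  obtain ⟨π, hπ, hπa⟩ := exists_perm4 a
  obtain ⟨c, hc, hcS⟩ := exists_sign (fun j => decide (ε j = -1))
  refine ⟨⟨xiE * (flipE c hc * permE π hπ),
    Co0.mul_mem xiE_mem (Co0.mul_mem (flipE_mem c hc) (permE_mem π hπ))⟩, fun x j => ?_⟩
  have hw : ∀ l, ((flipE c hc) ((permE π hπ) x)).1 (pt 0 l) = ε l * x.1 (a l) := by
    intro l
    show (if c (pt 0 l) ≠ 0 then -(x.1 (π (pt 0 l))) else x.1 (π (pt 0 l))) = _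
    rw [hπa l]
    by_cases h : ε l = -1
    · rw [if_pos ((hcS l).2 (by simpa using h)), h]
      ring
    · have hn : ¬ c (pt 0 l) ≠ 0 := by
        intro hc'
        have := (hcS l).1 hc'
        simp only [decide_eq_true_eq] at this
        exact h this
      rw [if_neg hn]
      rcases hε l with h1 | h1
      · rw [h1]
        ring
      · exact absurd h1 h
  show (xiE ((flipE c hc) ((permE π hπ) x))).1 (pt 0 j) = _
  rw [xiE_apply]
  unfold bsum
  rw [hw 0, hw 1, hw 2, hw 3, hw j]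

theorem inj4 (p : Fin 4 → GolayPt) (h01 : p 0 ≠ p 1) (h02 : p 0 ≠ p 2) (h03 : p 0 ≠ p 3)
    (h12 : p 1 ≠ p 2) (h13 : p 1 ≠ p 3) (h23 : p 2 ≠ p 3) : Function.Injective p := by
  intro i j hij
  fin_cases i <;> fin_cases j <;>
    first
    | rfl
    | exact absurd hij h01
    | exact absurd hij.symm h01
    | exact absurd hij h02
    | exact absurd hij.symm h02
    | exact absurd hij h03
    | exact absurd hij.symm h03
    | exact absurd hij h12
    | exact absurd hij.symm h12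
    | exact absurd hij h13
    | exact absurd hij.symm h13
    | exact absurd hij h23
    | exact absurd hij.symm h23

theorem inj3 (p : Fin 3 → GolayPt) (h01 : p 0 ≠ p 1) (h02 : p 0 ≠ p 2)
    (h12 : p 1 ≠ p 2) : Function.Injective p := by
  intro i j hij
  fin_cases i <;> fin_cases j <;>
    first
    | rfl
    | exact absurd hij h01
    | exact absurd hij.symm h01
    | exact absurd hij h02
    | exact absurd hij.symm h02
    | exact absurd hij h12
    | exact absurd hij.symm h12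

theorem M24_three : MulAction.IsMultiplyPretransitive M24 GolayPt 3 := by
  have := Cfsg.Agent.S0366.result
  have hc : 5 ≤ Nat.card GolayPt := by
    rw [Nat.card_eq_fintype_card, card_pts]
    norm_num
  exact MulAction.isMultiplyPretransitive_of_le (n := 5) (by norm_num) hc

/-- a permutation of the code fixing `∞` and `0` and sending `1` to a given point -/
theorem exists_perm3 (k : GolayPt) (hk1 : k ≠ none) (hk2 : k ≠ some 0) :
    ∃ π ∈ M24, π none = none ∧ π (some 0) = some 0 ∧ π (some 1) = k := by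
  have h := M24_three
  rw [MulAction.isMultiplyPretransitive_iff] at h
  obtain ⟨g, hg⟩ := h ⟨![none, some 0, some 1], inj3 _ (by simp) (by simp) (by decide)⟩
    ⟨![none, some 0, k], inj3 _ (by simp) (Ne.symm hk1) (Ne.symm hk2)⟩
  refine ⟨g.1, g.2, ?_, ?_, ?_⟩
  · exact congrArg (fun f : Fin 3 ↪ GolayPt => f 0) hg
  · exact congrArg (fun f : Fin 3 ↪ GolayPt => f 1) hg
  · exact congrArg (fun f : Fin 3 ↪ GolayPt => f 2) hg

set_option maxRecDepth 100000 in
theorem norm_v32 : sqNorm v32.1 = 32 := by decide +kernel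

theorem v32_apply (p : GolayPt) :
    v32.1 p = (if p = none then 4 else 0) + (if p = some 0 then 4 else 0) := rfl

theorem sq_le_norm (x : GolayPt → ℤ) (p q : GolayPt) (hpq : p ≠ q) :
    x p ^ 2 + x q ^ 2 ≤ sqNorm x := by
  unfold sqNorm
  have := Finset.sum_le_sum_of_subset_of_nonneg (Finset.subset_univ {p, q})
    (f := fun i => x i ^ 2) (fun i _ _ => sq_nonneg _)
  rw [Finset.sum_pair hpq] at this
  exact this

theorem vec_eq_pair (x : GolayPt → ℤ) (p q : GolayPt) (hpq : p ≠ q) (N : ℤ)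
    (hN : sqNorm x = N) (h : x p ^ 2 + x q ^ 2 = N) : ∀ r, r ≠ p → r ≠ q → x r = 0 := by
  intro r hrp hrq
  have h1 : x p ^ 2 + x q ^ 2 + x r ^ 2 ≤ sqNorm x := by
    unfold sqNorm
    have := Finset.sum_le_sum_of_subset_of_nonneg (Finset.subset_univ {p, q, r})
      (f := fun i => x i ^ 2) (fun i _ _ => sq_nonneg _)
    rw [Finset.sum_insert (by
      simp only [Finset.mem_insert, Finset.mem_singleton, not_or]
      exact ⟨hpq, Ne.symm hrp⟩), Finset.sum_pair (Ne.symm hrq)] at this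
    linarith
  have h2 : x r ^ 2 ≤ 0 := by linarith
  have h3 : x r ^ 2 = 0 := le_antisymm h2 (sq_nonneg _)
  exact pow_eq_zero_iff (by norm_num) |>.1 h3

/-- a vector with values `4`, `4` at `∞`, `0` and sum of squares 32 is `v32` -/
theorem eq_v32 (y : ↥leechLattice) (hN : sqNorm y.1 = 32) (h0 : y.1 none = 4)
    (h1 : y.1 (some 0) = 4) : y = v32 := by
  apply Subtype.ext
  funext p
  rw [v32_apply]
  by_cases hp0 : p = none
  · subst hp0
    rw [h0]
    simp
  · by_cases hp1 : p = some 0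
    · subst hp1
      rw [h1]
      simp
    · rw [if_neg hp0, if_neg hp1]
      rw [vec_eq_pair y.1 none (some 0) (by simp) 32 hN (by rw [h0, h1]; norm_num) p hp0 hp1]
      norm_num

/-- equivalence under the stabiliser of `v32` -/
def RelF (w w' : ↥leechLattice) : Prop := ∃ g : ↥Co0, g.1 v32 = v32 ∧ g.1 w = w'

theorem RelF.of_step {w w' : ↥leechLattice} (g : ↥Co0) (hg : g.1 v32 = v32)
    (h : RelF (g.1 w) w') : RelF w w' := by
  obtain ⟨k, hk1, hk2⟩ := h
  refine ⟨k * g, ?_, hk2⟩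
  show k.1 (g.1 v32) = v32
  rw [hg, hk1]

theorem RelF.refl (w : ↥leechLattice) : RelF w w := ⟨1, rfl, rfl⟩

/-- permutations fixing `∞` and `0` fix `v32` -/
theorem perm_fix (π : Equiv.Perm GolayPt) (hπ : π ∈ M24) (h0 : π none = none)
    (h1 : π (some 0) = some 0) : (permE π hπ) v32 = v32 := by
  apply eq_v32
  · rw [(permE_mem π hπ).2]
    exact norm_v32
  · show v32.1 (π none) = 4
    rw [h0]
    rfl
  · show v32.1 (π (some 0)) = 4
    rw [h1]
    rfl

/-- sign changes away from `∞` and `0` fix `v32` -/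
theorem flip_fix (c : GolayPt → ZMod 2) (hc : c ∈ golayCode) (h0 : ¬ c none ≠ 0)
    (h1 : ¬ c (some 0) ≠ 0) : (flipE c hc) v32 = v32 := by
  apply eq_v32
  · rw [(flipE_mem c hc).2]
    exact norm_v32
  · show (if c none ≠ 0 then -(v32.1 none) else v32.1 none) = 4
    rw [if_neg h0]
    rfl
  · show (if c (some 0) ≠ 0 then -(v32.1 (some 0)) else v32.1 (some 0)) = 4
    rw [if_neg h1]
    rfl

/-- exchanging the coordinates `∞` and `0` -/
theorem swap_move : ∃ g : ↥Co0, g.1 v32 = v32 ∧ ∀ x : ↥leechLattice,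
    (g.1 x).1 none = x.1 (some 0) ∧ (g.1 x).1 (some 0) = x.1 none := by
  have h2 := M24_two
  rw [MulAction.is_two_pretransitive_iff] at h2
  obtain ⟨π, hπ1, hπ2⟩ := h2 (a := (none : GolayPt)) (b := some 0) (c := some 0) (d := none)
    (by simp) (by simp)
  have hπ1' : π.1 none = some 0 := hπ1
  have hπ2' : π.1 (some 0) = none := hπ2
  refine ⟨⟨permE π.1 π.2, permE_mem π.1 π.2⟩, ?_, fun x => ⟨?_, ?_⟩⟩
  · apply eq_v32
    · rw [(permE_mem π.1 π.2).2]
      exact norm_v32
    · show v32.1 (π.1 none) = 4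
      rw [hπ1']
      rfl
    · show v32.1 (π.1 (some 0)) = 4
      rw [hπ2']
      rfl
  · show x.1 (π.1 none) = _
    rw [hπ1']
  · show x.1 (π.1 (some 0)) = _
    rw [hπ2']

/-- the main move: an automorphism fixing `v32`, with its effect on the coordinates `∞`, `0` -/
theorem move (p q : GolayPt) (hp0 : p ≠ none) (hp1 : p ≠ some 0) (hq0 : q ≠ none)
    (hq1 : q ≠ some 0) (hpq : p ≠ q) (ε2 ε3 : ℤ) (h2 : ε2 = 1 ∨ ε2 = -1)
    (h3 : ε3 = 1 ∨ ε3 = -1) :
    ∃ (h : ↥Co0) (r1 r2 : GolayPt), h.1 v32 = v32 ∧ ∀ x : ↥leechLattice,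
      (h.1 x).1 none = (x.1 none + x.1 (some 0) + ε2 * x.1 p + ε3 * x.1 q) / 2 - ε2 * x.1 p ∧
      (h.1 x).1 (some 0) = (x.1 none + x.1 (some 0) + ε2 * x.1 p + ε3 * x.1 q) / 2 - ε3 * x.1 q ∧
      (h.1 x).1 r1 = (x.1 none + x.1 (some 0) + ε2 * x.1 p + ε3 * x.1 q) / 2 - x.1 none ∧
      (h.1 x).1 r2 = (x.1 none + x.1 (some 0) + ε2 * x.1 p + ε3 * x.1 q) / 2 - x.1 (some 0) := by
  obtain ⟨g, hg⟩ := tool2 ⟨![none, some 0, p, q], inj4 _ (by simp) (Ne.symm hp0) (Ne.symm hq0)
    (Ne.symm hp1) (Ne.symm hq1) hpq⟩ ![1, 1, ε2, ε3] (by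
      intro j
      fin_cases j
      · exact Or.inl rfl
      · exact Or.inl rfl
      · exact h2
      · exact h3)
  have hg0 : ∀ x : ↥leechLattice, (g.1 x).1 (pt 0 0)
      = (x.1 none + x.1 (some 0) + ε2 * x.1 p + ε3 * x.1 q) / 2 - x.1 none := by
    intro x
    have := hg x 0
    simp only [Function.Embedding.coeFn_mk, Matrix.cons_val_zero, Matrix.cons_val_one,
      Matrix.cons_val, one_mul] at this
    exact this
  have hg1 : ∀ x : ↥leechLattice, (g.1 x).1 (pt 0 1)
      = (x.1 none + x.1 (some 0) + ε2 * x.1 p + ε3 * x.1 q) / 2 - x.1 (some 0) := by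
    intro x
    have := hg x 1
    simp only [Function.Embedding.coeFn_mk, Matrix.cons_val_zero, Matrix.cons_val_one,
      Matrix.cons_val, one_mul] at this
    exact this
  have hg2 : ∀ x : ↥leechLattice, (g.1 x).1 (pt 0 2)
      = (x.1 none + x.1 (some 0) + ε2 * x.1 p + ε3 * x.1 q) / 2 - ε2 * x.1 p := by
    intro x
    have := hg x 2
    simp only [Function.Embedding.coeFn_mk, Matrix.cons_val_zero, Matrix.cons_val_one,
      Matrix.cons_val, one_mul] at this
    exact this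
  have hg3 : ∀ x : ↥leechLattice, (g.1 x).1 (pt 0 3)
      = (x.1 none + x.1 (some 0) + ε2 * x.1 p + ε3 * x.1 q) / 2 - ε3 * x.1 q := by
    intro x
    have := hg x 3
    simp only [Function.Embedding.coeFn_mk, Matrix.cons_val_zero, Matrix.cons_val_one,
      Matrix.cons_val, one_mul] at this
    exact this
  have hv0 : v32.1 none = 4 := rfl
  have hv1 : v32.1 (some 0) = 4 := rfl
  have hvp : v32.1 p = 0 := by
    rw [v32_apply, if_neg hp0, if_neg hp1]
    norm_num
  have hvq : v32.1 q = 0 := by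
    rw [v32_apply, if_neg hq0, if_neg hq1]
    norm_num
  have y2 : (g.1 v32).1 (pt 0 2) = 4 := by
    rw [hg2 v32, hv0, hv1, hvp, hvq]
    norm_num
  have y3 : (g.1 v32).1 (pt 0 3) = 4 := by
    rw [hg3 v32, hv0, hv1, hvp, hvq]
    norm_num
  have h2t := M24_two
  rw [MulAction.is_two_pretransitive_iff] at h2t
  obtain ⟨π, hπ1, hπ2⟩ := h2t (a := (none : GolayPt)) (b := some 0) (c := pt 0 2) (d := pt 0 3)
    (by simp) (by decide +kernel)
  have hπ1' : π.1 none = pt 0 2 := hπ1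
  have hπ2' : π.1 (some 0) = pt 0 3 := hπ2
  refine ⟨⟨permE π.1 π.2, permE_mem π.1 π.2⟩ * g, π.1.symm (pt 0 0), π.1.symm (pt 0 1), ?_,
    fun x => ⟨?_, ?_, ?_, ?_⟩⟩
  · apply eq_v32
    · show sqNorm ((permE π.1 π.2) (g.1 v32)).1 = 32
      rw [(permE_mem π.1 π.2).2, g.2.2]
      exact norm_v32
    · show (g.1 v32).1 (π.1 none) = 4
      rw [hπ1']
      exact y2
    · show (g.1 v32).1 (π.1 (some 0)) = 4
      rw [hπ2']
      exact y3
  · show (g.1 x).1 (π.1 none) = _
    rw [hπ1', hg2 x]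
  · show (g.1 x).1 (π.1 (some 0)) = _
    rw [hπ2', hg3 x]
  · show (g.1 x).1 (π.1 (π.1.symm (pt 0 0))) = _
    rw [Equiv.apply_symm_apply, hg0 x]
  · show (g.1 x).1 (π.1 (π.1.symm (pt 0 1))) = _
    rw [Equiv.apply_symm_apply, hg1 x]

/-! ### shapes -/

theorem cnt_two_of (x : GolayPt → ℤ) (p q : GolayPt) (hpq : p ≠ q) (u : ℕ)
    (hp : (x p).natAbs = u) (hq : (x q).natAbs = u) : 2 ≤ cnt x u := by
  unfold cnt
  have hsub : ({p, q} : Finset GolayPt) ⊆ Finset.univ.filter (fun r => (x r).natAbs = u) := by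
    intro r hr
    simp only [Finset.mem_insert, Finset.mem_singleton] at hr
    rcases hr with rfl | rfl
    · exact Finset.mem_filter.2 ⟨Finset.mem_univ _, hp⟩
    · exact Finset.mem_filter.2 ⟨Finset.mem_univ _, hq⟩
  have hc : ({p, q} : Finset GolayPt).card = 2 := Finset.card_pair hpq
  rw [← hc]
  exact Finset.card_le_card hsub

/-- a minimal vector with a coordinate `±4` has exactly one more, and is zero elsewhere -/
theorem pair_shape (w : ↥leechLattice) (hN : sqNorm w.1 = 32) (i : GolayPt)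
    (hi : (w.1 i).natAbs = 4) :
    ∃ k, k ≠ i ∧ (w.1 k).natAbs = 4 ∧ ∀ p, p ≠ i → p ≠ k → w.1 p = 0 := by
  have h4 := cnt_pos_of w.1 i 4 hi
  have hev := even_of_cnt w 4 (by norm_num) h4
  obtain ⟨z1, z3, z5, z7⟩ := even_facts w.1 hev
  have ht := cnt_total w.1 (by omega)
  have hn := norm_nat w.1 32 (by exact_mod_cast hN) (by norm_num)
  have hw := weight_cases w.1 w.2 (by omega)
  have hc4 : cnt w.1 4 = 2 := by omega
  unfold cnt at hc4
  have h1 : 1 < (Finset.univ.filter (fun p => (w.1 p).natAbs = 4)).card := by omega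
  obtain ⟨k, hk, hki⟩ := Finset.exists_mem_ne h1 i
  rw [Finset.mem_filter] at hk
  refine ⟨k, hki, hk.2, ?_⟩
  have e1 : w.1 i ^ 2 = 16 := by
    have : w.1 i = 4 ∨ w.1 i = -4 := by omega
    rcases this with h | h <;> rw [h] <;> norm_num
  have e2 : w.1 k ^ 2 = 16 := by
    have : w.1 k = 4 ∨ w.1 k = -4 := by omega
    rcases this with h | h <;> rw [h] <;> norm_num
  exact vec_eq_pair w.1 i k (Ne.symm hki) 32 hN (by rw [e1, e2]; norm_num)

theorem exists_fourth : ∀ a b c : GolayPt, ∃ d, d ≠ a ∧ d ≠ b ∧ d ≠ c := by decide +kernel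

end Cfsg.Agent.Lib.Lead.CP
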