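import Cfsg.Agent.Lib.Lead.ConwayXi
import Cfsg.Agent.S0366

/-!
# Tools for the transitivity of the automorphism group of the Leech lattice

* `tool`: move any four coordinates, with any signs, to the first tetrad and apply Conway's map;
* `cnt x u`: the number of coordinates of absolute value `u`; histogram identities;
* `exists_emb`: pick four distinct coordinates with prescribed absolute values.
-/

set_option autoImplicit false
open Cfsg

namespace Cfsg.Agent.Lib.Lead.CW

open Cfsg.Agent.Lib.helper3 Cfsg.Agent.Lib.helper4 Cfsg.Agent.S1571 Cfsg.Agent.S0398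

/-! ### moving four points, with signs -/

theorem card_pts : Fintype.card GolayPt = 24 := by decide

theorem M24_four : MulAction.IsMultiplyPretransitive M24 GolayPt 4 := by
  have := Cfsg.Agent.S0366.result
  have hc : 5 ≤ Nat.card GolayPt := by
    rw [Nat.card_eq_fintype_card]
    rw [card_pts]
    norm_num
  exact MulAction.isMultiplyPretransitive_of_le (n := 5) (by norm_num) hc

theorem pt0_inj : Function.Injective (fun j : Fin 4 => pt 0 j) := by decide +kernel

theorem exists_perm4 (a : Fin 4 ↪ GolayPt) : ∃ π ∈ M24, ∀ j, π (pt 0 j) = a j := by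
  have h := M24_four
  rw [MulAction.isMultiplyPretransitive_iff] at h
  obtain ⟨g, hg⟩ := h ⟨fun j => pt 0 j, pt0_inj⟩ a
  refine ⟨g.1, g.2, fun j => ?_⟩
  have := congrArg (fun f : Fin 4 ↪ GolayPt => f j) hg
  exact this

set_option maxRecDepth 100000 in
theorem sign_codeword : ∀ s0 s1 s2 s3 : Bool, ∃ k : Fin 4096,
    decide (gword (golayMask k.val) (pt 0 0) ≠ 0) = s0 ∧
    decide (gword (golayMask k.val) (pt 0 1) ≠ 0) = s1 ∧
    decide (gword (golayMask k.val) (pt 0 2) ≠ 0) = s2 ∧
    decide (gword (golayMask k.val) (pt 0 3) ≠ 0) = s3 := by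
  decide +kernel

theorem exists_sign (S : Fin 4 → Bool) :
    ∃ c ∈ golayCode, ∀ j, (c (pt 0 j) ≠ 0 ↔ S j = true) := by
  obtain ⟨k, h0, h1, h2, h3⟩ := sign_codeword (S 0) (S 1) (S 2) (S 3)
  refine ⟨gword (golayMask k.val), golayMask_mem _, fun j => ?_⟩
  fin_cases j
  · show gword (golayMask k.val) (pt 0 0) ≠ 0 ↔ S 0 = true
    rw [← h0]; simp
  · show gword (golayMask k.val) (pt 0 1) ≠ 0 ↔ S 1 = true
    rw [← h1]; simp
  · show gword (golayMask k.val) (pt 0 2) ≠ 0 ↔ S 2 = true
    rw [← h2]; simp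
  · show gword (golayMask k.val) (pt 0 3) ≠ 0 ↔ S 3 = true
    rw [← h3]; simp

/-- the basic move -/
theorem tool (v : ↥leechLattice) (a : Fin 4 ↪ GolayPt) (δ : Fin 4 → ℤ)
    (hδ : ∀ j, δ j = 1 ∨ δ j = -1) :
    ∃ g : ↥Co0, ∀ j, (g.1 v).1 (pt 0 j)
      = (δ 0 * |v.1 (a 0)| + δ 1 * |v.1 (a 1)| + δ 2 * |v.1 (a 2)| + δ 3 * |v.1 (a 3)|) / 2
        - δ j * |v.1 (a j)| := by
  obtain ⟨π, hπ, hπa⟩ := exists_perm4 a
  obtain ⟨c, hc, hcS⟩ := exists_sign (fun j => decide (δ j * |v.1 (a j)| ≠ v.1 (a j)))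
  refine ⟨⟨xiE * (flipE c hc * permE π hπ),
    Co0.mul_mem xiE_mem (Co0.mul_mem (flipE_mem c hc) (permE_mem π hπ))⟩, fun j => ?_⟩
  have hw : ∀ l, ((flipE c hc) ((permE π hπ) v)).1 (pt 0 l) = δ l * |v.1 (a l)| := by
    intro l
    show (if c (pt 0 l) ≠ 0 then -(v.1 (π (pt 0 l))) else v.1 (π (pt 0 l))) = _
    rw [hπa l]
    by_cases h : δ l * |v.1 (a l)| ≠ v.1 (a l)
    · rw [if_pos ((hcS l).2 (by simpa using h))]
      rcases hδ l with hd | hd <;> rw [hd] at h ⊢ <;>
        rcases abs_cases (v.1 (a l)) with ⟨h1, _⟩ | ⟨h1, _⟩ <;> rw [h1] at h ⊢ <;> omega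
    · have hn : ¬ c (pt 0 l) ≠ 0 := by
        intro hc'
        have := (hcS l).1 hc'
        simp only [decide_eq_true_eq] at this
        exact h this
      rw [if_neg hn]
      exact (not_not.1 h).symm
  show (xiE ((flipE c hc) ((permE π hπ) v))).1 (pt 0 j) = _
  rw [xiE_apply]
  unfold bsum
  rw [hw 0, hw 1, hw 2, hw 3, hw j]

/-! ### histograms -/

/-- the number of coordinates of absolute value `u` -/
def cnt (x : V) (u : ℕ) : ℕ := (Finset.univ.filter (fun p => (x p).natAbs = u)).card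

theorem hist (x : V) (B : ℕ) (hB : ∀ p, (x p).natAbs < B) (f : ℕ → ℕ) :
    ∑ p, f (x p).natAbs = ∑ u ∈ Finset.range B, cnt x u * f u := by
  rw [← Finset.sum_fiberwise_of_maps_to (s := Finset.univ) (t := Finset.range B)
    (g := fun p => (x p).natAbs) (fun p _ => Finset.mem_range.2 (hB p))]
  apply Finset.sum_congr rfl
  intro u _
  rw [Finset.sum_congr rfl (fun p hp => by rw [(Finset.mem_filter.1 hp).2]), Finset.sum_const,
    smul_eq_mul]
  rfl

theorem natAbs_lt_nine (x : V) (hN : sqNorm x ≤ 64) (p : GolayPt) : (x p).natAbs < 9 := by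
  have h1 : x p ^ 2 ≤ sqNorm x := by
    unfold sqNorm
    exact Finset.single_le_sum (f := fun i => x i ^ 2) (fun i _ => sq_nonneg _) (Finset.mem_univ p)
  by_contra h
  push Not at h
  have h2 : (9 : ℤ) ≤ ((x p).natAbs : ℤ) := by exact_mod_cast h
  have h3 : ((x p).natAbs : ℤ) ^ 2 = x p ^ 2 := Int.natAbs_sq _
  nlinarith

theorem cnt_total (x : V) (hN : sqNorm x ≤ 64) :
    cnt x 0 + cnt x 1 + cnt x 2 + cnt x 3 + cnt x 4 + cnt x 5 + cnt x 6 + cnt x 7 + cnt x 8
      = 24 := by
  have h := hist x 9 (natAbs_lt_nine x hN) (fun _ => 1)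
  simp only [Finset.sum_const, Finset.card_univ, smul_eq_mul, mul_one, Finset.sum_range_succ,
    Finset.sum_range_zero, zero_add] at h
  rw [card_pts] at h
  omega

theorem cnt_norm (x : V) (hN : sqNorm x ≤ 64) :
    sqNorm x = ((cnt x 1 + 4 * cnt x 2 + 9 * cnt x 3 + 16 * cnt x 4 + 25 * cnt x 5 + 36 * cnt x 6
      + 49 * cnt x 7 + 64 * cnt x 8 : ℕ) : ℤ) := by
  have h := hist x 9 (natAbs_lt_nine x hN) (fun u => u ^ 2)
  simp only [Finset.sum_range_succ, Finset.sum_range_zero, zero_add] at h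
  have h2 : sqNorm x = ((∑ p, (x p).natAbs ^ 2 : ℕ) : ℤ) := by
    unfold sqNorm
    push_cast
    apply Finset.sum_congr rfl
    intro p _
    rw [sq_abs]
  rw [h2, h]
  push_cast
  ring

/-! ### parity and weights -/

theorem parity_cases (x : V) (hx : x ∈ leechLattice) :
    (∀ p, x p % 2 = 0) ∨ (∀ p, x p % 2 = 1) := by
  rw [mem_leechLattice_iff, mem_leechSet_iff] at hx
  obtain ⟨m, h1, -, -⟩ := hx
  have hm : m % 2 = 0 ∨ m % 2 = 1 := by omega
  rcases hm with hm | hm
  · left
    intro p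
    have := h1 p
    unfold Int.ModEq at this
    omega
  · right
    intro p
    have := h1 p
    unfold Int.ModEq at this
    omega

theorem cnt_eq_zero_of_even (x : V) (hev : ∀ p, x p % 2 = 0) (u : ℕ) (hu : u % 2 = 1) :
    cnt x u = 0 := by
  unfold cnt
  rw [Finset.card_eq_zero, Finset.filter_eq_empty_iff]
  intro p _ h
  have := hev p
  omega

theorem cnt_eq_zero_of_odd (x : V) (hod : ∀ p, x p % 2 = 1) (u : ℕ) (hu : u % 2 = 0) :
    cnt x u = 0 := by
  unfold cnt
  rw [Finset.card_eq_zero, Finset.filter_eq_empty_iff]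
  intro p _ h
  have := hod p
  omega

/-- the number of coordinates `≡ 2 mod 4` of an even lattice vector is a weight of the code -/
theorem weight_cases (x : V) (hx : x ∈ leechLattice) (hN : sqNorm x ≤ 64) :
    cnt x 2 + cnt x 6 = 0 ∨ cnt x 2 + cnt x 6 = 8 ∨ cnt x 2 + cnt x 6 = 12 ∨
      cnt x 2 + cnt x 6 = 16 ∨ cnt x 2 + cnt x 6 = 24 := by
  have hx' := hx
  rw [mem_leechLattice_iff, mem_leechSet_iff] at hx'
  obtain ⟨m, -, -, h3⟩ := hx'
  have hw := golay_weights _ (h3 2)
  have : hammingNorm (ind4 x 2) = cnt x 2 + cnt x 6 := by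
    unfold hammingNorm cnt
    rw [← Finset.card_union_of_disjoint]
    · congr 1
      ext p
      simp only [Finset.mem_filter, Finset.mem_univ, true_and, Finset.mem_union]
      have hb := natAbs_lt_nine x hN p
      show (if x p ≡ 2 [ZMOD 4] then (1 : ZMod 2) else 0) ≠ 0 ↔ _
      by_cases hp : x p ≡ 2 [ZMOD 4]
      · rw [if_pos hp]
        unfold Int.ModEq at hp
        constructor
        · intro _
          omega
        · intro _
          decide
      · rw [if_neg hp]
        unfold Int.ModEq at hp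
        constructor
        · intro h
          exact absurd rfl h
        · intro h
          omega
    · rw [Finset.disjoint_left]
      intro p hp hp'
      rw [Finset.mem_filter] at hp hp'
      omega
  rw [this] at hw
  exact hw

/-- for a lattice vector divisible by 4, the number of coordinates `±4` is even -/
theorem cnt_four_even (x : V) (hx : x ∈ leechLattice) (hN : sqNorm x ≤ 64)
    (h4 : ∀ p, x p % 4 = 0) : cnt x 4 % 2 = 0 := by
  have hx' := hx
  rw [mem_leechLattice_iff, mem_leechSet_iff] at hx'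
  obtain ⟨m, h1, h2, -⟩ := hx'
  have hm : m % 2 = 0 := by
    have := h1 none
    unfold Int.ModEq at this
    have := h4 none
    omega
  unfold Int.ModEq at h2
  have h4m : (4 * m) % 8 = 0 := by omega
  rw [h4m, Finset.sum_int_mod] at h2
  have h5 : ∀ p, x p % 8 = if (x p).natAbs = 4 then 4 else 0 := by
    intro p
    have hb := natAbs_lt_nine x hN p
    have := h4 p
    split_ifs with h <;> omega
  rw [Finset.sum_congr rfl (fun p _ => h5 p), Finset.sum_ite, Finset.sum_const_zero, add_zero,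
    Finset.sum_const, nsmul_eq_mul] at h2
  have : ((Finset.univ.filter (fun p => (x p).natAbs = 4)).card : ℤ) = (cnt x 4 : ℤ) := rfl
  rw [this] at h2
  omega

/-! ### picking coordinates -/

theorem exists_emb (x : V) (vals : Fin 4 → ℕ)
    (h : ∀ j, (Finset.univ.filter (fun l => vals l = vals j)).card ≤ cnt x (vals j)) :
    ∃ a : Fin 4 ↪ GolayPt, ∀ j, (x (a j)).natAbs = vals j := by
  classical
  have hne : ∀ u : ℕ, Nonempty ({l : Fin 4 // vals l = u} ↪ {p : GolayPt // (x p).natAbs = u}) := by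
    intro u
    apply Function.Embedding.nonempty_of_card_le
    rw [Fintype.card_subtype, Fintype.card_subtype]
    by_cases hu : ∃ j, vals j = u
    · obtain ⟨j, rfl⟩ := hu
      exact h j
    · push Not at hu
      have : Finset.univ.filter (fun l => vals l = u) = ∅ := by
        rw [Finset.filter_eq_empty_iff]
        intro l _
        exact hu l
      rw [this]
      exact Nat.zero_le _
  have f := fun u => Classical.choice (hne u)
  have aux : ∀ (u : ℕ) (l : Fin 4) (hl : vals l = u),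
      (f (vals l) ⟨l, rfl⟩).1 = (f u ⟨l, hl⟩).1 := by
    intro u l hl
    subst hl
    rfl
  refine ⟨⟨fun j => (f (vals j) ⟨j, rfl⟩).1, ?_⟩, fun j => (f (vals j) ⟨j, rfl⟩).2⟩
  intro j j' hjj
  have hjj' : (f (vals j) ⟨j, rfl⟩).1 = (f (vals j') ⟨j', rfl⟩).1 := hjj
  have h1 := (f (vals j) ⟨j, rfl⟩).2
  have h2 := (f (vals j') ⟨j', rfl⟩).2
  rw [hjj'] at h1
  have hv : vals j' = vals j := by rw [← h2, h1]
  rw [aux (vals j) j' hv] at hjj'
  have := (f (vals j)).injective (Subtype.ext hjj')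
  exact congrArg Subtype.val this

end Cfsg.Agent.Lib.Lead.CW
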