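import Cfsg.Agent.Lib.Lead.ConwayTool

/-!
# Transitivity of the automorphism group of the Leech lattice on short vectors

`trans32`, `trans48`, `trans64`: any lattice vector of sum of squares 32, 48, 64 is carried by an
automorphism to `4e_∞ + 4e_0`, `(5, 1^23)`, `8e_∞` respectively.
-/

set_option autoImplicit false
open Cfsg

namespace Cfsg.Agent.Lib.Lead.CW

open Cfsg.Agent.Lib.helper3 Cfsg.Agent.Lib.helper4 Cfsg.Agent.S1571 Cfsg.Agent.S0398

/-! ### steps -/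

/-- multiplicity of the `j`-th value -/
def mult (vals : Fin 4 → ℕ) (j : Fin 4) : ℕ :=
  (Finset.univ.filter (fun l => vals l = vals j)).card

theorem step4 (v : ↥leechLattice) (u0 u1 u2 u3 m0 m1 m2 m3 : ℕ)
    (hm : mult ![u0, u1, u2, u3] 0 = m0 ∧ mult ![u0, u1, u2, u3] 1 = m1 ∧
      mult ![u0, u1, u2, u3] 2 = m2 ∧ mult ![u0, u1, u2, u3] 3 = m3)
    (h0 : m0 ≤ cnt v.1 u0) (h1 : m1 ≤ cnt v.1 u1) (h2 : m2 ≤ cnt v.1 u2) (h3 : m3 ≤ cnt v.1 u3)
    (d0 d1 d2 d3 : ℤ)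
    (hd : (d0 = 1 ∨ d0 = -1) ∧ (d1 = 1 ∨ d1 = -1) ∧ (d2 = 1 ∨ d2 = -1) ∧ (d3 = 1 ∨ d3 = -1)) :
    ∃ g : ↥Co0,
      (g.1 v).1 (pt 0 0) = (d0 * u0 + d1 * u1 + d2 * u2 + d3 * u3) / 2 - d0 * u0 ∧
      (g.1 v).1 (pt 0 1) = (d0 * u0 + d1 * u1 + d2 * u2 + d3 * u3) / 2 - d1 * u1 ∧
      (g.1 v).1 (pt 0 2) = (d0 * u0 + d1 * u1 + d2 * u2 + d3 * u3) / 2 - d2 * u2 ∧
      (g.1 v).1 (pt 0 3) = (d0 * u0 + d1 * u1 + d2 * u2 + d3 * u3) / 2 - d3 * u3 := by
  obtain ⟨a, ha⟩ := exists_emb v.1 ![u0, u1, u2, u3] (by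
    intro j
    obtain ⟨e0, e1, e2, e3⟩ := hm
    fin_cases j
    · exact (le_of_eq e0).trans h0
    · exact (le_of_eq e1).trans h1
    · exact (le_of_eq e2).trans h2
    · exact (le_of_eq e3).trans h3)
  obtain ⟨g, hg⟩ := tool v a ![d0, d1, d2, d3] (by
    intro j
    obtain ⟨e0, e1, e2, e3⟩ := hd
    fin_cases j
    · exact e0
    · exact e1
    · exact e2
    · exact e3)
  have hab : ∀ j, |v.1 (a j)| = ((![u0, u1, u2, u3] j : ℕ) : ℤ) := by
    intro j
    rw [← ha j, Int.abs_eq_natAbs]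
  have e0 : |v.1 (a 0)| = (u0 : ℤ) := hab 0
  have e1 : |v.1 (a 1)| = (u1 : ℤ) := hab 1
  have e2 : |v.1 (a 2)| = (u2 : ℤ) := hab 2
  have e3 : |v.1 (a 3)| = (u3 : ℤ) := hab 3
  refine ⟨g, ?_, ?_, ?_, ?_⟩
  · have := hg 0
    rw [e0, e1, e2, e3] at this
    exact this
  · have := hg 1
    rw [e0, e1, e2, e3] at this
    exact this
  · have := hg 2
    rw [e0, e1, e2, e3] at this
    exact this
  · have := hg 3
    rw [e0, e1, e2, e3] at this
    exact this

theorem cnt_pos_of (x : V) (p : GolayPt) (u : ℕ) (h : (x p).natAbs = u) : 1 ≤ cnt x u := by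
  unfold cnt
  exact Finset.card_pos.2 ⟨p, Finset.mem_filter.2 ⟨Finset.mem_univ _, h⟩⟩

theorem cnt_three_of (x : V) (u : ℕ) (h1 : (x (pt 0 1)).natAbs = u) (h2 : (x (pt 0 2)).natAbs = u)
    (h3 : (x (pt 0 3)).natAbs = u) : 3 ≤ cnt x u := by
  unfold cnt
  have hsub : ({pt 0 1, pt 0 2, pt 0 3} : Finset GolayPt)
      ⊆ Finset.univ.filter (fun p => (x p).natAbs = u) := by
    intro p hp
    simp only [Finset.mem_insert, Finset.mem_singleton] at hp
    rcases hp with rfl | rfl | rfl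
    · exact Finset.mem_filter.2 ⟨Finset.mem_univ _, h1⟩
    · exact Finset.mem_filter.2 ⟨Finset.mem_univ _, h2⟩
    · exact Finset.mem_filter.2 ⟨Finset.mem_univ _, h3⟩
  have hc : ({pt 0 1, pt 0 2, pt 0 3} : Finset GolayPt).card = 3 := by decide +kernel
  rw [← hc]
  exact Finset.card_le_card hsub

theorem even_of_cnt (v : ↥leechLattice) (u : ℕ) (hu : u % 2 = 0) (h : 1 ≤ cnt v.1 u) :
    ∀ p, v.1 p % 2 = 0 := by
  rcases parity_cases v.1 v.2 with hev | hod
  · exact hev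
  · have := cnt_eq_zero_of_odd v.1 hod u hu
    omega

theorem odd_of_cnt (v : ↥leechLattice) (u : ℕ) (hu : u % 2 = 1) (h : 1 ≤ cnt v.1 u) :
    ∀ p, v.1 p % 2 = 1 := by
  rcases parity_cases v.1 v.2 with hev | hod
  · have := cnt_eq_zero_of_even v.1 hev u hu
    omega
  · exact hod

theorem even_facts (x : V) (hev : ∀ p, x p % 2 = 0) :
    cnt x 1 = 0 ∧ cnt x 3 = 0 ∧ cnt x 5 = 0 ∧ cnt x 7 = 0 :=
  ⟨cnt_eq_zero_of_even x hev 1 (by norm_num), cnt_eq_zero_of_even x hev 3 (by norm_num),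
    cnt_eq_zero_of_even x hev 5 (by norm_num), cnt_eq_zero_of_even x hev 7 (by norm_num)⟩

theorem odd_facts (x : V) (hod : ∀ p, x p % 2 = 1) :
    cnt x 0 = 0 ∧ cnt x 2 = 0 ∧ cnt x 4 = 0 ∧ cnt x 6 = 0 ∧ cnt x 8 = 0 :=
  ⟨cnt_eq_zero_of_odd x hod 0 (by norm_num), cnt_eq_zero_of_odd x hod 2 (by norm_num),
    cnt_eq_zero_of_odd x hod 4 (by norm_num), cnt_eq_zero_of_odd x hod 6 (by norm_num),
    cnt_eq_zero_of_odd x hod 8 (by norm_num)⟩

theorem norm_nat (x : V) (N : ℕ) (hN : sqNorm x = (N : ℤ)) (h64 : N ≤ 64) :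
    N = cnt x 1 + 4 * cnt x 2 + 9 * cnt x 3 + 16 * cnt x 4 + 25 * cnt x 5 + 36 * cnt x 6
      + 49 * cnt x 7 + 64 * cnt x 8 := by
  have h := cnt_norm x (by rw [hN]; exact_mod_cast h64)
  rw [hN] at h
  exact_mod_cast h

/-- equivalence under the automorphism group -/
def Rel (v w : ↥leechLattice) : Prop := ∃ g : ↥Co0, g.1 v = w

theorem Rel.of_step {v w : ↥leechLattice} (g : ↥Co0) (h : Rel (g.1 v) w) : Rel v w := by
  obtain ⟨k, hk⟩ := h
  exact ⟨k * g, hk⟩

theorem norm_step (g : ↥Co0) (v : ↥leechLattice) : sqNorm (g.1 v).1 = sqNorm v.1 := g.2.2 v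

/-! ### sum of squares 64 -/

theorem vec_eq_single (x : V) (p : GolayPt) (N : ℤ) (hN : sqNorm x = N) (hp : x p ^ 2 = N) :
    x = Pi.single p (x p) := by
  funext q
  by_cases hq : q = p
  · subst hq
    rw [Pi.single_eq_same]
  · rw [Pi.single_eq_of_ne hq]
    have h1 : x p ^ 2 + x q ^ 2 ≤ sqNorm x := by
      unfold sqNorm
      have := Finset.sum_le_sum_of_subset_of_nonneg (Finset.subset_univ {p, q})
        (f := fun i => x i ^ 2) (fun i _ _ => sq_nonneg _)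
      rw [Finset.sum_pair (Ne.symm hq)] at this
      exact this
    have h2 : x q ^ 2 ≤ 0 := by linarith
    have h3 : x q ^ 2 = 0 := le_antisymm h2 (sq_nonneg _)
    exact pow_eq_zero_iff (by norm_num) |>.1 h3

theorem L8 (v : ↥leechLattice) (hN : sqNorm v.1 = 64) (h : 1 ≤ cnt v.1 8) : Rel v (ev none) := by
  unfold cnt at h
  obtain ⟨p, hp⟩ := Finset.card_pos.1 h
  rw [Finset.mem_filter] at hp
  have hp8 : v.1 p = 8 ∨ v.1 p = -8 := by omega
  have hsq : v.1 p ^ 2 = 64 := by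
    rcases hp8 with h' | h' <;> rw [h'] <;> norm_num
  have hv := vec_eq_single v.1 p 64 hN hsq
  have := M24_pretransitive
  obtain ⟨π, hπ⟩ := MulAction.exists_smul_eq (M := ↥M24) (none : GolayPt) p
  have hπ' : π.1 none = p := hπ
  have hperm : ((permE π.1 π.2) v).1 = Pi.single none (v.1 p) := by
    have hvq : ∀ q, v.1 q = (Pi.single p (v.1 p) : V) q := fun q => congrFun hv q
    funext q
    show v.1 (π.1 q) = _
    by_cases hq : q = none
    · subst hq
      rw [hπ', Pi.single_eq_same]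
    · have : π.1 q ≠ p := by
        intro h'
        apply hq
        apply π.1.injective
        rw [h', hπ']
      rw [hvq (π.1 q), Pi.single_eq_of_ne this, Pi.single_eq_of_ne hq]
  rcases hp8 with h8 | h8
  · refine ⟨⟨permE π.1 π.2, permE_mem π.1 π.2⟩, ?_⟩
    apply Subtype.ext
    rw [hperm, h8]
    rfl
  · refine ⟨⟨Equiv.neg leechLattice, neg_mem_Co0⟩ * ⟨permE π.1 π.2, permE_mem π.1 π.2⟩, ?_⟩
    apply Subtype.ext
    show -((permE π.1 π.2) v).1 = _
    rw [hperm, h8]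
    funext q
    rw [ev_val]
    by_cases hq : q = none
    · subst hq
      simp
    · rw [Pi.neg_apply, Pi.single_eq_of_ne hq, Pi.single_eq_of_ne hq, neg_zero]

theorem L4x4 (v : ↥leechLattice) (hN : sqNorm v.1 = 64) (h : 3 ≤ cnt v.1 4) :
    Rel v (ev none) := by
  have hev := even_of_cnt v 4 (by norm_num) (by omega)
  obtain ⟨z1, z3, z5, z7⟩ := even_facts v.1 hev
  have ht := cnt_total v.1 (by omega)
  have hn := norm_nat v.1 64 (by exact_mod_cast hN) (by norm_num)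
  have hw := weight_cases v.1 v.2 (by omega)
  obtain ⟨g, g0, g1, g2, g3⟩ := step4 v 4 4 4 4 4 4 4 4 (by decide) (by omega) (by omega) (by omega)
    (by omega) 1 1 1 (-1) (by norm_num)
  apply Rel.of_step g
  apply L8 _ (by rw [norm_step, hN])
  apply cnt_pos_of _ (pt 0 3) 8
  rw [g3]
  norm_num

theorem L6 (v : ↥leechLattice) (hN : sqNorm v.1 = 64) (h : 1 ≤ cnt v.1 6) :
    Rel v (ev none) := by
  have hev := even_of_cnt v 6 (by norm_num) h
  obtain ⟨z1, z3, z5, z7⟩ := even_facts v.1 hev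
  have ht := cnt_total v.1 (by omega)
  have hn := norm_nat v.1 64 (by exact_mod_cast hN) (by norm_num)
  have hw := weight_cases v.1 v.2 (by omega)
  obtain ⟨g, g0, g1, g2, g3⟩ := step4 v 6 2 2 2 1 3 3 3 (by decide) (by omega) (by omega) (by omega)
    (by omega) 1 1 1 1 (by norm_num)
  apply Rel.of_step g
  apply L4x4 _ (by rw [norm_step, hN])
  apply cnt_three_of _ 4
  · rw [g1]; norm_num
  · rw [g2]; norm_num
  · rw [g3]; norm_num

theorem L5 (v : ↥leechLattice) (hN : sqNorm v.1 = 64) (h : 1 ≤ cnt v.1 5) :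
    Rel v (ev none) := by
  have hod := odd_of_cnt v 5 (by norm_num) h
  obtain ⟨z0, z2, z4, z6, z8⟩ := odd_facts v.1 hod
  have ht := cnt_total v.1 (by omega)
  have hn := norm_nat v.1 64 (by exact_mod_cast hN) (by norm_num)
  obtain ⟨g, g0, g1, g2, g3⟩ := step4 v 5 3 3 1 1 2 2 1 (by decide) (by omega) (by omega) (by omega)
    (by omega) 1 1 1 (-1) (by norm_num)
  apply Rel.of_step g
  apply L6 _ (by rw [norm_step, hN])
  apply cnt_pos_of _ (pt 0 3) 6
  rw [g3]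
  norm_num

theorem Lodd (v : ↥leechLattice) (hN : sqNorm v.1 = 64) (hod : ∀ p, v.1 p % 2 = 1) :
    Rel v (ev none) := by
  obtain ⟨z0, z2, z4, z6, z8⟩ := odd_facts v.1 hod
  have ht := cnt_total v.1 (by omega)
  have hn := norm_nat v.1 64 (by exact_mod_cast hN) (by norm_num)
  by_cases h5 : 1 ≤ cnt v.1 5
  · exact L5 v hN h5
  · obtain ⟨g, g0, g1, g2, g3⟩ := step4 v 3 3 3 3 4 4 4 4 (by decide) (by omega) (by omega)
      (by omega) (by omega) 1 1 1 (-1) (by norm_num)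
    apply Rel.of_step g
    apply L6 _ (by rw [norm_step, hN])
    apply cnt_pos_of _ (pt 0 3) 6
    rw [g3]
    norm_num

theorem L4 (v : ↥leechLattice) (hN : sqNorm v.1 = 64) (h : 1 ≤ cnt v.1 4) :
    Rel v (ev none) := by
  have hev := even_of_cnt v 4 (by norm_num) h
  obtain ⟨z1, z3, z5, z7⟩ := even_facts v.1 hev
  have ht := cnt_total v.1 (by omega)
  have hn := norm_nat v.1 64 (by exact_mod_cast hN) (by norm_num)
  have hw := weight_cases v.1 v.2 (by omega)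
  by_cases h8 : 1 ≤ cnt v.1 8
  · exact L8 v hN h8
  by_cases h6 : 1 ≤ cnt v.1 6
  · exact L6 v hN h6
  by_cases h43 : 3 ≤ cnt v.1 4
  · exact L4x4 v hN h43
  by_cases h42 : 2 ≤ cnt v.1 4
  · obtain ⟨g, g0, g1, g2, g3⟩ := step4 v 4 4 2 2 2 2 2 2 (by decide) (by omega) (by omega)
      (by omega) (by omega) 1 1 1 (-1) (by norm_num)
    apply Rel.of_step g
    apply L6 _ (by rw [norm_step, hN])
    apply cnt_pos_of _ (pt 0 3) 6
    rw [g3]
    norm_num
  · obtain ⟨g, g0, g1, g2, g3⟩ := step4 v 4 2 2 2 1 3 3 3 (by decide) (by omega) (by omega)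
      (by omega) (by omega) 1 1 1 (-1) (by norm_num)
    apply Rel.of_step g
    apply L5 _ (by rw [norm_step, hN])
    apply cnt_pos_of _ (pt 0 3) 5
    rw [g3]
    norm_num

/-- every lattice vector of sum of squares 64 is equivalent to `8e_∞` -/
theorem trans64 (v : ↥leechLattice) (hN : sqNorm v.1 = 64) : Rel v (ev none) := by
  rcases parity_cases v.1 v.2 with hev | hod
  · obtain ⟨z1, z3, z5, z7⟩ := even_facts v.1 hev
    have ht := cnt_total v.1 (by omega)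
    have hn := norm_nat v.1 64 (by exact_mod_cast hN) (by norm_num)
    have hw := weight_cases v.1 v.2 (by omega)
    by_cases h4 : 1 ≤ cnt v.1 4
    · exact L4 v hN h4
    by_cases h8 : 1 ≤ cnt v.1 8
    · exact L8 v hN h8
    by_cases h6 : 1 ≤ cnt v.1 6
    · exact L6 v hN h6
    obtain ⟨g, g0, g1, g2, g3⟩ := step4 v 2 2 2 2 4 4 4 4 (by decide) (by omega) (by omega)
      (by omega) (by omega) 1 1 1 (-1) (by norm_num)
    apply Rel.of_step g
    apply L4 _ (by rw [norm_step, hN])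
    apply cnt_pos_of _ (pt 0 3) 4
    rw [g3]
    norm_num
  · exact Lodd v hN hod

end Cfsg.Agent.Lib.Lead.CW
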