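import Cfsg.Agent.Lib.Lead.ConwayOrder
import Cfsg.Agent.Lib.helper3.GolayDim

/-!
# A lower bound for sets of lattice vectors invariant under the monomial group

`master`: a finite set `A` of lattice vectors invariant under the coordinate permutations of the
code's group and under the sign changes on code words, containing a vector `w`, satisfies
`24·23·…·(24-n+1) · 4096 ≤ |A| · M · K` where `M` bounds the number of `n`-tuples of coordinates
carrying the absolute values of a fixed `n`-tuple of `w`, and `K` bounds the number of code words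
disjoint from the support of a vector of `A`.
-/

set_option autoImplicit false
open Cfsg

namespace Cfsg.Agent.Lib.Lead.CM

open Cfsg.Agent.Lib.helper3 Cfsg.Agent.Lib.helper4 Cfsg.Agent.S0398

open scoped Classical

/-! ### code words vanishing on a set -/

/-- the number of code words vanishing on `Z` -/
noncomputable def kkS (Z : Set GolayPt) : ℕ :=
  {c : GolayPt → ZMod 2 | c ∈ golayCode ∧ ∀ i ∈ Z, c i = 0}.ncard

theorem kkS_mono {Z Z' : Set GolayPt} (h : Z ⊆ Z') : kkS Z' ≤ kkS Z := by
  unfold kkS
  exact Set.ncard_le_ncard (fun c hc => ⟨hc.1, fun i hi => hc.2 i (h hi)⟩) (Set.toFinite _)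

theorem kkS_image_le (π : Equiv.Perm GolayPt) (hπ : π ∈ M24) (Z : Set GolayPt) :
    kkS (π '' Z) ≤ kkS Z := by
  unfold kkS
  refine Set.ncard_le_ncard_of_injOn (fun c => fun i => c (π i)) ?_ ?_ (Set.toFinite _)
  · intro c hc
    exact ⟨comp_mem_golay hπ hc.1, fun i hi => hc.2 (π i) ⟨i, hi, rfl⟩⟩
  · intro c _ c' _ h
    funext j
    have := congrFun h (π.symm j)
    simpa using this

theorem zmod2_eq_of_ne_iff (a b : ZMod 2) (h : a ≠ 0 ↔ b ≠ 0) : a = b := by
  revert h
  revert a b
  decide

theorem flip_fibre (y x : GolayPt → ℤ) :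
    {c : GolayPt → ZMod 2 | c ∈ golayCode ∧ Cfsg.Agent.Lib.helper4.flip c y = x}.ncard ≤ kkS {i | y i ≠ 0} := by
  by_cases h : ∃ c0, c0 ∈ golayCode ∧ Cfsg.Agent.Lib.helper4.flip c0 y = x
  · obtain ⟨c0, hc0, hx0⟩ := h
    unfold kkS
    refine Set.ncard_le_ncard_of_injOn (fun c => c + c0) ?_ ?_ (Set.toFinite _)
    · rintro c ⟨hc, hx⟩
      refine ⟨golayCode.add_mem hc hc0, fun i hi => ?_⟩
      have hi' : y i ≠ 0 := hi
      have h1 : Cfsg.Agent.Lib.helper4.flip c y i = Cfsg.Agent.Lib.helper4.flip c0 y i := by rw [hx, hx0]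
      unfold Cfsg.Agent.Lib.helper4.flip at h1
      have h2 : c i = c0 i := by
        apply zmod2_eq_of_ne_iff
        constructor
        · intro hci
          by_contra hc0i
          rw [if_pos hci, if_neg (not_not.2 hc0i)] at h1
          omega
        · intro hc0i
          by_contra hci
          rw [if_neg (not_not.2 hci), if_pos hc0i] at h1
          omega
      show c i + c0 i = 0
      rw [h2]
      exact CharTwo.add_self_eq_zero _
    · intro c _ c' _ h
      exact add_right_cancel h
  · have : {c : GolayPt → ZMod 2 | c ∈ golayCode ∧ Cfsg.Agent.Lib.helper4.flip c y = x} = ∅ := by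
      ext c
      simp only [Set.mem_ofPred_eq, Set.mem_empty_iff_false, iff_false]
      intro hc
      exact h ⟨c, hc⟩
    rw [this, Set.ncard_empty]
    exact Nat.zero_le _

/-! ### the master inequality -/

theorem natAbs_flip (c : GolayPt → ZMod 2) (y : GolayPt → ℤ) (i : GolayPt) :
    (Cfsg.Agent.Lib.helper4.flip c y i).natAbs = (y i).natAbs := by
  unfold Cfsg.Agent.Lib.helper4.flip
  split_ifs
  · exact Int.natAbs_neg _
  · rfl

theorem master (n : ℕ) (hn : MulAction.IsMultiplyPretransitive M24 GolayPt n)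
    (A : Set ↥leechLattice) (hfin : A.Finite)
    (hperm : ∀ (π : Equiv.Perm GolayPt) (hπ : π ∈ M24), ∀ x ∈ A, permE π hπ x ∈ A)
    (hflip : ∀ (c : GolayPt → ZMod 2) (hc : c ∈ golayCode), ∀ x ∈ A, flipE c hc x ∈ A)
    (w : ↥leechLattice) (hw : w ∈ A) (p : Fin n ↪ GolayPt) (M K : ℕ)
    (hM : ∀ x ∈ A, Nat.card {q : Fin n ↪ GolayPt //
      ∀ k, (x.1 (q k)).natAbs = (w.1 (p k)).natAbs} ≤ M)
    (hK : ∀ x ∈ A, kkS {i | x.1 i ≠ 0} ≤ K) :
    Nat.descFactorial 24 n * 4096 ≤ A.ncard * (M * K) := by
  haveI : Fintype ↥golayCode := Fintype.ofFinite _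
  have hcardC : Fintype.card ↥golayCode = 4096 := by
    rw [← Nat.card_eq_fintype_card]
    exact natCard_golayCode
  have hcardE : Fintype.card (Fin n ↪ GolayPt) = Nat.descFactorial 24 n := by
    rw [← Nat.card_eq_fintype_card]
    exact card_emb_golayPt n
  -- choose permutations
  have hex : ∀ q : Fin n ↪ GolayPt, ∃ π : Equiv.Perm GolayPt, π ∈ M24 ∧ ∀ k, π (q k) = p k := by
    intro q
    have h := hn
    rw [MulAction.isMultiplyPretransitive_iff] at h
    obtain ⟨g, hg⟩ := h q p
    refine ⟨g.1, g.2, fun k => ?_⟩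
    have := congrArg (fun f : Fin n ↪ GolayPt => f k) hg
    exact this
  choose π hπ hπq using hex
  let Φ : (Fin n ↪ GolayPt) × ↥golayCode → ↥leechLattice :=
    fun d => flipE d.2.1 d.2.2 (permE (π d.1) (hπ d.1) w)
  have hΦA : ∀ d, Φ d ∈ A := fun d => hflip _ _ _ (hperm _ _ _ hw)
  have hΦval : ∀ d i, (Φ d).1 i = Cfsg.Agent.Lib.helper4.flip d.2.1 (fun j => w.1 (π d.1 j)) i := fun d i => rfl
  -- fibres
  have hfib : ∀ x ∈ (Finset.univ : Finset ((Fin n ↪ GolayPt) × ↥golayCode)).image Φ,
      ((Finset.univ : Finset ((Fin n ↪ GolayPt) × ↥golayCode)).filter (fun d => Φ d = x)).card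
        ≤ M * K := by
    intro x hx
    obtain ⟨d0, -, rfl⟩ := Finset.mem_image.1 hx
    set x := Φ d0 with hxdef
    have hxA : x ∈ A := hΦA d0
    set F := (Finset.univ : Finset ((Fin n ↪ GolayPt) × ↥golayCode)).filter (fun d => Φ d = x)
      with hF
    -- project to the first component
    have h1 : F.card ≤ K * (F.image Prod.fst).card := by
      apply Finset.card_le_mul_card_image
      intro q _
      -- the code words c with (q, c) in the fibre
      have hsub : ((F.filter (fun d => d.1 = q)).image (fun d => d.2.1)).card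
          = (F.filter (fun d => d.1 = q)).card := by
        apply Finset.card_image_of_injOn
        intro d hd d' hd' h
        have hd1 := (Finset.mem_filter.1 hd).2
        have hd1' := (Finset.mem_filter.1 hd').2
        apply Prod.ext
        · rw [hd1, hd1']
        · exact Subtype.ext h
      rw [← hsub]
      have hle : ((F.filter (fun d => d.1 = q)).image (fun d => d.2.1)).card
          ≤ {c : GolayPt → ZMod 2 | c ∈ golayCode ∧
              Cfsg.Agent.Lib.helper4.flip c (fun j => w.1 (π q j)) = x.1}.ncard := by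
        rw [← Set.ncard_coe_finset]
        apply Set.ncard_le_ncard _ (Set.toFinite _)
        intro c hc
        rw [Finset.mem_coe, Finset.mem_image] at hc
        obtain ⟨d, hd, rfl⟩ := hc
        have hdF := (Finset.mem_filter.1 hd).1
        have hdq := (Finset.mem_filter.1 hd).2
        have hdx : Φ d = x := (Finset.mem_filter.1 hdF).2
        refine ⟨d.2.2, ?_⟩
        rw [← hdx, ← hdq]
        rfl
      refine hle.trans ((flip_fibre _ _).trans ?_)
      exact hK (permE (π q) (hπ q) w) (hperm _ _ _ hw)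
    have h2 : (F.image Prod.fst).card ≤ M := by
      refine le_trans ?_ (hM x hxA)
      rw [Nat.card_eq_fintype_card, Fintype.card_subtype]
      apply Finset.card_le_card
      intro q hq
      obtain ⟨d, hd, rfl⟩ := Finset.mem_image.1 hq
      have hdx : Φ d = x := (Finset.mem_filter.1 hd).2
      rw [Finset.mem_filter]
      refine ⟨Finset.mem_univ _, fun k => ?_⟩
      rw [← hdx, hΦval, natAbs_flip, hπq]
    calc F.card ≤ K * (F.image Prod.fst).card := h1
      _ ≤ K * M := Nat.mul_le_mul_left _ h2
      _ = M * K := Nat.mul_comm _ _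
  have h3 := Finset.card_le_mul_card_image (Finset.univ : Finset ((Fin n ↪ GolayPt) × ↥golayCode))
    (M * K) hfib
  rw [Finset.card_univ, Fintype.card_prod, hcardE, hcardC] at h3
  have h4 : ((Finset.univ : Finset ((Fin n ↪ GolayPt) × ↥golayCode)).image Φ).card ≤ A.ncard := by
    rw [← Set.ncard_coe_finset]
    apply Set.ncard_le_ncard _ hfin
    intro x hx
    rw [Finset.mem_coe, Finset.mem_image] at hx
    obtain ⟨d, -, rfl⟩ := hx
    exact hΦA d
  calc Nat.descFactorial 24 n * 4096 ≤ M * K * _ := h3
    _ ≤ M * K * A.ncard := Nat.mul_le_mul_left _ h4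
    _ = A.ncard * (M * K) := Nat.mul_comm _ _

end Cfsg.Agent.Lib.Lead.CM
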