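import Cfsg.Agent.Lib.Lead.CrossMax1
import Cfsg.Agent.Lib.helper3.GolayModule
import Cfsg.Agent.Lib.helper3.GolayOrbits
import Cfsg.Agent.Lib.helper3.GolayOrder

/-!
# Bounds for the number of code words disjoint from the support of a lattice vector, and the
number of tuples of coordinates with prescribed absolute values
-/

set_option autoImplicit false
open Cfsg

namespace Cfsg.Agent.Lib.Lead.CM

open Cfsg.Agent.Lib.helper3 Cfsg.Agent.Lib.helper4 Cfsg.Agent.S0398
open Cfsg.Agent.Lib.Lead.CW Cfsg.Agent.Lib.Lead.LX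

open scoped Classical Pointwise

/-! ### picking coordinates -/

theorem exists_embN {n : ℕ} (x : GolayPt → ℤ) (vals : Fin n → ℕ)
    (h : ∀ j, (Finset.univ.filter (fun l => vals l = vals j)).card ≤ cnt x (vals j)) :
    ∃ a : Fin n ↪ GolayPt, ∀ j, (x (a j)).natAbs = vals j := by
  have hne : ∀ u : ℕ, Nonempty ({l : Fin n // vals l = u} ↪ {p : GolayPt // (x p).natAbs = u}) := by
    intro u
    apply Function.Embedding.nonempty_of_card_le
    rw [Fintype.card_subtype, Fintype.card_subtype]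
    by_cases hu : ∃ j, vals j = u
    · obtain ⟨j, rfl⟩ := hu
      exact h j
    · push Not at hu
      have : Finset.univ.filter (fun l => vals l = u) = ∅ := by
        rw [Finset.filter_eq_empty_iff]
        intro l _
        exact hu l
      rw [this]
      exact Nat.zero_le _
  have f := fun u => Classical.choice (hne u)
  have aux : ∀ (u : ℕ) (l : Fin n) (hl : vals l = u),
      (f (vals l) ⟨l, rfl⟩).1 = (f u ⟨l, hl⟩).1 := by
    intro u l hl
    subst hl
    rfl
  refine ⟨⟨fun j => (f (vals j) ⟨j, rfl⟩).1, ?_⟩, fun j => (f (vals j) ⟨j, rfl⟩).2⟩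
  intro j j' hjj
  have hjj' : (f (vals j) ⟨j, rfl⟩).1 = (f (vals j') ⟨j', rfl⟩).1 := hjj
  have h1 := (f (vals j) ⟨j, rfl⟩).2
  have h2 := (f (vals j') ⟨j', rfl⟩).2
  rw [hjj'] at h1
  have hv : vals j' = vals j := by rw [← h2, h1]
  rw [aux (vals j) j' hv] at hjj'
  have := (f (vals j)).injective (Subtype.ext hjj')
  exact congrArg Subtype.val this

/-! ### counting tuples -/

theorem pat_card_le (x : GolayPt → ℤ) (r s a b : ℕ) :
    Nat.card {q : Fin (r + s) ↪ GolayPt //
      (∀ k : Fin r, (x (q (Fin.castAdd s k))).natAbs = a) ∧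
      (∀ k : Fin s, (x (q (Fin.natAdd r k))).natAbs = b)}
      ≤ (cnt x a).descFactorial r * (cnt x b).descFactorial s := by
  have hA : Fintype.card {i : GolayPt // (x i).natAbs = a} = cnt x a := by
    rw [Fintype.card_subtype]
    rfl
  have hB : Fintype.card {i : GolayPt // (x i).natAbs = b} = cnt x b := by
    rw [Fintype.card_subtype]
    rfl
  have e1 : Fintype.card (Fin r ↪ {i : GolayPt // (x i).natAbs = a}) = (cnt x a).descFactorial r := by
    rw [Fintype.card_embedding_eq, hA, Fintype.card_fin]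
  have e2 : Fintype.card (Fin s ↪ {i : GolayPt // (x i).natAbs = b}) = (cnt x b).descFactorial s := by
    rw [Fintype.card_embedding_eq, hB, Fintype.card_fin]
  rw [← e1, ← e2, ← Fintype.card_prod, Nat.card_eq_fintype_card]
  let f : {q : Fin (r + s) ↪ GolayPt //
      (∀ k : Fin r, (x (q (Fin.castAdd s k))).natAbs = a) ∧
      (∀ k : Fin s, (x (q (Fin.natAdd r k))).natAbs = b)} →
      (Fin r ↪ {i : GolayPt // (x i).natAbs = a}) × (Fin s ↪ {i : GolayPt // (x i).natAbs = b}) :=
    fun q => (⟨fun k => ⟨q.1 (Fin.castAdd s k), q.2.1 k⟩, by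
        intro k k' h
        have h1 : q.1 (Fin.castAdd s k) = q.1 (Fin.castAdd s k') := congrArg Subtype.val h
        exact Fin.castAdd_injective r s (q.1.injective h1)⟩,
      ⟨fun k => ⟨q.1 (Fin.natAdd r k), q.2.2 k⟩, by
        intro k k' h
        have h1 : q.1 (Fin.natAdd r k) = q.1 (Fin.natAdd r k') := congrArg Subtype.val h
        exact Fin.natAdd_injective s r (q.1.injective h1)⟩)
  apply Fintype.card_le_of_injective f
  intro q q' h
  apply Subtype.ext
  apply DFunLike.ext
  intro j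
  have h1 := congrArg Prod.fst h
  have h2 := congrArg Prod.snd h
  refine Fin.addCases (fun k => ?_) (fun k => ?_) j
  · have := congrArg (fun e : Fin r ↪ {i : GolayPt // (x i).natAbs = a} => (e k).1) h1
    exact this
  · have := congrArg (fun e : Fin s ↪ {i : GolayPt // (x i).natAbs = b} => (e k).1) h2
    exact this

/-! ### invariance of the histogram -/

theorem cnt_perm (x : GolayPt → ℤ) (π : Equiv.Perm GolayPt) (u : ℕ) : cnt (fun i => x (π i)) u = cnt x u := by
  unfold cnt
  refine Finset.card_bij (fun p _ => π p) ?_ ?_ ?_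
  · intro p hp
    rw [Finset.mem_filter] at hp ⊢
    exact ⟨Finset.mem_univ _, hp.2⟩
  · intro p _ p' _ h
    exact π.injective h
  · intro q hq
    rw [Finset.mem_filter] at hq
    refine ⟨π.symm q, ?_, by simp⟩
    rw [Finset.mem_filter]
    refine ⟨Finset.mem_univ _, ?_⟩
    simpa using hq.2

theorem cnt_flip (x : GolayPt → ℤ) (c : GolayPt → ZMod 2) (u : ℕ) :
    cnt (Cfsg.Agent.Lib.helper4.flip c x) u = cnt x u := by
  unfold cnt
  congr 1
  apply Finset.filter_congr
  intro p _
  rw [natAbs_flip]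

/-! ### code words disjoint from a support -/

theorem kkS_le_of_filter (Z : Finset GolayPt) (B : ℕ)
    (h : ((Finset.range 4096).filter
      (fun k => ∀ p ∈ Z, gword (golayMask k) p = 0)).card ≤ B) :
    kkS (↑Z : Set GolayPt) ≤ B := by
  unfold kkS
  refine le_trans ?_ h
  rw [← Set.ncard_coe_finset]
  have hsub : {c : GolayPt → ZMod 2 | c ∈ golayCode ∧ ∀ i ∈ (↑Z : Set GolayPt), c i = 0}
      ⊆ (fun k => gword (golayMask k)) ''
        ↑((Finset.range 4096).filter (fun k => ∀ p ∈ Z, gword (golayMask k) p = 0)) := by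
    rintro c ⟨hc, hz⟩
    obtain ⟨k, hk, rfl⟩ := (mem_golayCode_iff c).1 hc
    exact ⟨k, Finset.mem_coe.2 (Finset.mem_filter.2
      ⟨Finset.mem_range.2 hk, fun p hp => hz p (Finset.mem_coe.2 hp)⟩), rfl⟩
  exact (Set.ncard_le_ncard hsub (Set.toFinite _)).trans (Set.ncard_image_le (Set.toFinite _))

set_option maxRecDepth 1000000 in
theorem kk_oct0 : kkS (↑(gset (golayMask 1)) : Set GolayPt) ≤ 32 := by
  apply kkS_le_of_filter
  decide +kernel

set_option maxRecDepth 1000000 in
theorem kk_dod0 : kkS (↑(gset (golayMask 13)) : Set GolayPt) ≤ 2 := by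
  apply kkS_le_of_filter
  decide +kernel

/-- the first tetrad -/
def tet0 : Finset GolayPt := {pt 0 0, pt 0 1, pt 0 2, pt 0 3}

set_option maxRecDepth 1000000 in
theorem kk_tet0 : kkS (↑tet0 : Set GolayPt) ≤ 256 := by
  apply kkS_le_of_filter
  decide +kernel

theorem hamming_ind4 (x : GolayPt → ℤ) (hN : sqNorm x ≤ 64) :
    hammingNorm (ind4 x 2) = cnt x 2 + cnt x 6 := by
  unfold hammingNorm cnt
  rw [← Finset.card_union_of_disjoint]
  · congr 1
    ext p
    simp only [Finset.mem_filter, Finset.mem_univ, true_and, Finset.mem_union]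
    have hb := natAbs_lt_nine x hN p
    show (if x p ≡ 2 [ZMOD 4] then (1 : ZMod 2) else 0) ≠ 0 ↔ _
    by_cases hp : x p ≡ 2 [ZMOD 4]
    · rw [if_pos hp]
      unfold Int.ModEq at hp
      constructor
      · intro _
        omega
      · intro _
        decide
    · rw [if_neg hp]
      unfold Int.ModEq at hp
      constructor
      · intro h
        exact absurd rfl h
      · intro h
        omega
  · rw [Finset.disjoint_left]
    intro p hp hp'
    rw [Finset.mem_filter] at hp hp'
    omega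

theorem ind4_ne_zero (x : GolayPt → ℤ) (i : GolayPt) (h : ind4 x 2 i ≠ 0) : x i ≠ 0 := by
  rw [ind4_apply] at h
  by_cases hp : x i ≡ 2 [ZMOD 4]
  · unfold Int.ModEq at hp
    intro h0
    rw [h0] at hp
    norm_num at hp
  · rw [if_neg hp] at h
    exact absurd rfl h

theorem kk_of_transitive (x : GolayPt → ℤ) (Z0 : Finset GolayPt) (B : ℕ) (hB : kkS (↑Z0 : Set GolayPt) ≤ B)
    (g : M24) (hg : g • Z0 = support₂ (ind4 x 2)) : kkS {i | x i ≠ 0} ≤ B := by
  have hsub : (g : Equiv.Perm GolayPt) '' (↑Z0 : Set GolayPt) ⊆ {i | x i ≠ 0} := by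
    rintro _ ⟨j, hj, rfl⟩
    have h1 : g • j ∈ g • Z0 := Finset.smul_mem_smul_finset (Finset.mem_coe.1 hj)
    rw [hg] at h1
    have h2 : ind4 x 2 (g • j) ≠ 0 := (Finset.mem_filter.1 h1).2
    exact ind4_ne_zero x _ h2
  exact (kkS_mono hsub).trans ((kkS_image_le g.1 g.2 _).trans hB)

theorem kk_w8 (x : GolayPt → ℤ) (hx : x ∈ leechLattice) (hN : sqNorm x ≤ 64) (h8 : cnt x 2 + cnt x 6 = 8) :
    kkS {i | x i ≠ 0} ≤ 32 := by
  have hx' := hx
  rw [mem_leechLattice_iff, mem_leechSet_iff] at hx'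
  obtain ⟨m, -, -, h3⟩ := hx'
  have hw : hammingNorm (ind4 x 2) = 8 := by rw [hamming_ind4 x hN, h8]
  have ho : support₂ (ind4 x 2) ∈ octads := (mem_octads_iff _).2 ⟨_, h3 2, rfl, hw⟩
  have ho0 : gset (golayMask 1) ∈ octads := gset_mem_octads (golayMask_mem 1) mask_facts.1
  obtain ⟨g, hg⟩ := octads_transitive ho0 ho
  exact kk_of_transitive x _ 32 kk_oct0 g hg

theorem kk_w12 (x : GolayPt → ℤ) (hx : x ∈ leechLattice) (hN : sqNorm x ≤ 64) (h12 : cnt x 2 + cnt x 6 = 12) :
    kkS {i | x i ≠ 0} ≤ 2 := by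
  have hx' := hx
  rw [mem_leechLattice_iff, mem_leechSet_iff] at hx'
  obtain ⟨m, -, -, h3⟩ := hx'
  have hw : hammingNorm (ind4 x 2) = 12 := by rw [hamming_ind4 x hN, h12]
  have hd : support₂ (ind4 x 2) ∈ dodecads := ⟨⟨_, h3 2, rfl⟩, hw⟩
  have hd0 : gset (golayMask 13) ∈ dodecads := by
    refine ⟨⟨gword (golayMask 13), golayMask_mem 13, support₂_gword _⟩, ?_⟩
    rw [card_gset]
    exact mask_facts.2.2.2.1
  obtain ⟨g, hg⟩ := dodecads_transitive hd0 hd
  exact kk_of_transitive x _ 2 kk_dod0 g hg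

theorem kk_t4 (x : GolayPt → ℤ) (a : Fin 4 ↪ GolayPt) (ha : ∀ j, x (a j) ≠ 0) :
    kkS {i | x i ≠ 0} ≤ 256 := by
  obtain ⟨π, hπ, hπa⟩ := exists_perm4 a
  have hsub : π '' (↑tet0 : Set GolayPt) ⊆ {i | x i ≠ 0} := by
    rintro _ ⟨j, hj, rfl⟩
    have hj' : j ∈ tet0 := Finset.mem_coe.1 hj
    unfold tet0 at hj'
    simp only [Finset.mem_insert, Finset.mem_singleton] at hj'
    rcases hj' with rfl | rfl | rfl | rfl
    · show x (π (pt 0 0)) ≠ 0
      rw [hπa 0]
      exact ha 0
    · show x (π (pt 0 1)) ≠ 0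
      rw [hπa 1]
      exact ha 1
    · show x (π (pt 0 2)) ≠ 0
      rw [hπa 2]
      exact ha 2
    · show x (π (pt 0 3)) ≠ 0
      rw [hπa 3]
      exact ha 3
  exact (kkS_mono hsub).trans ((kkS_image_le π hπ _).trans kk_tet0)

theorem kk_odd (x : GolayPt → ℤ) (hod : ∀ p, x p % 2 = 1) : kkS {i | x i ≠ 0} ≤ 1 := by
  unfold kkS
  have hsub : {c : GolayPt → ZMod 2 | c ∈ golayCode ∧ ∀ i ∈ {i | x i ≠ 0}, c i = 0}
      ⊆ ({0} : Set (GolayPt → ZMod 2)) := by
    rintro c ⟨-, hz⟩
    rw [Set.mem_singleton_iff]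
    funext i
    apply hz i
    show x i ≠ 0
    have := hod i
    omega
  exact (Set.ncard_le_ncard hsub (Set.toFinite _)).trans (le_of_eq (Set.ncard_singleton _))

theorem zmod2_eq_one (a : ZMod 2) (h : a ≠ 0) : a = 1 := by
  revert h
  revert a
  decide

theorem kk_z8 (x : GolayPt → ℤ) (h0 : cnt x 0 = 8) : kkS {i | x i ≠ 0} ≤ 2 := by
  unfold kkS
  let c1 : GolayPt → ZMod 2 := fun i => if x i = 0 then 1 else 0
  have hsub : {c : GolayPt → ZMod 2 | c ∈ golayCode ∧ ∀ i ∈ {i | x i ≠ 0}, c i = 0}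
      ⊆ ({0, c1} : Set (GolayPt → ZMod 2)) := by
    rintro c ⟨hc, hz⟩
    have hsupp : Finset.univ.filter (fun i => c i ≠ 0)
        ⊆ Finset.univ.filter (fun i => (x i).natAbs = 0) := by
      intro i hi
      rw [Finset.mem_filter] at hi ⊢
      refine ⟨Finset.mem_univ _, ?_⟩
      by_contra hne
      apply hi.2
      apply hz i
      show x i ≠ 0
      intro h
      apply hne
      rw [h]
      rfl
    have hcard : (Finset.univ.filter (fun i => (x i).natAbs = 0)).card = 8 := h0
    have hle : hammingNorm c ≤ 8 := by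
      rw [← hcard]
      exact Finset.card_le_card hsupp
    rcases golay_weights c hc with h | h | h | h | h
    · left
      exact eq_zero_of_hammingNorm h
    · right
      have heq := Finset.eq_of_subset_of_card_le hsupp (by
        rw [hcard]
        exact le_of_eq h.symm)
      funext i
      show c i = if x i = 0 then 1 else 0
      by_cases hi : x i = 0
      · rw [if_pos hi]
        apply zmod2_eq_one
        have : i ∈ Finset.univ.filter (fun i => (x i).natAbs = 0) := by
          rw [Finset.mem_filter]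
          refine ⟨Finset.mem_univ _, ?_⟩
          rw [hi]
          rfl
        rw [← heq] at this
        exact (Finset.mem_filter.1 this).2
      · rw [if_neg hi]
        exact hz i hi
    · omega
    · omega
    · omega
  refine (Set.ncard_le_ncard hsub (Set.toFinite _)).trans ?_
  exact (Set.ncard_insert_le _ _).trans (by rw [Set.ncard_singleton])

/-! ### the generic bound -/

theorem bound_gen (r s a b M K : ℕ) (hrs : r + s ≤ 5)
    (A : Set ↥leechLattice) (hfin : A.Finite)
    (hperm : ∀ (π : Equiv.Perm GolayPt) (hπ : π ∈ M24), ∀ x ∈ A, permE π hπ x ∈ A)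
    (hflip : ∀ (c : GolayPt → ZMod 2) (hc : c ∈ golayCode), ∀ x ∈ A, flipE c hc x ∈ A)
    (w : ↥leechLattice) (hw : w ∈ A) (p : Fin (r + s) ↪ GolayPt)
    (hpa : ∀ k : Fin r, (w.1 (p (Fin.castAdd s k))).natAbs = a)
    (hpb : ∀ k : Fin s, (w.1 (p (Fin.natAdd r k))).natAbs = b)
    (hM : (cnt w.1 a).descFactorial r * (cnt w.1 b).descFactorial s ≤ M)
    (hK : ∀ x : ↥leechLattice, sqNorm x.1 = sqNorm w.1 → (∀ u, cnt x.1 u = cnt w.1 u) →
      kkS {i | x.1 i ≠ 0} ≤ K) :
    Nat.descFactorial 24 (r + s) * 4096 ≤ A.ncard * (M * K) := by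
  set Aw : Set ↥leechLattice :=
    {x | x ∈ A ∧ sqNorm x.1 = sqNorm w.1 ∧ ∀ u, cnt x.1 u = cnt w.1 u} with hAw
  have hsubA : Aw ⊆ A := fun x hx => hx.1
  have hfinw : Aw.Finite := hfin.subset hsubA
  have h := master (r + s) (M24_pretrans_le (r + s) hrs) Aw hfinw
    (fun π hπ x hx => ⟨hperm π hπ x hx.1, by
      rw [← hx.2.1]
      exact (permE_mem π hπ).2 x, fun u => by
      rw [← hx.2.2 u]
      exact cnt_perm x.1 π u⟩)
    (fun c hc x hx => ⟨hflip c hc x hx.1, by
      rw [← hx.2.1]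
      exact (flipE_mem c hc).2 x, fun u => by
      rw [← hx.2.2 u]
      exact cnt_flip x.1 c u⟩)
    w ⟨hw, rfl, fun _ => rfl⟩ p M K
    (fun x hx => by
      refine le_trans ?_ hM
      rw [← hx.2.2 a, ← hx.2.2 b]
      refine le_trans ?_ (pat_card_le x.1 r s a b)
      apply Nat.card_le_card_of_injective
        (fun q : {q : Fin (r + s) ↪ GolayPt //
            ∀ k, (x.1 (q k)).natAbs = (w.1 (p k)).natAbs} =>
          (⟨q.1, fun k => by rw [q.2, hpa], fun k => by rw [q.2, hpb]⟩ :
            {q : Fin (r + s) ↪ GolayPt //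
              (∀ k : Fin r, (x.1 (q (Fin.castAdd s k))).natAbs = a) ∧
              (∀ k : Fin s, (x.1 (q (Fin.natAdd r k))).natAbs = b)}))
      intro q q' hqq
      apply Subtype.ext
      have h6 := congrArg (fun z => z.1) hqq
      exact h6)
    (fun x hx => hK x hx.2.1 hx.2.2)
  refine h.trans (Nat.mul_le_mul_right _ ?_)
  exact Set.ncard_le_ncard hsubA hfin

/-- pick `r` coordinates of absolute value `a` and `s` of absolute value `b` -/
theorem exists_pat (x : GolayPt → ℤ) (r s a b : ℕ) (hab : 0 < s → a ≠ b)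
    (hr : r ≤ cnt x a) (hs : s ≤ cnt x b) :
    ∃ p : Fin (r + s) ↪ GolayPt, (∀ k : Fin r, (x (p (Fin.castAdd s k))).natAbs = a) ∧
      (∀ k : Fin s, (x (p (Fin.natAdd r k))).natAbs = b) := by
  have hA : Fintype.card {i : GolayPt // (x i).natAbs = a} = cnt x a := by
    rw [Fintype.card_subtype]
    rfl
  have hB : Fintype.card {i : GolayPt // (x i).natAbs = b} = cnt x b := by
    rw [Fintype.card_subtype]
    rfl
  obtain ⟨e1⟩ : Nonempty (Fin r ↪ {i : GolayPt // (x i).natAbs = a}) := by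
    apply Function.Embedding.nonempty_of_card_le
    rw [Fintype.card_fin, hA]
    exact hr
  obtain ⟨e2⟩ : Nonempty (Fin s ↪ {i : GolayPt // (x i).natAbs = b}) := by
    apply Function.Embedding.nonempty_of_card_le
    rw [Fintype.card_fin, hB]
    exact hs
  let f : Fin (r + s) → GolayPt := Fin.addCases (fun k => (e1 k).1) (fun k => (e2 k).1)
  have hf1 : ∀ k : Fin r, f (Fin.castAdd s k) = (e1 k).1 := fun k => Fin.addCases_left k
  have hf2 : ∀ k : Fin s, f (Fin.natAdd r k) = (e2 k).1 := fun k => Fin.addCases_right k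
  have hinj : Function.Injective f := by
    intro j j' h
    revert h
    refine Fin.addCases (fun k => ?_) (fun k => ?_) j <;>
      refine Fin.addCases (fun k' => ?_) (fun k' => ?_) j'
    · intro h
      rw [hf1, hf1] at h
      rw [e1.injective (Subtype.ext h)]
    · intro h
      rw [hf1, hf2] at h
      exfalso
      have hpos : 0 < s := Nat.lt_of_le_of_lt (Nat.zero_le _) k'.2
      apply hab hpos
      rw [← (e1 k).2, h, (e2 k').2]
    · intro h
      rw [hf2, hf1] at h
      exfalso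
      have hpos : 0 < s := Nat.lt_of_le_of_lt (Nat.zero_le _) k.2
      apply hab hpos
      rw [← (e1 k').2, ← h, (e2 k).2]
    · intro h
      rw [hf2, hf2] at h
      rw [e2.injective (Subtype.ext h)]
  refine ⟨⟨f, hinj⟩, fun k => ?_, fun k => ?_⟩
  · show (x (f (Fin.castAdd s k))).natAbs = a
    rw [hf1]
    exact (e1 k).2
  · show (x (f (Fin.natAdd r k))).natAbs = b
    rw [hf2]
    exact (e2 k).2

theorem kk_t4' (x : GolayPt → ℤ) (h : 4 ≤ cnt x 4) : kkS {i | x i ≠ 0} ≤ 256 := by
  obtain ⟨a, ha⟩ := exists_embN (n := 4) x (fun _ => 4) (fun j => by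
    refine le_trans ?_ h
    refine (Finset.card_le_univ _).trans ?_
    simp)
  exact kk_t4 x a (fun j => by
    intro h0
    have := ha j
    rw [h0] at this
    simp at this)

end Cfsg.Agent.Lib.Lead.CM
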