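import Cfsg.Agent.Lib.Lead.CrossMax2

/-!
# Lower bounds for invariant sets of lattice vectors of sum of squares 64, shape by shape
-/

set_option autoImplicit false
open Cfsg

namespace Cfsg.Agent.Lib.Lead.CM

open Cfsg.Agent.Lib.helper3 Cfsg.Agent.Lib.helper4 Cfsg.Agent.S0398
open Cfsg.Agent.Lib.Lead.CW

/-- the shapes of the lattice vectors of sum of squares 64 -/
theorem shape64 (x : GolayPt → ℤ) (hx : x ∈ leechLattice) (hN : sqNorm x = 64) :
    (cnt x 8 = 1 ∧ cnt x 0 = 23) ∨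
    (cnt x 8 = 0 ∧ cnt x 4 = 4 ∧ cnt x 0 = 20) ∨
    (cnt x 8 = 0 ∧ cnt x 6 = 1 ∧ cnt x 2 = 7 ∧ cnt x 0 = 16 ∧ (∀ p, x p % 2 = 0)) ∨
    (cnt x 8 = 0 ∧ cnt x 4 = 2 ∧ cnt x 2 = 8 ∧ cnt x 6 = 0 ∧ cnt x 0 = 14 ∧ (∀ p, x p % 2 = 0)) ∨
    (cnt x 8 = 0 ∧ cnt x 2 = 16 ∧ cnt x 0 = 8) ∨
    (cnt x 8 = 0 ∧ cnt x 4 = 1 ∧ cnt x 2 = 12 ∧ cnt x 6 = 0 ∧ cnt x 0 = 11 ∧ (∀ p, x p % 2 = 0)) ∨
    (cnt x 8 = 0 ∧ cnt x 3 = 5 ∧ cnt x 1 = 19 ∧ (∀ p, x p % 2 = 1)) ∨
    (cnt x 8 = 0 ∧ cnt x 5 = 1 ∧ cnt x 3 = 2 ∧ cnt x 1 = 21 ∧ (∀ p, x p % 2 = 1)) := by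
  have hN' : sqNorm x ≤ 64 := le_of_eq hN
  have ht := cnt_total x hN'
  have hn := norm_nat x 64 (by rw [hN]; rfl) (le_refl _)
  rcases parity_cases x hx with hev | hod
  · obtain ⟨e1, e3, e5, e7⟩ := even_facts x hev
    rcases weight_cases x hx hN' with hw | hw | hw | hw | hw
    · have h2 : cnt x 2 = 0 := by omega
      have h6 : cnt x 6 = 0 := by omega
      have h48 : cnt x 4 + 4 * cnt x 8 = 4 := by omega
      have : cnt x 8 = 0 ∨ cnt x 8 = 1 := by omega
      rcases this with h8 | h8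
      · right; left
        refine ⟨h8, by omega, by omega⟩
      · left
        refine ⟨h8, by omega⟩
    · have h8 : cnt x 8 = 0 := by omega
      have : cnt x 6 = 0 ∨ cnt x 6 = 1 := by omega
      rcases this with h6 | h6
      · right; right; right; left
        exact ⟨h8, by omega, by omega, h6, by omega, hev⟩
      · right; right; left
        exact ⟨h8, h6, by omega, by omega, hev⟩
    · have h8 : cnt x 8 = 0 := by omega
      have h6 : cnt x 6 = 0 := by omega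
      right; right; right; right; right; left
      exact ⟨h8, by omega, by omega, h6, by omega, hev⟩
    · have h8 : cnt x 8 = 0 := by omega
      have h6 : cnt x 6 = 0 := by omega
      right; right; right; right; left
      exact ⟨h8, by omega, by omega⟩
    · exfalso
      omega
  · obtain ⟨e0, e2, e4, e6, e8⟩ := odd_facts x hod
    rw [e0, e2, e4, e6, e8] at ht
    rw [e2, e4, e6, e8] at hn
    have hk : cnt x 3 + 3 * cnt x 5 + 6 * cnt x 7 = 5 := by omega
    clear hn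
    have : cnt x 7 = 0 := by omega
    have h5 : cnt x 5 = 0 ∨ cnt x 5 = 1 := by omega
    rcases h5 with h5 | h5
    · right; right; right; right; right; right; left
      exact ⟨e8, by omega, by omega, hod⟩
    · right; right; right; right; right; right; right
      exact ⟨e8, h5, by omega, by omega, hod⟩

section bounds

variable (A : Set ↥leechLattice) (hfin : A.Finite)
  (hperm : ∀ (π : Equiv.Perm GolayPt) (hπ : π ∈ M24), ∀ x ∈ A, permE π hπ x ∈ A)
  (hflip : ∀ (c : GolayPt → ZMod 2) (hc : c ∈ golayCode), ∀ x ∈ A, flipE c hc x ∈ A)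
  (w : ↥leechLattice) (hw : w ∈ A) (hN : sqNorm w.1 = 64)

include hfin hperm hflip hw

theorem bound_S1 (h4 : cnt w.1 4 = 4) (h0 : cnt w.1 0 = 20) : 170016 ≤ A.ncard := by
  obtain ⟨p, hpa, hpb⟩ := exists_pat w.1 4 1 4 0 (fun _ => by norm_num) (by omega) (by omega)
  have h := bound_gen 4 1 4 0 480 256 (by norm_num) A hfin hperm hflip w hw p hpa hpb
    (by rw [h4, h0]; decide)
    (fun x _ hc => kk_t4' x.1 (by rw [hc 4, h4]))
  have e : Nat.descFactorial 24 (4 + 1) = 5100480 := by decide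
  rw [e] at h
  omega

include hN

theorem bound_S2 (h6 : cnt w.1 6 = 1) (h2 : cnt w.1 2 = 7) : 777216 ≤ A.ncard := by
  obtain ⟨p, hpa, hpb⟩ := exists_pat w.1 1 4 6 2 (fun _ => by norm_num) (by omega) (by omega)
  have h := bound_gen 1 4 6 2 840 32 (by norm_num) A hfin hperm hflip w hw p hpa hpb
    (by rw [h6, h2]; decide)
    (fun x hn hc => kk_w8 x.1 x.2 (by rw [hn, hN]) (by rw [hc 2, hc 6, h6, h2]))
  have e : Nat.descFactorial 24 (1 + 4) = 5100480 := by decide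
  rw [e] at h
  omega

theorem bound_S3 (h4 : cnt w.1 4 = 2) (h2 : cnt w.1 2 = 8) (h6 : cnt w.1 6 = 0) :
    777216 ≤ A.ncard := by
  obtain ⟨p, hpa, hpb⟩ := exists_pat w.1 2 3 4 2 (fun _ => by norm_num) (by omega) (by omega)
  have h := bound_gen 2 3 4 2 672 32 (by norm_num) A hfin hperm hflip w hw p hpa hpb
    (by rw [h4, h2]; decide)
    (fun x hn hc => kk_w8 x.1 x.2 (by rw [hn, hN]) (by rw [hc 2, hc 6, h6, h2]))
  have e : Nat.descFactorial 24 (2 + 3) = 5100480 := by decide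
  rw [e] at h
  omega

theorem bound_S4 (h0 : cnt w.1 0 = 8) : 777216 ≤ A.ncard := by
  obtain ⟨p, hpa, hpb⟩ := exists_pat w.1 5 0 0 1 (fun h => absurd h (lt_irrefl 0)) (by omega)
    (Nat.zero_le _)
  have h := bound_gen 5 0 0 1 6720 2 (by norm_num) A hfin hperm hflip w hw p hpa hpb
    (by rw [h0, Nat.descFactorial_zero]; decide)
    (fun x _ hc => kk_z8 x.1 (by rw [hc 0, h0]))
  have e : Nat.descFactorial 24 (5 + 0) = 5100480 := by decide
  rw [e] at h
  omega

theorem bound_S5 (h4 : cnt w.1 4 = 1) (h2 : cnt w.1 2 = 12) (h6 : cnt w.1 6 = 0)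
    (h0 : cnt w.1 0 = 11) : 777216 ≤ A.ncard := by
  obtain ⟨p, hpa, hpb⟩ := exists_pat w.1 1 4 4 0 (fun _ => by norm_num) (by omega) (by omega)
  have h := bound_gen 1 4 4 0 7920 2 (by norm_num) A hfin hperm hflip w hw p hpa hpb
    (by rw [h4, h0]; decide)
    (fun x hn hc => kk_w12 x.1 x.2 (by rw [hn, hN]) (by rw [hc 2, hc 6, h6, h2]))
  have e : Nat.descFactorial 24 (1 + 4) = 5100480 := by decide
  rw [e] at h
  omega

theorem bound_S6 (h3 : cnt w.1 3 = 5) : 777216 ≤ A.ncard := by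
  obtain ⟨p, hpa, hpb⟩ := exists_pat w.1 5 0 3 1 (fun h => absurd h (lt_irrefl 0)) (by omega)
    (Nat.zero_le _)
  have h := bound_gen 5 0 3 1 120 1 (by norm_num) A hfin hperm hflip w hw p hpa hpb
    (by rw [h3, Nat.descFactorial_zero]; decide)
    (fun x _ hc => kk_odd x.1 (odd_of_cnt x 3 (by norm_num) (by rw [hc 3, h3]; norm_num)))
  have e : Nat.descFactorial 24 (5 + 0) = 5100480 := by decide
  rw [e] at h
  omega

theorem bound_S7 (h3 : cnt w.1 3 = 2) (h1 : cnt w.1 1 = 21) : 777216 ≤ A.ncard := by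
  obtain ⟨p, hpa, hpb⟩ := exists_pat w.1 2 3 3 1 (fun _ => by norm_num) (by omega) (by omega)
  have h := bound_gen 2 3 3 1 15960 1 (by norm_num) A hfin hperm hflip w hw p hpa hpb
    (by rw [h3, h1]; decide)
    (fun x _ hc => kk_odd x.1 (odd_of_cnt x 3 (by norm_num) (by rw [hc 3, h3]; norm_num)))
  have e : Nat.descFactorial 24 (2 + 3) = 5100480 := by decide
  rw [e] at h
  omega

/-- a vector which is neither in the standard cross nor of shape `(4^4, 0^20)` forces at least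
`777216` vectors -/
theorem big_bound (h8 : cnt w.1 8 = 0) (hns : ¬ (cnt w.1 4 = 4 ∧ cnt w.1 0 = 20)) :
    777216 ≤ A.ncard := by
  rcases shape64 w.1 w.2 hN with h | h | h | h | h | h | h | h
  · omega
  · exact absurd ⟨h.2.1, h.2.2⟩ hns
  · exact bound_S2 A hfin hperm hflip w hw hN h.2.1 h.2.2.1
  · exact bound_S3 A hfin hperm hflip w hw hN h.2.1 h.2.2.1 h.2.2.2.1
  · exact bound_S4 A hfin hperm hflip w hw hN h.2.2
  · exact bound_S5 A hfin hperm hflip w hw hN h.2.1 h.2.2.1 h.2.2.2.1 h.2.2.2.2.1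
  · exact bound_S6 A hfin hperm hflip w hw hN h.2.1
  · exact bound_S7 A hfin hperm hflip w hw hN h.2.2.1 h.2.2.2.1

end bounds

end Cfsg.Agent.Lib.Lead.CM
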