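import Cfsg.Agent.Lib.Lead.CrossMax3
import Cfsg.Agent.Lib.Lead.PrimSimple
import Cfsg.Agent.Lib.helper4.ElemEnum

/-!
# The monomial group is a maximal subgroup of the automorphism group of the Leech lattice:
group-theoretic part
-/

set_option autoImplicit false
open Cfsg

namespace Cfsg.Agent.Lib.Lead.CM

open Cfsg.Agent.Lib.helper3 Cfsg.Agent.Lib.helper4 Cfsg.Agent.S0398
open Cfsg.Agent.Lib.Lead.CW Cfsg.Agent.Lib.Lead.CO Cfsg.Agent.Lib.Lead.LX
open MulAction

open scoped Classical

/-! ### arithmetic -/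

theorem div_lemma (d : ℕ) (hd : d ∣ 8292375) (h : d % 23 = 1) :
    d = 1 ∨ d = 875 ∨ d = 2025 ∨ d = 4095 ∨ d = 9477 ∨ d = 8292375 := by
  have e : (8292375 : ℕ) = 3 ^ 6 * (5 ^ 3 * (7 * 13)) := by norm_num
  rw [e] at hd
  obtain ⟨a, b', ha, hb', rfl⟩ := (Nat.dvd_mul).1 hd
  obtain ⟨b, c', hb, hc', rfl⟩ := (Nat.dvd_mul).1 hb'
  obtain ⟨c, f, hc, hf, rfl⟩ := (Nat.dvd_mul).1 hc'
  obtain ⟨i, hi, rfl⟩ := (Nat.dvd_prime_pow Nat.prime_three).1 ha
  obtain ⟨j, hj, rfl⟩ := (Nat.dvd_prime_pow Nat.prime_five).1 hb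
  have hc7 : c = 1 ∨ c = 7 := (Nat.dvd_prime (by norm_num)).1 hc
  have hf13 : f = 1 ∨ f = 13 := (Nat.dvd_prime (by norm_num)).1 hf
  interval_cases i <;> interval_cases j <;> rcases hc7 with rfl | rfl <;>
    rcases hf13 with rfl | rfl <;> revert h <;> decide

/-! ### the permutation `x ↦ x + 1` -/

def L23 : List ℕ := [1, 2, 3, 4, 5, 6, 7, 8, 9, 10, 11, 12, 13, 14, 15, 16, 17, 18, 19, 20, 21, 22, 0, 23]

theorem ok23 : Cfsg.Agent.Lib.Helper12.Golay.okK L23 = true := by decide

theorem tbl23 : ∀ p : GolayPt, Cfsg.Agent.Lib.Helper12.Golay.tblFun L23 p =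
    (match p with
      | none => none
      | some t => some (t + 1)) := by decide

noncomputable def π23 : Equiv.Perm GolayPt := fperm L23

theorem π23_mem : π23 ∈ M24 := fperm_mem ok23

theorem π23_none : π23 none = none := by
  unfold π23
  rw [fperm_apply (Cfsg.Agent.Lib.Helper12.Golay.okK_valid ok23), tbl23]

theorem π23_some (t : ZMod 23) : π23 (some t) = some (t + 1) := by
  unfold π23
  rw [fperm_apply (Cfsg.Agent.Lib.Helper12.Golay.okK_valid ok23), tbl23]

theorem π23_pow (n : ℕ) (p : GolayPt) : (π23 ^ n) p =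
    (match p with
      | none => none
      | some t => some (t + (n : ZMod 23))) := by
  induction n with
  | zero =>
    rcases p with _ | t
    · rfl
    · show some t = some (t + ((0 : ℕ) : ZMod 23))
      rw [Nat.cast_zero, add_zero]
  | succ n ih =>
    rw [pow_succ', Equiv.Perm.mul_apply, ih]
    rcases p with _ | t
    · exact π23_none
    · show π23 (some (t + (n : ZMod 23))) = some (t + ((n + 1 : ℕ) : ZMod 23))
      rw [π23_some, Nat.cast_add, Nat.cast_one, add_assoc]

theorem π23_pow23 : π23 ^ 23 = 1 := by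
  apply Equiv.ext
  intro p
  rw [π23_pow]
  rcases p with _ | t
  · rfl
  · show some (t + ((23 : ℕ) : ZMod 23)) = some t
    rw [ZMod.natCast_self, add_zero]

/-- a vector fixed by the shift is constant on the 23 finite points -/
theorem const_of_shift (x : GolayPt → ℤ) (h : ∀ p, x (π23 p) = x p) (t : ZMod 23) :
    x (some t) = x (some 0) := by
  have hn : ∀ n : ℕ, x (some ((n : ℕ) : ZMod 23)) = x (some 0) := by
    intro n
    induction n with
    | zero => rw [Nat.cast_zero]
    | succ n ih =>
      rw [← ih, ← h (some (n : ZMod 23)), π23_some, Nat.cast_add, Nat.cast_one]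
  have := hn t.val
  rw [ZMod.natCast_zmod_val] at this
  exact this

theorem fixed64 (x : GolayPt → ℤ) (h : ∀ p, x (π23 p) = x p) (hN : sqNorm x = 64) :
    x = Pi.single none 8 ∨ x = Pi.single none (-8) := by
  have hc := const_of_shift x h
  have hs : sqNorm x = x none ^ 2 + 23 * x (some 0) ^ 2 := by
    unfold sqNorm
    rw [Fintype.sum_option]
    congr 1
    rw [Finset.sum_congr rfl (fun t _ => by rw [hc t]), Finset.sum_const, Finset.card_univ,
      ZMod.card, nsmul_eq_mul]
    norm_num
  rw [hN] at hs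
  have hb : x (some 0) = 0 := by
    have h1 : x (some 0) ^ 2 ≤ 2 := by nlinarith [sq_nonneg (x none)]
    have h2 : -1 ≤ x (some 0) ∧ x (some 0) ≤ 1 := by
      constructor <;> nlinarith
    obtain ⟨h3, h4⟩ := h2
    have h5 : x (some 0) = -1 ∨ x (some 0) = 0 ∨ x (some 0) = 1 := by omega
    rcases h5 with h5 | h5 | h5
    · exfalso
      rw [h5] at hs
      have h6 : x none ^ 2 = 41 := by linarith
      have h7 : -7 < x none ∧ x none < 7 := by
        constructor <;> nlinarith
      obtain ⟨h8, h9⟩ := h7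
      interval_cases (x none) <;> norm_num at h6
    · exact h5
    · exfalso
      rw [h5] at hs
      have h6 : x none ^ 2 = 41 := by linarith
      have h7 : -7 < x none ∧ x none < 7 := by
        constructor <;> nlinarith
      obtain ⟨h8, h9⟩ := h7
      interval_cases (x none) <;> norm_num at h6
  rw [hb] at hs
  have ha : x none = 8 ∨ x none = -8 := by
    have h6 : x none ^ 2 = 64 := by linarith
    have h7 : (x none - 8) * (x none + 8) = 0 := by ring_nf; linarith
    rcases mul_eq_zero.1 h7 with h8 | h8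
    · left; linarith
    · right; linarith
  have hx : ∀ p, x p = Pi.single (M := fun _ => ℤ) none (x none) p := by
    intro p
    rcases p with _ | t
    · rw [Pi.single_eq_same]
    · rw [Pi.single_eq_of_ne (by simp), hc t, hb]
  rcases ha with ha | ha
  · left
    funext p
    rw [hx p, ha]
  · right
    funext p
    rw [hx p, ha]

/-! ### monomial elements lie in the stabiliser of the standard cross -/

theorem permE_H (π : Equiv.Perm GolayPt) (hπ : π ∈ M24) :
    (⟨permE π hπ, permE_mem π hπ⟩ : ↥Co0) ∈ H := by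
  rw [mem_H]
  have hv : ((permE π hπ) (ev none)).1 = Pi.single (π.symm none) 8 := by
    funext p
    show (ev none).1 (π p) = _
    rw [ev_val]
    by_cases hp : p = π.symm none
    · subst hp
      simp
    · rw [Pi.single_eq_of_ne hp, Pi.single_eq_of_ne]
      intro h
      apply hp
      rw [← h]
      simp
  show cl ((permE π hπ) (ev none)).1 = _
  rw [hv]
  apply cl_single _ 8 (Or.inl rfl)
  rw [← hv]
  exact ((permE π hπ) (ev none)).2

theorem flipE_H (c : GolayPt → ZMod 2) (hc : c ∈ golayCode) :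
    (⟨flipE c hc, flipE_mem c hc⟩ : ↥Co0) ∈ H := by
  rw [mem_H]
  have hv : ((flipE c hc) (ev none)).1 = Pi.single none (if c none ≠ 0 then -8 else 8) := by
    funext p
    show Cfsg.Agent.Lib.helper4.flip c (ev none).1 p = _
    unfold Cfsg.Agent.Lib.helper4.flip
    rw [ev_val]
    by_cases hp : p = none
    · subst hp
      rw [Pi.single_eq_same, Pi.single_eq_same]
    · rw [Pi.single_eq_of_ne hp, Pi.single_eq_of_ne hp]
      by_cases hcn : c p ≠ 0
      · rw [if_pos hcn]
        rfl
      · rw [if_neg hcn]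
  show cl ((flipE c hc) (ev none)).1 = _
  rw [hv]
  apply cl_single
  · split_ifs
    · right; rfl
    · left; rfl
  · rw [← hv]
    exact ((flipE c hc) (ev none)).2

theorem neg_H : (⟨Equiv.neg leechLattice, neg_mem_Co0⟩ : ↥Co0) ∈ H := by
  rw [mem_H]
  have hv : ((Equiv.neg leechLattice) (ev none)).1 = Pi.single none (-8) := by
    show -(ev none).1 = _
    rw [ev_val]
    funext p
    by_cases hp : p = none
    · subst hp
      simp
    · simp [Pi.single_eq_of_ne hp]
  show cl ((Equiv.neg leechLattice) (ev none)).1 = _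
  rw [hv]
  apply cl_single _ (-8) (Or.inr rfl)
  rw [← hv]
  exact ((Equiv.neg leechLattice) (ev none)).2

/-! ### orbits and stabilisers -/

theorem norm_ev : sqNorm (ev none).1 = 64 := by
  unfold sqNorm
  rw [Finset.sum_eq_single none]
  · rw [ev_val, Pi.single_eq_same]; norm_num
  · intro k _ hk
    rw [ev_val, Pi.single_eq_of_ne hk]; norm_num
  · intro h; exact absurd (Finset.mem_univ _) h

theorem orbit_top : orbit ↥Co0 (ev none) = {x : ↥leechLattice | sqNorm x.1 = 64} := by
  ext x
  constructor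
  · rintro ⟨g, rfl⟩
    show sqNorm (g.1 (ev none)).1 = 64
    rw [g.2.2, norm_ev]
  · intro hx
    obtain ⟨g, hg⟩ := trans64 x hx
    refine ⟨g⁻¹, ?_⟩
    show g⁻¹.1 (ev none) = x
    rw [← hg]
    show (g⁻¹ * g).1 x = x
    rw [inv_mul_cancel]
    rfl

theorem fin64' : {x : ↥leechLattice | sqNorm x.1 = 64}.Finite := by
  apply Set.Finite.of_finite_image (f := Subtype.val)
  · apply Set.Finite.subset (Finset.finite_toSet F64)
    rintro _ ⟨x, hx, rfl⟩
    rw [Finset.mem_coe, mem_F64]
    exact ⟨x.2, hx⟩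
  · exact Subtype.val_injective.injOn

theorem ncard_64 : {x : ↥leechLattice | sqNorm x.1 = 64}.ncard = 398034000 := by
  rw [← card_F64, ← Set.ncard_coe_finset, ← Set.ncard_image_of_injective _ Subtype.val_injective]
  congr 1
  ext y
  constructor
  · rintro ⟨x, hx, rfl⟩
    rw [Finset.mem_coe, mem_F64]
    exact ⟨x.2, hx⟩
  · intro hy
    rw [Finset.mem_coe, mem_F64] at hy
    exact ⟨⟨y, hy.1⟩, hy.2, rfl⟩

theorem card_stab_top : Nat.card (stabilizer ↥Co0 (ev none)) = 20891566080 := by
  have h1 := index_stabilizer ↥Co0 (ev none)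
  rw [orbit_top, ncard_64] at h1
  have h2 := (stabilizer ↥Co0 (ev none)).card_mul_index
  rw [h1, card_Co0] at h2
  have h3 : 8292375 * (4096 * 244823040) = 20891566080 * 398034000 := by norm_num
  exact Nat.eq_of_mul_eq_mul_right (by norm_num : 0 < 398034000) (h2.trans h3)

theorem stab_le_H : stabilizer ↥Co0 (ev none) ≤ H := by
  intro g hg
  rw [mem_stabilizer_iff] at hg
  rw [mem_H]
  have : g.1 (ev none) = ev none := hg
  rw [this]

/-- the orbit of `8e_∞` under an overgroup of the monomial group -/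
theorem card_over (K : Subgroup ↥Co0) (hK : H ≤ K) :
    (orbit ↥K (ev none)).ncard * 20891566080 = Nat.card ↥K := by
  have h1 := index_stabilizer ↥K (ev none)
  have h2 := (stabilizer ↥K (ev none)).card_mul_index
  rw [h1] at h2
  rw [← h2, mul_comm, ← card_stab_top]
  congr 1
  apply Nat.card_congr
  exact
    { invFun := fun g => ⟨g.1.1, by
        rw [mem_stabilizer_iff]
        exact mem_stabilizer_iff.1 g.2⟩
      toFun := fun k => ⟨⟨k.1, hK (stab_le_H k.2)⟩, by
        rw [mem_stabilizer_iff]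
        exact mem_stabilizer_iff.1 k.2⟩
      left_inv := fun g => rfl
      right_inv := fun k => rfl }

theorem orbit_fin (K : Subgroup ↥Co0) : (orbit ↥K (ev none)).Finite := by
  apply fin64'.subset
  rintro _ ⟨k, rfl⟩
  show sqNorm (k.1.1 (ev none)).1 = 64
  rw [k.1.2.2, norm_ev]

end Cfsg.Agent.Lib.Lead.CM
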