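import Cfsg.Agent.Lib.Lead.CrossMax4

/-!
# The monomial group `2^12 : M24` is a maximal subgroup of the automorphism group of the Leech
lattice
-/

set_option autoImplicit false
open Cfsg

namespace Cfsg.Agent.Lib.Lead.CM

open Cfsg.Agent.Lib.helper3 Cfsg.Agent.Lib.helper4 Cfsg.Agent.S0398
open Cfsg.Agent.Lib.Lead.CW Cfsg.Agent.Lib.Lead.CO Cfsg.Agent.Lib.Lead.LX
open MulAction

open scoped Classical

/-! ### the vectors of shape `(4^4, 0^20)` -/

theorem abs_04 (x : GolayPt → ℤ) (h4 : cnt x 4 = 4) (h0 : cnt x 0 = 20) (i : GolayPt) :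
    (x i).natAbs = 4 ∨ (x i).natAbs = 0 := by
  have hdis : Disjoint (Finset.univ.filter (fun p => (x p).natAbs = 4))
      (Finset.univ.filter (fun p => (x p).natAbs = 0)) := by
    rw [Finset.disjoint_left]
    intro p hp hp'
    rw [Finset.mem_filter] at hp hp'
    omega
  have hcard : ((Finset.univ.filter (fun p => (x p).natAbs = 4)) ∪
      (Finset.univ.filter (fun p => (x p).natAbs = 0))).card = Fintype.card GolayPt := by
    rw [Finset.card_union_of_disjoint hdis, card_pts]
    have e4 : (Finset.univ.filter (fun p => (x p).natAbs = 4)).card = 4 := h4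
    have e0 : (Finset.univ.filter (fun p => (x p).natAbs = 0)).card = 20 := h0
    rw [e4, e0]
  have huniv := Finset.eq_univ_of_card _ hcard
  have hi : i ∈ (Finset.univ.filter (fun p => (x p).natAbs = 4)) ∪
      (Finset.univ.filter (fun p => (x p).natAbs = 0)) := by
    rw [huniv]
    exact Finset.mem_univ _
  rw [Finset.mem_union, Finset.mem_filter, Finset.mem_filter] at hi
  rcases hi with hi | hi
  · exact Or.inl hi.2
  · exact Or.inr hi.2

theorem val_04 (x : GolayPt → ℤ) (h4 : cnt x 4 = 4) (h0 : cnt x 0 = 20) (i : GolayPt) :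
    x i = if x i < 0 then -4 else if x i ≠ 0 then 4 else 0 := by
  rcases abs_04 x h4 h0 i with h | h <;> split_ifs <;> omega

/-- the pairs (support, negative part) -/
noncomputable def T44 : Finset (Finset GolayPt × Finset GolayPt) :=
  (Finset.powersetCard 4 Finset.univ).biUnion (fun Y => Y.powerset.image (fun Z => (Y, Z)))

theorem mem_T44 (Y Z : Finset GolayPt) : (Y, Z) ∈ T44 ↔ Y.card = 4 ∧ Z ⊆ Y := by
  unfold T44
  rw [Finset.mem_biUnion]
  constructor
  · rintro ⟨Y', hY', h⟩
    rw [Finset.mem_image] at h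
    obtain ⟨Z', hZ', he⟩ := h
    have e1 : Y' = Y := congrArg Prod.fst he
    have e2 : Z' = Z := congrArg Prod.snd he
    subst e1
    subst e2
    exact ⟨(Finset.mem_powersetCard.1 hY').2, Finset.mem_powerset.1 hZ'⟩
  · rintro ⟨h1, h2⟩
    exact ⟨Y, Finset.mem_powersetCard.2 ⟨Finset.subset_univ _, h1⟩,
      Finset.mem_image.2 ⟨Z, Finset.mem_powerset.2 h2, rfl⟩⟩

theorem card_T44 : T44.card ≤ 170016 := by
  unfold T44
  refine Finset.card_biUnion_le.trans ?_
  have h16 : ∀ Y ∈ Finset.powersetCard 4 (Finset.univ : Finset GolayPt),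
      (Y.powerset.image (fun Z => (Y, Z))).card ≤ 16 := by
    intro Y hY
    refine Finset.card_image_le.trans ?_
    rw [Finset.card_powerset, (Finset.mem_powersetCard.1 hY).2]
    norm_num
  refine (Finset.sum_le_sum h16).trans ?_
  rw [Finset.sum_const, Finset.card_powersetCard, Finset.card_univ, card_pts, smul_eq_mul]
  have hch : Nat.choose 24 4 = 10626 := by norm_num [Nat.choose]
  rw [hch]

attribute [irreducible] T44

/-- support and negative part -/
noncomputable def sig44 (x : ↥leechLattice) : Finset GolayPt × Finset GolayPt :=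
  (Finset.univ.filter (fun i => x.1 i ≠ 0), Finset.univ.filter (fun i => x.1 i < 0))

theorem card_S44_le (B : Set ↥leechLattice)
    (hB : ∀ x ∈ B, cnt x.1 4 = 4 ∧ cnt x.1 0 = 20) : B.ncard ≤ 170016 := by
  have hmaps : ∀ x ∈ B, sig44 x ∈ (↑T44 : Set (Finset GolayPt × Finset GolayPt)) := by
    intro x hx
    have h4 : cnt x.1 4 = 4 := (hB x hx).1
    have h0 : cnt x.1 0 = 20 := (hB x hx).2
    rw [Finset.mem_coe]
    show (Finset.univ.filter (fun i => x.1 i ≠ 0), Finset.univ.filter (fun i => x.1 i < 0)) ∈ T44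
    rw [mem_T44]
    refine ⟨?_, ?_⟩
    · have h := Finset.card_filter_add_card_filter_not (s := (Finset.univ : Finset GolayPt))
        (fun i => (x.1 i).natAbs = 0)
      have e0 : (Finset.univ.filter (fun p => (x.1 p).natAbs = 0)).card = 20 := h0
      rw [e0, Finset.card_univ, card_pts] at h
      have e : Finset.univ.filter (fun i => x.1 i ≠ 0)
          = Finset.univ.filter (fun i => ¬ (x.1 i).natAbs = 0) := by
        apply Finset.filter_congr
        intro i _
        rw [Int.natAbs_eq_zero]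
      rw [e]
      omega
    · intro i hi
      rw [Finset.mem_filter] at hi ⊢
      exact ⟨Finset.mem_univ _, by omega⟩
  have hinj : Set.InjOn sig44 B := by
    intro x hx x' hx' hff
    have h4 : cnt x.1 4 = 4 := (hB x hx).1
    have h0 : cnt x.1 0 = 20 := (hB x hx).2
    have h4' : cnt x'.1 4 = 4 := (hB x' hx').1
    have h0' : cnt x'.1 0 = 20 := (hB x' hx').2
    have h1 : Finset.univ.filter (fun i => x.1 i ≠ 0) = Finset.univ.filter (fun i => x'.1 i ≠ 0) :=
      congrArg Prod.fst hff
    have h2 : Finset.univ.filter (fun i => x.1 i < 0) = Finset.univ.filter (fun i => x'.1 i < 0) :=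
      congrArg Prod.snd hff
    apply Subtype.ext
    funext i
    have e1 : x.1 i ≠ 0 ↔ x'.1 i ≠ 0 := by
      have := Finset.ext_iff.1 h1 i
      simp only [Finset.mem_filter, Finset.mem_univ, true_and] at this
      exact this
    have e2 : x.1 i < 0 ↔ x'.1 i < 0 := by
      have := Finset.ext_iff.1 h2 i
      simp only [Finset.mem_filter, Finset.mem_univ, true_and] at this
      exact this
    rw [val_04 x.1 h4 h0 i, val_04 x'.1 h4' h0' i]
    by_cases hn : x.1 i < 0
    · rw [if_pos hn, if_pos (e2.1 hn)]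
    · rw [if_neg hn, if_neg (fun h => hn (e2.2 h))]
      by_cases hz : x.1 i ≠ 0
      · rw [if_pos hz, if_pos (e1.1 hz)]
      · rw [if_neg hz, if_neg (fun h => hz (e1.2 h))]
  have h1 : (sig44 '' B).ncard = B.ncard := Set.InjOn.ncard_image hinj
  have h2 : sig44 '' B ⊆ (↑T44 : Set (Finset GolayPt × Finset GolayPt)) := by
    intro y hy
    have h2' := (Set.mem_image _ _ _).1 hy
    exact Exists.elim h2' (fun x hx => by
      have h3 := hx.2
      rw [← h3]
      exact hmaps x hx.1)
  have h3 := Set.ncard_le_ncard h2 (Finset.finite_toSet T44)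
  rw [Set.ncard_coe_finset, h1] at h3
  exact h3.trans card_T44

/-! ### the vectors of the standard cross -/

theorem card_std_le (B : Set ↥leechLattice) (hfin : B.Finite)
    (hB : ∀ x ∈ B, sqNorm x.1 = 64 ∧ cnt x.1 8 ≠ 0) : B.ncard ≤ 48 := by
  let g : GolayPt × Bool → (GolayPt → ℤ) := fun pb => Pi.single pb.1 (if pb.2 then 8 else -8)
  have hsub : Subtype.val '' B ⊆ Set.range g := by
    rintro _ ⟨x, hx, rfl⟩
    obtain ⟨hN, h8⟩ := hB x hx
    have hpos : 0 < cnt x.1 8 := Nat.pos_of_ne_zero h8
    unfold cnt at hpos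
    obtain ⟨p, hp⟩ := Finset.card_pos.1 hpos
    rw [Finset.mem_filter] at hp
    have hp2 : x.1 p ^ 2 = 64 := by
      have h3 : ((x.1 p).natAbs : ℤ) ^ 2 = x.1 p ^ 2 := Int.natAbs_sq _
      rw [← h3, hp.2]
      norm_num
    have hx' := vec_eq_single x.1 p 64 hN hp2
    have hv : x.1 p = 8 ∨ x.1 p = -8 := by
      have := hp.2
      omega
    rcases hv with hv | hv
    · refine ⟨(p, true), ?_⟩
      show Pi.single p (if true = true then (8 : ℤ) else -8) = x.1
      rw [hv] at hx'
      rw [if_pos rfl]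
      exact hx'.symm
    · refine ⟨(p, false), ?_⟩
      show Pi.single p (if false = true then (8 : ℤ) else -8) = x.1
      rw [hv] at hx'
      rw [if_neg (by simp)]
      exact hx'.symm
  have h1 : B.ncard = (Subtype.val '' B).ncard :=
    (Set.ncard_image_of_injective _ Subtype.val_injective).symm
  rw [h1]
  refine (Set.ncard_le_ncard hsub (Set.finite_range g)).trans ?_
  rw [← Set.image_univ]
  refine (Set.ncard_image_le (Set.finite_univ)).trans ?_
  rw [Set.ncard_univ, Nat.card_eq_fintype_card, Fintype.card_prod, card_pts, Fintype.card_bool]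

/-! ### the element of order 23 -/

noncomputable def g23 : ↥Co0 := ⟨permE π23 π23_mem, permE_mem _ _⟩

theorem g23_pow_apply (n : ℕ) (y : ↥leechLattice) (p : GolayPt) :
    ((g23 ^ n) • y).1 p = y.1 ((π23 ^ n) p) := by
  induction n generalizing y p with
  | zero => rw [pow_zero, one_smul, pow_zero]; rfl
  | succ n ih =>
    rw [pow_succ, mul_smul, ih, pow_succ', Equiv.Perm.mul_apply]
    rfl

theorem g23_pow23 : g23 ^ 23 = 1 := by
  apply Subtype.ext
  apply Equiv.ext
  intro y
  apply Subtype.ext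
  funext p
  have := g23_pow_apply 23 y p
  rw [π23_pow23] at this
  exact this

theorem g23_fix (y : ↥leechLattice) (hy : g23 • y = y) (p : GolayPt) : y.1 (π23 p) = y.1 p := by
  have : (g23 • y).1 p = y.1 (π23 p) := rfl
  rw [← this, hy]

theorem π23_eq_none (p : GolayPt) : π23 p = none ↔ p = none := by
  rcases p with _ | t
  · simp [π23_none]
  · rw [π23_some]
    simp

theorem g23_ev : g23 • (ev none) = ev none := by
  apply Subtype.ext
  funext p
  show (ev none).1 (π23 p) = (ev none).1 p
  rw [ev_val]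
  by_cases hp : p = none
  · subst hp
    rw [π23_none]
  · rw [Pi.single_eq_of_ne hp, Pi.single_eq_of_ne]
    intro h
    exact hp ((π23_eq_none p).1 h)

theorem ev_ne_neg : ev none ≠ -ev none := by
  intro h
  have := congrArg (fun z : ↥leechLattice => z.1 none) h
  simp only [ev_val] at this
  have h2 : (-(ev none)).1 none = -((ev none).1 none) := rfl
  rw [h2, ev_val, Pi.single_eq_same] at this
  norm_num at this

/-! ### the main theorem -/

theorem H_ne_top : H ≠ ⊤ := by
  intro h
  have h1 := card_H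
  rw [h, Subgroup.card_top, card_Co0] at h1
  norm_num at h1

theorem over_eq_top (K : Subgroup ↥Co0) (hK : H < K) : K = ⊤ := by
  have hle : H ≤ K := hK.le
  set t := (orbit ↥K (ev none)).ncard with ht
  have h1 : t * 20891566080 = Nat.card ↥K := card_over K hle
  have h2 : Nat.card ↥K ∣ 8292375 * (4096 * 244823040) := by
    rw [← card_Co0]
    exact Subgroup.card_subgroup_dvd_card K
  have h3 : 4096 * 244823040 ∣ Nat.card ↥K := by
    rw [← card_H]
    exact Subgroup.card_dvd_of_le hle
  rw [← h1] at h2 h3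
  have h4 : t ∣ 8292375 * 48 := by
    apply Nat.dvd_of_mul_dvd_mul_right (by norm_num : 0 < 20891566080)
    have e : 8292375 * 48 * 20891566080 = 8292375 * (4096 * 244823040) := by norm_num
    rw [e]
    exact h2
  have h5 : 48 ∣ t := by
    apply Nat.dvd_of_mul_dvd_mul_right (by norm_num : 0 < 20891566080)
    have e : 48 * 20891566080 = 4096 * 244823040 := by norm_num
    rw [e]
    exact h3
  obtain ⟨d, hd⟩ := h5
  have h6 : d ∣ 8292375 := by
    apply Nat.dvd_of_mul_dvd_mul_left (by norm_num : 0 < 48)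
    rw [← hd, mul_comm 48 8292375]
    exact h4
  -- the element of order 23
  have hg23K : g23 ∈ K := hle (permE_H π23 π23_mem)
  have hnegK : (⟨Equiv.neg leechLattice, neg_mem_Co0⟩ : ↥Co0) ∈ K := hle neg_H
  haveI : Fact (Nat.Prime 23) := ⟨by norm_num⟩
  have hmod := Cfsg.Agent.Lib.Lead.PS.orbit_card_modEq K (ev none) g23 hg23K 23 g23_pow23
    (orbit_fin K)
  have hfixset : {y | y ∈ orbit ↥K (ev none) ∧ g23 • y = y} = {ev none, -ev none} := by
    ext y
    constructor
    · rintro ⟨hyo, hyf⟩
      have hyN : sqNorm y.1 = 64 := by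
        obtain ⟨k, rfl⟩ := hyo
        show sqNorm (k.1.1 (ev none)).1 = 64
        rw [k.1.2.2, norm_ev]
      rcases fixed64 y.1 (g23_fix y hyf) hyN with h | h
      · left
        apply Subtype.ext
        rw [h, ev_val]
      · right
        apply Subtype.ext
        rw [h]
        show _ = -(ev none).1
        rw [ev_val]
        funext p
        by_cases hp : p = none
        · subst hp
          simp
        · simp [Pi.single_eq_of_ne hp]
    · intro hy
      rcases hy with rfl | hy
      · exact ⟨⟨1, one_smul _ _⟩, g23_ev⟩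
      · rw [Set.mem_singleton_iff] at hy
        subst hy
        refine ⟨⟨⟨_, hnegK⟩, rfl⟩, ?_⟩
        have hlin : g23 • (-ev none) = -(g23 • ev none) := by
          apply Subtype.ext
          funext p
          rfl
        rw [hlin, g23_ev]
  rw [hfixset, Set.ncard_pair ev_ne_neg] at hmod
  have hd23 : d % 23 = 1 := by
    have : t % 23 = 2 % 23 := hmod
    omega
  -- the vectors outside the standard cross
  set T' : Set ↥leechLattice := {x | x ∈ orbit ↥K (ev none) ∧ cnt x.1 8 = 0} with hT'
  have hfinT' : T'.Finite := (orbit_fin K).subset (fun x hx => hx.1)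
  have hnorm : ∀ x ∈ orbit ↥K (ev none), sqNorm x.1 = 64 := by
    rintro _ ⟨k, rfl⟩
    show sqNorm (k.1.1 (ev none)).1 = 64
    rw [k.1.2.2, norm_ev]
  have hsplit : t ≤ T'.ncard + 48 := by
    have hu : orbit ↥K (ev none) ⊆ T' ∪ {x | x ∈ orbit ↥K (ev none) ∧ cnt x.1 8 ≠ 0} := by
      intro x hx
      by_cases h8 : cnt x.1 8 = 0
      · exact Or.inl ⟨hx, h8⟩
      · exact Or.inr ⟨hx, h8⟩
    have hfin2 : {x | x ∈ orbit ↥K (ev none) ∧ cnt x.1 8 ≠ 0}.Finite :=
      (orbit_fin K).subset (fun x hx => hx.1)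
    refine (Set.ncard_le_ncard hu (hfinT'.union hfin2)).trans ?_
    refine (Set.ncard_union_le _ _).trans ?_
    have := card_std_le _ hfin2 (fun x hx => ⟨hnorm x hx.1, hx.2⟩)
    omega
  have hle' : T'.ncard ≤ t := Set.ncard_le_ncard (fun x hx => hx.1) (orbit_fin K)
  have hperm : ∀ (π : Equiv.Perm GolayPt) (hπ : π ∈ M24), ∀ x ∈ T', permE π hπ x ∈ T' := by
    rintro π hπ x ⟨⟨k, rfl⟩, h8⟩
    refine ⟨⟨⟨⟨permE π hπ, permE_mem π hπ⟩, hle (permE_H π hπ)⟩ * k, rfl⟩, ?_⟩
    rw [← h8]
    exact cnt_perm _ π 8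
  have hflip : ∀ (c : GolayPt → ZMod 2) (hc : c ∈ golayCode), ∀ x ∈ T', flipE c hc x ∈ T' := by
    rintro c hc x ⟨⟨k, rfl⟩, h8⟩
    refine ⟨⟨⟨⟨flipE c hc, flipE_mem c hc⟩, hle (flipE_H c hc)⟩ * k, rfl⟩, ?_⟩
    rw [← h8]
    exact cnt_flip _ c 8
  have hmid : 48 < t → t ≤ 454896 → (t < 170016 ∨ 170064 < t) → False := by
    intro hlo hhi hnot
    by_cases hex : ∃ w ∈ T', ¬ (cnt w.1 4 = 4 ∧ cnt w.1 0 = 20)
    · obtain ⟨w, hw, hns⟩ := hex
      have := big_bound T' hfinT' hperm hflip w hw (hnorm w hw.1) hw.2 hns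
      omega
    · push Not at hex
      have hub := card_S44_le T' hex
      by_cases hne : T'.Nonempty
      · obtain ⟨w, hw⟩ := hne
        have := bound_S1 T' hfinT' hperm hflip w hw (hex w hw).1 (hex w hw).2
        omega
      · rw [Set.not_nonempty_iff_eq_empty] at hne
        rw [hne, Set.ncard_empty] at hsplit
        omega
  have hfinG : Finite ↥Co0 := by
    apply Nat.finite_of_card_ne_zero
    rw [card_Co0]
    norm_num
  rcases div_lemma d h6 hd23 with rfl | rfl | rfl | rfl | rfl | rfl
  · -- `K = H`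
    exfalso
    have hc : Nat.card ↥K ≤ Nat.card ↥H := by
      rw [card_H, ← h1, hd]
    exact hK.ne (Subgroup.eq_of_le_of_card_ge hle hc)
  · exact absurd (hmid (by omega) (by omega) (by omega)) id
  · exact absurd (hmid (by omega) (by omega) (by omega)) id
  · exact absurd (hmid (by omega) (by omega) (by omega)) id
  · exact absurd (hmid (by omega) (by omega) (by omega)) id
  · apply (Subgroup.card_eq_iff_eq_top K).1
    rw [card_Co0, ← h1, hd]

theorem H_coatom : IsCoatom H := ⟨H_ne_top, fun K hK => over_eq_top K hK⟩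

end Cfsg.Agent.Lib.Lead.CM
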