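import Mathlib
import Cfsg.Prelude.Def_Classical
import Cfsg.Agent.Lib.Lead.DicksonGen

set_option autoImplicit false

/-! In characteristic two, `g ∈ Ω` iff `g - 1` has even rank. -/

namespace Cfsg.Agent.Lib.Lead.DK

open Cfsg Cfsg.Agent.Lib.Helper16 Cfsg.Agent.Lib.helper6 Module Matrix

variable {ι : Type} [Fintype ι] [DecidableEq ι] {F : Type*} [Field F]

theorem fixDim_add_rank (Q : QuadraticForm F (ι → F)) (g : ↥(Cfsg.isometryGroup F ⇑Q)) :
    (((g : Matrix.GeneralLinearGroup ι F) : Matrix ι ι F) - 1).rank + fixDim Q g =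
      Fintype.card ι := by
  unfold fixDim fixSub Matrix.rank
  have := LinearMap.finrank_range_add_finrank_ker
    (Matrix.mulVecLin (((g : Matrix.GeneralLinearGroup ι F) : Matrix ι ι F) - 1))
  rw [Module.finrank_fintype_fun_eq_card] at this
  exact this

theorem dk_eq_rank (Q : QuadraticForm F (ι → F)) (g : ↥(Cfsg.isometryGroup F ⇑Q)) :
    dk Q g = (-1) ^ (((g : Matrix.GeneralLinearGroup ι F) : Matrix ι ι F) - 1).rank := by
  unfold dk
  have h := fixDim_add_rank Q g
  have h2 : fixDim Q g + Fintype.card ι =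
      (((g : Matrix.GeneralLinearGroup ι F) : Matrix ι ι F) - 1).rank + 2 * fixDim Q g := by
    omega
  rw [h2, pow_add, pow_mul]
  simp

/-- in characteristic two an isometry lies in `Ω` iff `g - 1` has even rank -/
theorem mem_omega_iff_even_rank [Fintype F] [CharP F 2] (Q : QuadraticForm F (ι → F))
    (hQ : (QuadraticMap.polarBilin Q).Nondegenerate)
    (h : Fintype.card F ≠ 2 ∨ Fintype.card ι ≠ 4) (g : ↥(Cfsg.isometryGroup F ⇑Q)) :
    g ∈ Cfsg.Omega F ⇑Q ↔
      Even (((g : Matrix.GeneralLinearGroup ι F) : Matrix ι ι F) - 1).rank := by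
  have hG := genByRefl Q hQ h
  rw [omega_eq_ker Q hQ hG, MonoidHom.mem_ker]
  show dk Q g = 1 ↔ _
  rw [dk_eq_rank]
  constructor
  · intro h1
    rcases Nat.even_or_odd (((g : Matrix.GeneralLinearGroup ι F) : Matrix ι ι F) - 1).rank
      with he | ho
    · exact he
    · rw [ho.neg_one_pow] at h1
      exact absurd h1 (by decide)
  · intro he
    exact he.neg_one_pow

end Cfsg.Agent.Lib.Lead.DK
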