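import Mathlib
import Cfsg.Agent.S1610

set_option autoImplicit false

/-! Concrete analysis of the monomial automorphisms of the hexacode over the concrete field `F4c`. -/

namespace Cfsg.Agent.Lib.Lead.HexMono

open Cfsg.Agent.Lib.Lead.F4 Cfsg.Agent.Lib.Lead.F4.F4c Cfsg.Agent.S1610

/-- systematic form of the hexacode -/
def sysgen (a b c : F4c) : Fin 6 → F4c :=
  ![a, b, c, a + b + c, v * a + w * b + c, w * a + v * b + c]

/-- decidable membership in the concrete hexacode -/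
def inHc (y : Fin 6 → F4c) : Prop := y = sysgen (y 0) (y 1) (y 2)

instance instDecInHc : DecidablePred inHc := fun y => by
  unfold inHc
  infer_instance

theorem inHc_genc : ∀ t : T3, inHc (genc t) := by decide +kernel

theorem exists_genc_sysgen : ∀ a b c : F4c, ∃ t : T3, genc t = sysgen a b c := by decide +kernel

theorem inHc_iff (y : Fin 6 → F4c) : inHc y ↔ ∃ t : T3, genc t = y := by
  constructor
  · intro h
    obtain ⟨t, ht⟩ := exists_genc_sysgen (y 0) (y 1) (y 2)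
    exact ⟨t, by rw [ht]; exact h.symm⟩
  · rintro ⟨t, rfl⟩
    exact inHc_genc t

theorem g1c_ne : ∀ i, g1c i ≠ 0 := by decide

/-- the candidate scalars determined by the image `genc t` of the first generator -/
def candf (s : Fin 6 → Fin 6) (t : T3) : Fin 6 → F4c := fun i => genc t i * (g1c (s i))⁻¹

/-- the parameter `t` gives a monomial automorphism with permutation table `s` -/
def goodf (s : Fin 6 → Fin 6) (t : T3) : Prop :=
  (∀ i, genc t i ≠ 0) ∧ inHc (fun i => candf s t i * g2c (s i)) ∧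
    inHc (fun i => candf s t i * g3c (s i))

instance instDecGoodf (s : Fin 6 → Fin 6) (t : T3) : Decidable (goodf s t) := by
  unfold goodf
  infer_instance

/-- concrete validity of a monomial map with table `s` (of the inverse permutation) and scalars `c` -/
def validc (s : Fin 6 → Fin 6) (c : Fin 6 → F4c) : Prop :=
  inHc (fun i => c i * g1c (s i)) ∧ inHc (fun i => c i * g2c (s i)) ∧
    inHc (fun i => c i * g3c (s i))

theorem validc_iff (s : Fin 6 → Fin 6) (c : Fin 6 → F4c) (hc : ∀ i, c i ≠ 0) :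
    validc s c ↔ ∃ t : T3, goodf s t ∧ c = candf s t := by
  constructor
  · rintro ⟨h1, h2, h3⟩
    obtain ⟨t, ht⟩ := (inHc_iff _).mp h1
    have hti : ∀ i, genc t i = c i * g1c (s i) := fun i => congrFun ht i
    have hcand : c = candf s t := by
      funext i
      unfold candf
      rw [hti, mul_assoc, mul_inv_cancel₀ (g1c_ne _), mul_one]
    refine ⟨t, ⟨?_, ?_, ?_⟩, hcand⟩
    · intro i
      rw [hti]
      exact mul_ne_zero (hc i) (g1c_ne _)
    · rw [← hcand]; exact h2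
    · rw [← hcand]; exact h3
  · rintro ⟨t, ⟨h0, h2, h3⟩, rfl⟩
    refine ⟨?_, h2, h3⟩
    have : (fun i => candf s t i * g1c (s i)) = genc t := by
      funext i
      unfold candf
      rw [mul_assoc, inv_mul_cancel₀ (g1c_ne _), mul_one]
    rw [this]
    exact inHc_genc t

theorem candf_ne (s : Fin 6 → Fin 6) (t : T3) (h : goodf s t) (i : Fin 6) : candf s t i ≠ 0 :=
  mul_ne_zero (h.1 i) (inv_ne_zero (g1c_ne _))

theorem candf_injective (s : Fin 6 → Fin 6) (t t' : T3) (h : candf s t = candf s t') : t = t' := by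
  apply c_inj
  funext i
  have := congrFun h i
  unfold candf at this
  exact mul_right_cancel₀ (inv_ne_zero (g1c_ne _)) this

/-- number of moved points of a table -/
def moved (s : Fin 6 → Fin 6) : ℕ := (Finset.univ.filter (fun i : Fin 6 => s i ≠ i)).card

/-- reduction of a statement on injective tables to a nested enumeration -/
theorem forall_table (P : (Fin 6 → Fin 6) → Prop)
    (h : ∀ a b : Fin 6, b ≠ a → ∀ c : Fin 6, c ≠ a → c ≠ b → ∀ d : Fin 6, d ≠ a → d ≠ b → d ≠ c →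
      ∀ e : Fin 6, e ≠ a → e ≠ b → e ≠ c → e ≠ d →
      ∀ f : Fin 6, f ≠ a → f ≠ b → f ≠ c → f ≠ d → f ≠ e → P ![a, b, c, d, e, f])
    (s : Fin 6 → Fin 6) (hs : Function.Injective s) : P s := by
  have hne : ∀ i j : Fin 6, i ≠ j → s i ≠ s j := fun i j hij h' => hij (hs h')
  have hs' : s = ![s 0, s 1, s 2, s 3, s 4, s 5] := by
    funext i
    fin_cases i <;> rfl
  rw [hs']
  exact h (s 0) (s 1) (hne 1 0 (by decide)) (s 2) (hne 2 0 (by decide)) (hne 2 1 (by decide))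
    (s 3) (hne 3 0 (by decide)) (hne 3 1 (by decide)) (hne 3 2 (by decide))
    (s 4) (hne 4 0 (by decide)) (hne 4 1 (by decide)) (hne 4 2 (by decide)) (hne 4 3 (by decide))
    (s 5) (hne 5 0 (by decide)) (hne 5 1 (by decide)) (hne 5 2 (by decide)) (hne 5 3 (by decide))
    (hne 5 4 (by decide))

theorem tab1_0 : ∀ b : Fin 6, b ≠ 0 → ∀ c : Fin 6, c ≠ 0 → c ≠ b → ∀ d : Fin 6, d ≠ 0 → d ≠ b →
    d ≠ c → ∀ e : Fin 6, e ≠ 0 → e ≠ b → e ≠ c → e ≠ d →
    ∀ f : Fin 6, f ≠ 0 → f ≠ b → f ≠ c → f ≠ d → f ≠ e →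
    ((∃ t : T3, goodf ![0, b, c, d, e, f] t) →
      (Finset.univ.filter (fun t : T3 => goodf ![0, b, c, d, e, f] t)).card = 3) := by
  decide +kernel

theorem tab1_1 : ∀ b : Fin 6, b ≠ 1 → ∀ c : Fin 6, c ≠ 1 → c ≠ b → ∀ d : Fin 6, d ≠ 1 → d ≠ b →
    d ≠ c → ∀ e : Fin 6, e ≠ 1 → e ≠ b → e ≠ c → e ≠ d →
    ∀ f : Fin 6, f ≠ 1 → f ≠ b → f ≠ c → f ≠ d → f ≠ e →
    ((∃ t : T3, goodf ![1, b, c, d, e, f] t) →
      (Finset.univ.filter (fun t : T3 => goodf ![1, b, c, d, e, f] t)).card = 3) := by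
  decide +kernel

theorem tab1_2 : ∀ b : Fin 6, b ≠ 2 → ∀ c : Fin 6, c ≠ 2 → c ≠ b → ∀ d : Fin 6, d ≠ 2 → d ≠ b →
    d ≠ c → ∀ e : Fin 6, e ≠ 2 → e ≠ b → e ≠ c → e ≠ d →
    ∀ f : Fin 6, f ≠ 2 → f ≠ b → f ≠ c → f ≠ d → f ≠ e →
    ((∃ t : T3, goodf ![2, b, c, d, e, f] t) →
      (Finset.univ.filter (fun t : T3 => goodf ![2, b, c, d, e, f] t)).card = 3) := by
  decide +kernel

theorem tab1_3 : ∀ b : Fin 6, b ≠ 3 → ∀ c : Fin 6, c ≠ 3 → c ≠ b → ∀ d : Fin 6, d ≠ 3 → d ≠ b →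
    d ≠ c → ∀ e : Fin 6, e ≠ 3 → e ≠ b → e ≠ c → e ≠ d →
    ∀ f : Fin 6, f ≠ 3 → f ≠ b → f ≠ c → f ≠ d → f ≠ e →
    ((∃ t : T3, goodf ![3, b, c, d, e, f] t) →
      (Finset.univ.filter (fun t : T3 => goodf ![3, b, c, d, e, f] t)).card = 3) := by
  decide +kernel

theorem tab1_4 : ∀ b : Fin 6, b ≠ 4 → ∀ c : Fin 6, c ≠ 4 → c ≠ b → ∀ d : Fin 6, d ≠ 4 → d ≠ b →
    d ≠ c → ∀ e : Fin 6, e ≠ 4 → e ≠ b → e ≠ c → e ≠ d →
    ∀ f : Fin 6, f ≠ 4 → f ≠ b → f ≠ c → f ≠ d → f ≠ e →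
    ((∃ t : T3, goodf ![4, b, c, d, e, f] t) →
      (Finset.univ.filter (fun t : T3 => goodf ![4, b, c, d, e, f] t)).card = 3) := by
  decide +kernel

theorem tab1_5 : ∀ b : Fin 6, b ≠ 5 → ∀ c : Fin 6, c ≠ 5 → c ≠ b → ∀ d : Fin 6, d ≠ 5 → d ≠ b →
    d ≠ c → ∀ e : Fin 6, e ≠ 5 → e ≠ b → e ≠ c → e ≠ d →
    ∀ f : Fin 6, f ≠ 5 → f ≠ b → f ≠ c → f ≠ d → f ≠ e →
    ((∃ t : T3, goodf ![5, b, c, d, e, f] t) →
      (Finset.univ.filter (fun t : T3 => goodf ![5, b, c, d, e, f] t)).card = 3) := by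
  decide +kernel

theorem tab1_aux : ∀ a b : Fin 6, b ≠ a → ∀ c : Fin 6, c ≠ a → c ≠ b → ∀ d : Fin 6, d ≠ a → d ≠ b →
    d ≠ c → ∀ e : Fin 6, e ≠ a → e ≠ b → e ≠ c → e ≠ d →
    ∀ f : Fin 6, f ≠ a → f ≠ b → f ≠ c → f ≠ d → f ≠ e →
    ((∃ t : T3, goodf ![a, b, c, d, e, f] t) →
      (Finset.univ.filter (fun t : T3 => goodf ![a, b, c, d, e, f] t)).card = 3) := by
  intro a
  fin_cases a
  · exact tab1_0
  · exact tab1_1
  · exact tab1_2
  · exact tab1_3
  · exact tab1_4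
  · exact tab1_5

/-- for a permutation table, the good parameters number three as soon as there is one -/
theorem tab1 (s : Fin 6 → Fin 6) (hs : Function.Injective s) (h : ∃ t : T3, goodf s t) :
    (Finset.univ.filter (fun t : T3 => goodf s t)).card = 3 :=
  forall_table (fun s => (∃ t : T3, goodf s t) →
    (Finset.univ.filter (fun t : T3 => goodf s t)).card = 3) tab1_aux s hs h

set_option synthInstance.maxSize 2048 in
set_option synthInstance.maxHeartbeats 400000 in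
theorem tab2_aux : ∀ a b : Fin 6, b ≠ a → ∀ c : Fin 6, c ≠ a → c ≠ b → ∀ d : Fin 6, d ≠ a → d ≠ b →
    d ≠ c → ∀ e : Fin 6, e ≠ a → e ≠ b → e ≠ c → e ≠ d →
    ∀ f : Fin 6, f ≠ a → f ≠ b → f ≠ c → f ≠ d → f ≠ e →
    (moved ![a, b, c, d, e, f] = 3 →
      ∃ t : T3, goodf ![a, b, c, d, e, f] t) := by
  decide +kernel

/-- tables of three-cycles are good -/
theorem tab2 (s : Fin 6 → Fin 6) (hs : Function.Injective s)
    (h : moved s = 3) : ∃ t : T3, goodf s t :=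
  forall_table (fun s => moved s = 3 → ∃ t : T3, goodf s t) tab2_aux s hs h

/-- the table of a transposition is not good -/
theorem tab3 : ∀ t : T3, ¬ goodf ![1, 0, 2, 3, 4, 5] t := by decide +kernel

/-- for the identity table the candidate scalars are constant -/
theorem tab4 : ∀ t : T3, goodf ![0, 1, 2, 3, 4, 5] t →
    ∀ i j, candf ![0, 1, 2, 3, 4, 5] t i = candf ![0, 1, 2, 3, 4, 5] t j := by decide +kernel

end Cfsg.Agent.Lib.Lead.HexMono
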