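import Mathlib
import Cfsg.Prelude.Def_Classical
import Cfsg.Agent.Lib.Lead.DicksonRank

set_option autoImplicit false

/-! Conjugacy under `Ω` versus the full orthogonal group in characteristic two. -/

namespace Cfsg.Agent.Lib.Lead.DK

open Cfsg Cfsg.Agent.Lib.Helper16 Cfsg.Agent.Lib.helper6 Module Matrix

variable {ι : Type} [Fintype ι] [DecidableEq ι] {F : Type*} [Field F]

/-- an element whose centraliser contains a reflection: its `O`-class is a single `Ω`-class -/
theorem conj_in_omega [Fintype F] [CharP F 2] (Q : QuadraticForm F (ι → F))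
    (hQ : (QuadraticMap.polarBilin Q).Nondegenerate)
    (h24 : Fintype.card F ≠ 2 ∨ Fintype.card ι ≠ 4)
    (t s : ↥(Cfsg.isometryGroup F ⇑Q)) (hconj : IsConj t s)
    (hfix : ∃ v, Q v ≠ 0 ∧ ((t : Matrix.GeneralLinearGroup ι F) : Matrix ι ι F) *ᵥ v = v) :
    ∃ g ∈ Cfsg.Omega F ⇑Q, g * t * g⁻¹ = s := by
  rw [isConj_iff] at hconj
  obtain ⟨g, hg⟩ := hconj
  by_cases hgΩ : g ∈ Cfsg.Omega F ⇑Q
  · exact ⟨g, hgΩ, hg⟩
  · obtain ⟨v, hv, htv⟩ := hfix
    have hG := genByRefl Q hQ h24
    have hx : Q (((t : Matrix.GeneralLinearGroup ι F) : Matrix ι ι F) *ᵥ v) ≠ 0 := by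
      rw [htv]; exact hv
    have h1 := refl_conj Q t v hv hx
    have h2 : reflG Q (((t : Matrix.GeneralLinearGroup ι F) : Matrix ι ι F) *ᵥ v) hx =
        reflG Q v hv := by
      apply iso_ext'
      rw [reflG_coe, reflG_coe, htv]
    rw [h2] at h1
    -- h1 : t * r * t⁻¹ = r
    have hcomm : reflG Q v hv * t * (reflG Q v hv)⁻¹ = t := by
      have h3 : t * reflG Q v hv = reflG Q v hv * t := by
        rw [mul_inv_eq_iff_eq_mul] at h1
        exact h1
      rw [← h3, mul_inv_cancel_right]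
    refine ⟨g * reflG Q v hv, ?_, ?_⟩
    · rw [omega_eq_ker Q hQ hG, MonoidHom.mem_ker, map_mul, dkHom_refl]
      rw [omega_eq_ker Q hQ hG, MonoidHom.mem_ker] at hgΩ
      rcases Int.units_eq_one_or (dkHom Q hQ hG g) with h | h
      · exact absurd h hgΩ
      · rw [h]; rfl
    · rw [_root_.mul_inv_rev]
      calc g * reflG Q v hv * t * ((reflG Q v hv)⁻¹ * g⁻¹)
          = g * (reflG Q v hv * t * (reflG Q v hv)⁻¹) * g⁻¹ := by group
        _ = s := by rw [hcomm, hg]

/-- the fixed space of an involution in characteristic two has at least half the dimension -/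
theorem fixDim_ge_of_invol [CharP F 2] (Q : QuadraticForm F (ι → F))
    (t : ↥(Cfsg.isometryGroup F ⇑Q)) (ht : t * t = 1) :
    Fintype.card ι ≤ 2 * fixDim Q t := by
  have h1 := fixDim_add_rank Q t
  set M := ((t : Matrix.GeneralLinearGroup ι F) : Matrix ι ι F) with hM
  have hMM : M * M = 1 := by
    rw [hM, ← iso_mul_coe, ht, iso_one_coe]
  have hsq : (M - 1) * (M - 1) = 0 := by
    have : (M - 1) * (M - 1) = M * M - 2 • M + 1 := by noncomm_ring
    rw [this, hMM]
    have h2 : (2 : ℕ) • M = 0 := by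
      rw [← Nat.cast_smul_eq_nsmul F]
      have : ((2 : ℕ) : F) = 0 := by
        push_cast
        exact CharTwo.two_eq_zero
      rw [this, zero_smul]
    rw [h2, sub_zero]
    have h3 : (1 : Matrix ι ι F) + 1 = (2 : ℕ) • (1 : Matrix ι ι F) := by
      rw [two_smul]
    rw [h3, ← Nat.cast_smul_eq_nsmul F]
    have : ((2 : ℕ) : F) = 0 := by
      push_cast
      exact CharTwo.two_eq_zero
    rw [this, zero_smul]
  have hle : LinearMap.range (Matrix.mulVecLin (M - 1)) ≤ fixSub M := by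
    rintro x ⟨y, rfl⟩
    unfold fixSub
    rw [LinearMap.mem_ker, Matrix.mulVecLin_apply, Matrix.mulVecLin_apply, Matrix.mulVec_mulVec,
      hsq, Matrix.zero_mulVec]
  have h2 : (M - 1).rank ≤ fixDim Q t := Submodule.finrank_mono hle
  omega

end Cfsg.Agent.Lib.Lead.DK
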