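import Cfsg.Agent.Lib.Lead.LeechCount2

set_option autoImplicit false

/-!
# Counting lattice vectors with two marked coordinates

`core_gen2`: the codeword-by-codeword count with a count depending on the codeword;
`card_marked`: the count for one codeword of the vectors with given squared length, residue of the
coordinate sum, and given value of `x ∞ + x 0`.
-/

namespace Cfsg.Agent.Lib.Lead.LC3

open Cfsg Finset
open Cfsg.Agent.Lib.helper3 Cfsg.Agent.Lib.helper4 Cfsg.Agent.Lib.Lead.LC Cfsg.Agent.Lib.Lead.LC2

theorem core_gen2 (A1 A0 : Finset ℤ) (r1 : ℤ) (hr : r1 = 1 ∨ r1 = 2)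
    (h1 : ∀ a ∈ A1, a % 4 = r1) (h0 : ∀ a ∈ A0, a % 4 = (r1 + 2) % 4)
    (P : (GolayPt → ℤ) → Prop) [DecidablePred P] (g : (GolayPt → ZMod 2) → ℕ)
    (hg : ∀ C : GolayPt → ZMod 2, ((Fintype.piFinset (cls C A1 A0)).filter
      (fun x => P x ∧ (∑ i, x i) % 8 = ((4 * r1.toNat : ℕ) : ℤ) % 8)).card = g C) :
    ∃ F : Finset (GolayPt → ℤ),
      (∀ x, x ∈ F ↔ (x ∈ leechLattice ∧ P x ∧ ∀ i, x i ∈ A1 ∪ A0)) ∧
      F.card = ∑ k ∈ Finset.range 4096, g (Cw k) := by
  classical
  refine ⟨(Finset.range 4096).biUnion (fun k => (Fintype.piFinset (cls (Cw k) A1 A0)).filter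
      (fun x => P x ∧ (∑ i, x i) % 8 = ((4 * r1.toNat : ℕ) : ℤ) % 8)), ?_, ?_⟩
  · intro x
    simp only [Finset.mem_biUnion, Finset.mem_range, Finset.mem_filter, Fintype.mem_piFinset]
    constructor
    · rintro ⟨k, hk, hx, hN, hρ⟩
      have hiff := cls_iff A1 A0 r1 hr h1 h0 (Cw k) x hx
      have hmem : ∀ i, x i ∈ A1 ∪ A0 := by
        intro i
        have := hx i
        unfold cls at this
        split_ifs at this
        · exact Finset.mem_union_left _ this
        · exact Finset.mem_union_right _ this
      have hres : ∀ i, x i % 4 = r1 ∨ x i % 4 = (r1 + 2) % 4 := by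
        intro i
        rcases Finset.mem_union.1 (hmem i) with h | h
        · exact Or.inl (h1 _ h)
        · exact Or.inr (h0 _ h)
      refine ⟨?_, hN, hmem⟩
      rw [mem_leechLattice_iff, mem_leechSet_iff]
      refine ⟨r1, ?_, ?_, ?_⟩
      · intro i
        show x i % 2 = r1 % 2
        rcases hres i with h | h <;> rcases hr with rfl | rfl <;> omega
      · show (∑ i, x i) % 8 = (4 * r1) % 8
        rw [hρ]
        rcases hr with rfl | rfl <;> norm_num
      · intro k'
        have hcase : ind4 x k' = (if k' % 4 = r1 then Cw k else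
            if k' % 4 = (r1 + 2) % 4 then 1 + Cw k else 0) := by
          funext i
          have hi := hiff i
          by_cases hC : Cw k i ≠ 0
          · have hx4 : x i % 4 = r1 := hi.1 hC
            have hC1 : Cw k i = 1 := (zmod2_ne_zero_iff _).1 hC
            by_cases hk1 : k' % 4 = r1
            · rw [if_pos hk1, hC1]
              have : ind4 x k' i ≠ 0 := by
                rw [ind4_ne_zero_iff]; rcases hr with rfl | rfl <;> omega
              exact (zmod2_ne_zero_iff _).1 this
            · rw [if_neg hk1]
              have : ¬ ind4 x k' i ≠ 0 := by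
                rw [ind4_ne_zero_iff]; rcases hr with rfl | rfl <;> omega
              push Not at this
              rw [this]
              split_ifs
              · rw [Pi.add_apply, Pi.one_apply, hC1]; decide
              · rfl
          · have hx4 : ¬ x i % 4 = r1 := fun h => hC (hi.2 h)
            have hx4' : x i % 4 = (r1 + 2) % 4 := by
              rcases hres i with h | h
              · exact absurd h hx4
              · exact h
            have hC0 : Cw k i = 0 := by push Not at hC; exact hC
            by_cases hk1 : k' % 4 = r1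
            · rw [if_pos hk1, hC0]
              have : ¬ ind4 x k' i ≠ 0 := by
                rw [ind4_ne_zero_iff]; rcases hr with rfl | rfl <;> omega
              push Not at this
              exact this
            · rw [if_neg hk1]
              by_cases hk2 : k' % 4 = (r1 + 2) % 4
              · rw [if_pos hk2, Pi.add_apply, Pi.one_apply, hC0]
                have : ind4 x k' i ≠ 0 := by
                  rw [ind4_ne_zero_iff]; rcases hr with rfl | rfl <;> omega
                rw [(zmod2_ne_zero_iff _).1 this]; decide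
              · rw [if_neg hk2]
                have : ¬ ind4 x k' i ≠ 0 := by
                  rw [ind4_ne_zero_iff]; rcases hr with rfl | rfl <;> omega
                push Not at this
                exact this
        rw [hcase]
        split_ifs
        · exact Cw_mem k
        · exact golayCode.add_mem one_mem_golay (Cw_mem k)
        · exact golayCode.zero_mem
    · rintro ⟨hL, hN, hmem⟩
      rw [mem_leechLattice_iff, mem_leechSet_iff] at hL
      obtain ⟨m, hm, hsum, hind⟩ := hL
      obtain ⟨k, hk, hC⟩ := (mem_golayCode_iff _).1 (hind r1)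
      have hres : ∀ i, x i % 4 = r1 ∨ x i % 4 = (r1 + 2) % 4 := by
        intro i
        rcases Finset.mem_union.1 (hmem i) with h | h
        · exact Or.inl (h1 _ h)
        · exact Or.inr (h0 _ h)
      refine ⟨k, hk, ?_, hN, ?_⟩
      · intro i
        show x i ∈ cls (gword (golayMask k)) A1 A0 i
        rw [← hC]
        unfold cls
        by_cases hi : ind4 x r1 i ≠ 0
        · rw [if_pos hi]
          rw [ind4_ne_zero_iff] at hi
          rcases Finset.mem_union.1 (hmem i) with h | h
          · exact h
          · exfalso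
            have := h0 _ h
            rcases hr with rfl | rfl <;> omega
        · rw [if_neg hi]
          rw [ind4_ne_zero_iff] at hi
          rcases Finset.mem_union.1 (hmem i) with h | h
          · exfalso
            have := h1 _ h
            rcases hr with rfl | rfl <;> omega
          · exact h
      · have hm0 : x none % 2 = m % 2 := hm none
        have hs : (∑ i, x i) % 8 = (4 * m) % 8 := hsum
        rw [hs]
        rcases hres none with h | h <;> rcases hr with rfl | rfl <;> norm_num <;> omega
  · rw [Finset.card_biUnion]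
    · apply Finset.sum_congr rfl
      intro k _
      rw [hg]
    · intro k hk k' hk' hkk'
      rw [Function.onFun, Finset.disjoint_left]
      intro x hx hx'
      simp only [Finset.mem_filter, Fintype.mem_piFinset] at hx hx'
      apply hkk'
      have hk4 : k < 4096 := Finset.mem_range.1 hk
      have hk4' : k' < 4096 := Finset.mem_range.1 hk'
      apply Cw_injOn hk4 hk4'
      funext i
      have e1 := cls_iff A1 A0 r1 hr h1 h0 (Cw k) x hx.1 i
      have e2 := cls_iff A1 A0 r1 hr h1 h0 (Cw k') x hx'.1 i
      by_cases hC : Cw k i ≠ 0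
      · rw [(zmod2_ne_zero_iff _).1 hC, (zmod2_ne_zero_iff _).1 (e2.2 (e1.1 hC))]
      · have hC' : ¬ Cw k' i ≠ 0 := fun h => hC (e1.2 (e2.1 h))
        push Not at hC hC'
        rw [hC, hC']


/-! ### pinning two coordinates -/

/-- value sets with the two marked coordinates pinned -/
def clsM (C : GolayPt → ZMod 2) (A1 A0 : Finset ℤ) (a b : ℤ) : GolayPt → Finset ℤ :=
  fun i => if i = none then {a} else if i = some 0 then {b} else cls C A1 A0 i

/-- the weight of a word away from `∞` and `0` -/
def wtM (C : GolayPt → ZMod 2) : ℕ :=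
  ((Finset.univ.erase (0 : ZMod 23)).filter (fun j => C (some j) ≠ 0)).card

theorem prod_clsM (C : GolayPt → ZMod 2) (A1 A0 : Finset ℤ) (a b : ℤ) (cd : ℤ → ℕ) :
    ∏ i, ∑ c ∈ clsM C A1 A0 a b i, Bb ^ cd c
      = Bb ^ cd a * Bb ^ cd b * (∑ c ∈ A1, Bb ^ cd c) ^ wtM C
        * (∑ c ∈ A0, Bb ^ cd c) ^ (22 - wtM C) := by
  rw [Fintype.prod_option]
  have h0 : ∑ c ∈ clsM C A1 A0 a b none, Bb ^ cd c = Bb ^ cd a := by
    unfold clsM
    rw [if_pos rfl, Finset.sum_singleton]
  rw [h0, ← Finset.mul_prod_erase Finset.univ _ (Finset.mem_univ (0 : ZMod 23))]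
  have h1 : ∑ c ∈ clsM C A1 A0 a b (some 0), Bb ^ cd c = Bb ^ cd b := by
    unfold clsM
    rw [if_neg (by simp), if_pos rfl, Finset.sum_singleton]
  rw [h1]
  have h2 : ∀ j ∈ Finset.univ.erase (0 : ZMod 23), ∑ c ∈ clsM C A1 A0 a b (some j), Bb ^ cd c
      = if C (some j) ≠ 0 then (∑ c ∈ A1, Bb ^ cd c) else (∑ c ∈ A0, Bb ^ cd c) := by
    intro j hj
    have hj0 : j ≠ 0 := Finset.ne_of_mem_erase hj
    have hj1 : (some j : GolayPt) ≠ some 0 := by
      intro h
      exact hj0 (Option.some.inj h)
    unfold clsM cls
    rw [if_neg (by simp), if_neg hj1]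
    split_ifs <;> rfl
  rw [Finset.prod_congr rfl h2, Finset.prod_ite, Finset.prod_const, Finset.prod_const]
  have h3 : ((Finset.univ.erase (0 : ZMod 23)).filter (fun j => ¬ C (some j) ≠ 0)).card
      = 22 - wtM C := by
    have := Finset.card_filter_add_card_filter_not (s := Finset.univ.erase (0 : ZMod 23))
      (fun j => C (some j) ≠ 0)
    rw [Finset.card_erase_of_mem (Finset.mem_univ _), Finset.card_univ, ZMod.card] at this
    unfold wtM
    omega
  rw [h3]
  unfold wtM
  ring

/-- the count for one codeword and one pair of pinned values -/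
def GM (A1 A0 : Finset ℤ) (w' N ρ : ℕ) (a b : ℤ) : ℕ :=
  ∑ t ∈ (Finset.range 200).filter (fun t => t % 8 = ρ % 8),
    ((Bb ^ DC.code 200 a * Bb ^ DC.code 200 b * (∑ c ∈ A1, Bb ^ DC.code 200 c) ^ w'
      * (∑ c ∈ A0, Bb ^ DC.code 200 c) ^ (22 - w')) / Bb ^ (200 * N + t)) % Bb

theorem card_pinned (C : GolayPt → ZMod 2) (A1 A0 : Finset ℤ) (hc1 : A1.card ≤ 5)
    (hc0 : A0.card ≤ 5) (N ρ : ℕ) (a b : ℤ) :
    ((Fintype.piFinset (clsM C A1 A0 a b)).filter
      (fun x => ∑ i, (x i).natAbs ^ 2 = N ∧ (∑ i, x i) % 8 = (ρ : ℤ) % 8)).card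
      = GM A1 A0 (wtM C) N ρ a b := by
  unfold GM
  have hB : ∏ i, (clsM C A1 A0 a b i).card < Bb := by
    calc ∏ i, (clsM C A1 A0 a b i).card ≤ ∏ _i : GolayPt, 5 := by
          apply Finset.prod_le_prod'
          intro i _
          unfold clsM cls
          split_ifs
          · rw [Finset.card_singleton]; norm_num
          · rw [Finset.card_singleton]; norm_num
          · exact hc1
          · exact hc0
      _ = 5 ^ 24 := by rw [Finset.prod_const, Finset.card_univ, card_golayPt]
      _ < Bb := by unfold Bb; norm_num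
  rw [DC.count_norm_res (clsM C A1 A0 a b) 200 Bb N ρ (by rw [card_golayPt]; norm_num) hB,
    prod_clsM]

/-- the count for one codeword -/
def gM (A1 A0 : Finset ℤ) (N ρ : ℕ) (s : ℤ) (w' : ℕ) (c1 c0 : Bool) : ℕ :=
  ∑ a ∈ (if c1 then A1 else A0), ∑ b ∈ (if c0 then A1 else A0),
    if a + b = s then GM A1 A0 w' N ρ a b else 0

theorem card_marked (C : GolayPt → ZMod 2) (A1 A0 : Finset ℤ) (hc1 : A1.card ≤ 5)
    (hc0 : A0.card ≤ 5) (N ρ : ℕ) (s : ℤ) :
    ((Fintype.piFinset (cls C A1 A0)).filter
      (fun x => (∑ i, (x i).natAbs ^ 2 = N ∧ x none + x (some 0) = s)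
        ∧ (∑ i, x i) % 8 = (ρ : ℤ) % 8)).card
      = gM A1 A0 N ρ s (wtM C) (decide (C none ≠ 0)) (decide (C (some 0) ≠ 0)) := by
  classical
  have hmaps : ∀ x ∈ (Fintype.piFinset (cls C A1 A0)).filter
      (fun x => (∑ i, (x i).natAbs ^ 2 = N ∧ x none + x (some 0) = s)
        ∧ (∑ i, x i) % 8 = (ρ : ℤ) % 8),
      (x none, x (some 0)) ∈ (cls C A1 A0 none) ×ˢ (cls C A1 A0 (some 0)) := by
    intro x hx
    rw [Finset.mem_filter, Fintype.mem_piFinset] at hx
    exact Finset.mem_product.2 ⟨hx.1 none, hx.1 (some 0)⟩
  rw [Finset.card_eq_sum_card_fiberwise hmaps, Finset.sum_product]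
  unfold gM
  have e1 : (if decide (C none ≠ 0) = true then A1 else A0) = cls C A1 A0 none := by
    unfold cls
    simp only [decide_eq_true_eq]
  have e0 : (if decide (C (some 0) ≠ 0) = true then A1 else A0) = cls C A1 A0 (some 0) := by
    unfold cls
    simp only [decide_eq_true_eq]
  rw [e1, e0]
  apply Finset.sum_congr rfl
  intro a ha
  apply Finset.sum_congr rfl
  intro b hb
  by_cases hab : a + b = s
  · rw [if_pos hab, ← card_pinned C A1 A0 hc1 hc0 N ρ a b]
    refine congrArg Finset.card (Finset.ext fun x => ?_)
    simp only [Finset.mem_filter, Fintype.mem_piFinset, Prod.mk.injEq]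
    constructor
    · rintro ⟨⟨hx, ⟨hN, hs⟩, hρ⟩, hxa, hxb⟩
      refine ⟨fun i => ?_, hN, hρ⟩
      unfold clsM
      by_cases hi : i = none
      · subst hi
        rw [if_pos rfl, hxa]
        exact Finset.mem_singleton_self _
      · by_cases hi' : i = some 0
        · subst hi'
          rw [if_neg hi, if_pos rfl, hxb]
          exact Finset.mem_singleton_self _
        · rw [if_neg hi, if_neg hi']
          exact hx i
    · rintro ⟨hx, hN, hρ⟩
      have hxa : x none = a := by
        have := hx none
        unfold clsM at this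
        rw [if_pos rfl] at this
        exact Finset.mem_singleton.1 this
      have hxb : x (some 0) = b := by
        have := hx (some 0)
        unfold clsM at this
        rw [if_neg (by simp), if_pos rfl] at this
        exact Finset.mem_singleton.1 this
      refine ⟨⟨fun i => ?_, ⟨hN, by rw [hxa, hxb]; exact hab⟩, hρ⟩, hxa, hxb⟩
      by_cases hi : i = none
      · subst hi
        rw [hxa]
        exact ha
      · by_cases hi' : i = some 0
        · subst hi'
          rw [hxb]
          exact hb
        · have := hx i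
          unfold clsM at this
          rw [if_neg hi, if_neg hi'] at this
          exact this
  · rw [if_neg hab, Finset.card_eq_zero, Finset.filter_eq_empty_iff]
    intro x hx hxab
    rw [Finset.mem_filter] at hx
    rw [Prod.mk.injEq] at hxab
    apply hab
    rw [← hxab.1, ← hxab.2]
    exact hx.2.1.2

/-! ### grouping the codewords by class -/

/-- the class of the `k`-th codeword -/
def keyM (k : ℕ) : ℕ × Bool × Bool :=
  (wtM (Cw k), decide (Cw k none ≠ 0), decide (Cw k (some 0) ≠ 0))

/-- the classes with their multiplicities -/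
def keyTable : List ((ℕ × Bool × Bool) × ℕ) :=
  [((0, false, false), 1), ((6, true, true), 77), ((7, true, false), 176),
    ((7, false, true), 176), ((8, false, false), 330), ((10, true, true), 616),
    ((11, true, false), 672), ((11, false, true), 672), ((12, false, false), 616),
    ((14, true, true), 330), ((15, true, false), 176), ((15, false, true), 176),
    ((16, false, false), 77), ((22, true, true), 1)]

set_option maxRecDepth 1000000 in
theorem keyM_maps : ∀ k ∈ Finset.range 4096, keyM k ∈ (keyTable.map Prod.fst).toFinset := by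
  decide +kernel

set_option maxRecDepth 1000000 in
theorem keyM_count : ∀ p ∈ keyTable,
    ((Finset.range 4096).filter (fun k => keyM k = p.1)).card = p.2 := by
  decide +kernel

set_option maxRecDepth 100000 in
theorem keyTable_nodup : (keyTable.map Prod.fst).Nodup := by decide +kernel

theorem sum_group {α : Type*} [DecidableEq α] (n : ℕ) (key : ℕ → α) (tbl : List (α × ℕ))
    (hnd : (tbl.map Prod.fst).Nodup)
    (hmaps : ∀ k ∈ Finset.range n, key k ∈ (tbl.map Prod.fst).toFinset)
    (hcount : ∀ p ∈ tbl, ((Finset.range n).filter (fun k => key k = p.1)).card = p.2)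
    (f : α → ℕ) :
    ∑ k ∈ Finset.range n, f (key k) = (tbl.map (fun p => p.2 * f p.1)).sum := by
  rw [← Finset.sum_fiberwise_of_maps_to hmaps]
  have hin : ∀ c, ∑ k ∈ (Finset.range n).filter (fun k => key k = c), f (key k)
      = ((Finset.range n).filter (fun k => key k = c)).card * f c := by
    intro c
    rw [Finset.card_eq_sum_ones, Finset.sum_mul]
    apply Finset.sum_congr rfl
    intro k hk
    rw [(Finset.mem_filter.1 hk).2, one_mul]
  simp only [hin]
  rw [List.sum_toFinset _ hnd, List.map_map]
  congr 1
  apply List.map_congr_left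
  intro p hp
  show ((Finset.range n).filter (fun k => key k = p.1)).card * f p.1 = p.2 * f p.1
  rw [hcount p hp]

theorem sum_by_key (f : ℕ × Bool × Bool → ℕ) :
    ∑ k ∈ Finset.range 4096, f (keyM k) = (keyTable.map (fun p => p.2 * f p.1)).sum :=
  sum_group 4096 keyM keyTable keyTable_nodup keyM_maps keyM_count f

end Cfsg.Agent.Lib.Lead.LC3
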