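import Cfsg.Agent.Lib.Lead.LeechMark48

set_option autoImplicit false

/-!
# Vectors of sum of squares 48 of the rank-24 lattice with both marked coordinates prescribed
-/

namespace Cfsg.Agent.Lib.Lead.LC3

open Cfsg Finset
open Cfsg.Agent.Lib.helper3 Cfsg.Agent.Lib.helper4 Cfsg.Agent.Lib.Lead.LC Cfsg.Agent.Lib.Lead.LC2

/-- the count for one codeword with both marked coordinates prescribed -/
def gP (A1 A0 : Finset ℤ) (N ρ : ℕ) (a b : ℤ) (w' : ℕ) (c1 c0 : Bool) : ℕ :=
  if a ∈ (if c1 then A1 else A0) ∧ b ∈ (if c0 then A1 else A0) then GM A1 A0 w' N ρ a b else 0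

theorem card_pinned2 (C : GolayPt → ZMod 2) (A1 A0 : Finset ℤ) (hc1 : A1.card ≤ 5)
    (hc0 : A0.card ≤ 5) (N ρ : ℕ) (a b : ℤ) :
    ((Fintype.piFinset (cls C A1 A0)).filter
      (fun x => (∑ i, (x i).natAbs ^ 2 = N ∧ x none = a ∧ x (some 0) = b)
        ∧ (∑ i, x i) % 8 = (ρ : ℤ) % 8)).card
      = gP A1 A0 N ρ a b (wtM C) (decide (C none ≠ 0)) (decide (C (some 0) ≠ 0)) := by
  classical
  unfold gP
  have e1 : (if decide (C none ≠ 0) = true then A1 else A0) = cls C A1 A0 none := by
    unfold cls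
    simp only [decide_eq_true_eq]
  have e0 : (if decide (C (some 0) ≠ 0) = true then A1 else A0) = cls C A1 A0 (some 0) := by
    unfold cls
    simp only [decide_eq_true_eq]
  rw [e1, e0]
  by_cases h : a ∈ cls C A1 A0 none ∧ b ∈ cls C A1 A0 (some 0)
  · rw [if_pos h, ← card_pinned C A1 A0 hc1 hc0 N ρ a b]
    refine congrArg Finset.card (Finset.ext fun x => ?_)
    simp only [Finset.mem_filter, Fintype.mem_piFinset]
    constructor
    · rintro ⟨hx, ⟨hN, hxa, hxb⟩, hρ⟩
      refine ⟨fun i => ?_, hN, hρ⟩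
      unfold clsM
      by_cases hi : i = none
      · subst hi
        rw [if_pos rfl, hxa]
        exact Finset.mem_singleton_self _
      · by_cases hi' : i = some 0
        · subst hi'
          rw [if_neg hi, if_pos rfl, hxb]
          exact Finset.mem_singleton_self _
        · rw [if_neg hi, if_neg hi']
          exact hx i
    · rintro ⟨hx, hN, hρ⟩
      have hxa : x none = a := by
        have := hx none
        unfold clsM at this
        rw [if_pos rfl] at this
        exact Finset.mem_singleton.1 this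
      have hxb : x (some 0) = b := by
        have := hx (some 0)
        unfold clsM at this
        rw [if_neg (by simp), if_pos rfl] at this
        exact Finset.mem_singleton.1 this
      refine ⟨fun i => ?_, ⟨hN, hxa, hxb⟩, hρ⟩
      by_cases hi : i = none
      · subst hi
        rw [hxa]
        exact h.1
      · by_cases hi' : i = some 0
        · subst hi'
          rw [hxb]
          exact h.2
        · have := hx i
          unfold clsM at this
          rw [if_neg hi, if_neg hi'] at this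
          exact this
  · rw [if_neg h, Finset.card_eq_zero, Finset.filter_eq_empty_iff]
    intro x hx hcond
    rw [Fintype.mem_piFinset] at hx
    apply h
    rw [← hcond.1.2.1, ← hcond.1.2.2]
    exact ⟨hx none, hx (some 0)⟩

/-- the number of vectors of sum of squares 48 with odd prescribed values at `∞` and `0` -/
theorem count48_pin_expr (a b : ℤ) (ha : a % 2 = 1) :
    {x : GolayPt → ℤ | x ∈ leechLattice ∧ sqNorm x = 48 ∧ x none = a ∧ x (some 0) = b}.ncard
      = (keyTable.map (fun p => p.2 * gP Od1t Od0t 48 (4 * (1 : ℤ).toNat) a b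
          p.1.1 p.1.2.1 p.1.2.2)).sum := by
  classical
  obtain ⟨F2, hF2, hc2⟩ := core_gen2 Od1t Od0t 1 (Or.inl rfl) (by decide) (by decide)
    (fun x => ∑ i, (x i).natAbs ^ 2 = 48 ∧ x none = a ∧ x (some 0) = b)
    (fun C => gP Od1t Od0t 48 (4 * (1 : ℤ).toNat) a b (wtM C) (decide (C none ≠ 0))
      (decide (C (some 0) ≠ 0)))
    (fun C => card_pinned2 C _ _ (by decide) (by decide) 48 _ a b)
  have k2 := sum_by_key (fun c => gP Od1t Od0t 48 (4 * (1 : ℤ).toNat) a b c.1 c.2.1 c.2.2)
  have hc2' : F2.card = (keyTable.map (fun p => p.2 * gP Od1t Od0t 48 (4 * (1 : ℤ).toNat) a b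
      p.1.1 p.1.2.1 p.1.2.2)).sum := by
    rw [hc2, ← k2]
    rfl
  have hset : {x : GolayPt → ℤ | x ∈ leechLattice ∧ sqNorm x = 48 ∧ x none = a ∧ x (some 0) = b}
      = ↑F2 := by
    ext x
    simp only [Set.mem_ofPred_eq, Finset.mem_coe, hF2]
    have hn : sqNorm x = 48 ↔ ∑ i, (x i).natAbs ^ 2 = 48 := by
      rw [sqNorm_eq_cast]
      exact_mod_cast Iff.rfl
    constructor
    · rintro ⟨h1, h2, h3, h4⟩
      rcases entries48 x h1 h2 with h | h
      · exfalso
        have := h none
        rw [h3] at this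
        simp only [Ev1t, Ev0t, Finset.mem_union, Finset.mem_insert, Finset.mem_singleton] at this
        omega
      · exact ⟨h1, ⟨hn.1 h2, h3, h4⟩, h⟩
    · rintro ⟨h1, ⟨h2, h3, h4⟩, -⟩
      exact ⟨h1, hn.2 h2, h3, h4⟩
  rw [hset, Set.ncard_coe_finset, hc2']

set_option maxRecDepth 1000000 in
theorem num48_pin_m5_1 : (keyTable.map (fun p => p.2 * gP Od1t Od0t 48 (4 * (1 : ℤ).toNat) (-5) 1
    p.1.1 p.1.2.1 p.1.2.2)).sum = 1024 := by decide +kernel

/-- the vectors of sum of squares 48 with `x ∞ = -5` and `x 0 = 1` -/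
theorem count48_pin :
    {x : GolayPt → ℤ | x ∈ leechLattice ∧ sqNorm x = 48 ∧ x none = -5 ∧ x (some 0) = 1}.ncard
      = 1024 := by
  rw [count48_pin_expr (-5) 1 (by norm_num), num48_pin_m5_1]

end Cfsg.Agent.Lib.Lead.LC3
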