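import Cfsg.Agent.S1583
import Cfsg.Agent.S1575
import Cfsg.Agent.Lib.Lead.ConwayHS2

set_option autoImplicit false

/-!
# The McLaughlin configuration on 2025 points: count and transitivity

For minimal `v`, `w` with dot product `-8`, the minimal `x` orthogonal to `v` with dot product `16`
with `w` number 2025 and form one orbit of the stabiliser of `v` and `w`.
-/

namespace Cfsg.Agent.Lib.Lead.LC3

open Cfsg Finset
open Cfsg.Agent.Lib.helper3 Cfsg.Agent.Lib.helper4 Cfsg.Agent.Lib.Lead.LC Cfsg.Agent.Lib.Lead.LC2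

/-- the number of minimal vectors with odd prescribed values at `∞` and `0` -/
theorem count32_pin_expr (a b : ℤ) (ha : a % 2 = 1) :
    {x : GolayPt → ℤ | x ∈ leechLattice ∧ sqNorm x = 32 ∧ x none = a ∧ x (some 0) = b}.ncard
      = (keyTable.map (fun p => p.2 * gP Od1s Od0s 32 (4 * (1 : ℤ).toNat) a b
          p.1.1 p.1.2.1 p.1.2.2)).sum := by
  classical
  obtain ⟨F2, hF2, hc2⟩ := core_gen2 Od1s Od0s 1 (Or.inl rfl) (by decide) (by decide)
    (fun x => ∑ i, (x i).natAbs ^ 2 = 32 ∧ x none = a ∧ x (some 0) = b)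
    (fun C => gP Od1s Od0s 32 (4 * (1 : ℤ).toNat) a b (wtM C) (decide (C none ≠ 0))
      (decide (C (some 0) ≠ 0)))
    (fun C => card_pinned2 C _ _ (by decide) (by decide) 32 _ a b)
  have k2 := sum_by_key (fun c => gP Od1s Od0s 32 (4 * (1 : ℤ).toNat) a b c.1 c.2.1 c.2.2)
  have hc2' : F2.card = (keyTable.map (fun p => p.2 * gP Od1s Od0s 32 (4 * (1 : ℤ).toNat) a b
      p.1.1 p.1.2.1 p.1.2.2)).sum := by
    rw [hc2, ← k2]
    rfl
  have hset : {x : GolayPt → ℤ | x ∈ leechLattice ∧ sqNorm x = 32 ∧ x none = a ∧ x (some 0) = b}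
      = ↑F2 := by
    ext x
    simp only [Set.mem_ofPred_eq, Finset.mem_coe, hF2]
    have hn : sqNorm x = 32 ↔ ∑ i, (x i).natAbs ^ 2 = 32 := by
      rw [sqNorm_eq_cast]
      exact_mod_cast Iff.rfl
    constructor
    · rintro ⟨h1, h2, h3, h4⟩
      rcases entries32 x h1 h2 with h | h
      · exfalso
        have := h none
        rw [h3] at this
        simp only [Ev1s, Ev0s, Finset.mem_union, Finset.mem_insert, Finset.mem_singleton] at this
        omega
      · exact ⟨h1, ⟨hn.1 h2, h3, h4⟩, h⟩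
    · rintro ⟨h1, ⟨h2, h3, h4⟩, -⟩
      exact ⟨h1, hn.2 h2, h3, h4⟩
  rw [hset, Set.ncard_coe_finset, hc2']

set_option maxRecDepth 1000000 in
theorem num32_pin_1_m3 : (keyTable.map (fun p => p.2 * gP Od1s Od0s 32 (4 * (1 : ℤ).toNat) 1 (-3)
    p.1.1 p.1.2.1 p.1.2.2)).sum = 1024 := by decide +kernel

/-- the minimal vectors with `x ∞ = 1` and `x 0 = -3` -/
theorem count32_pin :
    {x : GolayPt → ℤ | x ∈ leechLattice ∧ sqNorm x = 32 ∧ x none = 1 ∧ x (some 0) = -3}.ncard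
      = 1024 := by
  rw [count32_pin_expr 1 (-3) (by norm_num), num32_pin_1_m3]

end Cfsg.Agent.Lib.Lead.LC3

namespace Cfsg.Agent.Lib.Lead.ML

open Cfsg
open Cfsg.Agent.Lib.Lead.LX Cfsg.Agent.Lib.Lead.CW Cfsg.Agent.Lib.Lead.CO Cfsg.Agent.Lib.Lead.CP
open Cfsg.Agent.Lib.helper3 Cfsg.Agent.Lib.helper4 Cfsg.Agent.S0398 Cfsg.Agent.S1571
open Cfsg.Agent.S1578 Cfsg.Agent.S1583 Cfsg.Agent.Lib.Lead.HS

/-- general double counting of pairs with a prescribed dot product -/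
theorem double_count (A B : Finset (GolayPt → ℤ)) (d : ℤ) (a b : ℕ)
    [DecidableEq (GolayPt → ℤ)]
    (hA : ∀ x ∈ A, (B.filter (fun w => dotInt x w = d)).card = a)
    (hB : ∀ w ∈ B, (A.filter (fun x => dotInt w x = d)).card = b) :
    A.card * a = B.card * b := by
  have h1 : ∑ x ∈ A, ∑ w ∈ B, (if dotInt x w = d then 1 else 0) = A.card * a := by
    have h3 : ∀ x ∈ A, ∑ w ∈ B, (if dotInt x w = d then 1 else 0) = a := by
      intro x hx
      rw [← Finset.card_filter, hA x hx]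
    rw [Finset.sum_congr rfl h3, Finset.sum_const, smul_eq_mul]
  have h2 : ∑ w ∈ B, ∑ x ∈ A, (if dotInt x w = d then 1 else 0) = B.card * b := by
    have h3 : ∀ w ∈ B, ∑ x ∈ A, (if dotInt x w = d then 1 else 0) = b := by
      intro w hw
      rw [← Finset.card_filter, ← hB w hw]
      congr 1
      ext x
      simp only [Finset.mem_filter]
      rw [dot_symm]
    rw [Finset.sum_congr rfl h3, Finset.sum_const, smul_eq_mul]
  rw [← h1, ← h2, Finset.sum_comm]

/-- the minimal vectors with dot product `-8` with `v32` -/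
noncomputable def Q32 : Finset (GolayPt → ℤ) := by
  classical
  exact F32.filter (fun x => x none + x (some 0) = -2)

theorem mem_Q32 (x : GolayPt → ℤ) :
    x ∈ Q32 ↔ x ∈ leechLattice ∧ sqNorm x = 32 ∧ x none + x (some 0) = -2 := by
  classical
  unfold Q32
  rw [Finset.mem_filter, mem_F32, and_assoc]

theorem card_Q32 : Q32.card = 47104 := by
  rw [← Cfsg.Agent.Lib.Lead.LC3.count32.2.1, ← Set.ncard_coe_finset]
  congr 1
  ext x
  simp only [Finset.mem_coe, mem_Q32, Set.mem_ofPred_eq]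

/-- the number of minimal vectors orthogonal to `v32` with dot product `16` with `w` -/
noncomputable def Y2 (w : GolayPt → ℤ) : ℕ := by
  classical
  exact (P32.filter (fun x => dotInt w x = 16)).card

/-- the number of vectors of `Q32` with dot product `16` with `x` -/
noncomputable def Z2 (x : GolayPt → ℤ) : ℕ := by
  classical
  exact (Q32.filter (fun w => dotInt x w = 16)).card

theorem Y2_const (w w' : GolayPt → ℤ) (hw : w ∈ Q32) (hw' : w' ∈ Q32) : Y2 w = Y2 w' := by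
  classical
  rw [mem_Q32] at hw hw'
  have d1 : dotInt v32.1 w = -8 := by rw [dot_v32]; omega
  have d2 : dotInt v32.1 w' = -8 := by rw [dot_v32]; omega
  obtain ⟨g, hg, hgw⟩ := Cfsg.Agent.S1575.result v32 ⟨w, hw.1⟩ ⟨w', hw'.1⟩ norm_v32 hw.2.1 hw'.2.1
    d1 d2
  unfold Y2
  exact transport P32 32 0 mem_P32 g hg ⟨w, hw.1⟩ ⟨w', hw'.1⟩ hgw 16

theorem Z2_B0 : Z2 B0.1 = 1024 := by
  classical
  unfold Z2
  rw [← Cfsg.Agent.Lib.Lead.LC3.count32_pin, ← Set.ncard_coe_finset]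
  congr 1
  ext u
  simp only [Finset.coe_filter, Set.mem_ofPred_eq, mem_Q32, dot_B0]
  constructor
  · rintro ⟨⟨h1, h2, h3⟩, h4⟩
    exact ⟨h1, h2, by omega, by omega⟩
  · rintro ⟨h1, h2, h3, h4⟩
    exact ⟨⟨h1, h2, by omega⟩, by omega⟩

theorem Z2_value (x : GolayPt → ℤ) (hx : x ∈ P32) : Z2 x = 1024 := by
  classical
  rw [mem_P32] at hx
  have hd : dotInt v32.1 x = 0 := by
    rw [dot_v32]
    omega
  obtain ⟨g, hg1, hg2⟩ := orth_std v32 ⟨x, hx.1⟩ norm_v32 hx.2.1 hd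
  rw [← Z2_B0]
  unfold Z2
  exact transport Q32 32 (-2) mem_Q32 g hg1 ⟨x, hx.1⟩ B0 hg2 16

theorem Y2_value (w : GolayPt → ℤ) (hw : w ∈ Q32) : Y2 w = 2025 := by
  classical
  have h := double_count P32 Q32 16 1024 (Y2 w)
    (fun x hx => by
      have := Z2_value x hx
      unfold Z2 at this
      convert this)
    (fun w' hw' => by
      have := Y2_const w' w hw' hw
      unfold Y2 at this ⊢
      convert this)
  rw [card_P32, card_Q32] at h
  omega

/-- two minimal vectors with entries `1`, `-3` at `∞`, `0` differ by a sign change on a codeword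
avoiding `∞` and `0` -/
theorem t2_flip (u u' : ↥leechLattice) (hN : sqNorm u.1 = 32) (hN' : sqNorm u'.1 = 32)
    (h0 : u.1 none = 1) (h0' : u'.1 none = 1) (h1 : u.1 (some 0) = -3)
    (h1' : u'.1 (some 0) = -3) :
    ∃ (c : GolayPt → ZMod 2) (hc : c ∈ golayCode), ¬ c none ≠ 0 ∧ ¬ c (some 0) ≠ 0 ∧
      (flipE c hc) u = u' := by
  have shape : ∀ y : ↥leechLattice, sqNorm y.1 = 32 → y.1 (some 0) = -3 →
      ∀ r, r ≠ some 0 → y.1 r = 1 ∨ y.1 r = -1 := by
    intro y hy hy0 r hr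
    have hod : ∀ p, y.1 p % 2 = 1 := by
      rcases parity_cases y.1 y.2 with hev | hod
      · have := hev (some 0)
        omega
      · exact hod
    obtain ⟨z0, z2, z4, z6, z8⟩ := odd_facts y.1 hod
    have ht := cnt_total y.1 (by omega)
    have hn := norm_nat y.1 32 (by exact_mod_cast hy) (by norm_num)
    have c3 : cnt y.1 3 = 1 := by
      have := cnt_pos_of y.1 (some 0) 3 (by rw [hy0]; rfl)
      omega
    have c5 : cnt y.1 5 = 0 := by omega
    have c7 : cnt y.1 7 = 0 := by omega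
    have hlt := natAbs_lt_nine y.1 (by omega) r
    have hr2 : (y.1 r).natAbs % 2 = 1 := by
      have := hod r
      omega
    have n3 : (y.1 r).natAbs ≠ 3 := by
      intro h
      exact hr (eq_of_cnt_one y.1 3 c3 (some 0) r (by rw [hy0]; rfl) h)
    have n5 := natAbs_ne_of_cnt_zero y.1 5 c5 r
    have n7 := natAbs_ne_of_cnt_zero y.1 7 c7 r
    omega
  have hu := u.2
  rw [mem_leechLattice_iff, mem_leechSet_iff] at hu
  obtain ⟨m, -, -, hcode⟩ := hu
  have hu' := u'.2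
  rw [mem_leechLattice_iff, mem_leechSet_iff] at hu'
  obtain ⟨m', -, -, hcode'⟩ := hu'
  have hd : ind4 u.1 3 + ind4 u'.1 3 ∈ golayCode := golayCode.add_mem (hcode 3) (hcode' 3)
  have key : ∀ p, (ind4 u.1 3 + ind4 u'.1 3) p ≠ 0 ↔ u.1 p ≠ u'.1 p := by
    intro p
    rw [Pi.add_apply]
    by_cases hp : p = some 0
    · subst hp
      have a1 : ¬ ind4 u.1 3 (some 0) ≠ 0 := by
        rw [Cfsg.Agent.Lib.Lead.LC.ind4_ne_zero_iff, h1]
        decide
      have a2 : ¬ ind4 u'.1 3 (some 0) ≠ 0 := by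
        rw [Cfsg.Agent.Lib.Lead.LC.ind4_ne_zero_iff, h1']
        decide
      rw [not_not] at a1 a2
      rw [a1, a2, h1, h1']
      simp
    · have b1 : ind4 u.1 3 p ≠ 0 ↔ u.1 p = -1 := by
        rw [Cfsg.Agent.Lib.Lead.LC.ind4_ne_zero_iff]
        rcases shape u hN h1 p hp with h | h <;> rw [h] <;> decide
      have b2 : ind4 u'.1 3 p ≠ 0 ↔ u'.1 p = -1 := by
        rw [Cfsg.Agent.Lib.Lead.LC.ind4_ne_zero_iff]
        rcases shape u' hN' h1' p hp with h | h <;> rw [h] <;> decide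
      have z : ∀ a b : ZMod 2, (a + b ≠ 0) ↔ ((a ≠ 0) ↔ ¬ (b ≠ 0)) := by decide
      rw [z, b1, b2]
      rcases shape u hN h1 p hp with h | h <;> rcases shape u' hN' h1' p hp with h' | h' <;>
        rw [h, h'] <;> simp
  have c0 : ¬ (ind4 u.1 3 + ind4 u'.1 3) none ≠ 0 := by
    rw [key, h0, h0']
    simp
  have c1 : ¬ (ind4 u.1 3 + ind4 u'.1 3) (some 0) ≠ 0 := by
    rw [key, h1, h1']
    simp
  refine ⟨_, hd, c0, c1, ?_⟩
  apply Subtype.ext
  funext p
  show (if (ind4 u.1 3 + ind4 u'.1 3) p ≠ 0 then -(u.1 p) else u.1 p) = u'.1 p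
  by_cases hp : (ind4 u.1 3 + ind4 u'.1 3) p ≠ 0
  · rw [if_pos hp]
    have hne := (key p).1 hp
    have hpn : p ≠ some 0 := by
      rintro rfl
      exact hne (by rw [h1, h1'])
    rcases shape u hN h1 p hpn with h | h <;> rcases shape u' hN' h1' p hpn with h' | h' <;>
      rw [h, h'] at hne ⊢ <;> first | rfl | exact absurd rfl hne
  · rw [if_neg hp]
    by_contra hne
    exact hp ((key p).2 hne)

/-- the triples `(v, w, x)` of the configuration form one orbit -/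
theorem triple_trans (v w x v' w' x' : ↥leechLattice)
    (hv : sqNorm v.1 = 32) (hw : sqNorm w.1 = 32) (hx : sqNorm x.1 = 32)
    (hvw : dotInt v.1 w.1 = -8) (hvx : dotInt v.1 x.1 = 0) (hwx : dotInt w.1 x.1 = 16)
    (hv' : sqNorm v'.1 = 32) (hw' : sqNorm w'.1 = 32) (hx' : sqNorm x'.1 = 32)
    (hvw' : dotInt v'.1 w'.1 = -8) (hvx' : dotInt v'.1 x'.1 = 0) (hwx' : dotInt w'.1 x'.1 = 16) :
    ∃ g : ↥Co0, g.1 v = v' ∧ g.1 w = w' ∧ g.1 x = x' := by
  obtain ⟨g, hg1, hg2⟩ := orth_std v x hv hx hvx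
  obtain ⟨g', hg1', hg2'⟩ := orth_std v' x' hv' hx' hvx'
  have pin : ∀ (k : ↥Co0) (a b c : ↥leechLattice), k.1 a = A0 → k.1 c = B0 →
      dotInt a.1 b.1 = -8 → dotInt b.1 c.1 = 16 →
      (k.1 b).1 none = 1 ∧ (k.1 b).1 (some 0) = -3 := by
    intro k a b c hk1 hk2 hab hbc
    have e1 := dot_map k a b
    rw [hk1, hab] at e1
    have e1' : dotInt v32.1 (k.1 b).1 = -8 := e1
    rw [dot_v32] at e1'
    have e2 := dot_map k c b
    rw [hk2, dot_B0, dot_symm, hbc] at e2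
    constructor <;> omega
  obtain ⟨p0, p1⟩ := pin g v w x hg1 hg2 hvw hwx
  obtain ⟨p0', p1'⟩ := pin g' v' w' x' hg1' hg2' hvw' hwx'
  have n1 : sqNorm (g.1 w).1 = 32 := by rw [g.2.2]; exact hw
  have n1' : sqNorm (g'.1 w').1 = 32 := by rw [g'.2.2]; exact hw'
  obtain ⟨c, hc, c0, c1, hflip⟩ := t2_flip (g.1 w) (g'.1 w') n1 n1' p0 p0' p1 p1'
  let f : ↥Co0 := ⟨flipE c hc, flipE_mem c hc⟩
  have hfA : f.1 A0 = A0 := flip_fix c hc c0 c1
  have hfB : f.1 B0 = B0 := flip_fix_B0 c hc c0 c1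
  refine ⟨g'⁻¹ * f * g, ?_, ?_, ?_⟩
  · show g'⁻¹.1 (f.1 (g.1 v)) = v'
    rw [hg1, hfA, ← hg1', inv_apply_apply]
  · show g'⁻¹.1 (f.1 (g.1 w)) = w'
    have : f.1 (g.1 w) = g'.1 w' := hflip
    rw [this, inv_apply_apply]
  · show g'⁻¹.1 (f.1 (g.1 x)) = x'
    rw [hg2, hfB, ← hg2', inv_apply_apply]

/-- the count of the configuration -/
theorem ncard_X (v w : ↥leechLattice) (hv : sqNorm v.1 = 32) (hw : sqNorm w.1 = 32)
    (hvw : dotInt v.1 w.1 = -8) :
    {x : ↥leechLattice | sqNorm x.1 = 32 ∧ dotInt v.1 x.1 = 0 ∧ dotInt w.1 x.1 = 16}.ncard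
      = 2025 := by
  classical
  obtain ⟨g0, hg0⟩ := trans32 v hv
  have hg0' : g0.1 v = v32 := hg0
  have hwQ : (g0.1 w).1 ∈ Q32 := by
    rw [mem_Q32]
    refine ⟨(g0.1 w).2, by rw [g0.2.2]; exact hw, ?_⟩
    have h1 := dot_map g0 v w
    rw [hg0', hvw, dot_v32] at h1
    omega
  rw [← Y2_value _ hwQ]
  unfold Y2
  rw [← Set.ncard_coe_finset]
  apply Set.ncard_congr (fun x _ => (g0.1 x).1)
  · intro x hx
    obtain ⟨hxN, hxv, hxw⟩ := hx
    rw [Finset.mem_coe, Finset.mem_filter, mem_P32]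
    refine ⟨⟨(g0.1 x).2, by rw [g0.2.2]; exact hxN, ?_⟩, ?_⟩
    · have h1 := dot_map g0 v x
      rw [hg0', hxv, dot_v32] at h1
      omega
    · rw [dot_map]
      exact hxw
  · intro a b _ _ hab
    exact g0.1.injective (Subtype.ext hab)
  · intro y hy
    rw [Finset.mem_coe, Finset.mem_filter, mem_P32] at hy
    obtain ⟨⟨hyL, hyN, hys⟩, hyd⟩ := hy
    have hgy : g0.1 (g0⁻¹.1 ⟨y, hyL⟩) = ⟨y, hyL⟩ := apply_inv_apply g0 _
    refine ⟨g0⁻¹.1 ⟨y, hyL⟩, ⟨?_, ?_, ?_⟩, ?_⟩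
    · rw [g0⁻¹.2.2]
      exact hyN
    · have h1 := dot_map g0 v (g0⁻¹.1 ⟨y, hyL⟩)
      rw [hgy, hg0', dot_v32] at h1
      rw [← h1]
      show 4 * y none + 4 * y (some 0) = 0
      omega
    · have h1 := dot_map g0 w (g0⁻¹.1 ⟨y, hyL⟩)
      rw [hgy] at h1
      rw [← h1]
      exact hyd
    · rw [hgy]

end Cfsg.Agent.Lib.Lead.ML
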