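import Cfsg.Agent.Lib.Lead.McL1

set_option autoImplicit false

/-!
# The standard McLaughlin frame and the three families of the 2025 points

Frame: `v32 = (4, 4, 0, …)`, `w0 = (1, -3, 1, …, 1)`, `B0 = (4, -4, 0, …)`.
-/

namespace Cfsg.Agent.Lib.Lead.ML

open Cfsg
open Cfsg.Agent.Lib.Lead.LX Cfsg.Agent.Lib.Lead.CW Cfsg.Agent.Lib.Lead.CO Cfsg.Agent.Lib.Lead.CP
open Cfsg.Agent.Lib.helper3 Cfsg.Agent.Lib.helper4 Cfsg.Agent.S0398 Cfsg.Agent.S1571
open Cfsg.Agent.Lib.Lead.LC Cfsg.Agent.Lib.Lead.LC3 Cfsg.Agent.Lib.Lead.HS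

/-- second vector of the frame -/
def w0v : GolayPt → ℤ := hV (some 0)

/-- the octad vectors with two sign changes -/
def f462 (k : ℕ) (p : GolayPt) : GolayPt → ℤ :=
  fun q => if q = p then -2 else if q = some 0 then -2 else if Cw k q ≠ 0 then 2 else 0

/-- the odd vectors -/
def f1232 (k : ℕ) (p : GolayPt) : GolayPt → ℤ :=
  fun q => if q = p then 3 else if Cw k q ≠ 0 then -1 else 1

set_option maxRecDepth 1000000 in
theorem frame2_chk : sqNorm w0v = 32 ∧ dotInt v32.1 w0v = -8 ∧ dotInt w0v B0.1 = 16 ∧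
    dotInt v32.1 B0.1 = 0 ∧ sqNorm B0.1 = 32 ∧ dotInt B0.1 B0.1 = 32 := by decide +kernel

end Cfsg.Agent.Lib.Lead.ML
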