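import Cfsg.Agent.Lib.Lead.McL3

set_option autoImplicit false

/-!
# The three families of the 2025 points lie in the lattice (general arguments)
-/

namespace Cfsg.Agent.Lib.Lead.ML

open Cfsg
open Cfsg.Agent.Lib.Lead.LX Cfsg.Agent.Lib.Lead.CW Cfsg.Agent.Lib.Lead.CO Cfsg.Agent.Lib.Lead.CP
open Cfsg.Agent.Lib.helper3 Cfsg.Agent.Lib.helper4 Cfsg.Agent.S0398 Cfsg.Agent.S1571
open Cfsg.Agent.Lib.Lead.LC Cfsg.Agent.Lib.Lead.LC3 Cfsg.Agent.Lib.Lead.HS
open Cfsg.Agent.Lib.Lead.HSG

theorem zmod2_one (a : ZMod 2) (h : a ≠ 0) : a = 1 := by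
  rcases zmod2_eq a with h' | h'
  · exact absurd h' h
  · exact h'

theorem card_supp (k : ℕ) (h8 : popc (golayMask k) = 8) : (support₂ (Cw k)).card = 8 :=
  octads_card_eq (supp_octad k h8)

/-- sum of a function taking two values according to an octad -/
theorem sum_two (k : ℕ) (hc : (support₂ (Cw k)).card = 8) (a b : ℤ) :
    ∑ q : GolayPt, (if Cw k q ≠ 0 then a else b) = 8 * a + 16 * b := by
  classical
  rw [Finset.sum_ite, Finset.sum_const, Finset.sum_const]
  have h1 : (Finset.univ.filter (fun q => Cw k q ≠ 0)).card = 8 := hc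
  have h2 : (Finset.univ.filter (fun q => ¬ Cw k q ≠ 0)).card = 16 := by
    rw [Finset.filter_not, Finset.card_sdiff_of_subset (Finset.filter_subset _ _), h1,
      Finset.card_univ, card_pts]
  rw [h1, h2]
  simp

/-- a vector with two residues modulo 4, distributed according to a codeword, is in the lattice -/
theorem mem_of_shape (x : GolayPt → ℤ) (k : ℕ) (m a b : ℤ) (ha : a % 2 = m % 2)
    (hb : b % 2 = m % 2) (hab : a % 4 ≠ b % 4)
    (h1 : ∀ q, Cw k q ≠ 0 → x q % 4 = a % 4) (h0 : ∀ q, ¬ Cw k q ≠ 0 → x q % 4 = b % 4)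
    (hsum : (∑ q, x q) % 8 = (4 * m) % 8) : x ∈ leechLattice := by
  rw [mem_leechLattice_iff, mem_leechSet_iff]
  refine ⟨m, fun i => ?_, hsum, fun r => ?_⟩
  · show x i % 2 = m % 2
    by_cases hi : Cw k i ≠ 0
    · have := h1 i hi
      omega
    · have := h0 i hi
      omega
  · by_cases ra : r % 4 = a % 4
    · have : ind4 x r = Cw k := by
        funext q
        by_cases hq : Cw k q ≠ 0
        · have e1 : ind4 x r q ≠ 0 := (ind4_ne_zero_iff x r q).2 (by rw [h1 q hq, ra])
          rw [zmod2_one _ e1, zmod2_one _ hq]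
        · have e1 : ¬ ind4 x r q ≠ 0 := fun h => by
            have := (ind4_ne_zero_iff x r q).1 h
            rw [h0 q hq, ra] at this
            exact hab this.symm
          rw [not_not] at e1 hq
          rw [e1, hq]
      rw [this]
      exact Cw_mem k
    · by_cases rb : r % 4 = b % 4
      · have : ind4 x r = 1 + Cw k := by
          funext q
          rw [Pi.add_apply, Pi.one_apply]
          by_cases hq : Cw k q ≠ 0
          · have e1 : ¬ ind4 x r q ≠ 0 := fun h => by
              have := (ind4_ne_zero_iff x r q).1 h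
              rw [h1 q hq, rb] at this
              exact hab this
            rw [not_not] at e1
            rw [e1, zmod2_one _ hq]
            decide
          · have e1 : ind4 x r q ≠ 0 := (ind4_ne_zero_iff x r q).2 (by rw [h0 q hq, rb])
            rw [not_not] at hq
            rw [zmod2_one _ e1, hq]
            decide
        rw [this]
        exact golayCode.add_mem one_mem_golay (Cw_mem k)
      · have : ind4 x r = 0 := by
          funext q
          have e1 : ¬ ind4 x r q ≠ 0 := fun h => by
            have := (ind4_ne_zero_iff x r q).1 h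
            by_cases hq : Cw k q ≠ 0
            · rw [h1 q hq] at this
              exact ra this.symm
            · rw [h0 q hq] at this
              exact rb this.symm
          rw [not_not] at e1
          exact e1
        rw [this]
        exact golayCode.zero_mem

theorem dot_w0v (d : GolayPt → ℤ) : dotInt w0v d = (∑ p, d p) - 4 * d (some 0) := by
  unfold w0v
  exact dot_hV (some 0) d

/-! ### the first family -/

theorem f330_ok (k : ℕ) (hk : k < 4096) (hkey : keyM k = (8, false, false)) :
    oK k ∈ leechLattice ∧ sqNorm (oK k) = 32 ∧ dotInt v32.1 (oK k) = 0 ∧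
      dotInt w0v (oK k) = 16 ∧ dotInt B0.1 (oK k) = 0 := by
  obtain ⟨c8, cn, c0⟩ := key330_chk ⟨k, hk⟩ hkey
  have hc := card_supp k c8
  have hsum : ∑ q, oK k q = 16 := by
    unfold oK
    rw [sum_two k hc]
    norm_num
  have vn : oK k none = 0 := by
    unfold oK
    rw [if_neg (not_not.2 cn)]
  have v0 : oK k (some 0) = 0 := by
    unfold oK
    rw [if_neg (not_not.2 c0)]
  refine ⟨?_, ?_, ?_, ?_, ?_⟩
  · apply mem_of_shape (oK k) k 0 2 0 (by norm_num) (by norm_num) (by norm_num)
    · intro q hq
      unfold oK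
      rw [if_pos hq]
    · intro q hq
      unfold oK
      rw [if_neg hq]
    · rw [hsum]
      norm_num
  · unfold sqNorm
    have : ∀ q, oK k q ^ 2 = if Cw k q ≠ 0 then 4 else 0 := by
      intro q
      unfold oK
      by_cases hq : Cw k q ≠ 0
      · rw [if_pos hq, if_pos hq]
        norm_num
      · rw [if_neg hq, if_neg hq]
        norm_num
    rw [Finset.sum_congr rfl (fun q _ => this q), sum_two k hc]
    norm_num
  · rw [dot_v32, vn, v0]
    norm_num
  · rw [dot_w0v, hsum, v0]
    norm_num
  · rw [dot_B0, vn, v0]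
    norm_num

/-! ### the second family -/

theorem f462_ok (k : ℕ) (hk : k ∈ K77) (p : GolayPt) (hp0 : p ≠ none) (hp1 : p ≠ some 0)
    (hp : Cw k p ≠ 0) :
    f462 k p ∈ leechLattice ∧ sqNorm (f462 k p) = 32 ∧ dotInt v32.1 (f462 k p) = 0 ∧
      dotInt w0v (f462 k p) = 16 ∧ dotInt B0.1 (f462 k p) = 16 := by
  obtain ⟨fn, f0⟩ := K77_flags k hk
  have hc : (support₂ (Cw k)).card = 8 := octads_card_eq (K77_octad k hk).1
  have heq : ∀ q, f462 k p q = (if Cw k q ≠ 0 then 2 else 0)
      + ((if q = p then -4 else 0) + (if q = some 0 then -4 else 0)) := by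
    intro q
    unfold f462
    by_cases h1 : q = p
    · subst h1
      rw [if_pos rfl, if_pos hp, if_pos rfl, if_neg hp1]
      norm_num
    · by_cases h2 : q = some 0
      · subst h2
        rw [if_neg h1, if_pos rfl, if_pos f0, if_neg h1, if_pos rfl]
        norm_num
      · rw [if_neg h1, if_neg h2, if_neg h1, if_neg h2]
        norm_num
  have hsum : ∑ q, f462 k p q = 8 := by
    rw [Finset.sum_congr rfl (fun q _ => heq q), Finset.sum_add_distrib, Finset.sum_add_distrib,
      sum_two k hc, Finset.sum_ite_eq' Finset.univ p, Finset.sum_ite_eq' Finset.univ (some 0),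
      if_pos (Finset.mem_univ _), if_pos (Finset.mem_univ _)]
    norm_num
  have vn : f462 k p none = 2 := by
    unfold f462
    rw [if_neg (Ne.symm hp0), if_neg (by simp), if_pos fn]
  have v0 : f462 k p (some 0) = -2 := by
    unfold f462
    rw [if_neg (Ne.symm hp1), if_pos rfl]
  refine ⟨?_, ?_, ?_, ?_, ?_⟩
  · apply mem_of_shape (f462 k p) k 0 2 0 (by norm_num) (by norm_num) (by norm_num)
    · intro q hq
      unfold f462
      by_cases h1 : q = p
      · rw [if_pos h1]
        norm_num
      · by_cases h2 : q = some 0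
        · rw [if_neg h1, if_pos h2]
          norm_num
        · rw [if_neg h1, if_neg h2, if_pos hq]
    · intro q hq
      unfold f462
      have h1 : q ≠ p := fun h => hq (h ▸ hp)
      have h2 : q ≠ some 0 := fun h => hq (h ▸ f0)
      rw [if_neg h1, if_neg h2, if_neg hq]
    · rw [hsum]
      norm_num
  · unfold sqNorm
    have : ∀ q, f462 k p q ^ 2 = if Cw k q ≠ 0 then 4 else 0 := by
      intro q
      unfold f462
      by_cases h1 : q = p
      · rw [if_pos h1, h1, if_pos hp]
        norm_num
      · by_cases h2 : q = some 0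
        · rw [if_neg h1, if_pos h2, h2, if_pos f0]
          norm_num
        · rw [if_neg h1, if_neg h2]
          by_cases hq : Cw k q ≠ 0
          · rw [if_pos hq, if_pos hq]
            norm_num
          · rw [if_neg hq, if_neg hq]
            norm_num
    rw [Finset.sum_congr rfl (fun q _ => this q), sum_two k hc]
    norm_num
  · rw [dot_v32, vn, v0]
    norm_num
  · rw [dot_w0v, hsum, v0]
    norm_num
  · rw [dot_B0, vn, v0]
    norm_num

/-! ### the third family -/

theorem f1232_ok (k : ℕ) (hk : k < 4096) (hkey : keyM k = (7, false, true)) (p : GolayPt)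
    (hp1 : p ≠ some 0) (hp : Cw k p ≠ 0) :
    f1232 k p ∈ leechLattice ∧ sqNorm (f1232 k p) = 32 ∧ dotInt v32.1 (f1232 k p) = 0 ∧
      dotInt w0v (f1232 k p) = 16 ∧ dotInt B0.1 (f1232 k p) = 8 := by
  obtain ⟨c8, cn, c0⟩ := key176_chk ⟨k, hk⟩ hkey
  have hc := card_supp k c8
  have hpn : p ≠ none := fun h => hp (h ▸ cn)
  have heq : ∀ q, f1232 k p q = (if Cw k q ≠ 0 then -1 else 1) + (if q = p then 4 else 0) := by
    intro q
    unfold f1232
    by_cases h1 : q = p
    · subst h1
      rw [if_pos rfl, if_pos hp, if_pos rfl]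
      norm_num
    · rw [if_neg h1, if_neg h1]
      norm_num
  have hsum : ∑ q, f1232 k p q = 12 := by
    rw [Finset.sum_congr rfl (fun q _ => heq q), Finset.sum_add_distrib,
      sum_two k hc, Finset.sum_ite_eq' Finset.univ p, if_pos (Finset.mem_univ _)]
    norm_num
  have vn : f1232 k p none = 1 := by
    unfold f1232
    rw [if_neg (Ne.symm hpn), if_neg (not_not.2 cn)]
  have v0 : f1232 k p (some 0) = -1 := by
    unfold f1232
    rw [if_neg (Ne.symm hp1), if_pos c0]
  refine ⟨?_, ?_, ?_, ?_, ?_⟩
  · apply mem_of_shape (f1232 k p) k 1 3 1 (by norm_num) (by norm_num) (by norm_num)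
    · intro q hq
      unfold f1232
      by_cases h1 : q = p
      · rw [if_pos h1]
      · rw [if_neg h1, if_pos hq]
        norm_num
    · intro q hq
      unfold f1232
      have h1 : q ≠ p := fun h => hq (h ▸ hp)
      rw [if_neg h1, if_neg hq]
    · rw [hsum]
      norm_num
  · unfold sqNorm
    have : ∀ q, f1232 k p q ^ 2 = 1 + (if q = p then 8 else 0) := by
      intro q
      unfold f1232
      by_cases h1 : q = p
      · rw [if_pos h1, if_pos h1]
        norm_num
      · rw [if_neg h1, if_neg h1]
        by_cases hq : Cw k q ≠ 0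
        · rw [if_pos hq]
          norm_num
        · rw [if_neg hq]
          norm_num
    rw [Finset.sum_congr rfl (fun q _ => this q), Finset.sum_add_distrib,
      Finset.sum_ite_eq' Finset.univ p, if_pos (Finset.mem_univ _), Finset.sum_const,
      Finset.card_univ, card_pts]
    norm_num
  · rw [dot_v32, vn, v0]
    norm_num
  · rw [dot_w0v, hsum, v0]
    norm_num
  · rw [dot_B0, vn, v0]
    norm_num

end Cfsg.Agent.Lib.Lead.ML
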