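import Cfsg.Agent.Lib.Lead.McL2
import Cfsg.Agent.Lib.Lead.HSGraph
import Cfsg.Agent.S1554
import Cfsg.Agent.Lib.helper4.OctadPairs

set_option autoImplicit false

/-!
# Transitivity of the two-point stabiliser of the code on three kinds of flags
-/

namespace Cfsg.Agent.Lib.Lead.ML

open Cfsg
open Cfsg.Agent.Lib.Lead.LX Cfsg.Agent.Lib.Lead.CW Cfsg.Agent.Lib.Lead.CO Cfsg.Agent.Lib.Lead.CP
open Cfsg.Agent.Lib.helper3 Cfsg.Agent.Lib.helper4 Cfsg.Agent.S0398 Cfsg.Agent.S1571
open Cfsg.Agent.Lib.Lead.LC Cfsg.Agent.Lib.Lead.LC3 Cfsg.Agent.Lib.Lead.HS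
open Cfsg.Agent.Lib.Lead.HSG
open scoped Pointwise

theorem five_map (x y : Fin 5 → GolayPt) (hx : Function.Injective x) (hy : Function.Injective y) :
    ∃ g ∈ M24, ∀ i, g (x i) = y i := by
  have h5 := Cfsg.Agent.S0366.result
  rw [MulAction.isMultiplyPretransitive_iff] at h5
  obtain ⟨g, hg⟩ := h5 ⟨x, hx⟩ ⟨y, hy⟩
  refine ⟨g.1, g.2, fun i => ?_⟩
  exact congrArg (fun f : Fin 5 ↪ GolayPt => f i) hg

theorem octad_eq_of_five (o o' : Finset GolayPt) (ho : o ∈ octads) (ho' : o' ∈ octads)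
    (x : Fin 5 → GolayPt) (hx : Function.Injective x) (h1 : ∀ i, x i ∈ o) (h2 : ∀ i, x i ∈ o') :
    o = o' := by
  classical
  by_contra hne
  have hle := octads_inter_card_le ho ho' hne
  have hsub : Finset.univ.image x ⊆ o ∩ o' := by
    intro q hq
    obtain ⟨i, -, rfl⟩ := Finset.mem_image.1 hq
    exact Finset.mem_inter.2 ⟨h1 i, h2 i⟩
  have hc : (Finset.univ.image x).card = 5 := by
    rw [Finset.card_image_of_injective _ hx, Finset.card_univ, Fintype.card_fin]
  have := Finset.card_le_card hsub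
  omega

theorem smul_supp_iff (g : Equiv.Perm GolayPt) (k k' : ℕ)
    (h : g • support₂ (Cw k') = support₂ (Cw k)) (q : GolayPt) :
    Cw k (g q) ≠ 0 ↔ Cw k' q ≠ 0 := by
  rw [← mem_supp, ← mem_supp, ← h]
  exact Finset.smul_mem_smul_finset_iff g

theorem supp_octad (k : ℕ) (h8 : popc (golayMask k) = 8) : support₂ (Cw k) ∈ octads := by
  rw [mem_octads_iff]
  refine ⟨Cw k, Cw_mem k, rfl, ?_⟩
  show hammingNorm (gword (golayMask k)) = 8
  rw [hammingNorm_gword]
  exact h8

theorem pick (o E : Finset GolayPt) (ho : o.card = 8) (hE : E.card < 8) : ∃ a ∈ o, a ∉ E :=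
  Finset.exists_mem_notMem_of_card_lt_card (by omega)

theorem smul_eq_of_fix (κ : Equiv.Perm GolayPt) (s : Finset GolayPt) (h : ∀ y ∈ s, κ y = y) :
    κ • s = s := by
  ext y
  constructor
  · intro hy
    obtain ⟨x, hx, rfl⟩ := Finset.mem_smul_finset.1 hy
    show κ x ∈ s
    rw [h x hx]
    exact hx
  · intro hy
    exact Finset.mem_smul_finset.2 ⟨y, hy, h y hy⟩

/-- the weight of a codeword in terms of its class -/
theorem card_supp_wtM (C : GolayPt → ZMod 2) :
    (support₂ C).card = (if C none ≠ 0 then 1 else 0) + ((if C (some 0) ≠ 0 then 1 else 0)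
      + wtM C) := by
  classical
  unfold support₂ wtM
  rw [Finset.card_filter, Fintype.sum_option, Finset.card_filter,
    ← Finset.add_sum_erase Finset.univ (fun j : ZMod 23 => if C (some j) ≠ 0 then 1 else 0)
      (Finset.mem_univ 0)]

theorem popc_eq_card (k : ℕ) : popc (golayMask k) = (support₂ (Cw k)).card := by
  rw [← hammingNorm_gword]
  rfl

theorem key330_chk (k : Fin 4096) (h : keyM k = (8, false, false)) :
    popc (golayMask k) = 8 ∧ Cw k none = 0 ∧ Cw k (some 0) = 0 := by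
  unfold keyM at h
  rw [Prod.mk.injEq, Prod.mk.injEq, decide_eq_false_iff_not, decide_eq_false_iff_not,
    not_not, not_not] at h
  obtain ⟨h1, h2, h3⟩ := h
  refine ⟨?_, h2, h3⟩
  rw [popc_eq_card, card_supp_wtM, h1, if_neg (not_not.2 h2), if_neg (not_not.2 h3)]

theorem key176_chk (k : Fin 4096) (h : keyM k = (7, false, true)) :
    popc (golayMask k) = 8 ∧ Cw k none = 0 ∧ Cw k (some 0) ≠ 0 := by
  unfold keyM at h
  rw [Prod.mk.injEq, Prod.mk.injEq, decide_eq_false_iff_not, decide_eq_true_iff,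
    not_not] at h
  obtain ⟨h1, h2, h3⟩ := h
  refine ⟨?_, h2, h3⟩
  rw [popc_eq_card, card_supp_wtM, h1, if_neg (not_not.2 h2), if_pos h3]

/-- flags of an octad through `∞`, `0` and a further point of it -/
theorem trans462 (k k' : ℕ) (hk : k ∈ K77) (hk' : k' ∈ K77) (p p' : GolayPt)
    (hp0 : p ≠ none) (hp1 : p ≠ some 0) (hp : Cw k p ≠ 0)
    (hp0' : p' ≠ none) (hp1' : p' ≠ some 0) (hp' : Cw k' p' ≠ 0) :
    ∃ π ∈ M24, π none = none ∧ π (some 0) = some 0 ∧
      (∀ q, Cw k (π q) ≠ 0 ↔ Cw k' q ≠ 0) ∧ π p' = p := by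
  classical
  obtain ⟨hoct, m0, m1, -⟩ := K77_octad k hk
  obtain ⟨hoct', m0', m1', -⟩ := K77_octad k' hk'
  have h8 := octads_card_eq hoct
  have h8' := octads_card_eq hoct'
  have mp : p ∈ support₂ (Cw k) := (mem_supp k p).2 hp
  have mp' : p' ∈ support₂ (Cw k') := (mem_supp k' p').2 hp'
  obtain ⟨a, ha, haE⟩ := pick _ {none, some 0, p} h8
    (lt_of_le_of_lt Finset.card_le_three (by norm_num))
  obtain ⟨b, hb, hbE⟩ := pick _ {none, some 0, p, a} h8
    (lt_of_le_of_lt Finset.card_le_four (by norm_num))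
  obtain ⟨a', ha', haE'⟩ := pick _ {none, some 0, p'} h8'
    (lt_of_le_of_lt Finset.card_le_three (by norm_num))
  obtain ⟨b', hb', hbE'⟩ := pick _ {none, some 0, p', a'} h8'
    (lt_of_le_of_lt Finset.card_le_four (by norm_num))
  simp only [Finset.mem_insert, Finset.mem_singleton, not_or] at haE hbE haE' hbE'
  have hinj : Function.Injective ![none, some 0, p, a, b] :=
    inj5 _ (by simp) (Ne.symm hp0) (Ne.symm haE.1) (Ne.symm hbE.1) (Ne.symm hp1)
      (Ne.symm haE.2.1) (Ne.symm hbE.2.1) (Ne.symm haE.2.2) (Ne.symm hbE.2.2.1)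
      (Ne.symm hbE.2.2.2)
  have hinj' : Function.Injective ![none, some 0, p', a', b'] :=
    inj5 _ (by simp) (Ne.symm hp0') (Ne.symm haE'.1) (Ne.symm hbE'.1) (Ne.symm hp1')
      (Ne.symm haE'.2.1) (Ne.symm hbE'.2.1) (Ne.symm haE'.2.2) (Ne.symm hbE'.2.2.1)
      (Ne.symm hbE'.2.2.2)
  obtain ⟨g, hg, hgx⟩ := five_map _ _ hinj' hinj
  have g0 : g none = none := hgx 0
  have g1 : g (some 0) = some 0 := hgx 1
  have g2 : g p' = p := hgx 2
  have g3 : g a' = a := hgx 3
  have g4 : g b' = b := hgx 4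
  have heq : g • support₂ (Cw k') = support₂ (Cw k) := by
    apply octad_eq_of_five _ _ (smul_octads_of_mem_M24 hg _ hoct') hoct _ hinj
    · intro i
      fin_cases i
      · show none ∈ _
        rw [← g0]
        exact Finset.smul_mem_smul_finset m0'
      · show some 0 ∈ _
        rw [← g1]
        exact Finset.smul_mem_smul_finset m1'
      · show p ∈ _
        rw [← g2]
        exact Finset.smul_mem_smul_finset mp'
      · show a ∈ _
        rw [← g3]
        exact Finset.smul_mem_smul_finset ha'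
      · show b ∈ _
        rw [← g4]
        exact Finset.smul_mem_smul_finset hb'
    · intro i
      fin_cases i
      · exact m0
      · exact m1
      · exact mp
      · exact ha
      · exact hb
  exact ⟨g, hg, g0, g1, fun q => smul_supp_iff g k k' heq q, g2⟩

/-- flags of an octad through `0` avoiding `∞` and a further point of it -/
theorem trans1232 (k k' : ℕ) (hk : k < 4096) (hk' : k' < 4096)
    (hkey : keyM k = (7, false, true)) (hkey' : keyM k' = (7, false, true)) (p p' : GolayPt)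
    (hp1 : p ≠ some 0) (hp : Cw k p ≠ 0) (hp1' : p' ≠ some 0) (hp' : Cw k' p' ≠ 0) :
    ∃ π ∈ M24, π none = none ∧ π (some 0) = some 0 ∧
      (∀ q, Cw k (π q) ≠ 0 ↔ Cw k' q ≠ 0) ∧ π p' = p := by
  classical
  obtain ⟨c8, cn, c0⟩ := key176_chk ⟨k, hk⟩ hkey
  obtain ⟨c8', cn', c0'⟩ := key176_chk ⟨k', hk'⟩ hkey'
  have hoct := supp_octad k c8
  have hoct' := supp_octad k' c8'
  have h8 := octads_card_eq hoct
  have h8' := octads_card_eq hoct'
  have m0 : none ∉ support₂ (Cw k) := fun h => (mem_supp k none).1 h cn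
  have m0' : none ∉ support₂ (Cw k') := fun h => (mem_supp k' none).1 h cn'
  have m1 : some 0 ∈ support₂ (Cw k) := (mem_supp k _).2 c0
  have m1' : some 0 ∈ support₂ (Cw k') := (mem_supp k' _).2 c0'
  have mp : p ∈ support₂ (Cw k) := (mem_supp k p).2 hp
  have mp' : p' ∈ support₂ (Cw k') := (mem_supp k' p').2 hp'
  obtain ⟨a, ha, haE⟩ := pick _ {some 0, p} h8
    (lt_of_le_of_lt Finset.card_le_two (by norm_num))
  obtain ⟨b, hb, hbE⟩ := pick _ {some 0, p, a} h8
    (lt_of_le_of_lt Finset.card_le_three (by norm_num))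
  obtain ⟨c, hc, hcE⟩ := pick _ {some 0, p, a, b} h8
    (lt_of_le_of_lt Finset.card_le_four (by norm_num))
  obtain ⟨a', ha', haE'⟩ := pick _ {some 0, p'} h8'
    (lt_of_le_of_lt Finset.card_le_two (by norm_num))
  obtain ⟨b', hb', hbE'⟩ := pick _ {some 0, p', a'} h8'
    (lt_of_le_of_lt Finset.card_le_three (by norm_num))
  obtain ⟨c', hc', hcE'⟩ := pick _ {some 0, p', a', b'} h8'
    (lt_of_le_of_lt Finset.card_le_four (by norm_num))
  simp only [Finset.mem_insert, Finset.mem_singleton, not_or] at haE hbE hcE haE' hbE' hcE'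
  have hinj : Function.Injective ![some 0, p, a, b, c] :=
    inj5 _ (Ne.symm hp1) (Ne.symm haE.1) (Ne.symm hbE.1) (Ne.symm hcE.1)
      (Ne.symm haE.2) (Ne.symm hbE.2.1) (Ne.symm hcE.2.1) (Ne.symm hbE.2.2) (Ne.symm hcE.2.2.1)
      (Ne.symm hcE.2.2.2)
  have hinj' : Function.Injective ![some 0, p', a', b', c'] :=
    inj5 _ (Ne.symm hp1') (Ne.symm haE'.1) (Ne.symm hbE'.1) (Ne.symm hcE'.1)
      (Ne.symm haE'.2) (Ne.symm hbE'.2.1) (Ne.symm hcE'.2.1) (Ne.symm hbE'.2.2)
      (Ne.symm hcE'.2.2.1) (Ne.symm hcE'.2.2.2)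
  obtain ⟨g, hg, hgx⟩ := five_map _ _ hinj' hinj
  have g1 : g (some 0) = some 0 := hgx 0
  have g2 : g p' = p := hgx 1
  have g3 : g a' = a := hgx 2
  have g4 : g b' = b := hgx 3
  have g5 : g c' = c := hgx 4
  have heq : g • support₂ (Cw k') = support₂ (Cw k) := by
    apply octad_eq_of_five _ _ (smul_octads_of_mem_M24 hg _ hoct') hoct _ hinj
    · intro i
      fin_cases i
      · show some 0 ∈ _
        rw [← g1]
        exact Finset.smul_mem_smul_finset m1'
      · show p ∈ _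
        rw [← g2]
        exact Finset.smul_mem_smul_finset mp'
      · show a ∈ _
        rw [← g3]
        exact Finset.smul_mem_smul_finset ha'
      · show b ∈ _
        rw [← g4]
        exact Finset.smul_mem_smul_finset hb'
      · show c ∈ _
        rw [← g5]
        exact Finset.smul_mem_smul_finset hc'
    · intro i
      fin_cases i
      · exact m1
      · exact mp
      · exact ha
      · exact hb
      · exact hc
  have hq : g none ∉ support₂ (Cw k) := by
    rw [← heq]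
    intro hm
    exact m0' ((Finset.smul_mem_smul_finset_iff g).1 hm)
  obtain ⟨κ, hκ, hκfix, hκq⟩ := Cfsg.Agent.S1554.exists_fixing' _ hoct (g none) hq none m0
  have heq2 : (κ * g) • support₂ (Cw k') = support₂ (Cw k) := by
    rw [mul_smul, heq]
    exact smul_eq_of_fix κ _ hκfix
  refine ⟨κ * g, M24.mul_mem hκ hg, ?_, ?_, fun q => smul_supp_iff _ k k' heq2 q, ?_⟩
  · rw [Equiv.Perm.mul_apply, hκq]
  · rw [Equiv.Perm.mul_apply, g1, hκfix _ m1]
  · rw [Equiv.Perm.mul_apply, g2, hκfix _ mp]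

/-- an even permutation of an octad fixing given points and moving `u` to `d` extends to the code -/
theorem fix_move (T : Finset GolayPt) (hT : T ∈ octads) (F : Finset GolayPt) (hFc : F.card ≤ 5)
    (u d : GolayPt) (hu : u ∈ T) (hd : d ∈ T) (huF : u ∉ F) (hdF : d ∉ F) :
    ∃ m ∈ M24, m • T = T ∧ (∀ y ∈ F, y ∈ T → m y = y) ∧ m u = d := by
  classical
  by_cases hud : u = d
  · exact ⟨1, M24.one_mem, one_smul _ _, fun y _ _ => rfl, hud⟩
  have h8 := octads_card_eq hT
  have hcard : (insert u (insert d F)).card < 8 := by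
    have h1 := Finset.card_insert_le u (insert d F)
    have h2 := Finset.card_insert_le d F
    omega
  obtain ⟨t, ht, htE⟩ := pick T _ h8 hcard
  simp only [Finset.mem_insert, not_or] at htE
  obtain ⟨htu, htd, htF⟩ := htE
  let σ : Equiv.Perm ↥T := Equiv.swap ⟨u, hu⟩ ⟨d, hd⟩ * Equiv.swap ⟨d, hd⟩ ⟨t, ht⟩
  have hσ : σ ∈ alternatingGroup ↥T := by
    rw [Equiv.Perm.mem_alternatingGroup]
    show Equiv.Perm.sign (Equiv.swap _ _ * Equiv.swap _ _) = 1
    rw [Equiv.Perm.sign_mul, Equiv.Perm.sign_swap, Equiv.Perm.sign_swap]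
    · rfl
    · intro h
      exact htd (congrArg Subtype.val h).symm
    · intro h
      exact hud (congrArg Subtype.val h)
  rw [← Cfsg.Agent.Lib.Helper12.Golay.range_resHom_eq T hT] at hσ
  obtain ⟨mm, hmm⟩ := hσ
  have hval : ∀ y (hy : y ∈ T), mm.1 y = (σ ⟨y, hy⟩).1 := by
    intro y hy
    rw [← hmm]
    exact (Cfsg.Agent.Lib.Helper12.Golay.resHom_apply T mm ⟨y, hy⟩).symm
  refine ⟨mm.1, mm.2.1, MulAction.mem_stabilizer_iff.1 mm.2.2, ?_, ?_⟩
  · intro y hyF hyT
    rw [hval y hyT]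
    have n1 : (⟨y, hyT⟩ : ↥T) ≠ ⟨d, hd⟩ := fun h => by
      have e : y = d := congrArg Subtype.val h
      exact hdF (e ▸ hyF)
    have n2 : (⟨y, hyT⟩ : ↥T) ≠ ⟨t, ht⟩ := fun h => by
      have e : y = t := congrArg Subtype.val h
      exact htF (e ▸ hyF)
    have n3 : (⟨y, hyT⟩ : ↥T) ≠ ⟨u, hu⟩ := fun h => by
      have e : y = u := congrArg Subtype.val h
      exact huF (e ▸ hyF)
    show ((Equiv.swap (⟨u, hu⟩ : ↥T) ⟨d, hd⟩) ((Equiv.swap (⟨d, hd⟩ : ↥T) ⟨t, ht⟩) ⟨y, hyT⟩)).1 = y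
    rw [Equiv.swap_apply_of_ne_of_ne n1 n2, Equiv.swap_apply_of_ne_of_ne n3 n1]
  · rw [hval u hu]
    have n1 : (⟨u, hu⟩ : ↥T) ≠ ⟨d, hd⟩ := fun h => hud (congrArg Subtype.val h)
    have n2 : (⟨u, hu⟩ : ↥T) ≠ ⟨t, ht⟩ := fun h => htu (congrArg Subtype.val h).symm
    show ((Equiv.swap (⟨u, hu⟩ : ↥T) ⟨d, hd⟩) ((Equiv.swap (⟨d, hd⟩ : ↥T) ⟨t, ht⟩) ⟨u, hu⟩)).1 = d
    rw [Equiv.swap_apply_of_ne_of_ne n1 n2, Equiv.swap_apply_left]

/-- data attached to an octad avoiding `∞` and `0` -/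
theorem data330 (O : Finset GolayPt) (hO : O ∈ octads) (h0 : none ∉ O) (h1 : some 0 ∉ O) :
    ∃ (T : Finset GolayPt) (a b c d x : GolayPt), T ∈ octads ∧ none ∈ T ∧ some 0 ∈ T ∧
      a ∈ T ∧ b ∈ T ∧ c ∈ T ∧ d ∈ T ∧ a ∈ O ∧ b ∈ O ∧ c ∈ O ∧ d ∈ O ∧ x ∈ O ∧ x ∉ T ∧
      a ≠ b ∧ a ≠ c ∧ a ≠ d ∧ b ≠ c ∧ b ≠ d ∧ c ≠ d := by
  classical
  have h8 := octads_card_eq hO
  obtain ⟨a, ha, -⟩ := pick O ∅ h8 (by simp)
  obtain ⟨b, hb, hbE⟩ := pick O {a} h8 (by simp)
  obtain ⟨c, hc, hcE⟩ := pick O {a, b} h8 (lt_of_le_of_lt Finset.card_le_two (by norm_num))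
  simp only [Finset.mem_insert, Finset.mem_singleton, not_or] at hbE hcE
  have an : a ≠ none := fun h => h0 (h ▸ ha)
  have a0 : a ≠ some 0 := fun h => h1 (h ▸ ha)
  have bn : b ≠ none := fun h => h0 (h ▸ hb)
  have b0 : b ≠ some 0 := fun h => h1 (h ▸ hb)
  have cn : c ≠ none := fun h => h0 (h ▸ hc)
  have c0 : c ≠ some 0 := fun h => h1 (h ▸ hc)
  have hinj : Function.Injective ![none, some 0, a, b, c] :=
    inj5 _ (by simp) (Ne.symm an) (Ne.symm bn) (Ne.symm cn) (Ne.symm a0) (Ne.symm b0)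
      (Ne.symm c0) (Ne.symm hbE) (Ne.symm hcE.1) (Ne.symm hcE.2)
  have hs5 : (Finset.univ.image ![none, some 0, a, b, c]).card = 5 := by
    rw [Finset.card_image_of_injective _ hinj, Finset.card_univ, Fintype.card_fin]
  obtain ⟨T, ⟨hT, hsT⟩, -⟩ := octads_steiner.2 _ hs5
  have mem : ∀ i : Fin 5, ![none, some 0, a, b, c] i ∈ T := fun i =>
    hsT (Finset.mem_image.2 ⟨i, Finset.mem_univ _, rfl⟩)
  have tn : none ∈ T := mem 0
  have t0 : some 0 ∈ T := mem 1
  have ta : a ∈ T := mem 2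
  have tb : b ∈ T := mem 3
  have tc : c ∈ T := mem 4
  have hsub3 : ({a, b, c} : Finset GolayPt) ⊆ T ∩ O := by
    intro q hq
    rw [Finset.mem_insert, Finset.mem_insert, Finset.mem_singleton] at hq
    rcases hq with rfl | rfl | rfl
    · exact Finset.mem_inter.2 ⟨ta, ha⟩
    · exact Finset.mem_inter.2 ⟨tb, hb⟩
    · exact Finset.mem_inter.2 ⟨tc, hc⟩
  have hc3 : ({a, b, c} : Finset GolayPt).card = 3 := by
    rw [Finset.card_insert_of_notMem, Finset.card_insert_of_notMem, Finset.card_singleton]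
    · simp [Ne.symm hcE.2]
    · simp [Ne.symm hbE, Ne.symm hcE.1]
  have hge := Finset.card_le_card hsub3
  rw [hc3] at hge
  have h4 : (T ∩ O).card = 4 := by
    rcases octad_inter_cases T O hT hO with h | h | h | h
    · exfalso
      have hTO : T ∩ O = T := Finset.eq_of_subset_of_card_le Finset.inter_subset_left
        (by rw [h, octads_card_eq hT])
      have : none ∈ T ∩ O := by rw [hTO]; exact tn
      exact h0 (Finset.mem_inter.1 this).2
    · exact h
    · omega
    · omega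
  obtain ⟨d, hd, hdE⟩ := Finset.exists_mem_notMem_of_card_lt_card
    (s := ({a, b, c} : Finset GolayPt)) (t := T ∩ O) (by rw [hc3, h4]; norm_num)
  simp only [Finset.mem_insert, Finset.mem_singleton, not_or] at hdE
  obtain ⟨x, hx, hxE⟩ := Finset.exists_mem_notMem_of_card_lt_card
    (s := T ∩ O) (t := O) (by rw [h4, h8]; norm_num)
  have hxT : x ∉ T := fun h => hxE (Finset.mem_inter.2 ⟨h, hx⟩)
  rw [Finset.mem_inter] at hd
  exact ⟨T, a, b, c, d, x, hT, tn, t0, ta, tb, tc, hd.1, ha, hb, hc, hd.2, hx, hxT,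
    Ne.symm hbE, Ne.symm hcE.1, Ne.symm hdE.1, Ne.symm hcE.2, Ne.symm hdE.2.1, Ne.symm hdE.2.2⟩

/-- the octads avoiding `∞` and `0` -/
theorem trans330 (k k' : ℕ) (hk : k < 4096) (hk' : k' < 4096)
    (hkey : keyM k = (8, false, false)) (hkey' : keyM k' = (8, false, false)) :
    ∃ π ∈ M24, π none = none ∧ π (some 0) = some 0 ∧ ∀ q, Cw k (π q) ≠ 0 ↔ Cw k' q ≠ 0 := by
  classical
  obtain ⟨c8, cn, c0⟩ := key330_chk ⟨k, hk⟩ hkey
  obtain ⟨c8', cn', c0'⟩ := key330_chk ⟨k', hk'⟩ hkey'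
  have hoct := supp_octad k c8
  have hoct' := supp_octad k' c8'
  have m0 : none ∉ support₂ (Cw k) := fun h => (mem_supp k none).1 h cn
  have m0' : none ∉ support₂ (Cw k') := fun h => (mem_supp k' none).1 h cn'
  have m1 : some 0 ∉ support₂ (Cw k) := fun h => (mem_supp k _).1 h c0
  have m1' : some 0 ∉ support₂ (Cw k') := fun h => (mem_supp k' _).1 h c0'
  obtain ⟨T, a, b, c, d, x, hT, tn, t0, ta, tb, tc, td, oa, ob, oc, od, ox, xT, hab, hac, had,
    hbc, hbd, hcd⟩ := data330 _ hoct m0 m1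
  obtain ⟨T', a', b', c', d', x', hT', tn', t0', ta', tb', tc', td', oa', ob', oc', od', ox', xT',
    hab', hac', had', hbc', hbd', hcd'⟩ := data330 _ hoct' m0' m1'
  have an : a ≠ none := fun h => m0 (h ▸ oa)
  have a0 : a ≠ some 0 := fun h => m1 (h ▸ oa)
  have bn : b ≠ none := fun h => m0 (h ▸ ob)
  have b0 : b ≠ some 0 := fun h => m1 (h ▸ ob)
  have cn2 : c ≠ none := fun h => m0 (h ▸ oc)
  have c02 : c ≠ some 0 := fun h => m1 (h ▸ oc)
  have dn : d ≠ none := fun h => m0 (h ▸ od)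
  have d0 : d ≠ some 0 := fun h => m1 (h ▸ od)
  have an' : a' ≠ none := fun h => m0' (h ▸ oa')
  have a0' : a' ≠ some 0 := fun h => m1' (h ▸ oa')
  have bn' : b' ≠ none := fun h => m0' (h ▸ ob')
  have b0' : b' ≠ some 0 := fun h => m1' (h ▸ ob')
  have cn2' : c' ≠ none := fun h => m0' (h ▸ oc')
  have c02' : c' ≠ some 0 := fun h => m1' (h ▸ oc')
  have dn' : d' ≠ none := fun h => m0' (h ▸ od')
  have d0' : d' ≠ some 0 := fun h => m1' (h ▸ od')
  have hinj : Function.Injective ![none, some 0, a, b, c] :=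
    inj5 _ (by simp) (Ne.symm an) (Ne.symm bn) (Ne.symm cn2) (Ne.symm a0) (Ne.symm b0)
      (Ne.symm c02) hab hac hbc
  have hinj' : Function.Injective ![none, some 0, a', b', c'] :=
    inj5 _ (by simp) (Ne.symm an') (Ne.symm bn') (Ne.symm cn2') (Ne.symm a0') (Ne.symm b0')
      (Ne.symm c02') hab' hac' hbc'
  obtain ⟨g1, hg1, hgx⟩ := five_map _ _ hinj' hinj
  have e0 : g1 none = none := hgx 0
  have e1 : g1 (some 0) = some 0 := hgx 1
  have e2 : g1 a' = a := hgx 2
  have e3 : g1 b' = b := hgx 3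
  have e4 : g1 c' = c := hgx 4
  have hTT : g1 • T' = T := by
    apply octad_eq_of_five _ _ (smul_octads_of_mem_M24 hg1 _ hT') hT _ hinj
    · intro i
      fin_cases i
      · show none ∈ _
        rw [← e0]
        exact Finset.smul_mem_smul_finset tn'
      · show some 0 ∈ _
        rw [← e1]
        exact Finset.smul_mem_smul_finset t0'
      · show a ∈ _
        rw [← e2]
        exact Finset.smul_mem_smul_finset ta'
      · show b ∈ _
        rw [← e3]
        exact Finset.smul_mem_smul_finset tb'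
      · show c ∈ _
        rw [← e4]
        exact Finset.smul_mem_smul_finset tc'
    · intro i
      fin_cases i
      · exact tn
      · exact t0
      · exact ta
      · exact tb
      · exact tc
  have huT : g1 d' ∈ T := by
    rw [← hTT]
    exact Finset.smul_mem_smul_finset td'
  have huF : g1 d' ∉ ({none, some 0, a, b, c} : Finset GolayPt) := by
    simp only [Finset.mem_insert, Finset.mem_singleton, not_or]
    refine ⟨?_, ?_, ?_, ?_, ?_⟩
    · rw [← e0]; exact fun h => dn' (g1.injective h)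
    · rw [← e1]; exact fun h => d0' (g1.injective h)
    · rw [← e2]; exact fun h => had' (g1.injective h).symm
    · rw [← e3]; exact fun h => hbd' (g1.injective h).symm
    · rw [← e4]; exact fun h => hcd' (g1.injective h).symm
  have hdF : d ∉ ({none, some 0, a, b, c} : Finset GolayPt) := by
    simp only [Finset.mem_insert, Finset.mem_singleton, not_or]
    exact ⟨dn, d0, Ne.symm had, Ne.symm hbd, Ne.symm hcd⟩
  obtain ⟨m, hm, hmT, hmfix, hmu⟩ := fix_move T hT {none, some 0, a, b, c} Finset.card_le_five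
    (g1 d') d huT td huF hdF
  have f0 : m none = none := hmfix none (by simp) tn
  have f1 : m (some 0) = some 0 := hmfix (some 0) (by simp) t0
  have f2 : m a = a := hmfix a (by simp) ta
  have f3 : m b = b := hmfix b (by simp) tb
  have f4 : m c = c := hmfix c (by simp) tc
  have hTT2 : (m * g1) • T' = T := by rw [mul_smul, hTT, hmT]
  have hx2 : (m * g1) x' ∉ T := by
    rw [← hTT2]
    intro h
    exact xT' ((Finset.smul_mem_smul_finset_iff (m * g1)).1 h)
  obtain ⟨κ, hκ, hκfix, hκq⟩ := Cfsg.Agent.S1554.exists_fixing' T hT ((m * g1) x') hx2 x xT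
  have xa : x ≠ a := fun h => xT (h ▸ ta)
  have xb : x ≠ b := fun h => xT (h ▸ tb)
  have xc : x ≠ c := fun h => xT (h ▸ tc)
  have xd : x ≠ d := fun h => xT (h ▸ td)
  have hinj5 : Function.Injective ![a, b, c, d, x] :=
    inj5 _ hab hac had (Ne.symm xa) hbc hbd (Ne.symm xb) hcd (Ne.symm xc) (Ne.symm xd)
  have key : ∀ y y' : GolayPt, y' ∈ T' → y ∈ T → (m * g1) y' = y → (κ * (m * g1)) y' = y := by
    intro y y' _ hy h
    rw [Equiv.Perm.mul_apply, h, hκfix y hy]
  have heq : (κ * (m * g1)) • support₂ (Cw k') = support₂ (Cw k) := by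
    apply octad_eq_of_five _ _ (smul_octads_of_mem_M24
      (M24.mul_mem hκ (M24.mul_mem hm hg1)) _ hoct') hoct _ hinj5
    · intro i
      fin_cases i
      · show a ∈ _
        rw [← key a a' ta' ta (by rw [Equiv.Perm.mul_apply, e2, f2])]
        exact Finset.smul_mem_smul_finset oa'
      · show b ∈ _
        rw [← key b b' tb' tb (by rw [Equiv.Perm.mul_apply, e3, f3])]
        exact Finset.smul_mem_smul_finset ob'
      · show c ∈ _
        rw [← key c c' tc' tc (by rw [Equiv.Perm.mul_apply, e4, f4])]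
        exact Finset.smul_mem_smul_finset oc'
      · show d ∈ _
        rw [← key d d' td' td (by rw [Equiv.Perm.mul_apply, hmu])]
        exact Finset.smul_mem_smul_finset od'
      · show x ∈ _
        have : (κ * (m * g1)) x' = x := by rw [Equiv.Perm.mul_apply, hκq]
        rw [← this]
        exact Finset.smul_mem_smul_finset ox'
    · intro i
      fin_cases i
      · exact oa
      · exact ob
      · exact oc
      · exact od
      · exact ox
  refine ⟨κ * (m * g1), M24.mul_mem hκ (M24.mul_mem hm hg1), ?_, ?_,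
    fun q => smul_supp_iff _ k k' heq q⟩
  · exact key none none tn' tn (by rw [Equiv.Perm.mul_apply, e0, f0])
  · exact key (some 0) (some 0) t0' t0 (by rw [Equiv.Perm.mul_apply, e1, f1])

end Cfsg.Agent.Lib.Lead.ML
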