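import Cfsg.Agent.Lib.Lead.McL2g

set_option autoImplicit false

/-!
# The orbits of the stabiliser of the standard triple on the 2025 points
-/

namespace Cfsg.Agent.Lib.Lead.ML

open Cfsg
open Cfsg.Agent.Lib.Lead.LX Cfsg.Agent.Lib.Lead.CW Cfsg.Agent.Lib.Lead.CO Cfsg.Agent.Lib.Lead.CP
open Cfsg.Agent.Lib.helper3 Cfsg.Agent.Lib.helper4 Cfsg.Agent.S0398 Cfsg.Agent.S1571
open Cfsg.Agent.Lib.Lead.LC Cfsg.Agent.Lib.Lead.LC3 Cfsg.Agent.Lib.Lead.HS
open Cfsg.Agent.Lib.Lead.HSG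
open MulAction
open scoped Pointwise

/-- second vector of the frame, in the lattice -/
def w0 : ↥leechLattice := hL (some 0)

theorem w0_val : w0.1 = w0v := rfl

/-- the 2025 points of the standard frame -/
def X0 : Set ↥leechLattice :=
  {x | sqNorm x.1 = 32 ∧ dotInt v32.1 x.1 = 0 ∧ dotInt w0.1 x.1 = 16}

theorem X0_ncard : X0.ncard = 2025 := ncard_X v32 w0 norm_v32 frame2_chk.1 frame2_chk.2.1

theorem X0_finite : X0.Finite := Set.finite_of_ncard_ne_zero (by rw [X0_ncard]; norm_num)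

theorem B0_mem_X0 : B0 ∈ X0 := ⟨frame2_chk.2.2.2.2.1, frame2_chk.2.2.2.1, frame2_chk.2.2.1⟩

/-- the stabiliser of the standard triple -/
def T0 : Subgroup ↥Co0 :=
  stabilizer ↥Co0 v32 ⊓ stabilizer ↥Co0 w0 ⊓ stabilizer ↥Co0 B0

theorem mem_T0 (g : ↥Co0) : g ∈ T0 ↔ g.1 v32 = v32 ∧ g.1 w0 = w0 ∧ g.1 B0 = B0 := by
  unfold T0
  rw [Subgroup.mem_inf, Subgroup.mem_inf, mem_stabilizer_iff, mem_stabilizer_iff,
    mem_stabilizer_iff, and_assoc]
  rfl

theorem T0_smul_mem (g : ↥T0) (x : ↥leechLattice) (hx : x ∈ X0) : g • x ∈ X0 := by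
  obtain ⟨h1, h2, -⟩ := (mem_T0 _).1 g.2
  obtain ⟨a, b, c⟩ := hx
  show sqNorm (g.1.1 x).1 = 32 ∧ dotInt v32.1 (g.1.1 x).1 = 0 ∧ dotInt w0.1 (g.1.1 x).1 = 16
  refine ⟨by rw [g.1.2.2]; exact a, ?_, ?_⟩
  · have := dot_map g.1 v32 x
    rw [h1] at this
    rw [this]
    exact b
  · have := dot_map g.1 w0 x
    rw [h2] at this
    rw [this]
    exact c

theorem T0_dot_B0 (g : ↥T0) (x : ↥leechLattice) : dotInt B0.1 (g • x).1 = dotInt B0.1 x.1 := by
  obtain ⟨-, -, h3⟩ := (mem_T0 _).1 g.2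
  have := dot_map g.1 B0 x
  rw [h3] at this
  exact this

theorem orbit_sub_X0 (y : ↥leechLattice) (hy : y ∈ X0) : orbit ↥T0 y ⊆ X0 := by
  rintro z ⟨g, rfl⟩
  exact T0_smul_mem g y hy

theorem orbit_dot (y z : ↥leechLattice) (hz : z ∈ orbit ↥T0 y) :
    dotInt B0.1 z.1 = dotInt B0.1 y.1 := by
  obtain ⟨g, rfl⟩ := hz
  exact T0_dot_B0 g y

theorem perm_fix_B0 (π : Equiv.Perm GolayPt) (hπ : π ∈ M24) (h0 : π none = none)
    (h1 : π (some 0) = some 0) : (permE π hπ) B0 = B0 := by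
  apply Subtype.ext
  funext p
  rw [permE_apply, B0_apply, B0_apply]
  have e0 : π p = none ↔ p = none :=
    ⟨fun h => π.injective (h.trans h0.symm), fun h => by rw [h]; exact h0⟩
  have e1 : π p = some 0 ↔ p = some 0 :=
    ⟨fun h => π.injective (h.trans h1.symm), fun h => by rw [h]; exact h1⟩
  rw [if_congr e0 rfl rfl, if_congr e1 rfl rfl]

/-- coordinate permutations fixing `∞` and `0` -/
def tau (ρ : Equiv.Perm GolayPt) (hρ : ρ ∈ M24) (h0 : ρ none = none)
    (h1 : ρ (some 0) = some 0) : ↥T0 :=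
  ⟨⟨permE ρ hρ, permE_mem ρ hρ⟩, (mem_T0 _).2
    ⟨perm_fix ρ hρ h0 h1, perm_hL ρ hρ (some 0) (some 0) h1, perm_fix_B0 ρ hρ h0 h1⟩⟩

theorem tau_smul (ρ : Equiv.Perm GolayPt) (hρ : ρ ∈ M24) (h0 : ρ none = none)
    (h1 : ρ (some 0) = some 0) (y : ↥leechLattice) (p : GolayPt) :
    (tau ρ hρ h0 h1 • y).1 p = y.1 (ρ p) := rfl

/-! ### the three families -/

/-- octads avoiding `∞` and `0` -/
def K330 : Finset ℕ := (Finset.range 4096).filter (fun k => keyM k = (8, false, false))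

/-- octads through `0` avoiding `∞` -/
def K176 : Finset ℕ := (Finset.range 4096).filter (fun k => keyM k = (7, false, true))

theorem mem_K330 (k : ℕ) : k ∈ K330 ↔ k < 4096 ∧ keyM k = (8, false, false) := by
  unfold K330
  rw [Finset.mem_filter, Finset.mem_range]

theorem mem_K176 (k : ℕ) : k ∈ K176 ↔ k < 4096 ∧ keyM k = (7, false, true) := by
  unfold K176
  rw [Finset.mem_filter, Finset.mem_range]

theorem card_K330 : K330.card = 330 :=
  keyM_count ((8, false, false), 330) (by simp [keyTable])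

theorem card_K176 : K176.card = 176 :=
  keyM_count ((7, false, true), 176) (by simp [keyTable])

/-- flags for the second family -/
def P462 : Finset (ℕ × GolayPt) :=
  (K77 ×ˢ Finset.univ).filter (fun a => a.2 ≠ none ∧ a.2 ≠ some 0 ∧ Cw a.1 a.2 ≠ 0)

/-- flags for the third family -/
def P1232 : Finset (ℕ × GolayPt) :=
  (K176 ×ˢ Finset.univ).filter (fun a => a.2 ≠ some 0 ∧ Cw a.1 a.2 ≠ 0)

theorem mem_P462 (a : ℕ × GolayPt) :
    a ∈ P462 ↔ a.1 ∈ K77 ∧ a.2 ≠ none ∧ a.2 ≠ some 0 ∧ Cw a.1 a.2 ≠ 0 := by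
  unfold P462
  rw [Finset.mem_filter, Finset.mem_product]
  constructor
  · rintro ⟨⟨h1, -⟩, h2⟩
    exact ⟨h1, h2⟩
  · rintro ⟨h1, h2⟩
    exact ⟨⟨h1, Finset.mem_univ _⟩, h2⟩

theorem mem_P1232 (a : ℕ × GolayPt) :
    a ∈ P1232 ↔ a.1 ∈ K176 ∧ a.2 ≠ some 0 ∧ Cw a.1 a.2 ≠ 0 := by
  unfold P1232
  rw [Finset.mem_filter, Finset.mem_product]
  constructor
  · rintro ⟨⟨h1, -⟩, h2⟩
    exact ⟨h1, h2⟩
  · rintro ⟨h1, h2⟩
    exact ⟨⟨h1, Finset.mem_univ _⟩, h2⟩

attribute [irreducible] P462 P1232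

theorem card_P462 : P462.card = 462 := by
  classical
  rw [Finset.card_eq_sum_card_fiberwise (f := Prod.fst) (t := K77)
    (fun a ha => ((mem_P462 a).1 ha).1)]
  have hfib : ∀ k ∈ K77, (P462.filter (fun a => a.1 = k)).card = 6 := by
    intro k hk
    obtain ⟨hoct, m0, m1, -⟩ := K77_octad k hk
    have h8 := octads_card_eq hoct
    have hsub : ({none, some 0} : Finset GolayPt) ⊆ support₂ (Cw k) := by
      intro q hq
      rw [Finset.mem_insert, Finset.mem_singleton] at hq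
      rcases hq with rfl | rfl
      · exact m0
      · exact m1
    have hpair : ({none, some 0} : Finset GolayPt).card = 2 := Finset.card_pair (by simp)
    have hEq : P462.filter (fun a => a.1 = k)
        = (support₂ (Cw k) \ {none, some 0}).image (Prod.mk k) := by
      ext a
      rw [Finset.mem_filter, mem_P462, Finset.mem_image]
      constructor
      · rintro ⟨⟨-, h2, h3, h4⟩, rfl⟩
        refine ⟨a.2, ?_, rfl⟩
        rw [Finset.mem_sdiff, mem_supp, Finset.mem_insert, Finset.mem_singleton, not_or]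
        exact ⟨h4, h2, h3⟩
      · rintro ⟨p, hp, rfl⟩
        rw [Finset.mem_sdiff, mem_supp, Finset.mem_insert, Finset.mem_singleton, not_or] at hp
        exact ⟨⟨hk, hp.2.1, hp.2.2, hp.1⟩, rfl⟩
    rw [hEq, Finset.card_image_of_injective _ (Prod.mk_right_injective k),
      Finset.card_sdiff_of_subset hsub, h8, hpair]
  rw [Finset.sum_congr rfl hfib, Finset.sum_const, card_K77]
  rfl

theorem card_P1232 : P1232.card = 1232 := by
  classical
  rw [Finset.card_eq_sum_card_fiberwise (f := Prod.fst) (t := K176)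
    (fun a ha => ((mem_P1232 a).1 ha).1)]
  have hfib : ∀ k ∈ K176, (P1232.filter (fun a => a.1 = k)).card = 7 := by
    intro k hk
    have hk' := (mem_K176 k).1 hk
    obtain ⟨c8, -, c0⟩ := key176_chk ⟨k, hk'.1⟩ hk'.2
    have h8 := card_supp k c8
    have hsub : ({some 0} : Finset GolayPt) ⊆ support₂ (Cw k) := by
      intro q hq
      rw [Finset.mem_singleton] at hq
      rw [hq, mem_supp]
      exact c0
    have hEq : P1232.filter (fun a => a.1 = k)
        = (support₂ (Cw k) \ {some 0}).image (Prod.mk k) := by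
      ext a
      rw [Finset.mem_filter, mem_P1232, Finset.mem_image]
      constructor
      · rintro ⟨⟨-, h3, h4⟩, rfl⟩
        refine ⟨a.2, ?_, rfl⟩
        rw [Finset.mem_sdiff, mem_supp, Finset.mem_singleton]
        exact ⟨h4, h3⟩
      · rintro ⟨p, hp, rfl⟩
        rw [Finset.mem_sdiff, mem_supp, Finset.mem_singleton] at hp
        exact ⟨⟨hk, hp.2, hp.1⟩, rfl⟩
    rw [hEq, Finset.card_image_of_injective _ (Prod.mk_right_injective k),
      Finset.card_sdiff_of_subset hsub, h8, Finset.card_singleton]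
  rw [Finset.sum_congr rfl hfib, Finset.sum_const, card_K176]
  rfl

open Classical in
/-- the first family in the lattice -/
noncomputable def l330 (k : ℕ) : ↥leechLattice :=
  if h : oK k ∈ leechLattice then ⟨oK k, h⟩ else 0

open Classical in
/-- the second family in the lattice -/
noncomputable def l462 (a : ℕ × GolayPt) : ↥leechLattice :=
  if h : f462 a.1 a.2 ∈ leechLattice then ⟨f462 a.1 a.2, h⟩ else 0

open Classical in
/-- the third family in the lattice -/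
noncomputable def l1232 (a : ℕ × GolayPt) : ↥leechLattice :=
  if h : f1232 a.1 a.2 ∈ leechLattice then ⟨f1232 a.1 a.2, h⟩ else 0

theorem oL_val330 (k : ℕ) (hk : k ∈ K330) : (l330 k).1 = oK k := by
  rw [mem_K330] at hk
  unfold l330
  rw [dif_pos (f330_ok k hk.1 hk.2).1]

theorem l462_val (a : ℕ × GolayPt) (ha : a ∈ P462) : (l462 a).1 = f462 a.1 a.2 := by
  rw [mem_P462] at ha
  unfold l462
  rw [dif_pos (f462_ok a.1 ha.1 a.2 ha.2.1 ha.2.2.1 ha.2.2.2).1]

theorem l1232_val (a : ℕ × GolayPt) (ha : a ∈ P1232) : (l1232 a).1 = f1232 a.1 a.2 := by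
  rw [mem_P1232, mem_K176] at ha
  unfold l1232
  rw [dif_pos (f1232_ok a.1 ha.1.1 ha.1.2 a.2 ha.2.1 ha.2.2).1]

theorem oL_mem330 (k : ℕ) (hk : k ∈ K330) : l330 k ∈ X0 ∧ dotInt B0.1 (l330 k).1 = 0 := by
  have hv := oL_val330 k hk
  rw [mem_K330] at hk
  have h := f330_ok k hk.1 hk.2
  refine ⟨⟨?_, ?_, ?_⟩, ?_⟩
  · rw [hv]; exact h.2.1
  · rw [hv]; exact h.2.2.1
  · rw [hv]; exact h.2.2.2.1
  · rw [hv]; exact h.2.2.2.2

theorem l462_mem (a : ℕ × GolayPt) (ha : a ∈ P462) :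
    l462 a ∈ X0 ∧ dotInt B0.1 (l462 a).1 = 16 := by
  have hv := l462_val a ha
  rw [mem_P462] at ha
  have h := f462_ok a.1 ha.1 a.2 ha.2.1 ha.2.2.1 ha.2.2.2
  refine ⟨⟨?_, ?_, ?_⟩, ?_⟩
  · rw [hv]; exact h.2.1
  · rw [hv]; exact h.2.2.1
  · rw [hv]; exact h.2.2.2.1
  · rw [hv]; exact h.2.2.2.2

theorem l1232_mem (a : ℕ × GolayPt) (ha : a ∈ P1232) :
    l1232 a ∈ X0 ∧ dotInt B0.1 (l1232 a).1 = 8 := by
  have hv := l1232_val a ha
  rw [mem_P1232, mem_K176] at ha
  have h := f1232_ok a.1 ha.1.1 ha.1.2 a.2 ha.2.1 ha.2.2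
  refine ⟨⟨?_, ?_, ?_⟩, ?_⟩
  · rw [hv]; exact h.2.1
  · rw [hv]; exact h.2.2.1
  · rw [hv]; exact h.2.2.2.1
  · rw [hv]; exact h.2.2.2.2

/-! ### injectivity of the parametrisations -/

theorem Cw_supp_inj (k k' : ℕ) (hk : k < 4096) (hk' : k' < 4096)
    (h : ∀ q, Cw k q ≠ 0 ↔ Cw k' q ≠ 0) : k = k' := by
  apply Cw_injOn hk hk'
  funext q
  rcases zmod2_eq (Cw k q) with a | a <;> rcases zmod2_eq (Cw k' q) with b | b
  · rw [a, b]
  · exfalso
    exact (h q).2 (by rw [b]; exact one_ne_zero) a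
  · exfalso
    exact (h q).1 (by rw [a]; exact one_ne_zero) b
  · rw [a, b]

theorem oL_inj330 (k k' : ℕ) (hk : k ∈ K330) (hk' : k' ∈ K330) (h : l330 k = l330 k') :
    k = k' := by
  have h1 : oK k = oK k' := by
    rw [← oL_val330 k hk, ← oL_val330 k' hk', h]
  rw [mem_K330] at hk hk'
  apply Cw_supp_inj k k' hk.1 hk'.1
  intro q
  have h2 := congrFun h1 q
  unfold oK at h2
  by_cases a : Cw k q ≠ 0 <;> by_cases b : Cw k' q ≠ 0
  · exact ⟨fun _ => b, fun _ => a⟩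
  · rw [if_pos a, if_neg b] at h2
    omega
  · rw [if_neg a, if_pos b] at h2
    omega
  · exact ⟨fun x => absurd x a, fun x => absurd x b⟩

theorem l462_inj (a a' : ℕ × GolayPt) (ha : a ∈ P462) (ha' : a' ∈ P462) (h : l462 a = l462 a') :
    a = a' := by
  have h1 : f462 a.1 a.2 = f462 a'.1 a'.2 := by
    rw [← l462_val a ha, ← l462_val a' ha', h]
  obtain ⟨k, p⟩ := a
  obtain ⟨k', p'⟩ := a'
  rw [mem_P462] at ha ha'
  obtain ⟨hk, hp0, hp1, hp⟩ := ha
  obtain ⟨hk', hp0', hp1', hp'⟩ := ha'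
  have f0 := (K77_flags k hk).2
  have f0' := (K77_flags k' hk').2
  rw [mem_K77] at hk hk'
  simp only at h1 hp0 hp1 hp hp0' hp1' hp' f0 f0'
  have hpp : p = p' := by
    by_contra hne
    have h2 := congrFun h1 p
    unfold f462 at h2
    rw [if_pos rfl, if_neg hne, if_neg hp1] at h2
    by_cases b : Cw k' p ≠ 0
    · rw [if_pos b] at h2
      omega
    · rw [if_neg b] at h2
      omega
  subst hpp
  have hkk : k = k' := by
    apply Cw_supp_inj k k' hk.1 hk'.1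
    intro q
    by_cases hq : q = p
    · rw [hq]
      exact ⟨fun _ => hp', fun _ => hp⟩
    by_cases hq0 : q = some 0
    · rw [hq0]
      exact ⟨fun _ => f0', fun _ => f0⟩
    have h2 := congrFun h1 q
    unfold f462 at h2
    rw [if_neg hq, if_neg hq0, if_neg hq, if_neg hq0] at h2
    by_cases a : Cw k q ≠ 0 <;> by_cases b : Cw k' q ≠ 0
    · exact ⟨fun _ => b, fun _ => a⟩
    · rw [if_pos a, if_neg b] at h2
      omega
    · rw [if_neg a, if_pos b] at h2
      omega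
    · exact ⟨fun x => absurd x a, fun x => absurd x b⟩
  rw [hkk]

theorem l1232_inj (a a' : ℕ × GolayPt) (ha : a ∈ P1232) (ha' : a' ∈ P1232)
    (h : l1232 a = l1232 a') : a = a' := by
  have h1 : f1232 a.1 a.2 = f1232 a'.1 a'.2 := by
    rw [← l1232_val a ha, ← l1232_val a' ha', h]
  obtain ⟨k, p⟩ := a
  obtain ⟨k', p'⟩ := a'
  rw [mem_P1232] at ha ha'
  obtain ⟨hk, hp1, hp⟩ := ha
  obtain ⟨hk', hp1', hp'⟩ := ha'
  rw [mem_K176] at hk hk'
  simp only at h1 hp1 hp hp1' hp'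
  have hpp : p = p' := by
    by_contra hne
    have h2 := congrFun h1 p
    unfold f1232 at h2
    rw [if_pos rfl, if_neg hne] at h2
    by_cases b : Cw k' p ≠ 0
    · rw [if_pos b] at h2
      omega
    · rw [if_neg b] at h2
      omega
  subst hpp
  have hkk : k = k' := by
    apply Cw_supp_inj k k' hk.1 hk'.1
    intro q
    by_cases hq : q = p
    · rw [hq]
      exact ⟨fun _ => hp', fun _ => hp⟩
    have h2 := congrFun h1 q
    unfold f1232 at h2
    rw [if_neg hq, if_neg hq] at h2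
    by_cases a : Cw k q ≠ 0 <;> by_cases b : Cw k' q ≠ 0
    · exact ⟨fun _ => b, fun _ => a⟩
    · rw [if_pos a, if_neg b] at h2
      omega
    · rw [if_neg a, if_pos b] at h2
      omega
    · exact ⟨fun x => absurd x a, fun x => absurd x b⟩
  rw [hkk]

/-! ### the families lie in single orbits -/

theorem orbit330 (k k' : ℕ) (hk : k ∈ K330) (hk' : k' ∈ K330) :
    l330 k' ∈ orbit ↥T0 (l330 k) := by
  have hv := oL_val330 k hk
  have hv' := oL_val330 k' hk'
  rw [mem_K330] at hk hk'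
  obtain ⟨π, hπ, h0, h1, hq⟩ := trans330 k k' hk.1 hk'.1 hk.2 hk'.2
  refine ⟨tau π hπ h0 h1, ?_⟩
  apply Subtype.ext
  funext p
  show (tau π hπ h0 h1 • l330 k).1 p = (l330 k').1 p
  rw [tau_smul, hv, hv']
  unfold oK
  exact if_congr (hq p) rfl rfl

theorem orbit462 (a a' : ℕ × GolayPt) (ha : a ∈ P462) (ha' : a' ∈ P462) :
    l462 a' ∈ orbit ↥T0 (l462 a) := by
  have hv := l462_val a ha
  have hv' := l462_val a' ha'
  rw [mem_P462] at ha ha'
  obtain ⟨hk, hp0, hp1, hp⟩ := ha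
  obtain ⟨hk', hp0', hp1', hp'⟩ := ha'
  obtain ⟨π, hπ, h0, h1, hq, hpp⟩ := trans462 a.1 a'.1 hk hk' a.2 a'.2 hp0 hp1 hp hp0' hp1' hp'
  refine ⟨tau π hπ h0 h1, ?_⟩
  apply Subtype.ext
  funext q
  show (tau π hπ h0 h1 • l462 a).1 q = (l462 a').1 q
  rw [tau_smul, hv, hv']
  have e1 : π q = a.2 ↔ q = a'.2 :=
    ⟨fun h => π.injective (h.trans hpp.symm), fun h => by rw [h]; exact hpp⟩
  have e2 : π q = some 0 ↔ q = some 0 :=
    ⟨fun h => π.injective (h.trans h1.symm), fun h => by rw [h]; exact h1⟩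
  unfold f462
  exact if_congr e1 rfl (if_congr e2 rfl (if_congr (hq q) rfl rfl))

theorem orbit1232 (a a' : ℕ × GolayPt) (ha : a ∈ P1232) (ha' : a' ∈ P1232) :
    l1232 a' ∈ orbit ↥T0 (l1232 a) := by
  have hv := l1232_val a ha
  have hv' := l1232_val a' ha'
  rw [mem_P1232, mem_K176] at ha ha'
  obtain ⟨hk, hp1, hp⟩ := ha
  obtain ⟨hk', hp1', hp'⟩ := ha'
  obtain ⟨π, hπ, h0, h1, hq, hpp⟩ :=
    trans1232 a.1 a'.1 hk.1 hk'.1 hk.2 hk'.2 a.2 a'.2 hp1 hp hp1' hp'
  refine ⟨tau π hπ h0 h1, ?_⟩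
  apply Subtype.ext
  funext q
  show (tau π hπ h0 h1 • l1232 a).1 q = (l1232 a').1 q
  rw [tau_smul, hv, hv']
  have e1 : π q = a.2 ↔ q = a'.2 :=
    ⟨fun h => π.injective (h.trans hpp.symm), fun h => by rw [h]; exact hpp⟩
  unfold f1232
  exact if_congr e1 rfl (if_congr (hq q) rfl rfl)

/-! ### the orbits -/

theorem lower_bound {ι : Type*} [DecidableEq ι] (s : Finset ι) (f : ι → ↥leechLattice)
    (hinj : ∀ a ∈ s, ∀ b ∈ s, f a = f b → a = b) (O : Set ↥leechLattice) (hO : O.Finite)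
    (hsub : ∀ a ∈ s, f a ∈ O) : s.card ≤ O.ncard := by
  classical
  rw [← Finset.card_image_of_injOn (f := f) (s := s) (fun a ha b hb h => hinj a ha b hb h),
    ← Set.ncard_coe_finset]
  apply Set.ncard_le_ncard _ hO
  intro y hy
  rw [Finset.mem_coe, Finset.mem_image] at hy
  obtain ⟨a, ha, rfl⟩ := hy
  exact hsub a ha

/-- the orbits of the stabiliser of the standard triple -/
theorem orbits_std : ∃ y1 ∈ X0, ∃ y2 ∈ X0, ∃ y3 ∈ X0,
    (orbit ↥T0 y1).ncard = 330 ∧ (orbit ↥T0 y2).ncard = 462 ∧ (orbit ↥T0 y3).ncard = 1232 ∧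
    dotInt B0.1 y1.1 = 0 ∧ dotInt B0.1 y2.1 = 16 ∧ dotInt B0.1 y3.1 = 8 ∧
    X0 = {B0} ∪ orbit ↥T0 y1 ∪ orbit ↥T0 y2 ∪ orbit ↥T0 y3 := by
  classical
  obtain ⟨k1, hk1⟩ : K330.Nonempty := Finset.card_pos.1 (by rw [card_K330]; norm_num)
  obtain ⟨a2, ha2⟩ : P462.Nonempty := Finset.card_pos.1 (by rw [card_P462]; norm_num)
  obtain ⟨a3, ha3⟩ : P1232.Nonempty := Finset.card_pos.1 (by rw [card_P1232]; norm_num)
  obtain ⟨m1, d1⟩ := oL_mem330 k1 hk1
  obtain ⟨m2, d2⟩ := l462_mem a2 ha2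
  obtain ⟨m3, d3⟩ := l1232_mem a3 ha3
  set O1 := orbit ↥T0 (l330 k1) with hO1
  set O2 := orbit ↥T0 (l462 a2) with hO2
  set O3 := orbit ↥T0 (l1232 a3) with hO3
  have s1 : O1 ⊆ X0 := orbit_sub_X0 _ m1
  have s2 : O2 ⊆ X0 := orbit_sub_X0 _ m2
  have s3 : O3 ⊆ X0 := orbit_sub_X0 _ m3
  have f1 : O1.Finite := X0_finite.subset s1
  have f2 : O2.Finite := X0_finite.subset s2
  have f3 : O3.Finite := X0_finite.subset s3
  have l1 : 330 ≤ O1.ncard := by
    rw [← card_K330]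
    exact lower_bound K330 l330 (fun a ha b hb h => oL_inj330 a b ha hb h) O1 f1
      (fun a ha => orbit330 k1 a hk1 ha)
  have l2 : 462 ≤ O2.ncard := by
    rw [← card_P462]
    exact lower_bound P462 l462 (fun a ha b hb h => l462_inj a b ha hb h) O2 f2
      (fun a ha => orbit462 a2 a ha2 ha)
  have l3 : 1232 ≤ O3.ncard := by
    rw [← card_P1232]
    exact lower_bound P1232 l1232 (fun a ha b hb h => l1232_inj a b ha hb h) O3 f3
      (fun a ha => orbit1232 a3 a ha3 ha)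
  have e1 : ∀ z ∈ O1, dotInt B0.1 z.1 = 0 := fun z hz => (orbit_dot _ z hz).trans d1
  have e2 : ∀ z ∈ O2, dotInt B0.1 z.1 = 16 := fun z hz => (orbit_dot _ z hz).trans d2
  have e3 : ∀ z ∈ O3, dotInt B0.1 z.1 = 8 := fun z hz => (orbit_dot _ z hz).trans d3
  have eB : dotInt B0.1 B0.1 = 32 := frame2_chk.2.2.2.2.2
  have dB1 : Disjoint ({B0} : Set ↥leechLattice) O1 := by
    rw [Set.disjoint_singleton_left]
    intro h
    have := e1 _ h
    omega
  have d12 : Disjoint (({B0} : Set ↥leechLattice) ∪ O1) O2 := by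
    rw [Set.disjoint_union_left, Set.disjoint_singleton_left]
    refine ⟨fun h => ?_, Set.disjoint_left.2 fun z h1 h2 => ?_⟩
    · have := e2 _ h
      omega
    · have := e1 z h1
      have := e2 z h2
      omega
  have d123 : Disjoint (({B0} : Set ↥leechLattice) ∪ O1 ∪ O2) O3 := by
    rw [Set.disjoint_union_left, Set.disjoint_union_left, Set.disjoint_singleton_left]
    refine ⟨⟨fun h => ?_, Set.disjoint_left.2 fun z h1 h2 => ?_⟩,
      Set.disjoint_left.2 fun z h1 h2 => ?_⟩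
    · have := e3 _ h
      omega
    · have := e1 z h1
      have := e3 z h2
      omega
    · have := e2 z h1
      have := e3 z h2
      omega
  have hU : ({B0} : Set ↥leechLattice) ∪ O1 ∪ O2 ∪ O3 ⊆ X0 := by
    rintro z (((hz | hz) | hz) | hz)
    · rw [Set.mem_singleton_iff.1 hz]
      exact B0_mem_X0
    · exact s1 hz
    · exact s2 hz
    · exact s3 hz
  have hcard : (({B0} : Set ↥leechLattice) ∪ O1 ∪ O2 ∪ O3).ncard
      = 1 + O1.ncard + O2.ncard + O3.ncard := by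
    rw [Set.ncard_union_eq d123 (((Set.finite_singleton _).union f1).union f2) f3,
      Set.ncard_union_eq d12 ((Set.finite_singleton _).union f1) f2,
      Set.ncard_union_eq dB1 (Set.finite_singleton _) f1, Set.ncard_singleton]
  have hle := Set.ncard_le_ncard hU X0_finite
  rw [hcard, X0_ncard] at hle
  have c1 : O1.ncard = 330 := by omega
  have c2 : O2.ncard = 462 := by omega
  have c3 : O3.ncard = 1232 := by omega
  refine ⟨l330 k1, m1, l462 a2, m2, l1232 a3, m3, c1, c2, c3, d1, d2, d3, ?_⟩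
  symm
  apply Set.eq_of_subset_of_ncard_le hU _ X0_finite
  rw [hcard, X0_ncard]
  omega

end Cfsg.Agent.Lib.Lead.ML
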