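import Mathlib
import Cfsg.Agent.Lib.Lead.Rank3Simple

set_option autoImplicit false
set_option linter.unusedSectionVars false
set_option linter.style.haveILetI false

/-!
# A simplicity criterion for rank 4 groups of degree 2025

A finite group of order divisible by 11 acting faithfully and transitively on 2025 points, with a
simple point stabiliser having exactly three further orbits, of sizes 330, 462 and 1232, is simple.
-/

namespace Cfsg.Agent.Lib.Lead.R4S

open MulAction Cfsg.Agent.Lib.Lead.R3S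
open scoped Pointwise

section Coprime

variable {G : Type*} [Group G]

/-- conjugation action of a subgroup of the normaliser -/
@[reducible] def conjAct' (K P : Subgroup G) (h : K ≤ Subgroup.normalizer (P : Set G)) : MulAction ↥K ↥P where
  smul k x := ⟨k.1 * x.1 * k.1⁻¹, (Subgroup.mem_normalizer_iff.1 (h k.2) x.1).1 x.2⟩
  one_smul x := Subtype.ext (by
    show (1 : G) * x.1 * (1 : G)⁻¹ = x.1
    rw [one_mul, inv_one, mul_one])
  mul_smul a b x := Subtype.ext (by
    show (a.1 * b.1) * x.1 * (a.1 * b.1)⁻¹ = a.1 * (b.1 * x.1 * b.1⁻¹) * a.1⁻¹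
    group)

theorem card_fixed (K P : Subgroup G) (h : K ≤ Subgroup.normalizer (P : Set G)) :
    Nat.card ↥(@MulAction.fixedPoints ↥K ↥P _ (conjAct' K P h))
      = Nat.card ↥(P ⊓ Subgroup.centralizer (K : Set G)) := by
  letI := conjAct' K P h
  apply Nat.card_congr
  refine
    { toFun := fun x => ⟨x.1.1, x.1.2, ?_⟩
      invFun := fun y => ⟨⟨y.1, y.2.1⟩, ?_⟩
      left_inv := fun _ => rfl
      right_inv := fun _ => rfl }
  · show x.1.1 ∈ Subgroup.centralizer (K : Set G)
    rw [Subgroup.mem_centralizer_iff]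
    intro k hk
    have h1 := congrArg Subtype.val (x.2 ⟨k, hk⟩)
    have h2 : k * x.1.1 * k⁻¹ = x.1.1 := h1
    exact mul_inv_eq_iff_eq_mul.1 h2
  · intro k
    apply Subtype.ext
    show k.1 * y.1 * k.1⁻¹ = y.1
    have h1 := (Subgroup.mem_centralizer_iff.1 y.2.2) k.1 k.2
    rw [h1, mul_inv_cancel_right]

/-- fixed points of a coprime action by conjugation -/
theorem card_modEq_centralizer (K P : Subgroup G) [Finite ↥P]
    (h : K ≤ Subgroup.normalizer (P : Set G)) (q : ℕ) [Fact q.Prime] (hK : IsPGroup q ↥K) :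
    Nat.card ↥P ≡ Nat.card ↥(P ⊓ Subgroup.centralizer (K : Set G)) [MOD q] := by
  letI := conjAct' K P h
  rw [← card_fixed K P h]
  exact hK.card_modEq_card_fixedPoints ↥P

/-- a regular normal subgroup of order 2025 is centralised by an element of order 11 -/
theorem exists_central_of_regular [Finite G] (N : Subgroup G) [N.Normal]
    (hN : Nat.card ↥N = 2025) (h11 : 11 ∣ Nat.card G) :
    ∃ g : G, orderOf g = 11 ∧ ∀ n ∈ N, g * n = n * g := by
  classical
  haveI : Fact (Nat.Prime 5) := ⟨by norm_num⟩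
  haveI : Fact (Nat.Prime 11) := ⟨by norm_num⟩
  let P : Sylow 5 ↥N := default
  have hP25 : Nat.card ↥(P : Subgroup ↥N) = 25 := by
    obtain ⟨k, hk⟩ := IsPGroup.exists_card_eq P.2
    have hmul := (P : Subgroup ↥N).card_mul_index
    rw [hN] at hmul
    have hnd := P.not_dvd_index
    have hk' : Nat.card ↥(P : Subgroup ↥N) = 5 ^ k := hk
    rw [hk'] at hmul ⊢
    have hk5 : k < 5 := by
      by_contra hge
      push Not at hge
      have : 5 ^ 5 ≤ 5 ^ k := Nat.pow_le_pow_right (by norm_num) hge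
      have hpos : 0 < (P : Subgroup ↥N).index := by
        rcases Nat.eq_zero_or_pos (P : Subgroup ↥N).index with h0 | h0
        · rw [h0] at hmul
          omega
        · exact h0
      nlinarith
    interval_cases k
    · exfalso
      apply hnd
      have : (P : Subgroup ↥N).index = 2025 := by omega
      rw [this]
      norm_num
    · exfalso
      apply hnd
      have : (P : Subgroup ↥N).index = 405 := by omega
      rw [this]
      norm_num
    · norm_num
    · exfalso
      norm_num at hmul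
      omega
    · exfalso
      norm_num at hmul
      omega
  set P' : Subgroup G := (P : Subgroup ↥N).map N.subtype with hP'
  have hP'card : Nat.card ↥P' = 25 := by
    rw [← Nat.card_congr ((P : Subgroup ↥N).equivMapOfInjective N.subtype
      N.subtype_injective).toEquiv]
    exact hP25
  have hP'le : P' ≤ N := Subgroup.map_subtype_le _
  have hF : Subgroup.normalizer (P' : Set G) ⊔ N = ⊤ := Sylow.normalizer_sup_eq_top P
  set H : Subgroup G := Subgroup.normalizer (P' : Set G) with hH
  have h11H : 11 ∣ Nat.card ↥H := by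
    have h1 : N.relIndex (H ⊔ N) = N.relIndex H := Subgroup.relIndex_sup_right H N
    rw [hF, Subgroup.relIndex_top_right] at h1
    have h2 : N.relIndex H ∣ Nat.card ↥H := Subgroup.relIndex_dvd_card N H
    have h3 := N.card_mul_index
    rw [hN] at h3
    have h4 : 11 ∣ N.index := by
      have : 11 ∣ 2025 * N.index := by
        rw [h3]
        exact h11
      exact Nat.Coprime.dvd_of_dvd_mul_left (by norm_num : Nat.Coprime 11 2025) this
    rw [h1] at h4
    exact dvd_trans h4 h2
  obtain ⟨g0, hg0⟩ := exists_prime_orderOf_dvd_card' 11 h11H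
  set g : G := g0.1 with hgdef
  have hg : orderOf g = 11 := by
    rw [← hg0]
    exact Subgroup.orderOf_coe g0
  set K : Subgroup G := Subgroup.zpowers g with hKdef
  have hKle : K ≤ H := Subgroup.zpowers_le.2 g0.2
  have hKp : IsPGroup 11 ↥K :=
    IsPGroup.of_card (n := 1) (by rw [Nat.card_zpowers, hg, pow_one])
  have hcen1 : P' ≤ Subgroup.centralizer (K : Set G) := by
    haveI : Finite ↥P' := Nat.finite_of_card_ne_zero (by rw [hP'card]; norm_num)
    have hm := card_modEq_centralizer K P' hKle 11 hKp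
    rw [hP'card] at hm
    have hd : Nat.card ↥(P' ⊓ Subgroup.centralizer (K : Set G)) ∣ 25 := by
      rw [← hP'card]
      exact Subgroup.card_dvd_of_le inf_le_left
    have heq : Nat.card ↥(P' ⊓ Subgroup.centralizer (K : Set G)) = 25 := by
      have hle := Nat.le_of_dvd (by norm_num) hd
      unfold Nat.ModEq at hm
      generalize Nat.card ↥(P' ⊓ Subgroup.centralizer (K : Set G)) = m at hm hd hle ⊢
      interval_cases m <;> omega
    have := Subgroup.eq_of_le_of_card_ge
      (inf_le_left : P' ⊓ Subgroup.centralizer (K : Set G) ≤ P') (by rw [heq, hP'card])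
    rw [← this]
    exact inf_le_right
  have hcen2 : N ≤ Subgroup.centralizer (K : Set G) := by
    have hKN : K ≤ Subgroup.normalizer (N : Set G) := by
      rw [Subgroup.normalizer_eq_top]
      exact le_top
    have hm := card_modEq_centralizer K N hKN 11 hKp
    rw [hN] at hm
    have hd : Nat.card ↥(N ⊓ Subgroup.centralizer (K : Set G)) ∣ 2025 := by
      rw [← hN]
      exact Subgroup.card_dvd_of_le inf_le_left
    have h25 : 25 ∣ Nat.card ↥(N ⊓ Subgroup.centralizer (K : Set G)) := by
      rw [← hP'card]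
      exact Subgroup.card_dvd_of_le (le_inf hP'le hcen1)
    have heq : Nat.card ↥(N ⊓ Subgroup.centralizer (K : Set G)) = 2025 := by
      unfold Nat.ModEq at hm
      generalize Nat.card ↥(N ⊓ Subgroup.centralizer (K : Set G)) = m at hm hd h25 ⊢
      obtain ⟨t, rfl⟩ := h25
      have ht81 : t ∣ 81 := by
        have h' : 25 * t ∣ 25 * 81 := by
          norm_num
          exact hd
        exact Nat.dvd_of_mul_dvd_mul_left (by norm_num) h'
      have hle := Nat.le_of_dvd (by norm_num) ht81
      interval_cases t <;> omega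
    have := Subgroup.eq_of_le_of_card_ge
      (inf_le_left : N ⊓ Subgroup.centralizer (K : Set G) ≤ N) (by rw [heq, hN])
    rw [← this]
    exact inf_le_right
  refine ⟨g, hg, fun n hn => ?_⟩
  have := hcen2 hn
  rw [Subgroup.mem_centralizer_iff] at this
  exact this g (Subgroup.mem_zpowers g)

end Coprime

variable {G Y : Type*} [Group G] [Finite G] [MulAction G Y]

variable (x0 : Y) (S1 S2 S3 : Set Y)

/-- the hypotheses of the criterion -/
structure Hyp4 : Prop where
  hX : orbit G x0 = {x0} ∪ S1 ∪ S2 ∪ S3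
  hx1 : x0 ∉ S1
  hx2 : x0 ∉ S2
  hx3 : x0 ∉ S3
  hd12 : Disjoint S1 S2
  hd13 : Disjoint S1 S3
  hd23 : Disjoint S2 S3
  hc : (stabilizer G x0).index = 2025
  h1 : S1.ncard = 330
  h2 : S2.ncard = 462
  h3 : S3.ncard = 1232
  ht1 : ∀ y ∈ S1, ∀ y' ∈ S1, ∃ g ∈ stabilizer G x0, g • y = y'
  ht2 : ∀ y ∈ S2, ∀ y' ∈ S2, ∃ g ∈ stabilizer G x0, g • y = y'
  ht3 : ∀ y ∈ S3, ∀ y' ∈ S3, ∃ g ∈ stabilizer G x0, g • y = y'
  hK : IsSimpleGroup ↥(stabilizer G x0)
  hfaith : ∀ g : G, (∀ y ∈ orbit G x0, g • y = y) → g = 1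
  h11 : 11 ∣ Nat.card G

variable {x0 S1 S2 S3}

/-- the part of a suborbit met by an invariant set is all or nothing -/
theorem inter_cases (O S : Set Y) (n : ℕ) (hn : S.ncard = n)
    (hfull : (∃ y ∈ S, y ∈ O) → S ⊆ O) : (S ∩ O).ncard = 0 ∨ (S ∩ O).ncard = n := by
  by_cases e : ∃ y ∈ S, y ∈ O
  · right
    rw [Set.inter_eq_left.2 (hfull e), hn]
  · left
    have : S ∩ O = ∅ := by
      ext y
      simp only [Set.mem_inter_iff, Set.mem_empty_iff_false, iff_false, not_and]
      intro hy hyO
      exact e ⟨y, hy, hyO⟩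
    rw [this, Set.ncard_empty]

theorem ncard_orb_cases4 (h : Hyp4 (G := G) x0 S1 S2 S3) (N : Subgroup G) [N.Normal] :
    (orb N x0).ncard = 1 ∨ (orb N x0).ncard = 2025 := by
  classical
  have hf1 : S1.Finite := Set.finite_of_ncard_ne_zero (by rw [h.h1]; norm_num)
  have hf2 : S2.Finite := Set.finite_of_ncard_ne_zero (by rw [h.h2]; norm_num)
  have hf3 : S3.Finite := Set.finite_of_ncard_ne_zero (by rw [h.h3]; norm_num)
  have hx0 : x0 ∈ orb N x0 := ⟨1, N.one_mem, one_smul _ _⟩
  have full1 : (∃ y ∈ S1, y ∈ orb N x0) → S1 ⊆ orb N x0 := by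
    rintro ⟨y, hy, hyO⟩ y' hy'
    obtain ⟨g, hg, rfl⟩ := h.ht1 y hy y' hy'
    exact orb_inv N g hg y hyO
  have full2 : (∃ y ∈ S2, y ∈ orb N x0) → S2 ⊆ orb N x0 := by
    rintro ⟨y, hy, hyO⟩ y' hy'
    obtain ⟨g, hg, rfl⟩ := h.ht2 y hy y' hy'
    exact orb_inv N g hg y hyO
  have full3 : (∃ y ∈ S3, y ∈ orb N x0) → S3 ⊆ orb N x0 := by
    rintro ⟨y, hy, hyO⟩ y' hy'
    obtain ⟨g, hg, rfl⟩ := h.ht3 y hy y' hy'
    exact orb_inv N g hg y hyO
  have hsub : orb N x0 ⊆ {x0} ∪ S1 ∪ S2 ∪ S3 := by
    rw [← h.hX]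
    exact orb_sub N
  have hdec : orb N x0 = {x0} ∪ S1 ∩ orb N x0 ∪ S2 ∩ orb N x0 ∪ S3 ∩ orb N x0 := by
    apply Set.Subset.antisymm
    · intro y hy
      rcases hsub hy with ((hy' | hy') | hy') | hy'
      · exact Or.inl (Or.inl (Or.inl hy'))
      · exact Or.inl (Or.inl (Or.inr ⟨hy', hy⟩))
      · exact Or.inl (Or.inr ⟨hy', hy⟩)
      · exact Or.inr ⟨hy', hy⟩
    · rintro y (((hy | hy) | hy) | hy)
      · rw [Set.mem_singleton_iff.1 hy]
        exact hx0
      · exact hy.2
      · exact hy.2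
      · exact hy.2
  have g1 : (S1 ∩ orb N x0).Finite := hf1.subset Set.inter_subset_left
  have g2 : (S2 ∩ orb N x0).Finite := hf2.subset Set.inter_subset_left
  have g3 : (S3 ∩ orb N x0).Finite := hf3.subset Set.inter_subset_left
  have d1 : Disjoint ({x0} : Set Y) (S1 ∩ orb N x0) :=
    Set.disjoint_singleton_left.2 (fun hh => h.hx1 hh.1)
  have d2 : Disjoint (({x0} : Set Y) ∪ S1 ∩ orb N x0) (S2 ∩ orb N x0) := by
    rw [Set.disjoint_union_left]
    exact ⟨Set.disjoint_singleton_left.2 (fun hh => h.hx2 hh.1),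
      h.hd12.mono Set.inter_subset_left Set.inter_subset_left⟩
  have d3 : Disjoint (({x0} : Set Y) ∪ S1 ∩ orb N x0 ∪ S2 ∩ orb N x0) (S3 ∩ orb N x0) := by
    rw [Set.disjoint_union_left, Set.disjoint_union_left]
    exact ⟨⟨Set.disjoint_singleton_left.2 (fun hh => h.hx3 hh.1),
      h.hd13.mono Set.inter_subset_left Set.inter_subset_left⟩,
      h.hd23.mono Set.inter_subset_left Set.inter_subset_left⟩
  have hcard : (orb N x0).ncard = 1 + (S1 ∩ orb N x0).ncard + (S2 ∩ orb N x0).ncard
      + (S3 ∩ orb N x0).ncard := by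
    conv_lhs => rw [hdec]
    rw [Set.ncard_union_eq d3 (((Set.finite_singleton _).union g1).union g2) g3,
      Set.ncard_union_eq d2 ((Set.finite_singleton _).union g1) g2,
      Set.ncard_union_eq d1 (Set.finite_singleton _) g1, Set.ncard_singleton]
  have hdvd := ncard_orb_dvd N x0
  rw [h.hc, hcard] at hdvd
  rw [hcard]
  rcases inter_cases (orb N x0) S1 330 h.h1 full1 with c1 | c1 <;>
  rcases inter_cases (orb N x0) S2 462 h.h2 full2 with c2 | c2 <;>
  rcases inter_cases (orb N x0) S3 1232 h.h3 full3 with c3 | c3 <;>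
  rw [c1, c2, c3] at hdvd ⊢
  · left; rfl
  · exfalso; revert hdvd; decide
  · exfalso; revert hdvd; decide
  · exfalso; revert hdvd; decide
  · exfalso; revert hdvd; decide
  · exfalso; revert hdvd; decide
  · exfalso; revert hdvd; decide
  · right; rfl

/-- a normal subgroup fixing the base point is trivial -/
theorem eq_bot_of_ncard_one4 (h : Hyp4 (G := G) x0 S1 S2 S3) (N : Subgroup G) [hN : N.Normal]
    (h1 : (orb N x0).ncard = 1) : N = ⊥ := by
  have hK := h.hK
  have hle : N ≤ stabilizer G x0 := by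
    intro n hn
    rw [mem_stabilizer_iff]
    obtain ⟨a, ha⟩ := Set.ncard_eq_one.1 h1
    have m1 : n • x0 ∈ orb N x0 := ⟨n, hn, rfl⟩
    have m2 : x0 ∈ orb N x0 := ⟨1, N.one_mem, one_smul _ _⟩
    rw [ha, Set.mem_singleton_iff] at m1 m2
    rw [m1, m2]
  have hnorm : (N.subgroupOf (stabilizer G x0)).Normal := hN.subgroupOf _
  rcases hK.eq_bot_or_eq_top_of_normal _ hnorm with hb | ht
  · rw [Subgroup.subgroupOf_eq_bot] at hb
    exact disjoint_self.1 (hb.mono_right hle)
  · exfalso
    rw [Subgroup.subgroupOf_eq_top] at ht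
    have hEq : N = stabilizer G x0 := le_antisymm hle ht
    have htriv : ∀ k ∈ stabilizer G x0, k = 1 := by
      intro k hk
      apply h.hfaith
      rintro y ⟨g, rfl⟩
      have hk' : g⁻¹ * k * g ∈ stabilizer G x0 := by
        rw [← hEq]
        have := hN.conj_mem k (hEq ▸ hk) g⁻¹
        rwa [inv_inv] at this
      have : (g⁻¹ * k * g) • x0 = x0 := mem_stabilizer_iff.1 hk'
      show k • g • x0 = g • x0
      calc k • g • x0 = g • (g⁻¹ * k * g) • x0 := by
            rw [← mul_smul, ← mul_smul]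
            congr 1
            group
        _ = g • x0 := by rw [this]
    obtain ⟨a, b, hab⟩ := hK.toNontrivial.exists_pair_ne
    apply hab
    apply Subtype.ext
    rw [htriv a.1 a.2, htriv b.1 b.2]

/-- there is no regular normal subgroup -/
theorem no_regular (h : Hyp4 (G := G) x0 S1 S2 S3) (N : Subgroup G) [hN : N.Normal]
    (hO : (orb N x0).ncard = 2025) (hcardN : Nat.card ↥N = 2025) : False := by
  classical
  haveI : Fact (Nat.Prime 11) := ⟨by norm_num⟩
  obtain ⟨g, hg, hcomm⟩ := exists_central_of_regular N hcardN h.h11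
  have hXc : (orbit G x0).ncard = 2025 := by rw [← index_stabilizer, h.hc]
  have hXf : (orbit G x0).Finite := Set.finite_of_ncard_ne_zero (by rw [hXc]; norm_num)
  have htrans : orb N x0 = orbit G x0 :=
    Set.eq_of_subset_of_ncard_le (orb_sub N) (by rw [hO, hXc]) hXf
  set K : Subgroup G := Subgroup.zpowers g with hKdef
  have hKp : IsPGroup 11 ↥K :=
    IsPGroup.of_card (n := 1) (by rw [Nat.card_zpowers, hg, pow_one])
  haveI : Finite ↥(orbit G x0) := hXf.to_subtype
  have hfp := hKp.card_modEq_card_fixedPoints ↥(orbit G x0)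
  rw [Nat.card_coe_set_eq, hXc] at hfp
  have hne : Nat.card ↥(fixedPoints ↥K ↥(orbit G x0)) ≠ 0 := by
    intro h0
    rw [h0] at hfp
    revert hfp
    decide
  obtain ⟨⟨x, hx⟩, -⟩ := Nat.card_ne_zero.1 hne
  have hgx : g • x.1 = x.1 := congrArg Subtype.val (hx ⟨g, Subgroup.mem_zpowers g⟩)
  have hx' : x.1 ∈ orb N x0 := by
    rw [htrans]
    exact x.2
  obtain ⟨n', hn', hnx⟩ := hx'
  have hall : ∀ y ∈ orbit G x0, g • y = y := by
    intro y hy
    rw [← htrans] at hy
    obtain ⟨n, hn, rfl⟩ := hy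
    have hm : n * n'⁻¹ ∈ N := N.mul_mem hn (N.inv_mem hn')
    have e : n • x0 = (n * n'⁻¹) • x.1 := by
      rw [← hnx, ← mul_smul, inv_mul_cancel_right]
    rw [e, ← mul_smul, hcomm _ hm, mul_smul, hgx]
  have h1 := h.hfaith g hall
  rw [h1, orderOf_one] at hg
  omega

theorem simple4 (h : Hyp4 (G := G) x0 S1 S2 S3) : IsSimpleGroup G := by
  classical
  have hK := h.hK
  haveI : Nontrivial G := by
    obtain ⟨a, b, hab⟩ := hK.toNontrivial.exists_pair_ne
    exact ⟨⟨a.1, b.1, fun e => hab (Subtype.ext e)⟩⟩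
  refine ⟨fun N hN => ?_⟩
  by_contra hcon
  push Not at hcon
  obtain ⟨hNbot, hNtop⟩ := hcon
  have hO : (orb N x0).ncard = 2025 := by
    rcases ncard_orb_cases4 h N with h1 | h1
    · exact absurd (eq_bot_of_ncard_one4 h N h1) hNbot
    · exact h1
  have hnorm : ((N ⊓ stabilizer G x0).subgroupOf (stabilizer G x0)).Normal := by
    have : (N.subgroupOf (stabilizer G x0)).Normal := hN.subgroupOf _
    rwa [Subgroup.inf_subgroupOf_right]
  rw [Subgroup.inf_subgroupOf_right] at hnorm
  rcases hK.eq_bot_or_eq_top_of_normal _ hnorm with hb | ht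
  · -- regular normal subgroup of order 2025
    rw [Subgroup.subgroupOf_eq_bot] at hb
    have hcardN : Nat.card ↥N = 2025 := by
      have h1 := ncard_orb N x0
      rw [hO] at h1
      have h2 : (stabilizer G x0).subgroupOf N = ⊥ := by
        rw [Subgroup.subgroupOf_eq_bot]
        exact hb.symm
      have h3 : (stabilizer G x0).relIndex N = Nat.card ↥N := by
        show ((stabilizer G x0).subgroupOf N).index = _
        rw [h2, Subgroup.index_bot]
      omega
    exact no_regular h N hO hcardN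
  · -- the stabiliser lies in `N`
    rw [Subgroup.subgroupOf_eq_top] at ht
    have hle : stabilizer G x0 ≤ N := ht
    have h1 := ncard_orb (N ⊔ stabilizer G x0) x0
    rw [orb_sup, hO] at h1
    have h2 := Subgroup.relIndex_mul_index (le_sup_right : stabilizer G x0 ≤ N ⊔ stabilizer G x0)
    rw [← h1, h.hc] at h2
    have h3 : (N ⊔ stabilizer G x0).index = 1 := by
      rcases Nat.eq_zero_or_pos (N ⊔ stabilizer G x0).index with h0 | h0
      · rw [h0] at h2
        omega
      · nlinarith
    rw [Subgroup.index_eq_one, sup_eq_left.2 hle] at h3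
    exact hNtop h3

end Cfsg.Agent.Lib.Lead.R4S
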