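import Cfsg.Agent.Lib.Lead.McL4
import Cfsg.Agent.Lib.Lead.ConwayHSGroup2
import Cfsg.Agent.Lib.Lead.Rank4Simple
import Cfsg.Agent.S1575

set_option autoImplicit false
set_option linter.style.haveILetI false

/-!
# The stabiliser of the standard McLaughlin frame is simple of order 898128000
-/

namespace Cfsg.Agent.Lib.Lead.ML

open Cfsg
open Cfsg.Agent.Lib.Lead.LX Cfsg.Agent.Lib.Lead.CW Cfsg.Agent.Lib.Lead.CO Cfsg.Agent.Lib.Lead.CP
open Cfsg.Agent.Lib.helper3 Cfsg.Agent.Lib.helper4 Cfsg.Agent.S0398 Cfsg.Agent.S1571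
open Cfsg.Agent.Lib.Lead.LC Cfsg.Agent.Lib.Lead.LC3 Cfsg.Agent.Lib.Lead.HS
open Cfsg.Agent.Lib.Lead.HSG
open MulAction
open scoped Pointwise

/-- the stabiliser of the standard pair -/
def M0 : Subgroup ↥Co0 := stabilizer ↥Co0 v32 ⊓ stabilizer ↥Co0 w0

theorem mem_M0 (g : ↥Co0) : g ∈ M0 ↔ g.1 v32 = v32 ∧ g.1 w0 = w0 := by
  unfold M0
  rw [Subgroup.mem_inf, mem_stabilizer_iff, mem_stabilizer_iff]
  rfl

/-! ### the order -/

theorem orbit_v32c : orbit ↥Co0 v32 = {u : ↥leechLattice | sqNorm u.1 = 32} := by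
  ext u
  constructor
  · rintro ⟨g, rfl⟩
    show sqNorm (g.1 v32).1 = 32
    rw [g.2.2]
    exact norm_v32
  · intro hu
    obtain ⟨g, hg⟩ := trans32 u hu
    refine ⟨g⁻¹, ?_⟩
    show g⁻¹.1 v32 = u
    rw [← hg, inv_apply_apply]

theorem ncard_32 : {u : ↥leechLattice | sqNorm u.1 = 32}.ncard = 196560 := by
  rw [← Cfsg.Agent.S1578.card_F32, ← Set.ncard_coe_finset]
  apply Set.ncard_congr (fun u _ => u.1)
  · intro u hu
    rw [Finset.mem_coe, Cfsg.Agent.S1578.mem_F32]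
    exact ⟨u.2, hu⟩
  · intro a b _ _ h
    exact Subtype.ext h
  · intro b hb
    rw [Finset.mem_coe, Cfsg.Agent.S1578.mem_F32] at hb
    exact ⟨⟨b, hb.1⟩, hb.2, rfl⟩

theorem card_stab_v32 : Nat.card ↥(stabilizer ↥Co0 v32) = 42305421312000 := by
  have h1 := index_stabilizer ↥Co0 v32
  rw [orbit_v32c, ncard_32] at h1
  have h2 := (stabilizer ↥Co0 v32).card_mul_index
  rw [h1, card_Co0] at h2
  have h3 : 8292375 * (4096 * 244823040) = 42305421312000 * 196560 := by norm_num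
  exact Nat.eq_of_mul_eq_mul_right (by norm_num : 0 < 196560) (h2.trans h3)

theorem norm_w0 : sqNorm w0.1 = 32 := frame2_chk.1

theorem dot_v32_w0 : dotInt v32.1 w0.1 = -8 := frame2_chk.2.1

theorem orbit_w0 : orbit ↥(stabilizer ↥Co0 v32) w0
    = {w : ↥leechLattice | sqNorm w.1 = 32 ∧ dotInt v32.1 w.1 = -8} := by
  ext w
  constructor
  · rintro ⟨g, rfl⟩
    have hg : g.1.1 v32 = v32 := g.2
    constructor
    · show sqNorm (g.1.1 w0).1 = 32
      rw [g.1.2.2]
      exact norm_w0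
    · show dotInt v32.1 (g.1.1 w0).1 = -8
      have := dot_map g.1 v32 w0
      rw [hg] at this
      rw [this]
      exact dot_v32_w0
  · rintro ⟨h1, h2⟩
    obtain ⟨g, hg1, hg2⟩ := Cfsg.Agent.S1575.result v32 w0 w norm_v32 norm_w0 h1 dot_v32_w0 h2
    exact ⟨⟨g, hg1⟩, hg2⟩

theorem ncard_w0 : {w : ↥leechLattice | sqNorm w.1 = 32 ∧ dotInt v32.1 w.1 = -8}.ncard
    = 47104 := by
  rw [← card_Q32, ← Set.ncard_coe_finset]
  apply Set.ncard_congr (fun u _ => u.1)
  · rintro u ⟨h1, h2⟩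
    rw [Finset.mem_coe, mem_Q32]
    rw [dot_v32] at h2
    exact ⟨u.2, h1, by omega⟩
  · intro a b _ _ h
    exact Subtype.ext h
  · intro b hb
    rw [Finset.mem_coe, mem_Q32] at hb
    refine ⟨⟨b, hb.1⟩, ⟨hb.2.1, ?_⟩, rfl⟩
    show dotInt v32.1 b = -8
    rw [dot_v32]
    omega

/-- the joint stabiliser as a stabiliser in a stabiliser -/
def stabEquivM : ↥(stabilizer ↥(stabilizer ↥Co0 v32) w0) ≃ ↥M0 where
  toFun g := ⟨g.1.1, (mem_M0 _).2 ⟨g.1.2, g.2⟩⟩
  invFun g := ⟨⟨g.1, ((mem_M0 _).1 g.2).1⟩, ((mem_M0 _).1 g.2).2⟩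
  left_inv _ := rfl
  right_inv _ := rfl

theorem card_M0 : Nat.card ↥M0 = 898128000 := by
  rw [← Nat.card_congr stabEquivM]
  have h1 := index_stabilizer ↥(stabilizer ↥Co0 v32) w0
  rw [orbit_w0, ncard_w0] at h1
  have h2 := (stabilizer ↥(stabilizer ↥Co0 v32) w0).card_mul_index
  rw [h1, card_stab_v32] at h2
  have h3 : 42305421312000 = 898128000 * 47104 := by norm_num
  exact Nat.eq_of_mul_eq_mul_right (by norm_num : 0 < 47104) (h2.trans h3)

/-! ### the action on the 2025 points -/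

theorem M0_smul_mem (g : ↥M0) (x : ↥leechLattice) (hx : x ∈ X0) : g • x ∈ X0 := by
  obtain ⟨h1, h2⟩ := (mem_M0 _).1 g.2
  obtain ⟨a, b, c⟩ := hx
  show sqNorm (g.1.1 x).1 = 32 ∧ dotInt v32.1 (g.1.1 x).1 = 0 ∧ dotInt w0.1 (g.1.1 x).1 = 16
  refine ⟨by rw [g.1.2.2]; exact a, ?_, ?_⟩
  · have := dot_map g.1 v32 x
    rw [h1] at this
    rw [this]
    exact b
  · have := dot_map g.1 w0 x
    rw [h2] at this
    rw [this]
    exact c

theorem orbit_B0 : orbit ↥M0 B0 = X0 := by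
  ext y
  constructor
  · rintro ⟨g, rfl⟩
    exact M0_smul_mem g B0 B0_mem_X0
  · rintro ⟨h1, h2, h3⟩
    obtain ⟨g, hv, hw, hx⟩ := triple_trans v32 w0 B0 v32 w0 y norm_v32 norm_w0
      frame2_chk.2.2.2.2.1 dot_v32_w0 frame2_chk.2.2.2.1 frame2_chk.2.2.1 norm_v32 norm_w0 h1
      dot_v32_w0 h2 h3
    exact ⟨⟨g, (mem_M0 _).2 ⟨hv, hw⟩⟩, hx⟩

/-- the point stabiliser -/
abbrev S0 : Subgroup ↥M0 := stabilizer ↥M0 B0

theorem index_S0 : S0.index = 2025 := by
  show (stabilizer ↥M0 B0).index = 2025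
  rw [index_stabilizer, orbit_B0, X0_ncard]

theorem card_S0 : Nat.card ↥S0 = 443520 := by
  have h := S0.card_mul_index
  rw [index_S0, card_M0] at h
  have h3 : 898128000 = 443520 * 2025 := by norm_num
  exact Nat.eq_of_mul_eq_mul_right (by norm_num : 0 < 2025) (h.trans h3)

/-- a permutation fixing `∞` and `0`, as an element of the point stabiliser -/
def phiM0 (ρ : Equiv.Perm GolayPt) (hρ : ρ ∈ M24) (h0 : ρ none = none)
    (h1 : ρ (some 0) = some 0) : ↥S0 :=
  ⟨⟨⟨permE ρ hρ, permE_mem ρ hρ⟩, (mem_M0 _).2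
    ⟨perm_fix ρ hρ h0 h1, perm_hL ρ hρ (some 0) (some 0) h1⟩⟩, perm_fix_B0 ρ hρ h0 h1⟩

theorem S0_ext (a b : ↥S0) (h : ∀ (y : ↥leechLattice) (p : GolayPt),
    (a.1.1.1 y).1 p = (b.1.1.1 y).1 p) : a = b := by
  apply Subtype.ext
  apply Subtype.ext
  apply Subtype.ext
  apply Equiv.ext
  intro y
  apply Subtype.ext
  funext p
  exact h y p

/-- the action of the two-point stabiliser of the code -/
noncomputable def phiM : ↥M22' →* ↥S0 :=
  MonoidHom.mk' (fun π => phiM0 (π.1.1)⁻¹ (M24.inv_mem π.1.2)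
      (inv_fix _ _ (M22'_fix π).1) (inv_fix _ _ (M22'_fix π).2)) (by
    intro π σ
    apply S0_ext
    intro y p
    show y.1 (((π * σ).1.1)⁻¹ p) = y.1 ((σ.1.1)⁻¹ ((π.1.1)⁻¹ p))
    have : (π * σ).1.1 = π.1.1 * σ.1.1 := rfl
    rw [this, mul_inv_rev, Equiv.Perm.mul_apply])

theorem phiM_apply (π : ↥M22') (y : ↥leechLattice) (p : GolayPt) :
    ((phiM π).1.1.1 y).1 p = y.1 ((π.1.1)⁻¹ p) := rfl

theorem phiM_injective : Function.Injective phiM := by
  rw [injective_iff_map_eq_one]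
  intro π hπ
  have h : ∀ i : GolayPt, (π.1.1)⁻¹ i = i := by
    intro i
    have h1 := phiM_apply π (hL i) i
    rw [hπ] at h1
    have h2 : hV i i = hV i ((π.1.1)⁻¹ i) := h1
    unfold hV at h2
    rw [if_pos rfl] at h2
    by_contra hne
    rw [if_neg hne] at h2
    omega
  apply Subtype.ext
  apply Subtype.ext
  have : (π.1.1)⁻¹ = 1 := Equiv.ext h
  exact inv_eq_one.1 this

theorem phiM_surjective : Function.Surjective phiM := by
  haveI : Finite ↥M0 := Nat.finite_of_card_ne_zero (by rw [card_M0]; norm_num)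
  have hc : Nat.card ↥S0 ≤ Nat.card ↥M22' := by
    rw [card_S0, Cfsg.Agent.S0378.result none (some 0) (by simp)]
  exact (phiM_injective.bijective_of_nat_card_le hc).2

theorem S0_simple : IsSimpleGroup ↥S0 := by
  haveI : IsSimpleGroup ↥M22' := Cfsg.Agent.S0379.result none (some 0) (by simp)
  haveI : Finite ↥S0 := Nat.finite_of_card_ne_zero (by rw [card_S0]; norm_num)
  haveI : Nontrivial ↥S0 := by
    apply Finite.one_lt_card_iff_nontrivial.1
    rw [card_S0]
    norm_num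
  exact IsSimpleGroup.isSimpleGroup_of_surjective phiM phiM_surjective

/-! ### faithfulness -/

theorem f462_diff (k : ℕ) (p p' : GolayPt) (hpp : p ≠ p') (hp1 : p ≠ some 0)
    (hp1' : p' ≠ some 0) (hp : Cw k p ≠ 0) (hp' : Cw k p' ≠ 0) (d : GolayPt → ℤ) :
    dotInt (f462 k p) d - dotInt (f462 k p') d = 4 * d p' - 4 * d p := by
  unfold dotInt
  rw [← Finset.sum_sub_distrib]
  have key : ∀ q, f462 k p q * d q - f462 k p' q * d q
      = (if q = p then -4 * d p else 0) + (if q = p' then 4 * d p' else 0) := by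
    intro q
    unfold f462
    by_cases h1 : q = p
    · subst h1
      simp only [if_true, if_neg hpp, if_neg hp1, if_pos hp]
      ring
    · by_cases h2 : q = p'
      · subst h2
        simp only [if_true, if_neg h1, if_neg hp1', if_pos hp']
        ring
      · simp only [if_neg h1, if_neg h2]
        ring
  rw [Finset.sum_congr rfl (fun q _ => key q), Finset.sum_add_distrib,
    Finset.sum_ite_eq' Finset.univ p, Finset.sum_ite_eq' Finset.univ p',
    if_pos (Finset.mem_univ _), if_pos (Finset.mem_univ _)]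
  ring

theorem exists_K77_pair (j j' : ZMod 23) (hj : j ≠ 0) (hj' : j' ≠ 0) (hjj : j ≠ j') :
    ∃ k ∈ K77, Cw k (some j) ≠ 0 ∧ Cw k (some j') ≠ 0 := by
  classical
  obtain ⟨z, -, hz⟩ := Finset.exists_mem_notMem_of_card_lt_card
    (s := ({none, some 0, some j, some j'} : Finset GolayPt)) (t := Finset.univ) (by
      refine lt_of_le_of_lt Finset.card_le_four ?_
      rw [Finset.card_univ, card_pts]
      norm_num)
  simp only [Finset.mem_insert, Finset.mem_singleton, not_or] at hz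
  have hinj : Function.Injective ![none, some 0, some j, some j', z] :=
    inj5 _ (by simp) (by simp) (by simp) (Ne.symm hz.1)
      (fun h => hj (Option.some.inj h).symm) (fun h => hj' (Option.some.inj h).symm)
      (Ne.symm hz.2.1) (fun h => hjj (Option.some.inj h)) (Ne.symm hz.2.2.1)
      (Ne.symm hz.2.2.2)
  have hs5 : (Finset.univ.image ![none, some 0, some j, some j', z]).card = 5 := by
    rw [Finset.card_image_of_injective _ hinj, Finset.card_univ, Fintype.card_fin]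
  obtain ⟨T, ⟨hT, hsT⟩, -⟩ := octads_steiner.2 _ hs5
  have mem : ∀ i : Fin 5, ![none, some 0, some j, some j', z] i ∈ T := fun i =>
    hsT (Finset.mem_image.2 ⟨i, Finset.mem_univ _, rfl⟩)
  obtain ⟨k, hk, rfl⟩ := exists_K77 T hT (mem 0) (mem 1)
  exact ⟨k, hk, (mem_supp k _).1 (mem 2), (mem_supp k _).1 (mem 3)⟩

/-- a vector orthogonal to the frame and the second family vanishes -/
theorem lin_zero2 (d : GolayPt → ℤ) (h1 : dotInt v32.1 d = 0) (h2 : dotInt B0.1 d = 0)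
    (h3 : dotInt w0v d = 0) (h4 : ∀ a ∈ P462, dotInt (f462 a.1 a.2) d = 0) : d = 0 := by
  rw [dot_v32] at h1
  rw [dot_B0] at h2
  unfold w0v at h3
  rw [dot_hV] at h3
  have hn : d none = 0 := by omega
  have h0 : d (some 0) = 0 := by omega
  have hconst : ∀ j j' : ZMod 23, j ≠ 0 → j' ≠ 0 → d (some j) = d (some j') := by
    intro j j' hj hj'
    by_cases hjj : j = j'
    · rw [hjj]
    obtain ⟨k, hk, c1, c2⟩ := exists_K77_pair j j' hj hj' hjj
    have nj : (some j : GolayPt) ≠ some 0 := fun h => hj (Option.some.inj h)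
    have nj' : (some j' : GolayPt) ≠ some 0 := fun h => hj' (Option.some.inj h)
    have m1 : (k, some j) ∈ P462 := (mem_P462 _).2 ⟨hk, by simp, nj, c1⟩
    have m2 : (k, some j') ∈ P462 := (mem_P462 _).2 ⟨hk, by simp, nj', c2⟩
    have e := f462_diff k (some j) (some j') (fun h => hjj (Option.some.inj h)) nj nj' c1 c2 d
    have e1 := h4 _ m1
    have e2 := h4 _ m2
    simp only at e1 e2
    rw [e1, e2] at e
    omega
  have hs : (∑ p, d p) = d none + (d (some 0)
      + ∑ j ∈ (Finset.univ : Finset (ZMod 23)).erase 0, d (some j)) := by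
    rw [Fintype.sum_option,
      Finset.add_sum_erase Finset.univ (fun j : ZMod 23 => d (some j)) (Finset.mem_univ 0)]
  have h10 : (1 : ZMod 23) ≠ 0 := by decide
  have hsum : ∑ j ∈ (Finset.univ : Finset (ZMod 23)).erase 0, d (some j) = 22 * d (some 1) := by
    have : ∀ j ∈ (Finset.univ : Finset (ZMod 23)).erase 0, d (some j) = d (some 1) :=
      fun j hj => hconst j 1 (Finset.ne_of_mem_erase hj) h10
    rw [Finset.sum_congr rfl this, Finset.sum_const, Finset.card_erase_of_mem (Finset.mem_univ _),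
      Finset.card_univ, ZMod.card]
    simp
  have hc : d (some 1) = 0 := by omega
  funext p
  rcases p with _ | j
  · exact hn
  · by_cases hj : j = 0
    · subst hj
      exact h0
    · show d (some j) = 0
      rw [hconst j 1 hj h10]
      exact hc

theorem faithfulM (g : ↥M0) (h : ∀ y ∈ orbit ↥M0 B0, g • y = y) : g = 1 := by
  rw [orbit_B0] at h
  obtain ⟨hv, hw⟩ := (mem_M0 _).1 g.2
  have hfix : ∀ y ∈ X0, g.1.1 y = y := h
  have hall : ∀ y : ↥leechLattice, g.1.1 y = y := by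
    intro y
    have hz : ∀ z : ↥leechLattice, g.1.1 z = z → dotInt z.1 ((g.1.1 y).1 - y.1) = 0 := by
      intro z hz
      have := dot_map g.1 z y
      rw [hz] at this
      rw [dot_sub_right, this]
      ring
    have hd : (g.1.1 y).1 - y.1 = 0 := by
      apply lin_zero2
      · exact hz v32 hv
      · exact hz B0 (hfix _ B0_mem_X0)
      · exact hz w0 hw
      · intro a ha
        have := hz (l462 a) (hfix _ (l462_mem a ha).1)
        rw [l462_val a ha] at this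
        exact this
    apply Subtype.ext
    exact sub_eq_zero.1 hd
  apply Subtype.ext
  apply Subtype.ext
  apply Equiv.ext
  exact hall

/-! ### simplicity -/

theorem hypM : ∃ S1 S2 S3 : Set ↥leechLattice,
    Cfsg.Agent.Lib.Lead.R4S.Hyp4 (G := ↥M0) B0 S1 S2 S3 := by
  obtain ⟨y1, m1, y2, m2, y3, m3, c1, c2, c3, d1, d2, d3, hX⟩ := orbits_std
  refine ⟨orbit ↥T0 y1, orbit ↥T0 y2, orbit ↥T0 y3, ?_⟩
  have eB : dotInt B0.1 B0.1 = 32 := frame2_chk.2.2.2.2.2
  have e1 : ∀ z ∈ orbit ↥T0 y1, dotInt B0.1 z.1 = 0 := fun z hz => (orbit_dot _ z hz).trans d1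
  have e2 : ∀ z ∈ orbit ↥T0 y2, dotInt B0.1 z.1 = 16 := fun z hz => (orbit_dot _ z hz).trans d2
  have e3 : ∀ z ∈ orbit ↥T0 y3, dotInt B0.1 z.1 = 8 := fun z hz => (orbit_dot _ z hz).trans d3
  have tr : ∀ (y0 : ↥leechLattice), ∀ y ∈ orbit ↥T0 y0, ∀ y' ∈ orbit ↥T0 y0,
      ∃ g ∈ stabilizer ↥M0 B0, g • y = y' := by
    rintro y0 _ ⟨t, rfl⟩ _ ⟨t', rfl⟩
    obtain ⟨a, b, c⟩ := (mem_T0 _).1 (t' * t⁻¹).2
    refine ⟨⟨(t' * t⁻¹).1, (mem_M0 _).2 ⟨a, b⟩⟩, ?_, ?_⟩
    · rw [mem_stabilizer_iff]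
      exact c
    · show (t' * t⁻¹) • (t • y0) = t' • y0
      rw [← mul_smul, inv_mul_cancel_right]
  refine ⟨?_, ?_, ?_, ?_, ?_, ?_, ?_, index_S0, c1, c2, c3, tr y1, tr y2, tr y3, S0_simple,
    faithfulM, ?_⟩
  · rw [orbit_B0]
    exact hX
  · intro hh
    have := e1 _ hh
    omega
  · intro hh
    have := e2 _ hh
    omega
  · intro hh
    have := e3 _ hh
    omega
  · rw [Set.disjoint_left]
    intro z h1 h2
    have := e1 z h1
    have := e2 z h2
    omega
  · rw [Set.disjoint_left]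
    intro z h1 h2
    have := e1 z h1
    have := e3 z h2
    omega
  · rw [Set.disjoint_left]
    intro z h1 h2
    have := e2 z h1
    have := e3 z h2
    omega
  · rw [card_M0]
    norm_num

theorem M0_simple : IsSimpleGroup ↥M0 := by
  haveI : Finite ↥M0 := Nat.finite_of_card_ne_zero (by rw [card_M0]; norm_num)
  obtain ⟨S1, S2, S3, h⟩ := hypM
  exact Cfsg.Agent.Lib.Lead.R4S.simple4 h

/-- conjugation of the standard stabiliser onto the stabiliser of any such pair -/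
def conjEquivM (v w : ↥leechLattice) (k0 : ↥Co0) (hv : k0.1 v32 = v) (hw : k0.1 w0 = w) :
    ↥M0 ≃* ↥(stabilizer ↥Co0 v ⊓ stabilizer ↥Co0 w) where
  toFun g := ⟨k0 * g.1 * k0⁻¹, by
    obtain ⟨hu, hw'⟩ := (mem_M0 _).1 g.2
    rw [Subgroup.mem_inf, mem_stabilizer_iff, mem_stabilizer_iff]
    exact ⟨Cfsg.Agent.S1584.conj_fix k0 g.1 v32 v hv hu,
      Cfsg.Agent.S1584.conj_fix k0 g.1 w0 w hw hw'⟩⟩
  invFun h := ⟨k0⁻¹ * h.1 * k0, by
    have h2 := h.2
    rw [Subgroup.mem_inf, mem_stabilizer_iff, mem_stabilizer_iff] at h2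
    have hv' : h.1.1 v = v := h2.1
    have hw' : h.1.1 w = w := h2.2
    rw [mem_M0]
    constructor
    · show k0⁻¹.1 (h.1.1 (k0.1 v32)) = v32
      rw [hv, hv', ← hv, inv_apply_apply]
    · show k0⁻¹.1 (h.1.1 (k0.1 w0)) = w0
      rw [hw, hw', ← hw, inv_apply_apply]⟩
  left_inv g := by
    apply Subtype.ext
    show k0⁻¹ * (k0 * g.1 * k0⁻¹) * k0 = g.1
    group
  right_inv h := by
    apply Subtype.ext
    show k0 * (k0⁻¹ * h.1 * k0) * k0⁻¹ = h.1
    group
  map_mul' a b := by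
    apply Subtype.ext
    show k0 * (a.1 * b.1) * k0⁻¹ = (k0 * a.1 * k0⁻¹) * (k0 * b.1 * k0⁻¹)
    group

/-- ordered pairs of minimal vectors with dot product `-8` form one orbit -/
theorem pair_trans (v w : ↥leechLattice) (hv : sqNorm v.1 = 32) (hw : sqNorm w.1 = 32)
    (hvw : dotInt v.1 w.1 = -8) : ∃ k0 : ↥Co0, k0.1 v32 = v ∧ k0.1 w0 = w := by
  obtain ⟨g1, hg1⟩ := trans32 v hv
  have hg1' : g1.1 v = v32 := hg1
  have n1 : sqNorm (g1.1 w).1 = 32 := by rw [g1.2.2]; exact hw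
  have d1 : dotInt v32.1 (g1.1 w).1 = -8 := by
    have := dot_map g1 v w
    rw [hg1'] at this
    rw [this]
    exact hvw
  obtain ⟨h, hh1, hh2⟩ := Cfsg.Agent.S1575.result v32 w0 (g1.1 w) norm_v32 norm_w0 n1
    dot_v32_w0 d1
  have hh1' : h.1 v32 = v32 := hh1
  have hh2' : h.1 w0 = g1.1 w := hh2
  refine ⟨g1⁻¹ * h, ?_, ?_⟩
  · show g1⁻¹.1 (h.1 v32) = v
    rw [hh1', ← hg1', inv_apply_apply]
  · show g1⁻¹.1 (h.1 w0) = w
    rw [hh2', inv_apply_apply]

theorem isMcL (v w : ↥leechLattice) (hv : sqNorm v.1 = 32) (hw : sqNorm w.1 = 32)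
    (hvw : dotInt v.1 w.1 = -8) :
    IsMcL ↥(stabilizer ↥Co0 v ⊓ stabilizer ↥Co0 w) := by
  obtain ⟨k0, h1, h2⟩ := pair_trans v w hv hw hvw
  haveI := M0_simple
  refine ⟨(conjEquivM v w k0 h1 h2).symm.isSimpleGroup, ?_⟩
  rw [← Nat.card_congr (conjEquivM v w k0 h1 h2).toEquiv, card_M0]

end Cfsg.Agent.Lib.Lead.ML
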