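import Mathlib
import Cfsg.Prelude.Def_Classical
import Cfsg.Agent.Lib.Lead.OrthOdd
import Cfsg.Agent.S0287

set_option autoImplicit false

/-! `O⁺_6(2) ≅ S_8`: the symmetric group acts on the even-weight vectors of `F_2^8` modulo the
all-ones vector. -/

namespace Cfsg.Agent.Lib.Lead.O6

open Matrix Cfsg.Agent.Lib.Lead.OG

/-- index type of the 6-space -/
abbrev I6 : Type := Fin 3 ⊕ Fin 3

/-- projection `F^8 → F^6` -/
def PM : Matrix I6 (Fin 8) (ZMod 2) :=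
  Matrix.of (Sum.elim ![![1,0,0,0,1,1,1,0], ![0,1,1,0,1,0,1,0], ![1,1,0,0,1,0,0,1]]
    ![![1,1,1,1,0,0,0,0], ![0,1,1,0,1,1,0,0], ![1,0,1,0,1,0,0,1]])

/-- embedding `F^6 → F^8` -/
def TM : Matrix (Fin 8) I6 (ZMod 2) :=
  Matrix.of (fun i => Sum.elim
    (![![1,0,1], ![1,1,0], ![1,1,1], ![1,0,0], ![0,1,1], ![0,1,0], ![0,0,0], ![0,0,1]] i)
    (![![1,0,1], ![0,1,1], ![0,1,0], ![0,0,0], ![1,1,1], ![1,0,0], ![1,1,0], ![0,0,1]] i))

/-- the all-ones vector -/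
def uV : Fin 8 → ZMod 2 := fun _ => 1
/-- auxiliary functional -/
def lV : Fin 8 → ZMod 2 := ![1,0,0,1,1,1,1,0]
/-- auxiliary vector -/
def cV : Fin 8 → ZMod 2 := ![0,1,1,0,0,0,0,1]

theorem PT : PM * TM = 1 := by decide
theorem Pu : PM *ᵥ uV = 0 := by decide
theorem uT : uV ᵥ* TM = 0 := by decide
theorem TP : TM * PM + vecMulVec uV lV + vecMulVec cV uV = 1 := by decide

/-- the weight of a binary vector -/
def wt (y : Fin 8 → ZMod 2) : ℕ := ∑ i, (y i).val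

theorem W1 : ∀ x : I6 → ZMod 2, Even (wt (TM *ᵥ x)) := by decide

set_option maxRecDepth 100000 in
theorem W2 : ∀ y : Fin 8 → ZMod 2, Even (wt y) →
    Cfsg.quadFormPlus 3 (ZMod 2) (PM *ᵥ y) = ((wt y / 2 : ℕ) : ZMod 2) := by decide

theorem wt_comp (y : Fin 8 → ZMod 2) (σ : Equiv.Perm (Fin 8)) : wt (y ∘ σ) = wt y :=
  Equiv.sum_comp σ (fun i => (y i).val)

/-- the matrix of a permutation on the 6-space -/
def L (σ : Equiv.Perm (Fin 8)) : Matrix I6 I6 (ZMod 2) :=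
  PM * (σ⁻¹).permMatrix (ZMod 2) * TM

theorem L_one : L 1 = 1 := by
  unfold L
  rw [inv_one, Matrix.permMatrix_one, Matrix.mul_one, PT]

theorem TP' : TM * PM = 1 - vecMulVec uV lV - vecMulVec cV uV := by
  rw [← TP]; abel

theorem L_mul (σ τ : Equiv.Perm (Fin 8)) : L (σ * τ) = L σ * L τ := by
  unfold L
  rw [_root_.mul_inv_rev, Matrix.permMatrix_mul]
  have h1 : PM * (σ⁻¹).permMatrix (ZMod 2) * vecMulVec uV lV = 0 := by
    rw [Matrix.mul_assoc, Matrix.mul_vecMulVec, Matrix.mul_vecMulVec, Matrix.permMatrix_mulVec]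
    have : uV ∘ ⇑σ⁻¹ = uV := rfl
    rw [this, Pu, Matrix.zero_vecMulVec]
  have h2 : vecMulVec cV uV * ((τ⁻¹).permMatrix (ZMod 2) * TM) = 0 := by
    rw [← Matrix.mul_assoc, Matrix.vecMulVec_mul, Matrix.vecMulVec_mul, Matrix.vecMul_permMatrix]
    have : uV ∘ ⇑(Equiv.symm τ⁻¹) = uV := rfl
    rw [this, uT]
    ext i j
    simp [Matrix.vecMulVec_apply]
  calc PM * ((σ⁻¹).permMatrix (ZMod 2) * (τ⁻¹).permMatrix (ZMod 2)) * TM
      = PM * (σ⁻¹).permMatrix (ZMod 2) * ((τ⁻¹).permMatrix (ZMod 2) * TM) := by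
        simp only [Matrix.mul_assoc]
    _ = PM * (σ⁻¹).permMatrix (ZMod 2) * (1 - vecMulVec uV lV - vecMulVec cV uV) *
          ((τ⁻¹).permMatrix (ZMod 2) * TM) +
        PM * (σ⁻¹).permMatrix (ZMod 2) * vecMulVec uV lV * ((τ⁻¹).permMatrix (ZMod 2) * TM) +
        PM * (σ⁻¹).permMatrix (ZMod 2) * (vecMulVec cV uV * ((τ⁻¹).permMatrix (ZMod 2) * TM)) := by
        simp only [Matrix.mul_sub, Matrix.sub_mul, Matrix.mul_one, Matrix.mul_assoc]
        abel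
    _ = PM * (σ⁻¹).permMatrix (ZMod 2) * (TM * PM) * ((τ⁻¹).permMatrix (ZMod 2) * TM) := by
        rw [h1, h2, Matrix.zero_mul, Matrix.mul_zero, add_zero, add_zero, ← TP']
    _ = PM * (σ⁻¹).permMatrix (ZMod 2) * TM * (PM * (τ⁻¹).permMatrix (ZMod 2) * TM) := by
        simp only [Matrix.mul_assoc]

/-- as an element of `GL` -/
def Lg (σ : Equiv.Perm (Fin 8)) : GL I6 (ZMod 2) :=
  ⟨L σ, L σ⁻¹, by rw [← L_mul, mul_inv_cancel, L_one], by rw [← L_mul, inv_mul_cancel, L_one]⟩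

theorem L_pres (σ : Equiv.Perm (Fin 8)) (x : I6 → ZMod 2) :
    Cfsg.quadFormPlus 3 (ZMod 2) (L σ *ᵥ x) = Cfsg.quadFormPlus 3 (ZMod 2) x := by
  have h1 : L σ *ᵥ x = PM *ᵥ ((TM *ᵥ x) ∘ ⇑σ⁻¹) := by
    unfold L
    rw [← Matrix.mulVec_mulVec, ← Matrix.mulVec_mulVec, Matrix.permMatrix_mulVec]
  rw [h1, W2 _ (by rw [wt_comp]; exact W1 x), wt_comp, ← W2 _ (W1 x), Matrix.mulVec_mulVec, PT,
    Matrix.one_mulVec]

/-- The homomorphism `S_8 → O⁺_6(2)`. -/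
def φ : Equiv.Perm (Fin 8) →* ↥(Cfsg.isometryGroup (ZMod 2) (Cfsg.quadFormPlus 3 (ZMod 2))) where
  toFun σ := ⟨Lg σ, (mem_isometryGroup_iff _).mpr (L_pres σ)⟩
  map_one' := Subtype.ext (Units.ext L_one)
  map_mul' σ τ := Subtype.ext (Units.ext (L_mul σ τ))

theorem L_c3 : L (Equiv.swap 0 1 * Equiv.swap 1 2) ≠ 1 := by decide

theorem φ_inj : Function.Injective φ := by
  rw [← MonoidHom.ker_eq_bot_iff]
  by_contra hne
  have hnt : Nontrivial φ.ker := (Subgroup.nontrivial_iff_ne_bot _).mpr hne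
  have hle := Equiv.Perm.alternatingGroup_le_of_normal (α := Fin 8) (by simp) hnt
  have hmem : (Equiv.swap (0 : Fin 8) 1 * Equiv.swap 1 2) ∈ alternatingGroup (Fin 8) := by
    rw [Equiv.Perm.mem_alternatingGroup]
    decide
  have := hle hmem
  rw [MonoidHom.mem_ker] at this
  apply L_c3
  have h2 := congrArg (fun g : ↥(Cfsg.isometryGroup (ZMod 2) (Cfsg.quadFormPlus 3 (ZMod 2))) =>
    ((g : GL I6 (ZMod 2)) : Matrix I6 I6 (ZMod 2))) this
  exact h2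

theorem card_O6 :
    Nat.card ↥(Cfsg.isometryGroup (ZMod 2) (Cfsg.quadFormPlus 3 (ZMod 2))) = 40320 := by
  have h := Cfsg.Agent.S0287.result (F := ZMod 2) (q := 2) (ZMod.card 2) 3 (by norm_num)
  rw [h]
  norm_num [Finset.prod_range_succ]

/-- `S_8 ≃* O⁺_6(2)`. -/
noncomputable def s8Equiv :
    Equiv.Perm (Fin 8) ≃* ↥(Cfsg.isometryGroup (ZMod 2) (Cfsg.quadFormPlus 3 (ZMod 2))) := by
  classical
  letI : Fintype ↥(Cfsg.isometryGroup (ZMod 2) (Cfsg.quadFormPlus 3 (ZMod 2))) :=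
    Fintype.ofFinite _
  refine MulEquiv.ofBijective φ ?_
  rw [Fintype.bijective_iff_injective_and_card]
  refine ⟨φ_inj, ?_⟩
  rw [← Nat.card_eq_fintype_card (α := ↥(Cfsg.isometryGroup (ZMod 2) (Cfsg.quadFormPlus 3 (ZMod 2)))),
    card_O6, Fintype.card_perm, Fintype.card_fin]
  rfl

end Cfsg.Agent.Lib.Lead.O6
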