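import Mathlib
import Cfsg.Agent.Lib.Helper18.ONE.Defs
import Cfsg.Agent.Lib.Lead.ONENDTSTDcore
import Cfsg.Agent.Lib.Helper18.ONETYCLASS
import Cfsg.Agent.Lib.helper15.S5972STDO

set_option autoImplicit false
set_option linter.unusedVariables false
set_option linter.unusedSectionVars false

/-!
# Project ONE (designer helper18), row NDTSTD (written by lead): verbatim wrapper of `onendtstd_core` + TYCLASS
-/

namespace Cfsg.Agent.Lib.Helper18.ONE

open Polynomial Module Cfsg.Agent.Lib.Helper13.S5955 Cfsg.Agent.Lib.helper15.S5972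

theorem fty_iff {F : Type*} [Field F] [Fintype F] (h2 : (2 : F) ≠ 0) (d : ℕ)
    (W : Submodule F (Unit ⊕ (Fin d ⊕ Fin d) → F)) (hW : SND (stdO d F) W)
    (hev : Even (finrank F W)) (s : ℤ) (hs : s = 1 ∨ s = -1) :
    FTy d s W ↔ OTy (stdO d F) W s :=
  onendtstd_core h2 d W s hs (ty_class h2 (stdO d F) (stdO_facts h2 d).1 W hW hev)

end Cfsg.Agent.Lib.Helper18.ONE
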