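import Mathlib
import Cfsg.Agent.Lib.Helper9.OPH.Defs
import Cfsg.Agent.Lib.Helper16.PlusFam

set_option autoImplicit false
set_option linter.unusedVariables false
set_option linter.unusedSectionVars false

/-!
# Project OPH (designer helper9), row COMPL (written by lead)
An invariant non-degenerate subspace of the hyperbolic quadratic space has an invariant complement (its orthogonal).
-/

namespace Cfsg.Agent.Lib.Helper9.OPH

open Module

variable {F : Type*} [Field F]

theorem oph_compl (d : ℕ) (x : Matrix (Fin d ⊕ Fin d) (Fin d ⊕ Fin d) F) (hdet : IsUnit x)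
    (hx : ∀ v, Cfsg.quadFormPlus d F (x.mulVec v) = Cfsg.quadFormPlus d F v)
    (W : Submodule F (Fin d ⊕ Fin d → F))
    (hW : Cfsg.Geo.IsNondegenerateOn (QuadraticMap.polar (Cfsg.quadFormPlus d F)) W)
    (hxW : W.map (Matrix.toLin' x) ≤ W) :
    ∃ W' : Submodule F (Fin d ⊕ Fin d → F), IsCompl W W' ∧ ∀ v ∈ W', Matrix.toLin' x v ∈ W' := by
  obtain ⟨B, hBdef⟩ : ∃ B : LinearMap.BilinForm F (Fin d ⊕ Fin d → F),
      B = QuadraticMap.polarBilin (Cfsg.Agent.Lib.Helper16.qfPlus d F) := ⟨_, rfl⟩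
  have hB : ∀ u v, B u v = QuadraticMap.polar (Cfsg.quadFormPlus d F) u v := by
    intro u v; rw [hBdef]; rfl
  have hBsymm : ∀ u v, B u v = B v u := by
    intro u v; rw [hB, hB, QuadraticMap.polar_comm]
  have hrefl : B.IsRefl := by
    intro u v h
    rw [hBsymm]; exact h
  -- x preserves the polar form
  have hpol : ∀ u v, B (Matrix.toLin' x u) (Matrix.toLin' x v) = B u v := by
    intro u v
    rw [hB, hB]
    unfold QuadraticMap.polar
    rw [← map_add, Matrix.toLin'_apply, Matrix.toLin'_apply, Matrix.toLin'_apply, hx, hx, hx]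
  -- the restriction is nondegenerate
  have hnd : (B.restrict W).Nondegenerate := by
    constructor
    · intro w hw
      by_contra hne
      have hne' : (w : Fin d ⊕ Fin d → F) ≠ 0 := fun h => hne (Subtype.ext h)
      obtain ⟨_, ⟨y, hyW, hy⟩⟩ := hW w w.2 hne'
      apply hy
      have := hw ⟨y, hyW⟩
      rw [← hB]
      exact this
    · intro w hw
      by_contra hne
      have hne' : (w : Fin d ⊕ Fin d → F) ≠ 0 := fun h => hne (Subtype.ext h)
      obtain ⟨⟨y, hyW, hy⟩, _⟩ := hW w w.2 hne'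
      apply hy
      have := hw ⟨y, hyW⟩
      rw [← hB]
      exact this
  refine ⟨B.orthogonal W, LinearMap.BilinForm.isCompl_orthogonal_of_restrict_nondegenerate hrefl hnd, ?_⟩
  -- x W = W
  have hinj : Function.Injective (Matrix.toLin' x) := by
    obtain ⟨u, hu⟩ := hdet
    obtain ⟨ui, hui⟩ : ∃ ui : Matrix (Fin d ⊕ Fin d) (Fin d ⊕ Fin d) F, ui * x = 1 :=
      ⟨((u⁻¹ : (Matrix (Fin d ⊕ Fin d) (Fin d ⊕ Fin d) F)ˣ) : Matrix (Fin d ⊕ Fin d) (Fin d ⊕ Fin d) F), by
        rw [← hu]; exact Units.inv_mul u⟩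
    intro a b hab
    rw [Matrix.toLin'_apply, Matrix.toLin'_apply] at hab
    have h1 : ui.mulVec (x.mulVec a) = ui.mulVec (x.mulVec b) := by rw [hab]
    rw [Matrix.mulVec_mulVec, Matrix.mulVec_mulVec, hui, Matrix.one_mulVec, Matrix.one_mulVec] at h1
    exact h1
  have hmapeq : W.map (Matrix.toLin' x) = W := by
    apply Submodule.eq_of_le_of_finrank_eq hxW
    exact (LinearEquiv.finrank_eq (Submodule.equivMapOfInjective (Matrix.toLin' x) hinj W)).symm
  intro v hv w hw
  rw [← hmapeq] at hw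
  obtain ⟨w', hw', rfl⟩ := hw
  show B (Matrix.toLin' x w') (Matrix.toLin' x v) = 0
  rw [hpol]
  exact hv w' hw'

end Cfsg.Agent.Lib.Helper9.OPH
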