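import Mathlib
import Cfsg.Agent.Lib.Helper9.OPH.Defs
import Cfsg.Agent.Lib.Helper16.PlusFam
import Cfsg.Agent.Lib.Helper16.OB25
import Cfsg.Agent.Lib.Helper16.SpinA

set_option autoImplicit false
set_option linter.unusedVariables false
set_option linter.unusedSectionVars false

/-!
# Project OPH (designer helper9), row OMEGA (written by lead)
An isometry of odd prime order of the hyperbolic quadratic space (`d ≥ 3`) lies in `Ω`: it is a square of an isometry.
-/

namespace Cfsg.Agent.Lib.Helper9.OPH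

open Module

variable {F : Type*} [Field F]

theorem oph_omega [Fintype F] {p : ℕ} [Fact p.Prime] (hp2 : p ≠ 2) (d : ℕ) (hd : 3 ≤ d)
    (y : GL (Fin d ⊕ Fin d) F)
    (hy : ∀ v, Cfsg.quadFormPlus d F ((y : Matrix (Fin d ⊕ Fin d) (Fin d ⊕ Fin d) F).mulVec v) = Cfsg.quadFormPlus d F v)
    (hyp : y ^ p = 1) : y ∈ Cfsg.Geo.omegaGL (Cfsg.quadFormPlus d F) := by
  have hyiso : y ∈ Cfsg.isometryGroup F (Cfsg.quadFormPlus d F) :=
    (Cfsg.Agent.Lib.Helper16.mem_iso_iff _ y).2 hy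
  have hodd : Odd p := (Fact.out : p.Prime).odd_of_ne_two hp2
  obtain ⟨k, hk⟩ := hodd
  obtain ⟨Y, hY⟩ : ∃ Y : ↥(Cfsg.isometryGroup F (Cfsg.quadFormPlus d F)), Y = ⟨y, hyiso⟩ := ⟨_, rfl⟩
  have hYp : Y ^ p = 1 := by
    apply Subtype.ext
    rw [hY]
    simpa using hyp
  have hzz : Y ^ (k + 1) * Y ^ (k + 1) = Y := by
    rw [← pow_add]
    have : k + 1 + (k + 1) = p + 1 := by omega
    rw [this, pow_succ, hYp, one_mul]
  have hne : ∃ v, (Cfsg.Agent.Lib.Helper16.qfPlus d F) v ≠ 0 := by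
    refine ⟨fun t => Sum.elim (fun i : Fin d => if (i : ℕ) = 0 then (1 : F) else 0)
      (fun i : Fin d => if (i : ℕ) = 0 then (1 : F) else 0) t, ?_⟩
    rw [Cfsg.Agent.Lib.Helper16.qfPlus_coe]
    unfold Cfsg.quadFormPlus
    have : ∀ i : Fin d, (Sum.elim (fun i : Fin d => if (i : ℕ) = 0 then (1 : F) else 0)
        (fun i : Fin d => if (i : ℕ) = 0 then (1 : F) else 0) (Sum.inl i)) *
        (Sum.elim (fun i : Fin d => if (i : ℕ) = 0 then (1 : F) else 0)
        (fun i : Fin d => if (i : ℕ) = 0 then (1 : F) else 0) (Sum.inr i)) =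
        if i = (⟨0, by omega⟩ : Fin d) then (1 : F) else 0 := by
      intro i
      simp only [Sum.elim_inl, Sum.elim_inr]
      by_cases hi : (i : ℕ) = 0
      · have : i = (⟨0, by omega⟩ : Fin d) := Fin.ext hi
        simp [this]
      · have : i ≠ (⟨0, by omega⟩ : Fin d) := fun h => hi (by rw [h])
        simp [hi, this]
    rw [Finset.sum_congr rfl (fun i _ => this i)]
    simp
  have hcard : 5 ≤ Fintype.card (Fin d ⊕ Fin d) := by
    simp; omega
  have hmem : Y ^ (k + 1) * Y ^ (k + 1) ∈ Cfsg.Omega F (Cfsg.quadFormPlus d F) :=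
    Cfsg.Agent.Lib.Helper16.OB.sq_mem_omega_all (Cfsg.Agent.Lib.Helper16.qfPlus d F)
      (Cfsg.Agent.Lib.Helper16.qfPlus_nondeg d F) hcard hne (Y ^ (k + 1))
  rw [hzz] at hmem
  refine ⟨Y, hmem, ?_⟩
  rw [hY]
  rfl

end Cfsg.Agent.Lib.Helper9.OPH
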