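import Mathlib
import Cfsg.Agent.Lib.Helper9.OPH.Defs
import Cfsg.Agent.Lib.helper15.C3EEVEN

set_option autoImplicit false
set_option linter.unusedVariables false
set_option linter.unusedSectionVars false

/-!
# Project OPH (designer helper9), row SKEWRANK (written by lead)
A skew-adjoint endomorphism for a non-degenerate symmetric form (`2 ≠ 0`) has even rank.
-/

namespace Cfsg.Agent.Lib.Helper9.OPH

open Module

variable {F : Type*} [Field F]

theorem oph_skew_rank {V : Type*} [AddCommGroup V] [Module F V] [FiniteDimensional F V] (h2 : (2 : F) ≠ 0)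
    (B : LinearMap.BilinForm F V) (hsym : ∀ u v, B u v = B v u) (hnd : ∀ u, (∀ v, B u v = 0) → u = 0)
    (S : Module.End F V) (hS : ∀ u v, B (S u) v = - B u (S v)) :
    Even (finrank F (LinearMap.range S)) := by
  obtain ⟨C, hC⟩ := Submodule.exists_isCompl (LinearMap.ker S)
  have hdim : finrank F C = finrank F (LinearMap.range S) := by
    have h1 := Submodule.finrank_add_eq_of_isCompl hC
    have h2' := LinearMap.finrank_range_add_finrank_ker S
    omega
  rw [← hdim]
  have happ : ∀ u v, (LinearMap.compl₂ B S) u v = B u (S v) := fun u v => rfl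
  refine Cfsg.Agent.Lib.Helper10.C3E.c3eeven_even (LinearMap.compl₂ B S) ?_ C ?_
  · intro u
    rw [happ]
    have h1 : B u (S u) = - B u (S u) := by
      rw [← hS u u, hsym (S u) u]
    have h3 : (2 : F) * B u (S u) = 0 := by
      have : B u (S u) + B u (S u) = 0 := by
        nth_rewrite 1 [h1]
        ring
      rw [two_mul]; exact this
    rcases mul_eq_zero.1 h3 with h | h
    · exact absurd h h2
    · exact h
  · intro c hc hc0
    have hall : ∀ v, B c (S v) = 0 := by
      intro v
      have hv : v ∈ LinearMap.ker S ⊔ C := by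
        rw [hC.sup_eq_top]; trivial
      obtain ⟨k, hk, c', hc', rfl⟩ := Submodule.mem_sup.1 hv
      have hk0 : S k = 0 := LinearMap.mem_ker.1 hk
      rw [map_add, hk0, zero_add]
      have := hc0 c' hc'
      rwa [happ] at this
    have hSc : S c = 0 := by
      apply hnd
      intro v
      rw [hS, hall, neg_zero]
    have hmem : c ∈ LinearMap.ker S ⊓ C := ⟨LinearMap.mem_ker.2 hSc, hc⟩
    rw [hC.inf_eq_bot] at hmem
    exact (Submodule.mem_bot F).1 hmem

end Cfsg.Agent.Lib.Helper9.OPH
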