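import Mathlib
import Cfsg.Prelude.Def_Classical
import Cfsg.Prelude.Def_SporadicB
import Cfsg.Agent.Lib.Lead.DicksonGen
import Cfsg.Agent.Lib.helper4.SympThree

set_option autoImplicit false

/-! Orthogonal transvections over the field with two elements form a class of 3-transpositions. -/

namespace Cfsg.Agent.Lib.Lead.OT2

open Cfsg Cfsg.Agent.Lib.Helper16 Cfsg.Agent.Lib.helper6 Cfsg.Agent.Lib.helper4 Module Matrix

variable {ι : Type} [Fintype ι] [DecidableEq ι]

theorem refl_apply (Q : QuadraticForm (ZMod 2) (ι → ZMod 2)) (v x : ι → ZMod 2) (hv : Q v ≠ 0) :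
    Cfsg.reflectionMatrix ⇑Q v *ᵥ x = x + QuadraticMap.polar ⇑Q v x • v := by
  rw [reflectionMatrix_mulVec, zmod2_eq_one hv, inv_one, one_mul, sub_eq_add_neg, ← neg_smul,
    CharTwo.neg_eq]

theorem sub_one_mulVec' (M : Matrix ι ι (ZMod 2)) (x : ι → ZMod 2) :
    (M - 1) *ᵥ x = M *ᵥ x - x := by
  rw [Matrix.sub_mulVec, Matrix.one_mulVec]

theorem refl_sub_one (Q : QuadraticForm (ZMod 2) (ι → ZMod 2)) (v : ι → ZMod 2) :
    Cfsg.reflectionMatrix ⇑Q v - 1 =
      Matrix.vecMulVec ((-(Q v)⁻¹) • v) (Cfsg.polarVec ⇑Q v) := by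
  unfold Cfsg.reflectionMatrix
  rw [Matrix.smul_vecMulVec, neg_smul]
  abel

theorem rank_refl_sub_one (Q : QuadraticForm (ZMod 2) (ι → ZMod 2))
    (hQ : (QuadraticMap.polarBilin Q).Nondegenerate) (v : ι → ZMod 2) (hv : Q v ≠ 0) :
    (Cfsg.reflectionMatrix ⇑Q v - 1).rank = 1 := by
  have hle : (Cfsg.reflectionMatrix ⇑Q v - 1).rank ≤ 1 := by
    rw [refl_sub_one]
    exact Matrix.rank_vecMulVec_le _ _
  by_contra hne
  have h0 : (Cfsg.reflectionMatrix ⇑Q v - 1).rank = 0 := by omega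
  have hbot : LinearMap.range (Cfsg.reflectionMatrix ⇑Q v - 1).mulVecLin = ⊥ :=
    Submodule.finrank_eq_zero.mp h0
  have hv0 : v ≠ 0 := by
    rintro rfl
    exact hv (map_zero Q)
  have : ∃ x, QuadraticMap.polarBilin Q v x ≠ 0 := by
    by_contra hcon
    push Not at hcon
    exact hv0 (hQ.1 _ hcon)
  obtain ⟨x, hx⟩ := this
  rw [QuadraticMap.polarBilin_apply_apply] at hx
  have hmem : (Cfsg.reflectionMatrix ⇑Q v - 1) *ᵥ x ∈
      LinearMap.range (Cfsg.reflectionMatrix ⇑Q v - 1).mulVecLin := ⟨x, rfl⟩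
  rw [hbot, Submodule.mem_bot, sub_one_mulVec', refl_apply Q v x hv, add_sub_cancel_left,
    zmod2_eq_one hx, one_smul] at hmem
  exact hv0 hmem

/-- an isometry `g` over the field with two elements with `g - 1` of rank one is an orthogonal
transvection -/
theorem eq_refl_of_rank_one (Q : QuadraticForm (ZMod 2) (ι → ZMod 2))
    (hQ : (QuadraticMap.polarBilin Q).Nondegenerate) (g : ↥(Cfsg.isometryGroup (ZMod 2) ⇑Q))
    (hg : (((g : Matrix.GeneralLinearGroup ι (ZMod 2)) : Matrix ι ι (ZMod 2)) - 1).rank = 1) :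
    ∃ (v : ι → ZMod 2) (hv : Q v ≠ 0), g = reflG Q v hv := by
  obtain ⟨u, w, hu, hM⟩ := exists_vecMulVec_of_rank_one _ hg
  have hgx : ∀ x, ((g : Matrix.GeneralLinearGroup ι (ZMod 2)) : Matrix ι ι (ZMod 2)) *ᵥ x =
      x + (w ⬝ᵥ x) • u := by
    intro x
    have h1 := sub_one_mulVec' ((g : Matrix.GeneralLinearGroup ι (ZMod 2)) : Matrix ι ι (ZMod 2)) x
    rw [hM, Matrix.vecMulVec_mulVec, op_smul_eq_smul] at h1
    rw [h1]
    abel
  -- isometry condition
  have hiso : ∀ x, (w ⬝ᵥ x) * ((w ⬝ᵥ x) * Q u + QuadraticMap.polar ⇑Q x u) = 0 := by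
    intro x
    have h1 := iso_pres (⇑Q) g x
    rw [hgx] at h1
    have h2 : Q (x + (w ⬝ᵥ x) • u) = Q x + Q ((w ⬝ᵥ x) • u) +
        QuadraticMap.polar ⇑Q x ((w ⬝ᵥ x) • u) := by
      unfold QuadraticMap.polar; ring
    rw [h2, QuadraticMap.map_smul, QuadraticMap.polar_smul_right, smul_eq_mul, smul_eq_mul] at h1
    linear_combination h1
  have hw0 : ∃ y0, w ⬝ᵥ y0 = 1 := by
    by_contra hcon
    push Not at hcon
    have hφ0 : ∀ x, w ⬝ᵥ x = 0 := by
      intro x
      rcases zmod2_cases (w ⬝ᵥ x) with h | h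
      · exact h
      · exact absurd h (hcon x)
    have hw : w = 0 := by
      funext j
      have := hφ0 (Pi.single j 1)
      simpa using this
    rw [hw] at hM
    rw [hM] at hg
    simp at hg
  obtain ⟨y0, hy0⟩ := hw0
  -- `B(x, u) = φ(x) Q(u)` for all `x`
  have h1 : ∀ x, w ⬝ᵥ x = 1 → QuadraticMap.polar ⇑Q x u = Q u := by
    intro x hx
    have := hiso x
    rw [hx, one_mul, one_mul] at this
    have h3 : QuadraticMap.polar ⇑Q x u = - Q u := by linear_combination this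
    rw [h3, CharTwo.neg_eq]
  have hB : ∀ x, QuadraticMap.polar ⇑Q x u = (w ⬝ᵥ x) * Q u := by
    intro x
    rcases zmod2_cases (w ⬝ᵥ x) with h | h
    · rw [h, zero_mul]
      have h3 : w ⬝ᵥ (x + y0) = 1 := by rw [dotProduct_add, h, hy0, zero_add]
      have h4 := h1 (x + y0) h3
      rw [QuadraticMap.polar_add_left, h1 y0 hy0] at h4
      exact add_eq_right.mp h4
    · rw [h, one_mul]
      exact h1 x h
  have hQu : Q u ≠ 0 := by
    intro h0
    apply hu
    apply hQ.1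
    intro y
    rw [QuadraticMap.polarBilin_apply_apply, QuadraticMap.polar_comm, hB y, h0, mul_zero]
  refine ⟨u, hQu, ?_⟩
  apply iso_ext'
  rw [reflG_coe, Matrix.ext_iff_mulVec]
  intro x
  rw [hgx, refl_apply Q u x hQu, QuadraticMap.polar_comm, hB x, zmod2_eq_one hQu, mul_one]

theorem mem_D_iff (Q : QuadraticForm (ZMod 2) (ι → ZMod 2))
    (hQ : (QuadraticMap.polarBilin Q).Nondegenerate) (g : ↥(Cfsg.isometryGroup (ZMod 2) ⇑Q)) :
    (((g : Matrix.GeneralLinearGroup ι (ZMod 2)) : Matrix ι ι (ZMod 2)) - 1).rank = 1 ↔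
      ∃ (v : ι → ZMod 2) (hv : Q v ≠ 0), g = reflG Q v hv := by
  constructor
  · exact eq_refl_of_rank_one Q hQ g
  · rintro ⟨v, hv, rfl⟩
    rw [reflG_coe]
    exact rank_refl_sub_one Q hQ v hv

theorem reflG_ne_one (Q : QuadraticForm (ZMod 2) (ι → ZMod 2))
    (hQ : (QuadraticMap.polarBilin Q).Nondegenerate) (v : ι → ZMod 2) (hv : Q v ≠ 0) :
    reflG Q v hv ≠ 1 := by
  intro h
  have h1 := rank_refl_sub_one Q hQ v hv
  rw [← reflG_coe Q v hv, h, iso_one_coe, sub_self] at h1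
  simp at h1

theorem three_transp (Q : QuadraticForm (ZMod 2) (ι → ZMod 2)) (u v : ι → ZMod 2)
    (hu : Q u ≠ 0) (hv : Q v ≠ 0) :
    (reflG Q u hu * reflG Q v hv) ^ 2 = 1 ∨ (reflG Q u hu * reflG Q v hv) ^ 3 = 1 := by
  set a := reflG Q u hu with ha
  set b := reflG Q v hv with hb
  have ha2 : a * a = 1 := reflG_mul_self Q u hu
  have hb2 : b * b = 1 := reflG_mul_self Q v hv
  have hainv : a⁻¹ = a := reflG_inv Q u hu
  have hbinv : b⁻¹ = b := reflG_inv Q v hv
  clear_value a b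
  have hau : ((a : Matrix.GeneralLinearGroup ι (ZMod 2)) : Matrix ι ι (ZMod 2)) *ᵥ v =
      v + QuadraticMap.polar ⇑Q u v • u := by
    rw [ha, reflG_coe, refl_apply Q u v hu]
  have hbv : ((b : Matrix.GeneralLinearGroup ι (ZMod 2)) : Matrix ι ι (ZMod 2)) *ᵥ u =
      u + QuadraticMap.polar ⇑Q u v • v := by
    rw [hb, reflG_coe, refl_apply Q v u hv, QuadraticMap.polar_comm]
  have hQa : Q (((a : Matrix.GeneralLinearGroup ι (ZMod 2)) : Matrix ι ι (ZMod 2)) *ᵥ v) ≠ 0 := by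
    rw [iso_pres (⇑Q) a]; exact hv
  have hQb : Q (((b : Matrix.GeneralLinearGroup ι (ZMod 2)) : Matrix ι ι (ZMod 2)) *ᵥ u) ≠ 0 := by
    rw [iso_pres (⇑Q) b]; exact hu
  have h1 := refl_conj Q a v hv hQa
  have h2 := refl_conj Q b u hu hQb
  rw [← hb, hainv] at h1
  rw [← ha, hbinv] at h2
  rcases zmod2_cases (QuadraticMap.polar ⇑Q u v) with h0 | h0
  · left
    have h3 : reflG Q (((a : Matrix.GeneralLinearGroup ι (ZMod 2)) : Matrix ι ι (ZMod 2)) *ᵥ v) hQa
        = b := by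
      apply iso_ext'
      rw [reflG_coe, hb, reflG_coe, hau, h0, zero_smul, add_zero]
    rw [h3] at h1
    calc (a * b) ^ 2 = (a * b * a) * b := by rw [pow_two]; group
      _ = b * b := by rw [h1]
      _ = 1 := hb2
  · right
    have h3 : reflG Q (((a : Matrix.GeneralLinearGroup ι (ZMod 2)) : Matrix ι ι (ZMod 2)) *ᵥ v) hQa
        = reflG Q (((b : Matrix.GeneralLinearGroup ι (ZMod 2)) : Matrix ι ι (ZMod 2)) *ᵥ u) hQb := by
      apply iso_ext'
      rw [reflG_coe, reflG_coe, hau, hbv, h0, one_smul, one_smul, add_comm]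
    rw [h3, ← h2] at h1
    -- h1 : a * b * a = b * a * b
    calc (a * b) ^ 3 = (a * b * a) * (b * a * b) := by rw [pow_succ, pow_two]; group
      _ = (b * a * b) * (b * a * b) := by rw [h1]
      _ = b * a * (b * b) * a * b := by group
      _ = b * (a * a) * b := by rw [hb2]; group
      _ = 1 := by rw [ha2, mul_one, hb2]

/-- the orthogonal transvections of a nondegenerate quadratic form over the field with two
elements (dimension other than four) form a generating conjugacy class of 3-transpositions -/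
theorem isThreeTranspositionClass (Q : QuadraticForm (ZMod 2) (ι → ZMod 2))
    (hQ : (QuadraticMap.polarBilin Q).Nondegenerate) (hn : 1 ≤ Fintype.card ι)
    (h4 : Fintype.card ι ≠ 4) :
    Cfsg.IsThreeTranspositionClass {g : ↥(Cfsg.isometryGroup (ZMod 2) ⇑Q) |
      (((g : Matrix.GeneralLinearGroup ι (ZMod 2)) : Matrix ι ι (ZMod 2)) - 1).rank = 1} := by
  refine ⟨⟨?_, ?_⟩, ?_, ?_⟩
  · intro d hd
    obtain ⟨v, hv, rfl⟩ := (mem_D_iff Q hQ d).mp hd
    apply orderOf_eq_prime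
    · rw [pow_two]
      exact reflG_mul_self Q v hv
    · exact reflG_ne_one Q hQ v hv
  · intro d hd e he
    obtain ⟨u, hu, rfl⟩ := (mem_D_iff Q hQ d).mp hd
    obtain ⟨v, hv, rfl⟩ := (mem_D_iff Q hQ e).mp he
    exact three_transp Q u v hu hv
  · obtain ⟨v, hv⟩ := DK.exists_aniso Q hQ hn
    refine ⟨reflG Q v hv, (mem_D_iff Q hQ _).mpr ⟨v, hv, rfl⟩, ?_⟩
    ext e
    show _ ↔ IsConj _ _
    rw [isConj_iff]
    constructor
    · intro he
      obtain ⟨u, hu, rfl⟩ := (mem_D_iff Q hQ e).mp he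
      exact DK.refl_conj_all Q hQ v u hv hu
    · rintro ⟨k, rfl⟩
      have hx0 : Q (((k : Matrix.GeneralLinearGroup ι (ZMod 2)) : Matrix ι ι (ZMod 2)) *ᵥ v) ≠ 0 := by
        rw [iso_pres (⇑Q) k]; exact hv
      rw [refl_conj Q k v hv hx0]
      exact (mem_D_iff Q hQ _).mpr ⟨_, hx0, rfl⟩
  · have hgen := C2.generation Q hQ (Or.inr h4)
    rw [← hgen]
    congr 1
    ext g
    rw [Set.mem_ofPred_eq, mem_D_iff Q hQ g]
    constructor
    · rintro ⟨v, hv, rfl⟩
      exact ⟨v, hv, reflG_coe Q v hv⟩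
    · rintro ⟨v, hv, hgv⟩
      refine ⟨v, hv, ?_⟩
      apply iso_ext'
      rw [reflG_coe]; exact hgv

end Cfsg.Agent.Lib.Lead.OT2
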