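import Mathlib
import Cfsg.Agent.Lib.Helper10.PGM.Defs
import Cfsg.Agent.Lib.Helper10.PGMNat0

set_option autoImplicit false
set_option linter.unusedVariables false

/-!
# Project PGM (designer helper10), row AC1 (lead): the arithmetic core for a single orbit.
-/

namespace Cfsg.Agent.Lib.Helper10.PGM

open Cfsg.Agent.Lib.helper15.UNat

/-- `p * d ≤ p ^ (d - 1)` for `d ≥ 4`, or `d = 3` and `p ≥ 3` -/
theorem pgmac1_mul_le_pow (p d : ℕ) (hp : 2 ≤ p) (hd : 3 ≤ d) (h : 4 ≤ d ∨ 3 ≤ p) :
    p * d ≤ p ^ (d - 1) := by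
  obtain ⟨k, rfl⟩ : ∃ k, d = k + 3 := ⟨d - 3, by omega⟩
  have e : k + 3 - 1 = k + 2 := by omega
  rw [e]
  clear e hd
  induction k with
  | zero =>
    rcases h with h | h
    · omega
    · simp only [Nat.zero_add]; nlinarith
  | succ k ih =>
    by_cases hk : k = 0
    · subst hk
      -- d = 4: p * 4 ≤ p ^ 3
      have h4 : 4 ≤ p ^ 2 := by nlinarith
      calc p * (0 + 1 + 3) = p * 4 := by norm_num
        _ ≤ p * p ^ 2 := Nat.mul_le_mul_left p h4
        _ = p ^ (0 + 1 + 2) := by ring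
    · have ih' := ih (Or.inl (by omega))
      have e2 : p ^ (k + 1 + 2) = p * p ^ (k + 2) := by ring
      rw [e2]
      have h1 : k + 1 + 3 ≤ p * (k + 3) := by nlinarith
      calc p * (k + 1 + 3) ≤ p * (p * (k + 3)) := Nat.mul_le_mul_left p h1
        _ ≤ p * p ^ (k + 2) := Nat.mul_le_mul_left p ih'

theorem pgmac1_Qn_one (q : ℕ) : Qn q 1 = q + 1 := by
  unfold Qn
  rw [if_neg (by decide), pow_one]

theorem ac_one (p f d : ℕ) (hp : p.Prime) (hf : 1 ≤ f) (hd : 3 ≤ d)
    (l m : ℕ) (hl : 1 ≤ l) (hm : 1 ≤ m) (hsum : l * m = d) :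
    p ^ Nat.clog p m * (Qn (p ^ f) l / (p ^ f + 1)) ≤ Mx p f d := by
  have hp2 : 2 ≤ p := hp.two_le
  have hpq : p ≤ p ^ f := by
    calc p = p ^ 1 := (pow_one p).symm
      _ ≤ p ^ f := Nat.pow_le_pow_right (by omega) hf
  have hq2 : 2 ≤ p ^ f := le_trans hp2 hpq
  have hMx := Mx_ge p f d hp2 hf hd
  set q := p ^ f with hq
  -- it suffices to bound by q^(d-1) - 1
  have hqd1 : 1 ≤ q ^ (d - 1) := Nat.one_le_pow _ _ (by omega)
  rcases Nat.eq_or_lt_of_le hm with hm1 | hm2
  · -- m = 1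
    subst hm1
    rw [Nat.clog_one_right, pow_zero, one_mul]
    rw [mul_one] at hsum
    subst hsum
    refine le_trans ?_ hMx
    have hA : q + 2 ≤ q ^ (l - 1) := by
      have h1 : q ^ 2 ≤ q ^ (l - 1) := Nat.pow_le_pow_right (by omega) (by omega)
      nlinarith
    have hqd : q ^ l = q * q ^ (l - 1) := by
      have : l = (l - 1) + 1 := by omega
      conv_lhs => rw [this, pow_succ]
      ring
    have ht := t_mul q l (by omega)
    have hle := Qn_le q l
    obtain ⟨B, hB⟩ : ∃ B, q ^ (l - 1) = B + 1 := ⟨q ^ (l - 1) - 1, by omega⟩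
    have hB' : q ^ (l - 1) - 1 = B := by omega
    rw [hB']
    apply Nat.le_of_mul_le_mul_right (c := q + 1) _ (by omega)
    rw [ht]
    refine le_trans hle ?_
    rw [hqd, hB]
    rw [hB] at hA
    nlinarith
  · -- m ≥ 2
    have hm2' : 2 ≤ m := hm2
    rcases Nat.eq_or_lt_of_le hl with hl1 | hl2
    · -- l = 1, m = d
      subst hl1
      rw [one_mul] at hsum
      subst hsum
      have ht1 : Qn q 1 / (q + 1) = 1 := by
        rw [pgmac1_Qn_one]; exact Nat.div_self (by omega)
      rw [ht1, mul_one]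
      by_cases hex : 4 ≤ m ∨ 3 ≤ p
      · refine le_trans ?_ hMx
        have h1 : p ^ (Nat.clog p m).pred < m := Nat.pow_pred_clog_lt_self (by omega) (by omega)
        have hc : 0 < Nat.clog p m := Nat.clog_pos (by omega) (by omega)
        have h2 : p ^ Nat.clog p m = p * p ^ (Nat.clog p m).pred := by
          have : Nat.clog p m = (Nat.clog p m).pred + 1 := by
            rw [Nat.pred_eq_sub_one]; omega
          conv_lhs => rw [this, pow_succ]
          ring
        have h3 : p ^ Nat.clog p m < p * m := by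
          rw [h2]; exact Nat.mul_lt_mul_of_pos_left h1 (by omega)
        have h4 : p * m ≤ p ^ (m - 1) := pgmac1_mul_le_pow p m hp2 hd hex
        have h5 : p ^ (m - 1) ≤ q ^ (m - 1) := Nat.pow_le_pow_left hpq _
        omega
      · -- p = 2, m = 3
        have hp' : p = 2 := by omega
        have hm' : m = 3 := by omega
        subst hm'
        have hc : Nat.clog p 3 = 2 := by rw [hp']; decide
        rw [hc, hp']
        unfold Mx
        rw [if_pos (by decide)]
        by_cases hf2 : 2 ≤ f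
        · rw [if_pos hf2]
          have : (2:ℕ) ^ 2 ≤ 2 ^ f := Nat.pow_le_pow_right (by omega) hf2
          have h16 : 16 ≤ (2 ^ f) ^ (3 - 1) := by
            calc 16 = ((2:ℕ) ^ 2) ^ (3 - 1) := by norm_num
              _ ≤ (2 ^ f) ^ (3 - 1) := Nat.pow_le_pow_left this _
          omega
        · rw [if_neg hf2]; norm_num
    · -- l ≥ 2, m ≥ 2
      have hl2' : 2 ≤ l := hl2
      refine le_trans ?_ hMx
      have h1 : p ^ Nat.clog p m ≤ q ^ (m - 1) :=
        le_trans (pclog_le_pow p m hp2 hm) (Nat.pow_le_pow_left hpq _)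
      have h2 : Qn q l / (q + 1) ≤ q ^ (l - 1) := t_le q l (by omega) hl
      have h3 : p ^ Nat.clog p m * (Qn q l / (q + 1)) ≤ q ^ (m - 1) * q ^ (l - 1) :=
        Nat.mul_le_mul h1 h2
      have h4 : q ^ (m - 1) * q ^ (l - 1) = q ^ (m + l - 2) := by
        rw [← pow_add]; congr 1; omega
      have h5 : m + l - 2 + 1 ≤ d - 1 := by
        subst hsum
        obtain ⟨a, rfl⟩ : ∃ a, l = a + 2 := ⟨l - 2, by omega⟩
        obtain ⟨b, rfl⟩ : ∃ b, m = b + 2 := ⟨m - 2, by omega⟩
        have : (a + 2) * (b + 2) = a * b + 2 * a + 2 * b + 4 := by ring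
        rw [this]
        have : 0 ≤ a * b := Nat.zero_le _
        omega
      have h6 : q ^ (m + l - 2 + 1) ≤ q ^ (d - 1) := Nat.pow_le_pow_right (by omega) h5
      have h7 : q ^ (m + l - 2 + 1) = q * q ^ (m + l - 2) := by rw [pow_succ]; ring
      have h8 : 1 ≤ q ^ (m + l - 2) := Nat.one_le_pow _ _ (by omega)
      rw [h4] at h3
      have h9 : 2 * q ^ (m + l - 2) ≤ q * q ^ (m + l - 2) := Nat.mul_le_mul_right _ hq2
      omega

end Cfsg.Agent.Lib.Helper10.PGM
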