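import Mathlib
import Cfsg.Prelude.Def_Classical
import Cfsg.Agent.Lib.Lead.Reindex
import Cfsg.Agent.Lib.Lead.PSL2Orth4

set_option autoImplicit false
set_option linter.unusedSectionVars false

namespace Cfsg.Agent.Lib.Lead.PO4m

open Cfsg Matrix

variable {F K : Type*} [Field F] [Field K]

/-- the matrix of `X ↦ Xᵀ` in the coordinates of `PO4.R4` -/
def P0 : Matrix (Fin 4) (Fin 4) K :=
  !![1, 0, 0, 0; 0, 0, 0, -1; 0, 0, 1, 0; 0, -1, 0, 0]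

theorem P0_mul_P0 : (P0 : Matrix (Fin 4) (Fin 4) K) * P0 = 1 := by
  ext i j
  fin_cases i <;> fin_cases j <;> simp [P0, Matrix.mul_apply, Fin.sum_univ_four]

theorem R4_map (σ : K →+* K) (A C : Matrix (Fin 2) (Fin 2) K) :
    (PO4.R4 A C).map σ = PO4.R4 (A.map σ) (C.map σ) := by
  ext i j
  fin_cases i <;> fin_cases j <;> simp [PO4.R4]

theorem R4_swap (A C : Matrix (Fin 2) (Fin 2) K) :
    PO4.R4 Cᵀ Aᵀ = P0 * PO4.R4 A C * P0 := by
  ext i j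
  fin_cases i <;> fin_cases j <;>
    simp [PO4.R4, P0, Matrix.mul_apply, Fin.sum_univ_four] <;> ring

/-- base change to the hermitian `F`-structure -/
def Tm (θ θ' : K) : Matrix (Fin 4) (Fin 4) K :=
  !![1, 0, 0, 0; 0, 0, 1, θ; 0, -1, 0, 0; 0, 0, -1, -θ']

/-- the inverse base change -/
noncomputable def Ti (θ θ' : K) : Matrix (Fin 4) (Fin 4) K :=
  !![1, 0, 0, 0; 0, 0, -1, 0; 0, -θ' / (θ - θ'), 0, -θ / (θ - θ');
     0, 1 / (θ - θ'), 0, 1 / (θ - θ')]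

theorem Tm_mul_Ti (θ θ' : K) (h : θ ≠ θ') : Tm θ θ' * Ti θ θ' = 1 := by
  have hd : θ - θ' ≠ 0 := sub_ne_zero.mpr h
  ext i j
  fin_cases i <;> fin_cases j <;>
    simp [Tm, Ti, Matrix.mul_apply, Fin.sum_univ_four] <;> field_simp <;> ring

theorem Ti_mul_Tm (θ θ' : K) (h : θ ≠ θ') : Ti θ θ' * Tm θ θ' = 1 := by
  have hd : θ - θ' ≠ 0 := sub_ne_zero.mpr h
  ext i j
  fin_cases i <;> fin_cases j <;>
    simp [Tm, Ti, Matrix.mul_apply, Fin.sum_univ_four] <;> field_simp <;> ring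

theorem Tm_map (σ : K →+* K) (θ : K) (hσσ : σ (σ θ) = θ) :
    (Tm θ (σ θ)).map σ = P0 * Tm θ (σ θ) := by
  ext i j
  fin_cases i <;> fin_cases j <;>
    simp [Tm, P0, Matrix.mul_apply, Fin.sum_univ_four, hσσ]

theorem Ti_map (σ : K →+* K) (θ : K) (hσσ : σ (σ θ) = θ) (h : θ ≠ σ θ) :
    (Ti θ (σ θ)).map σ = Ti θ (σ θ) * P0 := by
  have hd : θ - σ θ ≠ 0 := sub_ne_zero.mpr h
  have hd' : σ θ - θ ≠ 0 := sub_ne_zero.mpr (Ne.symm h)
  ext i j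
  fin_cases i <;> fin_cases j <;>
    simp [Ti, P0, Matrix.mul_apply, Fin.sum_univ_four, hσσ] <;> field_simp <;> ring

/-- the action `X ↦ A X σ(A)ᵀ` -/
def Rh (σ : K →+* K) (A : Matrix (Fin 2) (Fin 2) K) : Matrix (Fin 4) (Fin 4) K :=
  PO4.R4 A (A.map σ)ᵀ

theorem Rh_one (σ : K →+* K) : Rh σ (1 : Matrix (Fin 2) (Fin 2) K) = 1 := by
  unfold Rh
  rw [Matrix.map_one _ (map_zero σ) (map_one σ), Matrix.transpose_one, PO4.R4_one]

theorem Rh_mul (σ : K →+* K) (A B : Matrix (Fin 2) (Fin 2) K) :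
    Rh σ (A * B) = Rh σ A * Rh σ B := by
  unfold Rh
  rw [Matrix.map_mul, Matrix.transpose_mul, PO4.R4_mul]

theorem Rh_map (σ : K →+* K) (hσσ : ∀ x, σ (σ x) = x) (A : Matrix (Fin 2) (Fin 2) K) :
    (Rh σ A).map σ = P0 * Rh σ A * P0 := by
  unfold Rh
  rw [R4_map, ← R4_swap, Matrix.transpose_transpose, Matrix.transpose_map]
  congr 2
  ext i j
  simp [hσσ]

/-- the descended matrix, still over `K` -/
noncomputable def Mh (σ : K →+* K) (θ : K) (A : Matrix (Fin 2) (Fin 2) K) :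
    Matrix (Fin 4) (Fin 4) K :=
  Ti θ (σ θ) * Rh σ A * Tm θ (σ θ)

theorem Mh_one (σ : K →+* K) (θ : K) (h : θ ≠ σ θ) : Mh σ θ 1 = 1 := by
  unfold Mh
  rw [Rh_one, Matrix.mul_one, Ti_mul_Tm _ _ h]

theorem Mh_mul (σ : K →+* K) (θ : K) (h : θ ≠ σ θ) (A B : Matrix (Fin 2) (Fin 2) K) :
    Mh σ θ (A * B) = Mh σ θ A * Mh σ θ B := by
  unfold Mh
  rw [Rh_mul]
  have := Tm_mul_Ti θ (σ θ) h
  calc Ti θ (σ θ) * (Rh σ A * Rh σ B) * Tm θ (σ θ)
      = Ti θ (σ θ) * Rh σ A * 1 * Rh σ B * Tm θ (σ θ) := by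
        rw [Matrix.mul_one]; simp only [Matrix.mul_assoc]
    _ = Ti θ (σ θ) * Rh σ A * (Tm θ (σ θ) * Ti θ (σ θ)) * Rh σ B * Tm θ (σ θ) := by rw [this]
    _ = _ := by simp only [Matrix.mul_assoc]

theorem Mh_map (σ : K →+* K) (hσσ : ∀ x, σ (σ x) = x) (θ : K) (h : θ ≠ σ θ)
    (A : Matrix (Fin 2) (Fin 2) K) : (Mh σ θ A).map σ = Mh σ θ A := by
  unfold Mh
  rw [Matrix.map_mul, Matrix.map_mul, Ti_map σ θ (hσσ θ) h, Rh_map σ hσσ, Tm_map σ θ (hσσ θ)]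
  calc Ti θ (σ θ) * P0 * (P0 * Rh σ A * P0) * (P0 * Tm θ (σ θ))
      = Ti θ (σ θ) * (P0 * P0) * Rh σ A * (P0 * P0) * Tm θ (σ θ) := by
        simp only [Matrix.mul_assoc]
    _ = _ := by rw [P0_mul_P0, Matrix.mul_one, Matrix.mul_one]

/-- descent of a `σ`-fixed matrix -/
theorem map_dsc (i : F →+* K) (σ : K →+* K) (hfix : ∀ x, σ x = x → ∃ t, i t = x)
    {n : Type*} (M : Matrix n n K) (hM : M.map σ = M) :
    (M.map (Function.invFun i)).map i = M := by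
  ext k l
  rw [Matrix.map_apply, Matrix.map_apply]
  have h1 : σ (M k l) = M k l := by
    have := congrFun (congrFun hM k) l
    rwa [Matrix.map_apply] at this
  exact Function.invFun_eq (hfix _ h1)

section data

variable (i : F →+* K) (σ : K →+* K) (hσσ : ∀ x, σ (σ x) = x)
  (hfix : ∀ x, σ x = x → ∃ t, i t = x) (θ : K) (hθ : θ ≠ σ θ)

/-- the matrix over `F` -/
noncomputable def rhoF (A : Matrix (Fin 2) (Fin 2) K) : Matrix (Fin 4) (Fin 4) F :=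
  (Mh σ θ A).map (Function.invFun i)

include hσσ hfix hθ in
theorem rhoF_map (A : Matrix (Fin 2) (Fin 2) K) : (rhoF i σ θ A).map i = Mh σ θ A :=
  map_dsc i σ hfix _ (Mh_map σ hσσ θ hθ A)

include hσσ hfix hθ in
theorem rhoF_one : rhoF i σ θ 1 = 1 := by
  apply Matrix.map_injective i.injective
  change (rhoF i σ θ 1).map i = (1 : Matrix (Fin 4) (Fin 4) F).map i
  rw [rhoF_map i σ hσσ hfix θ hθ, Mh_one σ θ hθ, Matrix.map_one _ (map_zero i) (map_one i)]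

include hσσ hfix hθ in
theorem rhoF_mul (A B : Matrix (Fin 2) (Fin 2) K) :
    rhoF i σ θ (A * B) = rhoF i σ θ A * rhoF i σ θ B := by
  apply Matrix.map_injective i.injective
  change (rhoF i σ θ (A * B)).map i = (rhoF i σ θ A * rhoF i σ θ B).map i
  rw [rhoF_map i σ hσσ hfix θ hθ, Matrix.map_mul, rhoF_map i σ hσσ hfix θ hθ,
    rhoF_map i σ hσσ hfix θ hθ, Mh_mul σ θ hθ]

/-- the minus-type form in `Fin 4` coordinates -/
def qm (a b : F) (c : Fin 4 → F) : F := c 0 * c 1 + (c 2 ^ 2 + a * c 2 * c 3 + b * c 3 ^ 2)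

theorem Q4_Tm (a b : F) (θ' : K) (h1 : θ + θ' = i a) (h2 : θ * θ' = i b) (c : Fin 4 → F) :
    PO4.Q4 (Tm θ θ' *ᵥ (fun k => i (c k))) = - i (qm a b c) := by
  simp only [PO4.Q4, Tm, qm, Matrix.mulVec, dotProduct, Fin.sum_univ_four, map_add, map_mul,
    map_pow, ← h1, ← h2]
  simp
  ring

include hσσ hfix hθ in
theorem rhoF_iso (a b : F) (h1 : θ + σ θ = i a) (h2 : θ * σ θ = i b)
    (A : Matrix (Fin 2) (Fin 2) K) (hA : A.det = 1) (c : Fin 4 → F) :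
    qm a b (rhoF i σ θ A *ᵥ c) = qm a b c := by
  apply i.injective
  apply neg_injective
  rw [← Q4_Tm i θ a b (σ θ) h1 h2, ← Q4_Tm i θ a b (σ θ) h1 h2]
  have e1 : (fun k => i ((rhoF i σ θ A *ᵥ c) k)) = Mh σ θ A *ᵥ (fun k => i (c k)) := by
    funext k
    rw [RingHom.map_mulVec, rhoF_map i σ hσσ hfix θ hθ]
    rfl
  rw [e1]
  unfold Mh
  rw [Matrix.mulVec_mulVec, ← Matrix.mul_assoc, ← Matrix.mul_assoc, Tm_mul_Ti _ _ hθ,
    Matrix.one_mul, ← Matrix.mulVec_mulVec]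
  unfold Rh
  rw [PO4.Q4_R4, Matrix.det_transpose, hA, one_mul]
  have : (A.map σ).det = 1 := by
    have := (RingHom.map_det σ A).symm
    rw [RingHom.mapMatrix_apply] at this
    rw [this, hA, map_one]
  rw [this, one_mul]

include hσσ hfix hθ in
theorem rhoF_ker (A : Matrix (Fin 2) (Fin 2) K) (h : rhoF i σ θ A = 1) : Rh σ A = 1 := by
  have h1 : Mh σ θ A = 1 := by
    rw [← rhoF_map i σ hσσ hfix θ hθ, h, Matrix.map_one _ (map_zero i) (map_one i)]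
  unfold Mh at h1
  have h2 : Tm θ (σ θ) * (Ti θ (σ θ) * Rh σ A * Tm θ (σ θ)) * Ti θ (σ θ) = 1 := by
    rw [h1, Matrix.mul_one, Tm_mul_Ti _ _ hθ]
  have h3 : Tm θ (σ θ) * (Ti θ (σ θ) * Rh σ A * Tm θ (σ θ)) * Ti θ (σ θ) =
      (Tm θ (σ θ) * Ti θ (σ θ)) * Rh σ A * (Tm θ (σ θ) * Ti θ (σ θ)) := by
    simp only [Matrix.mul_assoc]
  rw [h3, Tm_mul_Ti _ _ hθ, Matrix.one_mul, Matrix.mul_one] at h2
  exact h2

end data

end Cfsg.Agent.Lib.Lead.PO4m
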