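import Mathlib
import Cfsg.Agent.Lib.Lead.F4c

set_option autoImplicit false

/-! Concrete data for `PSU₃(2) ≅ 3² : Q₈`: explicit unitary matrices over the concrete field with
four elements, checked by `decide`. -/

namespace Cfsg.Agent.Lib.Lead.U32

open Cfsg.Agent.Lib.Lead.F4 Cfsg.Agent.Lib.Lead.F4.F4c

/-- `3 × 3` matrices over the concrete field with four elements -/
abbrev M3 : Type := Matrix (Fin 3) (Fin 3) F4c

/-- the cyclic shift -/
def Xc : M3 := !![z,z,o; o,z,z; z,o,z]
/-- the clock matrix -/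
def Zc : M3 := !![o,z,z; z,w,z; z,z,v]
/-- the Fourier matrix -/
def Dc : M3 := !![o,o,o; o,w,v; o,v,w]
/-- a second element of order four -/
def Ec : M3 := !![o,v,v; w,w,v; w,v,w]

/-- explicit `3 × 3` determinant -/
def d3 {R : Type*} [CommRing R] (M : Matrix (Fin 3) (Fin 3) R) : R :=
  M 0 0 * M 1 1 * M 2 2 - M 0 0 * M 1 2 * M 2 1 - M 0 1 * M 1 0 * M 2 2 + M 0 1 * M 1 2 * M 2 0 +
    M 0 2 * M 1 0 * M 2 1 - M 0 2 * M 1 1 * M 2 0

theorem d3_eq_det {R : Type*} [CommRing R] (M : Matrix (Fin 3) (Fin 3) R) : d3 M = M.det := by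
  rw [Matrix.det_fin_three, d3]

/-- the (projective) representation of `3²` -/
def r1 (n : ZMod 3 × ZMod 3) : M3 := Xc ^ n.1.val * Zc ^ n.2.val

/-- the representation of `Q₈` -/
def r2 : QuaternionGroup 2 → M3
  | .a i => Dc ^ i.val
  | .xa i => Ec * Dc ^ i.val

/-- entrywise Frobenius -/
def fr (M : M3) : M3 := M.map (fun x => x * x)

theorem r1_unitary : ∀ n, (r1 n).transpose * fr (r1 n) = 1 := by decide +kernel
theorem r1_det : ∀ n, d3 (r1 n) = 1 := by decide +kernel
theorem r2_unitary : ∀ q, (r2 q).transpose * fr (r2 q) = 1 := by decide +kernel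
theorem r2_det : ∀ q, d3 (r2 q) = 1 := by decide +kernel
theorem r2_one : r2 1 = 1 := by decide +kernel
theorem r2_mul : ∀ p q, r2 (p * q) = r2 p * r2 q := by decide +kernel
theorem r1_zero : r1 0 = 1 := by decide +kernel
theorem r1_add : ∀ m n, ∃ l : F4c, r1 (m + n) = l • (r1 m * r1 n) := by decide +kernel

/-- action of the generator of order four on `3²` -/
def mA : Matrix (Fin 2) (Fin 2) (ZMod 3) := !![0,2; 1,0]
/-- action of the other generator on `3²` -/
def mX : Matrix (Fin 2) (Fin 2) (ZMod 3) := !![2,2; 2,1]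
/-- action of `Q₈` on `3²` by matrices -/
def mq : QuaternionGroup 2 → Matrix (Fin 2) (Fin 2) (ZMod 3)
  | .a i => mA ^ i.val
  | .xa i => mX * mA ^ i.val

/-- the action of `Q₈` on `3²` -/
def act (q : QuaternionGroup 2) (n : ZMod 3 × ZMod 3) : ZMod 3 × ZMod 3 :=
  (mq q 0 0 * n.1 + mq q 0 1 * n.2, mq q 1 0 * n.1 + mq q 1 1 * n.2)

theorem act_one : ∀ n, act 1 n = n := by decide +kernel
theorem act_mul : ∀ p q n, act (p * q) n = act p (act q n) := by decide +kernel
theorem act_add : ∀ q m n, act q (m + n) = act q m + act q n := by decide +kernel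

theorem compat : ∀ q n, ∃ l : F4c, r1 (act q n) * r2 q = l • (r2 q * r1 n) := by decide +kernel

theorem inj : ∀ n q, (∃ l : F4c, r1 n * r2 q = l • (1 : M3)) → n = 0 ∧ q = 1 := by decide +kernel

end Cfsg.Agent.Lib.Lead.U32
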