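import Mathlib
import Cfsg.Prelude.Def_Classical
import Cfsg.Agent.Lib.Lead.U32
import Cfsg.Agent.S0279
import Cfsg.Agent.S0282

set_option autoImplicit false

/-! `PSU₃(2) ≅ 3² : Q₈`, as an explicit isomorphism from a semidirect product. -/

namespace Cfsg.Agent.Lib.Lead.PSU32

open Cfsg Matrix Cfsg.Agent.Lib.Lead Cfsg.Agent.Lib.Lead.F4 Cfsg.Agent.Lib.Lead.U32

/-- one automorphism of `3²` -/
def φfun (q : QuaternionGroup 2) : MulAut (Multiplicative (ZMod 3 × ZMod 3)) where
  toFun n := Multiplicative.ofAdd (act q (Multiplicative.toAdd n))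
  invFun n := Multiplicative.ofAdd (act q⁻¹ (Multiplicative.toAdd n))
  left_inv n := by
    show Multiplicative.ofAdd (act q⁻¹ (act q (Multiplicative.toAdd n))) = n
    rw [← act_mul, inv_mul_cancel, act_one]
    rfl
  right_inv n := by
    show Multiplicative.ofAdd (act q (act q⁻¹ (Multiplicative.toAdd n))) = n
    rw [← act_mul, mul_inv_cancel, act_one]
    rfl
  map_mul' m n := by
    show Multiplicative.ofAdd (act q (Multiplicative.toAdd m + Multiplicative.toAdd n)) = _
    rw [act_add]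
    rfl

/-- the action of `Q₈` on `3²` -/
def φ : QuaternionGroup 2 →* MulAut (Multiplicative (ZMod 3 × ZMod 3)) where
  toFun := φfun
  map_one' := by
    apply MulEquiv.ext
    intro n
    show Multiplicative.ofAdd (act 1 (Multiplicative.toAdd n)) = n
    rw [act_one]
    rfl
  map_mul' p q := by
    apply MulEquiv.ext
    intro n
    show Multiplicative.ofAdd (act (p * q) (Multiplicative.toAdd n)) =
      Multiplicative.ofAdd (act p (act q (Multiplicative.toAdd n)))
    rw [act_mul]

theorem φ_apply (q : QuaternionGroup 2) (n : Multiplicative (ZMod 3 × ZMod 3)) :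
    φ q n = Multiplicative.ofAdd (act q (Multiplicative.toAdd n)) := rfl

/-- the model group `3² : Q₈` -/
abbrev K : Type := Multiplicative (ZMod 3 × ZMod 3) ⋊[φ] QuaternionGroup 2

section field
variable {F : Type*} [Field F]

/-- the data of an embedding of the concrete field together with the Frobenius -/
structure Data (F : Type*) [Field F] where
  /-- the embedding -/
  ι : F4c →+* F
  /-- the Frobenius -/
  σ : F →+* F
  hσ : ∀ x, σ x = x ^ 2
  hinj : Function.Injective ι

variable (d : Data F)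

theorem Data.comp_eq : (d.σ : F → F) ∘ (d.ι : F4c → F) = (d.ι : F4c → F) ∘ (fun x => x * x) := by
  funext x
  show d.σ (d.ι x) = d.ι (x * x)
  rw [d.hσ, map_mul, sq]

/-- a concrete matrix of determinant one, over `F` -/
def toSL (M : M3) (hd : d3 M = 1) : Matrix.SpecialLinearGroup (Fin 3) F :=
  ⟨M.map d.ι, by
    have := RingHom.map_det d.ι M
    rw [RingHom.mapMatrix_apply] at this
    rw [← this, ← d3_eq_det, hd, map_one]⟩

theorem toSL_mem (M : M3) (hU : M.transpose * fr M = 1) (hd : d3 M = 1) :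
    toSL d M hd ∈ Cfsg.SU 3 F 2 := by
  rw [Cfsg.Agent.S0279.mem_SU_iff' d.σ d.hσ]
  show (M.map d.ι)ᵀ * (M.map d.ι).map d.σ = 1
  rw [Matrix.map_map, d.comp_eq, ← Matrix.map_map, ← Matrix.transpose_map]
  have h := congrArg (fun A : M3 => A.map d.ι) hU
  simp only [Matrix.map_mul] at h
  rw [show (fr M) = M.map (fun x => x * x) from rfl] at h
  rw [h, Matrix.map_one _ (map_zero _) (map_one _)]

/-- a concrete special unitary matrix, over `F` -/
def toSU (M : M3) (hU : M.transpose * fr M = 1) (hd : d3 M = 1) : Cfsg.SU 3 F 2 :=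
  ⟨toSL d M hd, toSL_mem d M hU hd⟩

theorem toSU_coe (M : M3) (hU : M.transpose * fr M = 1) (hd : d3 M = 1) :
    (((toSU d M hU hd : Cfsg.SU 3 F 2) : Matrix.SpecialLinearGroup (Fin 3) F) :
      Matrix (Fin 3) (Fin 3) F) = M.map d.ι := rfl

theorem SU_ext {A B : Cfsg.SU 3 F 2}
    (h : ((A : Matrix.SpecialLinearGroup (Fin 3) F) : Matrix (Fin 3) (Fin 3) F) =
      ((B : Matrix.SpecialLinearGroup (Fin 3) F) : Matrix (Fin 3) (Fin 3) F)) : A = B :=
  Subtype.ext (Subtype.ext h)

theorem SU_mul_coe (A B : Cfsg.SU 3 F 2) :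
    (((A * B : Cfsg.SU 3 F 2) : Matrix.SpecialLinearGroup (Fin 3) F) : Matrix (Fin 3) (Fin 3) F) =
      ((A : Matrix.SpecialLinearGroup (Fin 3) F) : Matrix (Fin 3) (Fin 3) F) *
        ((B : Matrix.SpecialLinearGroup (Fin 3) F) : Matrix (Fin 3) (Fin 3) F) := rfl

/-- the representation of `Q₈` -/
def f₂ : QuaternionGroup 2 →* Cfsg.SU 3 F 2 where
  toFun q := toSU d (r2 q) (r2_unitary q) (r2_det q)
  map_one' := by
    apply SU_ext
    rw [toSU_coe, r2_one, Matrix.map_one _ (map_zero _) (map_one _)]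
    rfl
  map_mul' p q := by
    apply SU_ext
    rw [SU_mul_coe, toSU_coe, toSU_coe, toSU_coe, r2_mul, Matrix.map_mul]

/-- proportional elements of `SU` have the same image in `PSU` -/
theorem mk_eq_of_smul (A B : Cfsg.SU 3 F 2) (l : F)
    (h : ((A : Matrix.SpecialLinearGroup (Fin 3) F) : Matrix (Fin 3) (Fin 3) F) =
      l • ((B : Matrix.SpecialLinearGroup (Fin 3) F) : Matrix (Fin 3) (Fin 3) F)) :
    (QuotientGroup.mk A : Cfsg.PSU 3 F 2) = QuotientGroup.mk B := by
  rw [QuotientGroup.eq, Subgroup.mem_center_iff]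
  intro g
  obtain ⟨c, hc⟩ : ∃ c : Cfsg.SU 3 F 2, c = A⁻¹ * B := ⟨_, rfl⟩
  rw [← hc]
  have hAc : A * c = B := by rw [hc, mul_inv_cancel_left]
  have h1 := congrArg (fun X : Cfsg.SU 3 F 2 =>
    ((X : Matrix.SpecialLinearGroup (Fin 3) F) : Matrix (Fin 3) (Fin 3) F)) hAc
  simp only [SU_mul_coe] at h1
  have h2 := congrArg (fun X : Cfsg.SU 3 F 2 =>
    ((X : Matrix.SpecialLinearGroup (Fin 3) F) : Matrix (Fin 3) (Fin 3) F)) (inv_mul_cancel B)
  simp only [SU_mul_coe] at h2
  have h2' : ((B⁻¹ : Cfsg.SU 3 F 2) : Matrix.SpecialLinearGroup (Fin 3) F).1 *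
      ((B : Matrix.SpecialLinearGroup (Fin 3) F) : Matrix (Fin 3) (Fin 3) F) = 1 := h2
  have hlc : l • ((c : Matrix.SpecialLinearGroup (Fin 3) F) : Matrix (Fin 3) (Fin 3) F) = 1 := by
    rw [h, Matrix.smul_mul] at h1
    have h3 := congrArg (fun X => ((B⁻¹ : Cfsg.SU 3 F 2) : Matrix.SpecialLinearGroup (Fin 3) F).1 * X) h1
    simp only [Matrix.mul_smul, ← Matrix.mul_assoc, h2', Matrix.one_mul] at h3
    exact h3
  have hl0 : l ≠ 0 := by
    rintro rfl
    rw [zero_smul] at hlc
    exact zero_ne_one hlc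
  apply SU_ext
  rw [SU_mul_coe, SU_mul_coe]
  have e1 : l • (((g : Matrix.SpecialLinearGroup (Fin 3) F) : Matrix (Fin 3) (Fin 3) F) *
      ((c : Matrix.SpecialLinearGroup (Fin 3) F) : Matrix (Fin 3) (Fin 3) F)) =
      l • (((c : Matrix.SpecialLinearGroup (Fin 3) F) : Matrix (Fin 3) (Fin 3) F) *
        ((g : Matrix.SpecialLinearGroup (Fin 3) F) : Matrix (Fin 3) (Fin 3) F)) := by
    rw [← Matrix.mul_smul, ← Matrix.smul_mul, hlc, Matrix.mul_one, Matrix.one_mul]
  exact smul_right_injective _ hl0 e1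

/-- the (projective) representation of `3²`, in `PSU` -/
def f₁ : Multiplicative (ZMod 3 × ZMod 3) →* Cfsg.PSU 3 F 2 where
  toFun n := QuotientGroup.mk (toSU d (r1 (Multiplicative.toAdd n)) (r1_unitary _) (r1_det _))
  map_one' := by
    show QuotientGroup.mk (toSU d (r1 0) (r1_unitary _) (r1_det _)) = 1
    have : toSU d (r1 0) (r1_unitary _) (r1_det _) = (1 : Cfsg.SU 3 F 2) := by
      apply SU_ext
      rw [toSU_coe, r1_zero, Matrix.map_one _ (map_zero _) (map_one _)]
      rfl
    rw [this]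
    rfl
  map_mul' m n := by
    show QuotientGroup.mk (toSU d (r1 (Multiplicative.toAdd m + Multiplicative.toAdd n))
      (r1_unitary _) (r1_det _)) = QuotientGroup.mk _ * QuotientGroup.mk _
    rw [← QuotientGroup.mk_mul]
    obtain ⟨l, hl⟩ := r1_add (Multiplicative.toAdd m) (Multiplicative.toAdd n)
    apply mk_eq_of_smul _ _ (d.ι l)
    rw [SU_mul_coe, toSU_coe, toSU_coe, toSU_coe, hl, Matrix.map_smul' d.ι _ _ (map_mul d.ι), Matrix.map_mul]

/-- the representation of `Q₈` in `PSU` -/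
def f₂' : QuaternionGroup 2 →* Cfsg.PSU 3 F 2 :=
  (QuotientGroup.mk' (Subgroup.center (Cfsg.SU 3 F 2))).comp (f₂ d)

theorem compat' (q : QuaternionGroup 2) :
    (f₁ d).comp (φ q).toMonoidHom = (MulAut.conj (f₂' d q)).toMonoidHom.comp (f₁ d) := by
  apply MonoidHom.ext
  intro n
  show f₁ d (φ q n) = f₂' d q * f₁ d n * (f₂' d q)⁻¹
  rw [eq_mul_inv_iff_mul_eq]
  show QuotientGroup.mk (toSU d (r1 (act q (Multiplicative.toAdd n))) (r1_unitary _) (r1_det _)) *
    QuotientGroup.mk (f₂ d q) = QuotientGroup.mk (f₂ d q) *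
      QuotientGroup.mk (toSU d (r1 (Multiplicative.toAdd n)) (r1_unitary _) (r1_det _))
  rw [← QuotientGroup.mk_mul, ← QuotientGroup.mk_mul]
  obtain ⟨l, hl⟩ := compat q (Multiplicative.toAdd n)
  apply mk_eq_of_smul _ _ (d.ι l)
  rw [SU_mul_coe, SU_mul_coe, toSU_coe, toSU_coe]
  show (r1 (act q (Multiplicative.toAdd n))).map d.ι * (r2 q).map d.ι =
    d.ι l • ((r2 q).map d.ι * (r1 (Multiplicative.toAdd n)).map d.ι)
  rw [← Matrix.map_mul, ← Matrix.map_mul, hl, Matrix.map_smul' d.ι _ _ (map_mul d.ι)]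

/-- the homomorphism from the model group -/
def Θ : K →* Cfsg.PSU 3 F 2 := SemidirectProduct.lift (f₁ d) (f₂' d) (compat' d)

end field

section final
variable {F : Type*} [Field F] [Fintype F]

theorem exists_data (hF : Fintype.card F = 4) : Nonempty (Data F) := by
  have h2 := char_two_of_card hF
  obtain ⟨ω, hω⟩ := exists_omega hF
  obtain ⟨σ, hσ⟩ := exists_frob (F := F) (q := 2) (by rw [hF]; norm_num)
  exact ⟨⟨toFHom ω h2 hω, σ, hσ, toFHom_injective ω h2 hω⟩⟩

theorem Θ_apply (d : Data F) (k : K) :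
    Θ d k = QuotientGroup.mk
      (toSU d (r1 (Multiplicative.toAdd k.left)) (r1_unitary _) (r1_det _) * f₂ d k.right) := rfl

theorem Θ_injective (hF : Fintype.card F = 4) (d : Data F) : Function.Injective (Θ d) := by
  rw [injective_iff_map_eq_one]
  intro k hk
  rw [Θ_apply, QuotientGroup.eq_one_iff] at hk
  obtain ⟨c, hc⟩ : ∃ c : Cfsg.SU 3 F 2,
      c = toSU d (r1 (Multiplicative.toAdd k.left)) (r1_unitary _) (r1_det _) * f₂ d k.right :=
    ⟨_, rfl⟩
  rw [← hc] at hk
  obtain ⟨l, hl⟩ := Cfsg.Agent.S0279.central_is_scalar (F := F) (q := 2) (n := 3)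
    (by rw [hF]; norm_num) (by norm_num) c.1 (by
      intro B hB
      have := (Subgroup.mem_center_iff.mp hk) ⟨B, hB⟩
      exact (congrArg Subtype.val this).symm)
  have hM : (r1 (Multiplicative.toAdd k.left) * r2 k.right).map d.ι = Matrix.scalar (Fin 3) l := by
    rw [← hl, hc, Matrix.map_mul]
    rfl
  have hsc : ∃ l' : F4c, r1 (Multiplicative.toAdd k.left) * r2 k.right = l' • (1 : M3) := by
    refine ⟨(r1 (Multiplicative.toAdd k.left) * r2 k.right) 0 0, ?_⟩
    ext i j
    apply d.hinj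
    have hij := congrFun (congrFun hM i) j
    have h00 := congrFun (congrFun hM 0) 0
    rw [Matrix.map_apply] at hij h00
    rw [hij, Matrix.smul_apply, Matrix.one_apply, smul_eq_mul]
    by_cases h : i = j
    · subst h
      rw [if_pos rfl, mul_one, h00]
      simp
    · rw [if_neg h, mul_zero, map_zero]
      simp [Matrix.scalar_apply, Matrix.diagonal_apply, h]
  obtain ⟨hn, hq⟩ := inj _ _ hsc
  apply SemidirectProduct.ext
  · rw [SemidirectProduct.one_left]
    exact Multiplicative.toAdd.injective hn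
  · rw [SemidirectProduct.one_right]
    exact hq

theorem card_K : Nat.card K = 72 := by
  rw [SemidirectProduct.card, Nat.card_eq_fintype_card, Nat.card_eq_fintype_card,
    QuaternionGroup.card, Fintype.card_multiplicative, Fintype.card_prod, ZMod.card]

theorem Θ_bijective (hF : Fintype.card F = 4) (d : Data F) : Function.Bijective (Θ d) := by
  have hfin : Finite (Cfsg.PSU 3 F 2) := inferInstance
  apply (Θ_injective hF d).bijective_of_nat_card_le
  rw [(Cfsg.Agent.S0282.result hF).1, card_K]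

/-- `3² : Q₈ ≅ PSU₃(2)` -/
noncomputable def isoK (hF : Fintype.card F = 4) (d : Data F) : K ≃* Cfsg.PSU 3 F 2 :=
  MulEquiv.ofBijective (Θ d) (Θ_bijective hF d)

end final

/-! ### Structure of the model group -/

/-- the normal subgroup `3²` of the model -/
def NK : Subgroup K := (SemidirectProduct.rightHom : K →* QuaternionGroup 2).ker

instance NK_normal : NK.Normal := by
  unfold NK
  infer_instance

theorem three_nsmul : ∀ v : ZMod 3 × ZMod 3, 3 • v = 0 := by decide

theorem NK_eq : NK = (SemidirectProduct.inl : Multiplicative (ZMod 3 × ZMod 3) →* K).range :=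
  SemidirectProduct.range_inl_eq_ker_rightHom.symm

theorem card_NK : Nat.card NK = 9 := by
  rw [NK_eq]
  have h : Nat.card ((SemidirectProduct.inl : Multiplicative (ZMod 3 × ZMod 3) →* K).range) =
      Nat.card (Multiplicative (ZMod 3 × ZMod 3)) :=
    Nat.card_range_of_injective SemidirectProduct.inl_injective
  rw [h, Nat.card_eq_fintype_card, Fintype.card_multiplicative, Fintype.card_prod, ZMod.card]

theorem NK_exp (x : K) (hx : x ∈ NK) : x ^ 3 = 1 := by
  rw [NK_eq] at hx
  obtain ⟨n, rfl⟩ := hx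
  rw [← map_pow]
  have : n ^ 3 = 1 := by
    apply Multiplicative.toAdd.injective
    rw [toAdd_pow, toAdd_one]
    exact three_nsmul _
  rw [this, map_one]

/-- the quotient of the model by `3²` is `Q₈` -/
noncomputable def quotK : K ⧸ NK ≃* QuaternionGroup 2 :=
  QuotientGroup.quotientKerEquivOfSurjective _ SemidirectProduct.rightHom_surjective

/-- transfer of the structure along an isomorphism -/
theorem structure_of_iso {G : Type*} [Group G] (e : K ≃* G) :
    ∃ (N : Subgroup G) (_ : N.Normal), Nat.card N = 9 ∧ (∀ x ∈ N, x ^ 3 = 1) ∧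
      Nonempty (G ⧸ N ≃* QuaternionGroup 2) := by
  have hnorm : (NK.map e.toMonoidHom).Normal :=
    Subgroup.Normal.map inferInstance _ e.surjective
  refine ⟨NK.map e.toMonoidHom, hnorm, ?_, ?_, ?_⟩
  · rw [Subgroup.card_map_of_injective e.injective, card_NK]
  · rintro x ⟨y, hy, rfl⟩
    show (e y) ^ 3 = 1
    rw [← map_pow, NK_exp y hy, map_one]
  · exact ⟨(QuotientGroup.congr NK (NK.map e.toMonoidHom) e rfl).symm.trans quotK⟩

end Cfsg.Agent.Lib.Lead.PSU32
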