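import Mathlib
import Cfsg.Prelude.Def_Classical
import Cfsg.Agent.Lib.Lead.PSL4Orth

set_option autoImplicit false
set_option linter.unusedSectionVars false

namespace Cfsg.Agent.Lib.Lead.PO6m

open Cfsg Matrix

variable {K : Type*} [Field K]

theorem R6_transpose (A : Matrix (Fin 4) (Fin 4) K) : PO6.R6 Aᵀ = (PO6.R6 A)ᵀ := by
  ext k l
  simp only [PO6.R6, Matrix.of_apply, Matrix.transpose_apply]
  ring

theorem R6_map (σ : K →+* K) (A : Matrix (Fin 4) (Fin 4) K) :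
    (PO6.R6 A).map σ = PO6.R6 (A.map σ) := by
  ext k l
  simp [PO6.R6]

/-- the Gram matrix of the wedge pairing (Hodge star) -/
def P6 : Matrix (Fin 6) (Fin 6) K :=
  !![0, 0, 0, 1, 0, 0; 0, 0, 0, 0, 1, 0; 0, 0, 0, 0, 0, 1;
     1, 0, 0, 0, 0, 0; 0, 1, 0, 0, 0, 0; 0, 0, 1, 0, 0, 0]

theorem P6_mul_P6 : (P6 : Matrix (Fin 6) (Fin 6) K) * P6 = 1 := by
  ext i j
  fin_cases i <;> fin_cases j <;> simp [P6, Matrix.mul_apply, Fin.sum_univ_six]

theorem R6_wedge (A : Matrix (Fin 4) (Fin 4) K) :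
    (PO6.R6 A)ᵀ * P6 * PO6.R6 A = A.det • P6 := by
  rw [PO6.det4]
  ext k l
  fin_cases k <;> fin_cases l <;>
    simp [PO6.R6, P6, Matrix.mul_apply, Fin.sum_univ_six, PO6.pa, PO6.pb] <;> ring

/-- for a unitary matrix of determinant one, `σ(Λ²A) = ∗ Λ²A ∗` -/
theorem R6_sigma (σ : K →+* K) (A : Matrix (Fin 4) (Fin 4) K) (hdet : A.det = 1)
    (hU : Aᵀ * A.map σ = 1) : (PO6.R6 A).map σ = P6 * PO6.R6 A * P6 := by
  rw [R6_map]
  have h1 : (PO6.R6 A)ᵀ * PO6.R6 (A.map σ) = 1 := by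
    rw [← R6_transpose, ← PO6.R6_mul, hU, PO6.R6_one]
  have h2 : (PO6.R6 A)ᵀ * (P6 * PO6.R6 A * P6) = 1 := by
    rw [← Matrix.mul_assoc, ← Matrix.mul_assoc, R6_wedge, hdet, one_smul, P6_mul_P6]
  have h3 : (P6 * PO6.R6 A * P6) * (PO6.R6 A)ᵀ = 1 := (Matrix.mul_eq_one_comm_of_card_eq (Fin 6) (Fin 6) K rfl).mp h2
  calc PO6.R6 (A.map σ) = ((P6 * PO6.R6 A * P6) * (PO6.R6 A)ᵀ) * PO6.R6 (A.map σ) := by
        rw [h3, Matrix.one_mul]
    _ = (P6 * PO6.R6 A * P6) * ((PO6.R6 A)ᵀ * PO6.R6 (A.map σ)) := by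
        rw [Matrix.mul_assoc]
    _ = _ := by rw [h1, Matrix.mul_one]

/-- the embedding `x ↦ (x, σ x)` -/
def emb (σ : K →+* K) (x : Fin 3 → K) : Fin 6 → K :=
  ![x 0, x 1, x 2, σ (x 0), σ (x 1), σ (x 2)]

/-- the projection to the first three coordinates -/
def pr (w : Fin 6 → K) : Fin 3 → K := ![w 0, w 1, w 2]

theorem pr_emb (σ : K →+* K) (x : Fin 3 → K) : pr (emb σ x) = x := by
  funext k
  fin_cases k <;> rfl

theorem Q6_emb (σ : K →+* K) (x : Fin 3 → K) :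
    PO6.Q6 (emb σ x) = ∑ k : Fin 3, x k * σ (x k) := by
  simp [PO6.Q6, emb, Fin.sum_univ_three]

/-- the index swap `k ↦ k + 3 mod 6` -/
def sw : Fin 6 → Fin 6 := ![3, 4, 5, 0, 1, 2]

theorem P6_conj_apply (M : Matrix (Fin 6) (Fin 6) K) (k l : Fin 6) :
    (P6 * M * P6 : Matrix (Fin 6) (Fin 6) K) k l = M (sw k) (sw l) := by
  rw [Matrix.mul_apply, Fin.sum_univ_six]
  simp only [Matrix.mul_apply, Fin.sum_univ_six]
  fin_cases k <;> fin_cases l <;> simp [P6, sw]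

/-- a matrix with `σ(M) = ∗ M ∗` preserves the `F`-structure `{(x, σ x)}` -/
theorem emb_pr_of_sigma (σ : K →+* K) (hσσ : ∀ x, σ (σ x) = x) (M : Matrix (Fin 6) (Fin 6) K)
    (hM : M.map σ = P6 * M * P6) (x : Fin 3 → K) :
    emb σ (pr (M *ᵥ emb σ x)) = M *ᵥ emb σ x := by
  have hent : ∀ k l, σ (M k l) = M (sw k) (sw l) := by
    intro k l
    have := congrFun (congrFun hM k) l
    rwa [Matrix.map_apply, P6_conj_apply] at this
  funext k
  fin_cases k
  · rfl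
  · rfl
  · rfl
  · have e0 := hent 0 0
    have e1 := hent 0 1
    have e2 := hent 0 2
    have e3 := hent 0 3
    have e4 := hent 0 4
    have e5 := hent 0 5
    simp [sw] at e0 e1 e2 e3 e4 e5
    simp [emb, pr, Matrix.mulVec, dotProduct, Fin.sum_univ_six, hσσ, e0, e1, e2, e3, e4, e5]
    ring
  · have e0 := hent 1 0
    have e1 := hent 1 1
    have e2 := hent 1 2
    have e3 := hent 1 3
    have e4 := hent 1 4
    have e5 := hent 1 5
    simp [sw] at e0 e1 e2 e3 e4 e5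
    simp [emb, pr, Matrix.mulVec, dotProduct, Fin.sum_univ_six, hσσ, e0, e1, e2, e3, e4, e5]
    ring
  · have e0 := hent 2 0
    have e1 := hent 2 1
    have e2 := hent 2 2
    have e3 := hent 2 3
    have e4 := hent 2 4
    have e5 := hent 2 5
    simp [sw] at e0 e1 e2 e3 e4 e5
    simp [emb, pr, Matrix.mulVec, dotProduct, Fin.sum_univ_six, hσσ, e0, e1, e2, e3, e4, e5]
    ring

/-- the vectors `(x, σ x)` span: a matrix fixing all of them is the identity -/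
theorem eq_one_of_fix_emb (σ : K →+* K) (θ : K) (hθ : θ ≠ σ θ) (M : Matrix (Fin 6) (Fin 6) K)
    (h : ∀ x, M *ᵥ emb σ x = emb σ x) : M = 1 := by
  have hd : θ - σ θ ≠ 0 := sub_ne_zero.mpr hθ
  have key : ∀ l : Fin 3, M *ᵥ emb σ (Pi.single l 1) = emb σ (Pi.single l 1) ∧
      M *ᵥ emb σ (Pi.single l θ) = emb σ (Pi.single l θ) := fun l => ⟨h _, h _⟩
  apply Matrix.ext_of_mulVec_single
  intro j
  rw [Matrix.one_mulVec]
  fin_cases j
  · have e : (Pi.single 0 1 : Fin 6 → K) = (θ - σ θ)⁻¹ •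
        (emb σ (Pi.single 0 θ) - σ θ • emb σ (Pi.single 0 1)) := by
      funext k
      fin_cases k <;> simp [emb, Pi.single_apply] <;> field_simp
    change M *ᵥ (Pi.single 0 1 : Fin 6 → K) = Pi.single 0 1
    rw [e, Matrix.mulVec_smul, Matrix.mulVec_sub, Matrix.mulVec_smul, (key 0).1, (key 0).2]
  · have e : (Pi.single 1 1 : Fin 6 → K) = (θ - σ θ)⁻¹ •
        (emb σ (Pi.single 1 θ) - σ θ • emb σ (Pi.single 1 1)) := by
      funext k
      fin_cases k <;> simp [emb, Pi.single_apply] <;> field_simp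
    change M *ᵥ (Pi.single 1 1 : Fin 6 → K) = Pi.single 1 1
    rw [e, Matrix.mulVec_smul, Matrix.mulVec_sub, Matrix.mulVec_smul, (key 1).1, (key 1).2]
  · have e : (Pi.single 2 1 : Fin 6 → K) = (θ - σ θ)⁻¹ •
        (emb σ (Pi.single 2 θ) - σ θ • emb σ (Pi.single 2 1)) := by
      funext k
      fin_cases k <;> simp [emb, Pi.single_apply] <;> field_simp
    change M *ᵥ (Pi.single 2 1 : Fin 6 → K) = Pi.single 2 1
    rw [e, Matrix.mulVec_smul, Matrix.mulVec_sub, Matrix.mulVec_smul, (key 2).1, (key 2).2]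
  · have e : (Pi.single 3 1 : Fin 6 → K) = (θ - σ θ)⁻¹ •
        (θ • emb σ (Pi.single 0 1) - emb σ (Pi.single 0 θ)) := by
      funext k
      fin_cases k <;> simp [emb, Pi.single_apply] <;> field_simp
    change M *ᵥ (Pi.single 3 1 : Fin 6 → K) = Pi.single 3 1
    rw [e, Matrix.mulVec_smul, Matrix.mulVec_sub, Matrix.mulVec_smul, (key 0).1, (key 0).2]
  · have e : (Pi.single 4 1 : Fin 6 → K) = (θ - σ θ)⁻¹ •
        (θ • emb σ (Pi.single 1 1) - emb σ (Pi.single 1 θ)) := by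
      funext k
      fin_cases k <;> simp [emb, Pi.single_apply] <;> field_simp
    change M *ᵥ (Pi.single 4 1 : Fin 6 → K) = Pi.single 4 1
    rw [e, Matrix.mulVec_smul, Matrix.mulVec_sub, Matrix.mulVec_smul, (key 1).1, (key 1).2]
  · have e : (Pi.single 5 1 : Fin 6 → K) = (θ - σ θ)⁻¹ •
        (θ • emb σ (Pi.single 2 1) - emb σ (Pi.single 2 θ)) := by
      funext k
      fin_cases k <;> simp [emb, Pi.single_apply] <;> field_simp
    change M *ᵥ (Pi.single 5 1 : Fin 6 → K) = Pi.single 5 1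
    rw [e, Matrix.mulVec_smul, Matrix.mulVec_sub, Matrix.mulVec_smul, (key 2).1, (key 2).2]

end Cfsg.Agent.Lib.Lead.PO6m
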