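import Mathlib
import Cfsg.Agent.Lib.helper14.SimDiag
import Cfsg.Agent.Lib.Helper16.SympTrans

set_option autoImplicit false
set_option linter.unusedSectionVars false

/-! A finite set of symplectic matrices (odd characteristic), closed under products, containing `-1`,
whose elements square to `±1` and commute up to sign, has at most `4 n 2^n` elements. -/

namespace Cfsg.Agent.Lib.Lead.PSR

open Matrix Module Cfsg.Agent.Lib.Lead Cfsg.Agent.Lib.Helper16 Cfsg.Agent.Lib.helper14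

variable {F : Type*} [Field F] [Fintype F] {n : ℕ}

/-- the hypotheses on the set of matrices -/
structure Hyp (E : Set (Matrix (Fin n ⊕ Fin n) (Fin n ⊕ Fin n) F)) : Prop where
  sp : ∀ M ∈ E, M ∈ Matrix.symplecticGroup (Fin n) F
  mul : ∀ M ∈ E, ∀ N ∈ E, M * N ∈ E
  neg : (-1 : Matrix (Fin n ⊕ Fin n) (Fin n ⊕ Fin n) F) ∈ E
  sq : ∀ M ∈ E, M * M = 1 ∨ M * M = -1
  cm : ∀ M ∈ E, ∀ N ∈ E, M * N = N * M ∨ M * N = -(N * M)

/-- a maximal set of pairwise commuting involutions -/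
structure IsMaxInv (E S : Set (Matrix (Fin n ⊕ Fin n) (Fin n ⊕ Fin n) F)) : Prop where
  sub : S ⊆ E
  inv : ∀ a ∈ S, a * a = 1
  comm : ∀ a ∈ S, ∀ b ∈ S, a * b = b * a
  max : ∀ x ∈ E, x * x = 1 → (∀ b ∈ S, x * b = b * x) → x ∈ S

theorem exists_maxInv (E : Set (Matrix (Fin n ⊕ Fin n) (Fin n ⊕ Fin n) F)) :
    ∃ S, IsMaxInv E S := by
  classical
  let p : Set (Matrix (Fin n ⊕ Fin n) (Fin n ⊕ Fin n) F) → Prop := fun S =>
    S ⊆ E ∧ (∀ a ∈ S, a * a = 1) ∧ (∀ a ∈ S, ∀ b ∈ S, a * b = b * a)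
  have h0 : p ∅ := ⟨Set.empty_subset _, fun a ha => absurd ha (Set.notMem_empty a),
    fun a ha => absurd ha (Set.notMem_empty a)⟩
  obtain ⟨S, -, hS⟩ := Finite.exists_le_maximal (p := p) h0
  obtain ⟨⟨h1, h2, h3⟩, hmax⟩ := hS
  refine ⟨S, h1, h2, h3, ?_⟩
  intro x hxE hx hxS
  have hp : p (insert x S) := by
    refine ⟨Set.insert_subset hxE h1, ?_, ?_⟩
    · intro a ha
      rcases Set.mem_insert_iff.mp ha with rfl | ha
      · exact hx
      · exact h2 a ha
    · intro a ha b hb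
      rcases Set.mem_insert_iff.mp ha with ha' | ha' <;> rcases Set.mem_insert_iff.mp hb with hb' | hb'
      · rw [ha', hb']
      · rw [ha']; exact hxS b hb'
      · rw [hb']; exact (hxS a ha').symm
      · exact h3 a ha' b hb'
  exact hmax hp (Set.subset_insert x S) (Set.mem_insert x S)


section basics
variable {E S : Set (Matrix (Fin n ⊕ Fin n) (Fin n ⊕ Fin n) F)}

theorem Hyp.one_mem (hE : Hyp E) : (1 : Matrix (Fin n ⊕ Fin n) (Fin n ⊕ Fin n) F) ∈ E := by
  have := hE.mul _ hE.neg _ hE.neg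
  rwa [neg_mul_neg, one_mul] at this

theorem Hyp.neg_mem (hE : Hyp E) {M : Matrix (Fin n ⊕ Fin n) (Fin n ⊕ Fin n) F} (hM : M ∈ E) :
    -M ∈ E := by
  have := hE.mul _ hE.neg _ hM
  rwa [neg_mul, one_mul] at this

theorem IsMaxInv.negOne_mem (hE : Hyp E) (hS : IsMaxInv E S) :
    (-1 : Matrix (Fin n ⊕ Fin n) (Fin n ⊕ Fin n) F) ∈ S := by
  apply hS.max _ hE.neg
  · rw [neg_mul_neg, one_mul]
  · intro b _
    rw [neg_mul, one_mul, mul_neg, mul_one]

theorem IsMaxInv.neg_mem (hE : Hyp E) (hS : IsMaxInv E S)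
    {a : Matrix (Fin n ⊕ Fin n) (Fin n ⊕ Fin n) F} (ha : a ∈ S) : -a ∈ S := by
  apply hS.max _ (hE.neg_mem (hS.sub ha))
  · rw [neg_mul_neg, hS.inv a ha]
  · intro b hb
    rw [neg_mul, mul_neg, hS.comm a ha b hb]

/-- an element of `E` is injective on vectors -/
theorem Hyp.mulVec_ne_zero (hE : Hyp E) {g : Matrix (Fin n ⊕ Fin n) (Fin n ⊕ Fin n) F} (hg : g ∈ E)
    {v : Fin n ⊕ Fin n → F} (hv : v ≠ 0) : g.mulVec v ≠ 0 := by
  intro h
  have h1 : (g * g).mulVec v = 0 := by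
    rw [← Matrix.mulVec_mulVec, h, Matrix.mulVec_zero]
  rcases hE.sq g hg with h2 | h2
  · rw [h2, Matrix.one_mulVec] at h1
    exact hv h1
  · rw [h2, Matrix.neg_mulVec, Matrix.one_mulVec, neg_eq_zero] at h1
    exact hv h1

theorem Hyp.mul_left_cancel (hE : Hyp E) {g x y : Matrix (Fin n ⊕ Fin n) (Fin n ⊕ Fin n) F}
    (hg : g ∈ E) (h : g * x = g * y) : x = y := by
  have h1 : (g * g) * x = (g * g) * y := by
    rw [Matrix.mul_assoc, Matrix.mul_assoc, h]
  rcases hE.sq g hg with h2 | h2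
  · rwa [h2, Matrix.one_mul, Matrix.one_mul] at h1
  · rw [h2, neg_mul, neg_mul, Matrix.one_mul, Matrix.one_mul] at h1
    exact neg_injective h1

end basics

section eigen
variable {E S : Set (Matrix (Fin n ⊕ Fin n) (Fin n ⊕ Fin n) F)}
  (b : Basis (Fin n ⊕ Fin n) F (Fin n ⊕ Fin n → F)) (χ : Fin n ⊕ Fin n → S → F)

theorem chi_pm (hS : IsMaxInv E S)
    (hb : ∀ (a : S) (i : Fin n ⊕ Fin n), (a : Matrix (Fin n ⊕ Fin n) (Fin n ⊕ Fin n) F).mulVec (b i) = χ i a • b i)
    (a : S) (i : Fin n ⊕ Fin n) : χ i a = 1 ∨ χ i a = -1 := by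
  have h1 := hb a i
  have h3 : (a : Matrix (Fin n ⊕ Fin n) (Fin n ⊕ Fin n) F).mulVec
      ((a : Matrix (Fin n ⊕ Fin n) (Fin n ⊕ Fin n) F).mulVec (b i)) = b i := by
    rw [Matrix.mulVec_mulVec, hS.inv a.1 a.2, Matrix.one_mulVec]
  rw [h1, Matrix.mulVec_smul, h1, smul_smul] at h3
  have hne : b i ≠ 0 := b.ne_zero i
  have h4 : (χ i a * χ i a - 1) • b i = 0 := by
    rw [sub_smul, h3, one_smul, sub_self]
  rcases smul_eq_zero.mp h4 with h5 | h5
  · have : (χ i a - 1) * (χ i a + 1) = 0 := by linear_combination h5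
    rcases mul_eq_zero.mp this with h6 | h6
    · left; exact sub_eq_zero.mp h6
    · right; exact eq_neg_of_add_eq_zero_left h6
  · exact absurd h5 hne

/-- every character of `S` afforded by a nonzero common eigenvector is one of the `χ j` -/
theorem char_mem
    (hb : ∀ (a : S) (i : Fin n ⊕ Fin n), (a : Matrix (Fin n ⊕ Fin n) (Fin n ⊕ Fin n) F).mulVec (b i) = χ i a • b i)
    (v : Fin n ⊕ Fin n → F) (hv : v ≠ 0) (ψ : S → F)
    (hψ : ∀ a : S, (a : Matrix (Fin n ⊕ Fin n) (Fin n ⊕ Fin n) F).mulVec v = ψ a • v) :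
    ∃ j, χ j = ψ := by
  obtain ⟨j, hj⟩ : ∃ j, b.repr v j ≠ 0 := by
    by_contra hcon
    push Not at hcon
    apply hv
    have : b.repr v = 0 := by
      ext j; exact hcon j
    exact (LinearEquiv.map_eq_zero_iff b.repr).mp this
  refine ⟨j, ?_⟩
  funext a
  have hvs : v = ∑ k, b.repr v k • b k := (b.sum_repr v).symm
  have h1 : (a : Matrix (Fin n ⊕ Fin n) (Fin n ⊕ Fin n) F).mulVec v =
      ∑ k, (b.repr v k * χ k a) • b k := by
    conv_lhs => rw [hvs]
    rw [← Matrix.mulVecLin_apply, map_sum]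
    refine Finset.sum_congr rfl (fun k _ => ?_)
    rw [map_smul, Matrix.mulVecLin_apply, hb a k, smul_smul]
  have h2 := congrArg (fun w => b.repr w j) (h1.symm.trans (hψ a))
  simp only [Basis.repr_sum_self, map_smul, Finsupp.smul_apply, smul_eq_mul] at h2
  have h3 : b.repr v j * (χ j a - ψ a) = 0 := by linear_combination h2
  rcases mul_eq_zero.mp h3 with h4 | h4
  · exact absurd h4 hj
  · exact sub_eq_zero.mp h4

end eigen


section pairing
variable {E S : Set (Matrix (Fin n ⊕ Fin n) (Fin n ⊕ Fin n) F)}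
  (b : Basis (Fin n ⊕ Fin n) F (Fin n ⊕ Fin n → F)) (χ : Fin n ⊕ Fin n → S → F)

theorem chi_eq_of_pair (h2 : (2 : F) ≠ 0) (hE : Hyp E) (hS : IsMaxInv E S)
    (hb : ∀ (a : S) (i : Fin n ⊕ Fin n), (a : Matrix (Fin n ⊕ Fin n) (Fin n ⊕ Fin n) F).mulVec (b i) = χ i a • b i)
    (i j : Fin n ⊕ Fin n) (hij : sympB F n (b i) (b j) ≠ 0) : χ i = χ j := by
  funext a
  have hmem : (a : Matrix (Fin n ⊕ Fin n) (Fin n ⊕ Fin n) F) ∈ Matrix.symplecticGroup (Fin n) F :=
    hE.sp a.1 (hS.sub a.2)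
  have h1 := sympB_pres (⟨a.1, hmem⟩ : Matrix.symplecticGroup (Fin n) F) (b i) (b j)
  simp only [] at h1
  rw [hb a i, hb a j, map_smul, map_smul, LinearMap.smul_apply, smul_eq_mul, smul_eq_mul] at h1
  have h3 : χ i a * χ j a = 1 := by
    have : (χ i a * χ j a - 1) * sympB F n (b i) (b j) = 0 := by linear_combination h1
    rcases mul_eq_zero.mp this with h5 | h5
    · exact sub_eq_zero.mp h5
    · exact absurd h5 hij
  have hone : (1 : F) ≠ -1 := by
    intro h; apply h2; linear_combination h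
  rcases chi_pm b χ hS hb a i with hi | hi <;> rcases chi_pm b χ hS hb a j with hj | hj
  · rw [hi, hj]
  · exfalso; rw [hi, hj] at h3; apply hone; linear_combination -h3
  · exfalso; rw [hi, hj] at h3; apply hone; linear_combination -h3
  · rw [hi, hj]

theorem exists_partner (i : Fin n ⊕ Fin n) : ∃ j, sympB F n (b i) (b j) ≠ 0 := by
  obtain ⟨y, hy⟩ := sympB_nondeg (b i) (b.ne_zero i)
  by_contra hcon
  push Not at hcon
  apply hy
  rw [← b.sum_repr y, map_sum]
  refine Finset.sum_eq_zero (fun k _ => ?_)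
  rw [map_smul, hcon k, smul_zero]

theorem partner_ne (i j : Fin n ⊕ Fin n) (hij : sympB F n (b i) (b j) ≠ 0) : j ≠ i := by
  rintro rfl
  exact hij (sympB_self _)

/-- the number of distinct characters is at most `n` -/
theorem card_chars_le [DecidableEq (S → F)] (h2 : (2 : F) ≠ 0) (hE : Hyp E) (hS : IsMaxInv E S)
    (hb : ∀ (a : S) (i : Fin n ⊕ Fin n), (a : Matrix (Fin n ⊕ Fin n) (Fin n ⊕ Fin n) F).mulVec (b i) = χ i a • b i) :
    (Finset.univ.image χ).card ≤ n := by
  classical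
  have hfib : ∀ t ∈ Finset.univ.image χ, 2 ≤ (Finset.univ.filter (fun i => χ i = t)).card := by
    intro t ht
    obtain ⟨i, -, rfl⟩ := Finset.mem_image.mp ht
    obtain ⟨j, hj⟩ := exists_partner b i
    have hji := partner_ne b i j hj
    have hχ := chi_eq_of_pair b χ h2 hE hS hb i j hj
    have : 1 < (Finset.univ.filter (fun k => χ k = χ i)).card := by
      rw [Finset.one_lt_card]
      exact ⟨i, by simp, j, by simp [hχ], hji.symm⟩
    exact this
  have h1 := Finset.card_eq_sum_card_image χ (Finset.univ : Finset (Fin n ⊕ Fin n))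
  have h3 : (Finset.univ.image χ).card • 2 ≤
      ∑ t ∈ Finset.univ.image χ, (Finset.univ.filter (fun i => χ i = t)).card :=
    Finset.card_nsmul_le_sum _ _ _ hfib
  rw [← h1, Finset.card_univ, Fintype.card_sum, Fintype.card_fin, smul_eq_mul] at h3
  omega

end pairing


section counting
variable {E S : Set (Matrix (Fin n ⊕ Fin n) (Fin n ⊕ Fin n) F)}
  (b : Basis (Fin n ⊕ Fin n) F (Fin n ⊕ Fin n → F)) (χ : Fin n ⊕ Fin n → S → F)

theorem card_S_le [DecidableEq (S → F)] (h2 : (2 : F) ≠ 0) (hS : IsMaxInv E S)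
    (hb : ∀ (a : S) (i : Fin n ⊕ Fin n), (a : Matrix (Fin n ⊕ Fin n) (Fin n ⊕ Fin n) F).mulVec (b i) = χ i a • b i) :
    S.ncard ≤ 2 ^ (Finset.univ.image χ).card := by
  classical
  have hone : (1 : F) ≠ -1 := by
    intro h; apply h2; linear_combination h
  let T := {t // t ∈ Finset.univ.image χ}
  let Φ : S → (T → Bool) := fun a t => decide (t.1 a = 1)
  have hΦ : Function.Injective Φ := by
    intro a a' hab
    have h1 : ∀ i, χ i a = χ i a' := by
      intro i
      have := congrFun hab ⟨χ i, Finset.mem_image_of_mem χ (Finset.mem_univ i)⟩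
      simp only [Φ, decide_eq_decide] at this
      rcases chi_pm b χ hS hb a i with ha | ha <;> rcases chi_pm b χ hS hb a' i with hb' | hb'
      · rw [ha, hb']
      · exfalso
        have h3 : χ i a' = 1 := this.mp ha
        rw [hb'] at h3
        exact hone h3.symm
      · exfalso
        have h3 : χ i a = 1 := this.mpr hb'
        rw [ha] at h3
        exact hone h3.symm
      · rw [ha, hb']
    have h4 : Matrix.toLin' (a : Matrix (Fin n ⊕ Fin n) (Fin n ⊕ Fin n) F) =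
        Matrix.toLin' (a' : Matrix (Fin n ⊕ Fin n) (Fin n ⊕ Fin n) F) := by
      apply b.ext
      intro i
      rw [Matrix.toLin'_apply, Matrix.toLin'_apply, hb a i, hb a' i, h1 i]
    exact Subtype.ext (Matrix.toLin'.injective h4)
  have h6 := Nat.card_le_card_of_injective Φ hΦ
  have h7 : Nat.card (T → Bool) = 2 ^ (Finset.univ.image χ).card := by
    rw [Nat.card_fun, Nat.card_eq_fintype_card (α := Bool), Fintype.card_bool,
      Nat.card_eq_fintype_card, Fintype.card_coe]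
  rw [h7, Nat.card_coe_set_eq] at h6
  exact h6

/-- the centralizer of `S` in `E` -/
def Cset (E S : Set (Matrix (Fin n ⊕ Fin n) (Fin n ⊕ Fin n) F)) :
    Set (Matrix (Fin n ⊕ Fin n) (Fin n ⊕ Fin n) F) :=
  {g | g ∈ E ∧ ∀ b ∈ S, g * b = b * g}

theorem card_Cset_le (hE : Hyp E) (hS : IsMaxInv E S) : (Cset E S).ncard ≤ 4 * S.ncard := by
  classical
  by_cases hCS : Cset E S ⊆ S
  · have := Set.ncard_le_ncard hCS
    omega
  obtain ⟨c, hcC, hcS⟩ := Set.not_subset.mp hCS
  have hcE : c ∈ E := hcC.1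
  have hcc : c * c = -1 := by
    rcases hE.sq c hcE with h | h
    · exact absurd (hS.max c hcE h hcC.2) hcS
    · exact h
  let C1 : Set (Matrix (Fin n ⊕ Fin n) (Fin n ⊕ Fin n) F) := {g | g ∈ Cset E S ∧ g * c = c * g}
  let C2 : Set (Matrix (Fin n ⊕ Fin n) (Fin n ⊕ Fin n) F) := {g | g ∈ Cset E S ∧ g * c = -(c * g)}
  have hsub : Cset E S ⊆ C1 ∪ C2 := by
    intro g hg
    rcases hE.cm g hg.1 c hcE with h | h
    · exact Or.inl ⟨hg, h⟩
    · exact Or.inr ⟨hg, h⟩
  have hC1 : C1 ⊆ S ∪ (fun s => c * s) '' S := by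
    rintro g ⟨hg, hgc⟩
    rcases hE.sq g hg.1 with h | h
    · exact Or.inl (hS.max g hg.1 h hg.2)
    · right
      have hh : c * g ∈ S := by
        apply hS.max _ (hE.mul c hcE g hg.1)
        · calc c * g * (c * g) = c * (g * c) * g := by simp only [Matrix.mul_assoc]
            _ = c * (c * g) * g := by rw [hgc]
            _ = (c * c) * (g * g) := by simp only [Matrix.mul_assoc]
            _ = 1 := by rw [hcc, h, neg_mul_neg, one_mul]
        · intro x hx
          calc c * g * x = c * (g * x) := by rw [Matrix.mul_assoc]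
            _ = c * (x * g) := by rw [hg.2 x hx]
            _ = (c * x) * g := by rw [Matrix.mul_assoc]
            _ = (x * c) * g := by rw [hcC.2 x hx]
            _ = x * (c * g) := by rw [Matrix.mul_assoc]
      refine ⟨-(c * g), hS.neg_mem hE hh, ?_⟩
      show c * -(c * g) = g
      rw [mul_neg, ← Matrix.mul_assoc, hcc, neg_mul, one_mul, neg_neg]
  have hC1card : C1.ncard ≤ 2 * S.ncard := by
    calc C1.ncard ≤ (S ∪ (fun s => c * s) '' S).ncard := Set.ncard_le_ncard hC1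
      _ ≤ S.ncard + ((fun s => c * s) '' S).ncard := Set.ncard_union_le _ _
      _ ≤ S.ncard + S.ncard := by
          have := Set.ncard_image_le (f := fun s => c * s) (s := S)
          omega
      _ = 2 * S.ncard := by ring
  have hC2card : C2.ncard ≤ C1.ncard := by
    by_cases hne : C2.Nonempty
    · obtain ⟨g0, hg0, hg0c⟩ := hne
      apply Set.ncard_le_ncard_of_injOn (fun g => g0 * g)
      · rintro g ⟨hg, hgc⟩
        refine ⟨⟨hE.mul g0 hg0.1 g hg.1, ?_⟩, ?_⟩
        · intro x hx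
          calc g0 * g * x = g0 * (g * x) := by rw [Matrix.mul_assoc]
            _ = g0 * (x * g) := by rw [hg.2 x hx]
            _ = (g0 * x) * g := by rw [Matrix.mul_assoc]
            _ = (x * g0) * g := by rw [hg0.2 x hx]
            _ = x * (g0 * g) := by rw [Matrix.mul_assoc]
        · calc g0 * g * c = g0 * (g * c) := by rw [Matrix.mul_assoc]
            _ = g0 * (-(c * g)) := by rw [hgc]
            _ = -((g0 * c) * g) := by rw [mul_neg, Matrix.mul_assoc]
            _ = -((-(c * g0)) * g) := by rw [hg0c]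
            _ = c * (g0 * g) := by rw [neg_mul, neg_neg, Matrix.mul_assoc]
      · intro x _ y _ hxy
        exact hE.mul_left_cancel hg0.1 hxy
    · rw [Set.not_nonempty_iff_eq_empty] at hne
      rw [hne, Set.ncard_empty]
      exact Nat.zero_le _
  calc (Cset E S).ncard ≤ (C1 ∪ C2).ncard := Set.ncard_le_ncard hsub
    _ ≤ C1.ncard + C2.ncard := Set.ncard_union_le _ _
    _ ≤ 4 * S.ncard := by omega

end counting


section orbit
variable {E S : Set (Matrix (Fin n ⊕ Fin n) (Fin n ⊕ Fin n) F)}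
  (b : Basis (Fin n ⊕ Fin n) F (Fin n ⊕ Fin n → F)) (χ : Fin n ⊕ Fin n → S → F)

open Classical in
/-- the character of `S` on the line spanned by `g (b i₀)` -/
noncomputable def psi (i0 : Fin n ⊕ Fin n) (g : Matrix (Fin n ⊕ Fin n) (Fin n ⊕ Fin n) F) : S → F :=
  fun a => if g * a.1 = a.1 * g then χ i0 a else -χ i0 a

theorem psi_mem [DecidableEq (S → F)] (hE : Hyp E) (hS : IsMaxInv E S)
    (hb : ∀ (a : S) (i : Fin n ⊕ Fin n), (a : Matrix (Fin n ⊕ Fin n) (Fin n ⊕ Fin n) F).mulVec (b i) = χ i a • b i)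
    (i0 : Fin n ⊕ Fin n) (g : Matrix (Fin n ⊕ Fin n) (Fin n ⊕ Fin n) F) (hg : g ∈ E) :
    psi χ i0 g ∈ Finset.univ.image χ := by
  classical
  have hv : g.mulVec (b i0) ≠ 0 := hE.mulVec_ne_zero hg (b.ne_zero i0)
  obtain ⟨j, hj⟩ := char_mem b χ hb (g.mulVec (b i0)) hv (psi χ i0 g) (by
    intro a
    rw [Matrix.mulVec_mulVec]
    unfold psi
    by_cases hc : g * a.1 = a.1 * g
    · rw [if_pos hc, ← hc, ← Matrix.mulVec_mulVec, hb a i0, Matrix.mulVec_smul]
    · rw [if_neg hc]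
      rcases hE.cm g hg a.1 (hS.sub a.2) with h | h
      · exact absurd h hc
      · have h' : a.1 * g = -(g * a.1) := by rw [h, neg_neg]
        rw [h', Matrix.neg_mulVec, ← Matrix.mulVec_mulVec, hb a i0, Matrix.mulVec_smul, neg_smul])
  rw [← hj]
  exact Finset.mem_image_of_mem χ (Finset.mem_univ j)

theorem mul_mem_Cset_of_psi_eq (h2 : (2 : F) ≠ 0) (hE : Hyp E) (hS : IsMaxInv E S)
    (hb : ∀ (a : S) (i : Fin n ⊕ Fin n), (a : Matrix (Fin n ⊕ Fin n) (Fin n ⊕ Fin n) F).mulVec (b i) = χ i a • b i)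
    (i0 : Fin n ⊕ Fin n) (g g' : Matrix (Fin n ⊕ Fin n) (Fin n ⊕ Fin n) F) (hg : g ∈ E) (hg' : g' ∈ E)
    (h : psi χ i0 g = psi χ i0 g') : g * g' ∈ Cset E S := by
  classical
  refine ⟨hE.mul g hg g' hg', ?_⟩
  intro x hx
  have hχ0 : χ i0 ⟨x, hx⟩ ≠ -χ i0 ⟨x, hx⟩ := by
    intro h3
    have h4 : (2 : F) * χ i0 ⟨x, hx⟩ = 0 := by linear_combination h3
    rcases mul_eq_zero.mp h4 with h5 | h5
    · exact h2 h5
    · rcases chi_pm b χ hS hb ⟨x, hx⟩ i0 with h6 | h6
      · rw [h6] at h5; exact one_ne_zero h5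
      · rw [h6] at h5; exact one_ne_zero (neg_eq_zero.mp h5)
  have h1 := congrFun h ⟨x, hx⟩
  unfold psi at h1
  simp only [] at h1
  by_cases hc : g * x = x * g <;> by_cases hc' : g' * x = x * g'
  · calc g * g' * x = g * (g' * x) := by rw [Matrix.mul_assoc]
      _ = g * (x * g') := by rw [hc']
      _ = (g * x) * g' := by rw [Matrix.mul_assoc]
      _ = (x * g) * g' := by rw [hc]
      _ = x * (g * g') := by rw [Matrix.mul_assoc]
  · rw [if_pos hc, if_neg hc'] at h1
    exact absurd h1 hχ0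
  · rw [if_neg hc, if_pos hc'] at h1
    exact absurd h1.symm hχ0
  · have e1 : g * x = -(x * g) := by
      rcases hE.cm g hg x (hS.sub hx) with h3 | h3
      · exact absurd h3 hc
      · exact h3
    have e2 : g' * x = -(x * g') := by
      rcases hE.cm g' hg' x (hS.sub hx) with h3 | h3
      · exact absurd h3 hc'
      · exact h3
    calc g * g' * x = g * (g' * x) := by rw [Matrix.mul_assoc]
      _ = g * (-(x * g')) := by rw [e2]
      _ = -((g * x) * g') := by rw [mul_neg, Matrix.mul_assoc]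
      _ = -((-(x * g)) * g') := by rw [e1]
      _ = x * (g * g') := by rw [neg_mul, neg_neg, Matrix.mul_assoc]

theorem card_E_le [DecidableEq (S → F)] (h2 : (2 : F) ≠ 0) (hE : Hyp E) (hS : IsMaxInv E S)
    (hb : ∀ (a : S) (i : Fin n ⊕ Fin n), (a : Matrix (Fin n ⊕ Fin n) (Fin n ⊕ Fin n) F).mulVec (b i) = χ i a • b i)
    (i0 : Fin n ⊕ Fin n) :
    E.ncard ≤ (Cset E S).ncard * (Finset.univ.image χ).card := by
  classical
  rw [Set.ncard_eq_toFinset_card' E]
  have h1 := Finset.card_le_mul_card_image (f := psi χ i0) E.toFinset (Cset E S).ncard (by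
    intro t ht
    obtain ⟨g1, hg1, rfl⟩ := Finset.mem_image.mp ht
    rw [Set.mem_toFinset] at hg1
    rw [Set.ncard_eq_toFinset_card' (Cset E S)]
    apply Finset.card_le_card_of_injOn (fun g => g1 * g)
    · intro g hg
      rw [Finset.coe_filter] at hg
      obtain ⟨hgE, hgψ⟩ := hg
      rw [Set.mem_toFinset] at hgE
      rw [Finset.mem_coe, Set.mem_toFinset]
      exact mul_mem_Cset_of_psi_eq b χ h2 hE hS hb i0 g1 g hg1 hgE hgψ.symm
    · intro x _ y _ hxy
      exact hE.mul_left_cancel hg1 hxy)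
  refine h1.trans (Nat.mul_le_mul_left _ (Finset.card_le_card ?_))
  intro t ht
  obtain ⟨g, hg, rfl⟩ := Finset.mem_image.mp ht
  rw [Set.mem_toFinset] at hg
  exact psi_mem b χ hE hS hb i0 g hg

end orbit

/-- the core bound -/
theorem card_le (h2 : (2 : F) ≠ 0) (hn : 1 ≤ n)
    (E : Set (Matrix (Fin n ⊕ Fin n) (Fin n ⊕ Fin n) F)) (hE : Hyp E) :
    E.ncard ≤ 4 * n * 2 ^ n := by
  classical
  obtain ⟨S, hS⟩ := exists_maxInv E
  obtain ⟨b, χ, hb⟩ := exists_common_eigenbasis h2 S hS.comm hS.inv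
  have h1 := card_chars_le b χ h2 hE hS hb
  have h3 := card_S_le b χ h2 hS hb
  have h4 := card_Cset_le hE hS
  have h5 := card_E_le b χ h2 hE hS hb (Sum.inl ⟨0, hn⟩)
  have h6 : 2 ^ (Finset.univ.image χ).card ≤ 2 ^ n := Nat.pow_le_pow_right (by norm_num) h1
  calc E.ncard ≤ (Cset E S).ncard * (Finset.univ.image χ).card := h5
    _ ≤ (4 * 2 ^ n) * n := Nat.mul_le_mul (h4.trans (by omega)) h1
    _ = 4 * n * 2 ^ n := by ring

end Cfsg.Agent.Lib.Lead.PSR
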