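import Mathlib
import Cfsg.Prelude.Def_Classical
import Cfsg.Prelude.Def_CaseTheorems
import Cfsg.Agent.Lib.Lead.PSpRankA
import Cfsg.Agent.S0246

set_option autoImplicit false
set_option linter.unusedSectionVars false

/-! The 2-rank of `PSp_{2n}(q)`, `q` odd, `n ≥ 3`, is at most `2n - 1`. -/

namespace Cfsg.Agent.Lib.Lead.PSR

open Matrix Cfsg.Agent.S0246

variable {F : Type*} [Field F] [Fintype F] {n : ℕ}

theorem two_mul_lt_two_pow (n : ℕ) (hn : 3 ≤ n) : 2 * n < 2 ^ n := by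
  induction n, hn using Nat.le_induction with
  | base => norm_num
  | succ k hk ih => rw [pow_succ]; omega

theorem two_ne_zero_of_odd'' (hF : Odd (Fintype.card F)) : (2 : F) ≠ 0 := by
  intro h
  have := two_eq_zero_iff.mp h
  exact (Nat.not_even_iff_odd.mpr hF) this

theorem psp_rank_le (hF : Odd (Fintype.card F)) (n : ℕ) (hn : 3 ≤ n) :
    Cfsg.PRankLE 2 (2 * n - 1) (Cfsg.PSp n F) := by
  classical
  intro A hA hexp
  have h2 : (2 : F) ≠ 0 := two_ne_zero_of_odd'' hF
  set Z := Subgroup.center (Matrix.symplecticGroup (Fin n) F) with hZ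
  -- the preimage of `A`
  let P : Set (Matrix.symplecticGroup (Fin n) F) :=
    (QuotientGroup.mk : Matrix.symplecticGroup (Fin n) F → Cfsg.PSp n F) ⁻¹' (A : Set (Cfsg.PSp n F))
  have hPcard : Nat.card P = Nat.card Z * Nat.card (A : Set (Cfsg.PSp n F)) :=
    QuotientGroup.card_preimage_mk Z (A : Set (Cfsg.PSp n F))
  have hZcard : Nat.card Z = 2 := by
    rw [Cfsg.Agent.S0246.result (F := F) rfl n (by omega)]
    obtain ⟨k, hk⟩ := hF
    rw [hk]
    have : 2 * k + 1 - 1 = 2 * k := by omega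
    rw [this]
    exact Nat.gcd_mul_right_right k 2
  let E : Set (Matrix (Fin n ⊕ Fin n) (Fin n ⊕ Fin n) F) := (fun x : Matrix.symplecticGroup (Fin n) F => x.1) '' P
  have hEcard : E.ncard = Nat.card P := by
    rw [Set.ncard_image_of_injective P Subtype.val_injective, Nat.card_coe_set_eq]
  have hmemP : ∀ x : Matrix.symplecticGroup (Fin n) F, x ∈ P ↔ (QuotientGroup.mk x : Cfsg.PSp n F) ∈ A := fun x => Iff.rfl
  have hcases : ∀ z : Matrix.symplecticGroup (Fin n) F, z ∈ Z → z.1 = 1 ∨ z.1 = -1 := by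
    intro z hz
    rcases center_cases (by omega) z hz with h | h
    · left; rw [h]; rfl
    · right; rw [h]; rfl
  have hE : Hyp E := by
    refine ⟨?_, ?_, ?_, ?_, ?_⟩
    · rintro _ ⟨x, -, rfl⟩
      exact x.2
    · rintro _ ⟨x, hx, rfl⟩ _ ⟨y, hy, rfl⟩
      refine ⟨x * y, ?_, rfl⟩
      rw [hmemP] at hx hy ⊢
      rw [QuotientGroup.mk_mul]
      exact A.mul_mem hx hy
    · refine ⟨negOne F n, ?_, rfl⟩
      rw [hmemP]
      have : (QuotientGroup.mk (negOne F n) : Cfsg.PSp n F) = 1 :=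
        (QuotientGroup.eq_one_iff _).mpr negOne_mem_center
      rw [this]
      exact A.one_mem
    · rintro _ ⟨x, hx, rfl⟩
      rw [hmemP] at hx
      have h1 := hexp _ hx
      rw [← QuotientGroup.mk_pow, QuotientGroup.eq_one_iff, pow_two] at h1
      exact hcases _ h1
    · rintro _ ⟨x, hx, rfl⟩ _ ⟨y, hy, rfl⟩
      rw [hmemP] at hx hy
      have h1 : (QuotientGroup.mk (y * x) : Cfsg.PSp n F) = QuotientGroup.mk (x * y) := by
        rw [QuotientGroup.mk_mul, QuotientGroup.mk_mul]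
        have := mul_comm' (⟨_, hy⟩ : A) ⟨_, hx⟩
        exact congrArg Subtype.val this
      rw [QuotientGroup.eq] at h1
      have h3 : ((y * x)⁻¹ * (x * y)).1 = 1 ∨ ((y * x)⁻¹ * (x * y)).1 = -1 := hcases _ h1
      have h4 : x.1 * y.1 = (y.1 * x.1) * ((y * x)⁻¹ * (x * y)).1 := by
        have : x * y = (y * x) * ((y * x)⁻¹ * (x * y)) := by group
        exact congrArg Subtype.val this
      rcases h3 with h3 | h3
      · left; rw [h4, h3, mul_one]
      · right; rw [h4, h3, mul_neg, mul_one]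
  have hbound := card_le h2 (by omega : 1 ≤ n) E hE
  -- `A` is a 2-group
  have : Fact (Nat.Prime 2) := ⟨Nat.prime_two⟩
  have hpg : IsPGroup 2 A := by
    intro a
    refine ⟨1, ?_⟩
    apply Subtype.ext
    rw [pow_one]
    exact hexp a.1 a.2
  obtain ⟨j, hj⟩ := IsPGroup.iff_card.mp hpg
  have hAc : Nat.card (A : Set (Cfsg.PSp n F)) = 2 ^ j := hj
  rw [hj]
  apply Nat.pow_le_pow_right (by norm_num)
  rw [hEcard, hPcard, hZcard, hAc] at hbound
  have h5 := two_mul_lt_two_pow n hn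
  have h6 : 2 * 2 ^ j < 2 ^ (2 * n + 1) := by
    calc 2 * 2 ^ j ≤ 4 * n * 2 ^ n := hbound
      _ = 2 * ((2 * n) * 2 ^ n) := by ring
      _ < 2 * (2 ^ n * 2 ^ n) := by
          have : 0 < 2 ^ n := Nat.pos_of_ne_zero (by positivity)
          exact Nat.mul_lt_mul_of_pos_left (Nat.mul_lt_mul_of_pos_right h5 this) (by norm_num)
      _ = 2 ^ (2 * n + 1) := by rw [pow_succ, two_mul n, pow_add]; ring
  have h7 : 2 ^ (j + 1) < 2 ^ (2 * n + 1) := by rw [pow_succ]; omega
  have h8 := (Nat.pow_lt_pow_iff_right (by norm_num : 1 < 2)).mp h7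
  omega

end Cfsg.Agent.Lib.Lead.PSR
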