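import Mathlib
import Cfsg.Prelude.Def_FischerSpaces
import Cfsg.Agent.Lib.Lead.OmegaIdx
import Cfsg.Agent.Lib.Lead.SubUniv

set_option autoImplicit false

namespace Cfsg.Agent.Lib.Lead.RF3

open Cfsg Cfsg.Agent.Lib.Helper16 Cfsg.Agent.Lib.helper6 Module Matrix

theorem two_ne : (2 : ZMod 3) ≠ 0 := by decide

theorem z3_sq (c : ZMod 3) (hc : c ≠ 0) : c * c = 1 := by revert c; decide

theorem z3_inv (c : ZMod 3) (hc : c ≠ 0) : c⁻¹ = c := by
  have h := z3_sq c hc
  exact inv_eq_of_mul_eq_one_right h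

theorem z3_cases (b c : ZMod 3) (hc : c ≠ 0) : b = 0 ∨ b = c ∨ b = -c := by
  revert b c; decide

theorem z3_two (c : ZMod 3) : 2 * c = -c := by revert c; decide

variable {n : ℕ} (Q : QuadraticForm (ZMod 3) (Fin n → ZMod 3))

theorem Q_add (x y : Fin n → ZMod 3) : Q (x + y) = Q x + Q y + QuadraticMap.polar ⇑Q x y := by
  unfold QuadraticMap.polar; ring

theorem polar_self' (x : Fin n → ZMod 3) : QuadraticMap.polar ⇑Q x x = - Q x := by
  rw [QuadraticMap.polar_self, nsmul_eq_mul]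
  push_cast
  exact z3_two _

theorem exists_perp (hQ : (QuadraticMap.polarBilin Q).Nondegenerate) (hn : 5 ≤ n)
    (u v : Fin n → ZMod 3) (hu : Q u ≠ 0) (d : ZMod 3) (hd : d ≠ 0) :
    ∃ z, Q z = d ∧ QuadraticMap.polar ⇑Q u z = 0 ∧ QuadraticMap.polar ⇑Q v z = 0 := by
  classical
  set Bf : LinearMap.BilinForm (ZMod 3) (Fin n → ZMod 3) := QuadraticMap.polarBilin Q with hBf
  have hBf_apply : ∀ x y, Bf x y = QuadraticMap.polar ⇑Q x y := fun x y => rfl
  have hS : ∀ x y, Bf x y = Bf y x := fun x y => by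
    rw [hBf_apply, hBf_apply, QuadraticMap.polar_comm]
  have hrefl : Bf.IsRefl := fun x y h => by rw [hS]; exact h
  set P : Submodule (ZMod 3) (Fin n → ZMod 3) := Submodule.span _ {u, v} with hP
  set W := LinearMap.BilinForm.orthogonal Bf P with hW
  have hfrW : finrank (ZMod 3) ↥W = n - finrank (ZMod 3) ↥P := by
    rw [hW, LinearMap.BilinForm.finrank_orthogonal hQ, Module.finrank_fin_fun]
  have hWW : LinearMap.BilinForm.orthogonal Bf W = P := LinearMap.BilinForm.orthogonal_orthogonal hQ hrefl P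
  have hP2 : finrank (ZMod 3) ↥P ≤ 2 := by
    have h1 := finrank_span_finset_le_card (R := ZMod 3) ({u, v} : Finset (Fin n → ZMod 3))
    rw [Finset.coe_pair] at h1
    exact le_trans h1 Finset.card_le_two
  have huP : u ∈ P := Submodule.subset_span (by simp)
  have hvP : v ∈ P := Submodule.subset_span (by simp)
  have hlt : W ⊓ LinearMap.BilinForm.orthogonal Bf W < P := by
    rw [hWW]
    refine lt_of_le_of_ne inf_le_right ?_
    intro heq
    have : u ∈ W ⊓ P := by rw [heq]; exact huP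
    have h1 := this.1 u huP
    rw [hBf_apply, polar_self'] at h1
    exact hu (neg_eq_zero.mp h1)
  have hltr := Submodule.finrank_lt_finrank_of_lt hlt
  have hdim : finrank (ZMod 3) ↥(W ⊓ LinearMap.BilinForm.orthogonal Bf W) + 2 ≤ finrank (ZMod 3) ↥W := by
    rw [hfrW]; omega
  obtain ⟨z, hzW, hz⟩ := SU1.exists_in_subspace two_ne Bf hS W hdim (-d) (neg_ne_zero.mpr hd)
  refine ⟨z, ?_, ?_, ?_⟩
  · rw [hBf_apply, polar_self'] at hz
    exact neg_injective hz
  · exact hzW u huP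
  · exact hzW v hvP


/-! ### reflections -/

theorem ne_of_sq (c : ZMod 3) (hc : c ≠ 0) (x : ZMod 3) (hx : x ≠ 0) : x = c ∨ x = -c := by
  revert c x; decide

theorem neg_ne (c : ZMod 3) (hc : c ≠ 0) : -c ≠ 0 := neg_ne_zero.mpr hc

theorem refl_mulVec (v x : Fin n → ZMod 3) (hv : Q v ≠ 0) :
    Cfsg.reflectionMatrix ⇑Q v *ᵥ x = x - (Q v * QuadraticMap.polar ⇑Q v x) • v := by
  rw [reflectionMatrix_mulVec, z3_inv _ hv]

theorem reflG_mem (c : ZMod 3) (v : Fin n → ZMod 3) (hv : Q v = c) (hv0 : Q v ≠ 0) :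
    reflG Q v hv0 ∈ Cfsg.reflectionsOfNorm (⇑Q) c := ⟨v, hv, rfl⟩

theorem mem_norm (c : ZMod 3) (hc : c ≠ 0) (g : ↥(Cfsg.isometryGroup (ZMod 3) ⇑Q))
    (hg : g ∈ Cfsg.reflectionsOfNorm (⇑Q) c) :
    ∃ (v : Fin n → ZMod 3) (hv0 : Q v ≠ 0), Q v = c ∧ g = reflG Q v hv0 := by
  obtain ⟨v, hv, hgv⟩ := hg
  have hv0 : Q v ≠ 0 := by rw [hv]; exact hc
  refine ⟨v, hv0, hv, ?_⟩
  apply iso_ext'
  rw [hgv, reflG_coe]

theorem conj_eq (u v : Fin n → ZMod 3) (hu : Q u ≠ 0) (hv : Q v ≠ 0)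
    (hv' : Q (v - (Q u * QuadraticMap.polar ⇑Q u v) • u) ≠ 0) :
    reflG Q u hu * reflG Q v hv * (reflG Q u hu)⁻¹ =
      reflG Q (v - (Q u * QuadraticMap.polar ⇑Q u v) • u) hv' := by
  have h1 : ((reflG Q u hu : Matrix.GeneralLinearGroup (Fin n) (ZMod 3)) :
      Matrix (Fin n) (Fin n) (ZMod 3)) *ᵥ v = v - (Q u * QuadraticMap.polar ⇑Q u v) • u := by
    rw [reflG_coe, refl_mulVec Q u v hu]
  have hv'' : Q (((reflG Q u hu : Matrix.GeneralLinearGroup (Fin n) (ZMod 3)) :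
      Matrix (Fin n) (Fin n) (ZMod 3)) *ᵥ v) ≠ 0 := by rw [h1]; exact hv'
  rw [refl_conj Q (reflG Q u hu) v hv hv'']
  apply iso_ext'
  rw [reflG_coe, reflG_coe, ← reflG_coe Q u hu, h1]
  rfl

theorem three_transp (c : ZMod 3) (hc : c ≠ 0) (u v : Fin n → ZMod 3) (hu : Q u = c) (hv : Q v = c)
    (hu0 : Q u ≠ 0) (hv0 : Q v ≠ 0) :
    (reflG Q u hu0 * reflG Q v hv0) ^ 2 = 1 ∨ (reflG Q u hu0 * reflG Q v hv0) ^ 3 = 1 := by
  set a := reflG Q u hu0 with ha
  set b := reflG Q v hv0 with hb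
  have ha2 : a * a = 1 := reflG_mul_self Q u hu0
  have hb2 : b * b = 1 := reflG_mul_self Q v hv0
  have hainv : a⁻¹ = a := reflG_inv Q u hu0
  have hbinv : b⁻¹ = b := reflG_inv Q v hv0
  rcases z3_cases (QuadraticMap.polar ⇑Q u v) c hc with h0 | h1 | h1
  · left
    have hv' : Q (v - (Q u * QuadraticMap.polar ⇑Q u v) • u) ≠ 0 := by
      rw [h0, mul_zero, zero_smul, sub_zero]; exact hv0
    have h3 := conj_eq Q u v hu0 hv0 hv'
    have h4 : reflG Q (v - (Q u * QuadraticMap.polar ⇑Q u v) • u) hv' = b := by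
      apply iso_ext'
      rw [reflG_coe, reflG_coe, h0, mul_zero, zero_smul, sub_zero]
    rw [h4, hainv] at h3
    calc (a * b) ^ 2 = (a * b * a) * b := by rw [pow_two]; group
      _ = b * b := by rw [h3]
      _ = 1 := hb2
  all_goals
    right
    have hs : (Q u * QuadraticMap.polar ⇑Q u v) * (Q u * QuadraticMap.polar ⇑Q u v) = 1 := by
      rw [h1, hu]
      have := z3_sq c hc
      linear_combination (c * c + 1) * this
    set s := Q u * QuadraticMap.polar ⇑Q u v with hsdef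
    have hs' : Q v * QuadraticMap.polar ⇑Q v u = s := by
      rw [hsdef, QuadraticMap.polar_comm, hu, hv]
    have hs0 : s ≠ 0 := by
      intro h
      rw [h, mul_zero] at hs
      exact zero_ne_one hs
    have hQx : Q (v - s • u) ≠ 0 := by
      rw [Q_sub', QuadraticMap.map_smul, QuadraticMap.polar_smul_right, smul_eq_mul, smul_eq_mul,
        hs, one_mul, QuadraticMap.polar_comm, hu, hv]
      have e1 : s * QuadraticMap.polar ⇑Q u v = c := by
        rw [hsdef, hu, h1]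
        have := z3_sq c hc
        linear_combination c * this
      rw [e1]
      intro h
      apply hc
      linear_combination h
    have hQy : Q (u - s • v) ≠ 0 := by
      have e : u - s • v = (-s) • (v - s • u) := by
        rw [smul_sub, smul_smul, neg_mul, hs]
        module
      rw [e, QuadraticMap.map_smul, smul_eq_mul]
      exact mul_ne_zero (mul_ne_zero (neg_ne_zero.mpr hs0) (neg_ne_zero.mpr hs0)) hQx
    have h3 := conj_eq Q u v hu0 hv0 hQx
    have h4 := conj_eq Q v u hv0 hu0 (by rw [hs']; exact hQy)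
    have h5 : reflG Q (u - (Q v * QuadraticMap.polar ⇑Q v u) • v) (by rw [hs']; exact hQy) =
        reflG Q (v - s • u) hQx := by
      apply iso_ext'
      rw [reflG_coe, reflG_coe, hs']
      have e : u - s • v = (-s) • (v - s • u) := by
        rw [smul_sub, smul_smul, neg_mul, hs]
        module
      rw [e, refl_smul Q _ (-s) (neg_ne_zero.mpr hs0) hQx]
    rw [h5, ← h3, hainv, hbinv] at h4
    calc (a * b) ^ 3 = (a * b * a) * (b * a * b) := by rw [pow_succ, pow_two]; group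
      _ = (a * b * a) * (a * b * a) := by rw [h4]
      _ = 1 := by
        have : a * b * a * (a * b * a) = a * b * (a * a) * b * a := by group
        rw [this, ha2, mul_one, mul_assoc a b b, hb2, mul_one, ha2]


/-! ### moving vectors by reflections of norm `c` -/

/-- the reflection in `x - y` maps `x` to `y` and lies in the class of norm `Q (x - y)` -/
theorem swap_step (x y : Fin n → ZMod 3) (hxy : Q x = Q y) (h : Q (x - y) ≠ 0) :
    ((reflG Q (x - y) h : Matrix.GeneralLinearGroup (Fin n) (ZMod 3)) :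
      Matrix (Fin n) (Fin n) (ZMod 3)) *ᵥ x = y := by
  rw [reflG_coe]
  exact refl_swap_sub' Q y x hxy h

theorem conj_of_map (k : ↥(Cfsg.isometryGroup (ZMod 3) ⇑Q)) (x y : Fin n → ZMod 3)
    (hx : Q x ≠ 0) (hy : Q y ≠ 0)
    (hk : ((k : Matrix.GeneralLinearGroup (Fin n) (ZMod 3)) : Matrix (Fin n) (Fin n) (ZMod 3)) *ᵥ x = y) :
    k * reflG Q x hx * k⁻¹ = reflG Q y hy := by
  have hx' : Q (((k : Matrix.GeneralLinearGroup (Fin n) (ZMod 3)) :
      Matrix (Fin n) (Fin n) (ZMod 3)) *ᵥ x) ≠ 0 := by rw [hk]; exact hy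
  rw [refl_conj Q k x hx hx']
  apply iso_ext'
  rw [reflG_coe, reflG_coe, hk]

theorem conj_of_map_neg (k : ↥(Cfsg.isometryGroup (ZMod 3) ⇑Q)) (x y : Fin n → ZMod 3)
    (hx : Q x ≠ 0) (hy : Q y ≠ 0)
    (hk : ((k : Matrix.GeneralLinearGroup (Fin n) (ZMod 3)) : Matrix (Fin n) (Fin n) (ZMod 3)) *ᵥ x = -y) :
    k * reflG Q x hx * k⁻¹ = reflG Q y hy := by
  have hny : Q (-y) ≠ 0 := by rw [QuadraticMap.map_neg]; exact hy
  rw [conj_of_map Q k x (-y) hx hny hk, reflG_neg Q y hy hny]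

/-- non-orthogonal vectors of norm `c`: the reflections are conjugate by a reflection of norm `c` -/
theorem conj_step (c : ZMod 3) (hc : c ≠ 0) (u v : Fin n → ZMod 3) (hu : Q u = c) (hv : Q v = c)
    (hu0 : Q u ≠ 0) (hv0 : Q v ≠ 0) (hb : QuadraticMap.polar ⇑Q u v ≠ 0) :
    ∃ k ∈ Cfsg.reflectionsOfNorm (⇑Q) c, k * reflG Q u hu0 * k⁻¹ = reflG Q v hv0 := by
  rcases z3_cases (QuadraticMap.polar ⇑Q u v) c hc with h0 | h1 | h1
  · exact absurd h0 hb
  · have hq : Q (u - v) = c := by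
      rw [Q_sub', hu, hv, h1]; ring
    have hq0 : Q (u - v) ≠ 0 := by rw [hq]; exact hc
    refine ⟨reflG Q (u - v) hq0, reflG_mem Q c _ hq hq0, ?_⟩
    exact conj_of_map Q _ u v hu0 hv0 (swap_step Q u v (by rw [hu, hv]) hq0)
  · have hq : Q (u + v) = c := by
      rw [Q_add, hu, hv, h1]; ring
    have hq0 : Q (u + v) ≠ 0 := by rw [hq]; exact hc
    refine ⟨reflG Q (u + v) hq0, reflG_mem Q c _ hq hq0, ?_⟩
    apply conj_of_map_neg Q _ u v hu0 hv0
    rw [reflG_coe]
    exact refl_swap_add' Q v u (by rw [hu, hv]) hq0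

theorem conj_all (hQ : (QuadraticMap.polarBilin Q).Nondegenerate) (hn : 5 ≤ n)
    (c : ZMod 3) (hc : c ≠ 0) (u v : Fin n → ZMod 3) (hu : Q u = c) (hv : Q v = c)
    (hu0 : Q u ≠ 0) (hv0 : Q v ≠ 0) :
    ∃ k ∈ Cfsg.reflectionSubgroup (⇑Q) c, k * reflG Q u hu0 * k⁻¹ = reflG Q v hv0 := by
  by_cases hb : QuadraticMap.polar ⇑Q u v = 0
  · obtain ⟨z, hz, hzu, hzv⟩ := exists_perp Q hQ hn u v hu0 (-c) (neg_ne c hc)
    set w := u + v + z with hw
    have hpuw : QuadraticMap.polar ⇑Q u w = -c := by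
      rw [hw, QuadraticMap.polar_add_right, QuadraticMap.polar_add_right, polar_self', hb, hzu, hu]
      ring
    have hpwv : QuadraticMap.polar ⇑Q w v = -c := by
      rw [hw, QuadraticMap.polar_add_left, QuadraticMap.polar_add_left, polar_self', hb,
        QuadraticMap.polar_comm (⇑Q) z v, hzv, hv]
      ring
    have hqw : Q w = c := by
      rw [hw, Q_add, Q_add, hu, hv, hz, hb, QuadraticMap.polar_add_left, hzu, hzv]
      ring
    have hw0 : Q w ≠ 0 := by rw [hqw]; exact hc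
    obtain ⟨k1, hk1, hk1'⟩ := conj_step Q c hc u w hu hqw hu0 hw0 (by rw [hpuw]; exact neg_ne c hc)
    obtain ⟨k2, hk2, hk2'⟩ := conj_step Q c hc w v hqw hv hw0 hv0 (by rw [hpwv]; exact neg_ne c hc)
    refine ⟨k2 * k1, Subgroup.mul_mem _ (Subgroup.subset_closure hk2) (Subgroup.subset_closure hk1), ?_⟩
    rw [← hk2', ← hk1']
    group
  · obtain ⟨k, hk, hk'⟩ := conj_step Q c hc u v hu hv hu0 hv0 hb
    exact ⟨k, Subgroup.subset_closure hk, hk'⟩

end Cfsg.Agent.Lib.Lead.RF3
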