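import Mathlib
import Cfsg.Prelude.Def_Classical
import Cfsg.Agent.Lib.Helper25.PresPad
import Cfsg.Agent.Lib.Lead.POM

/-!
# S2295 (lead, coordinator): the final assembly as a CORE.

Hypotheses: `hSL` = the statement of helper1's `sl7_main` (S2288) for the field `F`; `hOMP` = the gluing block OMP (designer helper17):
ANY presentation of `SL_n(F)` on `k` generators with `r` relators gives one of `Ω⁺_{2n}(F)` on `k + 1` generators with at most `r + 6` relators.
The `PΩ` clauses come from `Lead.POM.pomega_pres`, the padding from `Helper25.PresPad.pad_exists`.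
-/

set_option autoImplicit false

namespace Cfsg.Agent.Lib.Lead.S2295

universe u

/-- the statement of block OMP for the field `F` -/
def OmpStatement (F : Type u) [Field F] : Prop :=
  ∀ (n : ℕ), 4 ≤ n → ∀ {k : ℕ} (R : Finset (FreeGroup (Fin k))),
    Nonempty (PresentedGroup (↑R : Set (FreeGroup (Fin k))) ≃* Matrix.SpecialLinearGroup (Fin n) F) →
    ∃ rels : Finset (FreeGroup (Fin (k + 1))), rels.card ≤ R.card + 6 ∧
      Nonempty (PresentedGroup (↑rels : Set (FreeGroup (Fin (k + 1)))) ≃*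
        ↥(Cfsg.Omega F (Cfsg.quadFormPlus n F)))

/-- `Ω` and `PΩ` from a presentation of `Ω` -/
theorem s2295_pair {F : Type u} [Field F] {n : ℕ} (hn : 4 ≤ n) {r : ℕ}
    (h : ∃ rels : Finset (FreeGroup (Fin 8)), rels.card ≤ r ∧
      Nonempty (PresentedGroup (↑rels : Set (FreeGroup (Fin 8))) ≃* ↥(Cfsg.Omega F (Cfsg.quadFormPlus n F)))) :
    ∃ rels : Finset (FreeGroup (Fin 8)), rels.card ≤ r + 1 ∧
      Nonempty (PresentedGroup (↑rels : Set (FreeGroup (Fin 8))) ≃* Cfsg.POmega F (Cfsg.quadFormPlus n F)) := by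
  obtain ⟨R, hR, ⟨e⟩⟩ := h
  obtain ⟨rels, hc, he⟩ := Cfsg.Agent.Lib.Lead.POM.pomega_pres (F := F) (n := n) (by omega) R e
  exact ⟨rels, by omega, he⟩

/-- S2295 from the statements of S2288 (`sl7_main`) and OMP. -/
theorem s2295_core {F : Type u} [Field F] [Fintype F] (hOMP : OmpStatement F)
    (hSL : ∀ n : ℕ, 4 ≤ n →
      (∃ rels : Finset (FreeGroup (Fin 7)), rels.card ≤ 25 ∧ Nonempty (PresentedGroup (↑rels : Set (FreeGroup (Fin 7))) ≃* Matrix.SpecialLinearGroup (Fin n) F)) ∧ (∃ rels : Finset (FreeGroup (Fin 7)), rels.card ≤ 26 ∧ Nonempty (PresentedGroup (↑rels : Set (FreeGroup (Fin 7))) ≃* Matrix.ProjectiveSpecialLinearGroup (Fin n) F)) ∧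
      (∃ rels : Finset (FreeGroup (Fin 6)), rels.card ≤ 21 ∧ Nonempty (PresentedGroup (↑rels : Set (FreeGroup (Fin 6))) ≃* Matrix.SpecialLinearGroup (Fin 4) F)) ∧ (∃ rels : Finset (FreeGroup (Fin 6)), rels.card ≤ 22 ∧ Nonempty (PresentedGroup (↑rels : Set (FreeGroup (Fin 6))) ≃* Matrix.SpecialLinearGroup (Fin 5) F)))
    (n : ℕ) (hn : 4 ≤ n) :
    (∃ rels : Finset (FreeGroup (Fin 8)), rels.card ≤ 31 ∧ Nonempty (PresentedGroup (↑rels : Set (FreeGroup (Fin 8))) ≃* ↥(Cfsg.Omega F (Cfsg.quadFormPlus n F)))) ∧ (∃ rels : Finset (FreeGroup (Fin 8)), rels.card ≤ 32 ∧ Nonempty (PresentedGroup (↑rels : Set (FreeGroup (Fin 8))) ≃* Cfsg.POmega F (Cfsg.quadFormPlus n F))) ∧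
    (n ≤ 5 → (∃ rels : Finset (FreeGroup (Fin 8)), rels.card ≤ 29 ∧ Nonempty (PresentedGroup (↑rels : Set (FreeGroup (Fin 8))) ≃* ↥(Cfsg.Omega F (Cfsg.quadFormPlus n F)))) ∧ (∃ rels : Finset (FreeGroup (Fin 8)), rels.card ≤ 30 ∧ Nonempty (PresentedGroup (↑rels : Set (FreeGroup (Fin 8))) ≃* Cfsg.POmega F (Cfsg.quadFormPlus n F)))) := by
  obtain ⟨h7, -, h64, h65⟩ := hSL n hn
  -- all `n`: 8 generators, at most 31 relators
  have hall : ∃ rels : Finset (FreeGroup (Fin 8)), rels.card ≤ 31 ∧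
      Nonempty (PresentedGroup (↑rels : Set (FreeGroup (Fin 8))) ≃* ↥(Cfsg.Omega F (Cfsg.quadFormPlus n F))) := by
    obtain ⟨R, hR, he⟩ := h7
    obtain ⟨rels, hc, he'⟩ := hOMP n hn R he
    exact ⟨rels, by omega, he'⟩
  -- `n = 4, 5`: 7 generators, at most 28 relators, padded to 8 generators, at most 29 relators
  have hsmall : n ≤ 5 → ∃ rels : Finset (FreeGroup (Fin 8)), rels.card ≤ 29 ∧
      Nonempty (PresentedGroup (↑rels : Set (FreeGroup (Fin 8))) ≃* ↥(Cfsg.Omega F (Cfsg.quadFormPlus n F))) := by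
    intro h5
    have h6 : ∃ rels : Finset (FreeGroup (Fin 6)), rels.card ≤ 22 ∧
        Nonempty (PresentedGroup (↑rels : Set (FreeGroup (Fin 6))) ≃* Matrix.SpecialLinearGroup (Fin n) F) := by
      have hn' : n = 4 ∨ n = 5 := by omega
      rcases hn' with rfl | rfl
      · obtain ⟨R, hR, he⟩ := h64
        exact ⟨R, by omega, he⟩
      · exact h65
    obtain ⟨R, hR, he⟩ := h6
    obtain ⟨rels, hc, he'⟩ := hOMP n hn R he
    have h7' : ∃ rels : Finset (FreeGroup (Fin 7)), rels.card ≤ 28 ∧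
        Nonempty (PresentedGroup (↑rels : Set (FreeGroup (Fin 7))) ≃* ↥(Cfsg.Omega F (Cfsg.quadFormPlus n F))) :=
      ⟨rels, by omega, he'⟩
    obtain ⟨r8, hr8, e8⟩ := Cfsg.Agent.Lib.Helper25.PresPad.pad_exists (m := 7) (n := 8) (r := 28)
      (by norm_num) (by norm_num) h7'
    exact ⟨r8, by omega, e8⟩
  refine ⟨hall, s2295_pair hn hall, fun h5 => ⟨hsmall h5, s2295_pair hn (hsmall h5)⟩⟩

end Cfsg.Agent.Lib.Lead.S2295
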