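import Mathlib
import Cfsg.Agent.Lib.helper3.S5953.Defs2
import Cfsg.Prelude.Def_LieClassical
import Cfsg.Agent.Lib.Lead.S5953S2core
import Cfsg.Agent.Lib.helper2.S5953A5
import Cfsg.Agent.Lib.helper8.S5953N1
import Cfsg.Agent.Lib.helper8.S5953T3
import Cfsg.Agent.Lib.Helper11.S5953T9core
import Cfsg.Agent.Lib.Helper27.S5953T5
import Cfsg.Agent.Lib.helper23.S5953A2

set_option autoImplicit false

/-!
# Project S5953, row N13 (`nec_abs`): the core, with the statements of N10 (`maxel`) and N11 (`distel`)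
as hypotheses.  Transplant of Helper1 `s5955n13_core`.
-/

namespace Cfsg.Agent.Lib.helper3.S5953

open Polynomial Module

/-- the order of a natural number prime to `r` in `ZMod r` is positive -/
theorem s5953n13_ord_pos (q r : ℕ) [Fact r.Prime] (hq : ¬ r ∣ q) : 0 < orderOf (q : ZMod r) := by
  have hr : r.Prime := Fact.out
  have hq0 : (q : ZMod r) ≠ 0 := by
    intro h0
    exact hq ((ZMod.natCast_eq_zero_iff q r).mp h0)
  have h1 : (q : ZMod r) ^ (r - 1) = 1 := ZMod.pow_card_sub_one_eq_one hq0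
  apply orderOf_pos_iff.mpr
  rw [isOfFinOrder_iff_pow_eq_one]
  exact ⟨r - 1, by have := hr.two_le; omega, h1⟩

theorem s5953n13_core {F : Type*} [Field F] [Fintype F] {p : ℕ} [Fact p.Prime] [CharP F p] {q : ℕ}
    (hF : Fintype.card F = q ^ 2) (r : ℕ) [Fact r.Prime] (hrp : r ≠ p) (hr2 : r ≠ 2)
    (n m i b c : ℕ) (hi : i = orderOf (q : ZMod r)) (hb : b = bb i) (hc : c = cc i)
    (hm1 : 1 ≤ m) (hmn : 2 * m ≤ n)
    (ha : ∃ a : ℕ, n < a + 2 * m ∧ a ≤ n ∧ 1 ≤ a ∧ (-(q : ZMod r)) ^ a = 1)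
    (hall : ∀ y : Module.End F (Fin n → F), HCtx q r 1 y → y ≠ 1 → HTId q y m)
    (hmaxel : c ≤ n → ∃ y : Module.End F (Fin n → F), HCtx q r 1 y ∧ y ≠ 1 ∧
      finrank F (fixS y) = n % c)
    (hdistel : i % 4 = 2 → b ≤ n → ∃ y : Module.End F (Fin n → F), HCtx q r 1 y ∧ y ≠ 1 ∧
      finrank F (fixS y) + b * min ((r - 1) / b) (n / b) = n ∧
      ∀ W : Submodule F (Fin n → F), HInv y W → HTI q W → W ≤ fixS y) :
    b ≤ m ∧ 2 * (m % b) ≤ n % c ∧
      (i % 4 ≠ 2 ∨ (r - 1) / b + 2 * (m / b) ≤ n / b) := by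
  have hrq : ¬ r ∣ q := s5953s1_r_not_dvd_q hF r hrp
  have hipos : 1 ≤ i := by
    rw [hi]
    exact s5953n13_ord_pos q r hrq
  have hordc : orderOf (-(q : ZMod r)) = c := by
    rw [hc, hi]
    exact ord_neg q r hr2 hrq
  have hordb : orderOf ((Fintype.card F : ℕ) : ZMod r) = b := by
    rw [hb, hi, hF]
    exact s5953s2_ord_sq q r
  obtain ⟨a, ha1, ha2, ha3, ha4⟩ := ha
  have hca : c ∣ a := by
    rw [← hordc]
    exact orderOf_dvd_of_pow_eq_one ha4
  have hcn : c ≤ n := le_trans (Nat.le_of_dvd (by omega) hca) ha2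
  apply arith_nec i b c n m ((r - 1) / b) hipos hb hc hm1 hmn ⟨a, ha1, ha2, ha3, hca⟩
  · obtain ⟨y, hy, hy1, hfix⟩ := hmaxel hcn
    obtain ⟨W, hWinv, hWti, hWdim⟩ := hall y hy hy1
    obtain ⟨w1, s, hWeq, hw1⟩ := nec_dim (p := p) hF hrp hy W hWinv hWti
    refine ⟨w1, s, ?_, ?_⟩
    · rw [← hWdim, hWeq, hordb]
    · rw [← hfix]
      exact hw1
  · intro hi2
    have hbc : b = c := by
      rw [hb, hc]
      unfold bb cc
      have he : Even i := by
        rw [Nat.even_iff]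
        omega
      rw [if_pos he, if_neg (by omega), if_pos hi2]
    have hbn : b ≤ n := by rw [hbc]; exact hcn
    obtain ⟨y, hy, hy1, hdim, hsub⟩ := hdistel hi2 hbn
    obtain ⟨W, hWinv, hWti, hWdim⟩ := hall y hy hy1
    obtain ⟨-, -, hfixnd, -⟩ := split (p := p) hF hrp hy
    have hWle := hsub W hWinv hWti
    have hhalf := s5953t9_core (q := q) (fixS y) W hWle hWti
      (perp_dim hF (fixS y) W hfixnd hWle)
    rw [hWdim] at hhalf
    omega

end Cfsg.Agent.Lib.helper3.S5953
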