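import Mathlib
import Cfsg.Agent.Lib.Lead.AffSL2

set_option autoImplicit false

namespace Cfsg.Agent.Lib.Lead.SL2F8

open Matrix

variable {F : Type*} [Field F]

def ab (τ : F) : ℕ → F × F
  | 0 => (1, 0)
  | n + 1 => (τ * (ab τ n).1 + (ab τ n).2, (ab τ n).1)

theorem pow_ab (M : Matrix (Fin 2) (Fin 2) F) (τ : F) (hCH : M * M = τ • M + 1) (n : ℕ) :
    M ^ (n + 1) = (ab τ n).1 • M + (ab τ n).2 • (1 : Matrix (Fin 2) (Fin 2) F) := by
  induction n with
  | zero => simp [ab]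
  | succ n ih =>
    rw [pow_succ, ih, Matrix.add_mul, Matrix.smul_mul, Matrix.smul_mul, hCH, Matrix.one_mul]
    simp only [ab]
    rw [smul_add, smul_smul, add_smul]
    rw [mul_comm τ]
    abel

theorem cayley_hamilton [CharP F 2] (g : Matrix.SpecialLinearGroup (Fin 2) F) :
    (g : Matrix (Fin 2) (Fin 2) F) * (g : Matrix (Fin 2) (Fin 2) F)
      = ((g : Matrix (Fin 2) (Fin 2) F) 0 0 + (g : Matrix (Fin 2) (Fin 2) F) 1 1) • (g : Matrix (Fin 2) (Fin 2) F) + 1 := by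
  have hdet := g.det_coe
  rw [Matrix.det_fin_two] at hdet
  have h2 : (2 : F) = 0 := CharTwo.two_eq_zero
  ext i j
  fin_cases i <;> fin_cases j <;> simp [Matrix.mul_apply, Fin.sum_univ_two]
  · linear_combination (-1 : F) * hdet - h2
  · ring
  · ring
  · linear_combination (-1 : F) * hdet - h2

theorem a7 (τ : F) : (ab τ 6).1 = 1 + 6 * τ ^ 2 + 5 * τ ^ 4 + τ ^ 6 := by
  simp only [ab]; ring

theorem b7 (τ : F) : (ab τ 6).2 = 3 * τ + 4 * τ ^ 3 + τ ^ 5 := by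
  simp only [ab]; ring

theorem a9 (τ : F) : (ab τ 8).1 = 1 + 10 * τ ^ 2 + 15 * τ ^ 4 + 7 * τ ^ 6 + τ ^ 8 := by
  simp only [ab]; ring

theorem b9 (τ : F) : (ab τ 8).2 = 4 * τ + 10 * τ ^ 3 + 6 * τ ^ 5 + τ ^ 7 := by
  simp only [ab]; ring

theorem pow_seven_or_nine [Fintype F] [CharP F 2] (hF : Fintype.card F = 8)
    (g : Matrix.SpecialLinearGroup (Fin 2) F)
    (hτ : (g : Matrix (Fin 2) (Fin 2) F) 0 0 + (g : Matrix (Fin 2) (Fin 2) F) 1 1 ≠ 0) :
    g ^ 7 = 1 ∨ g ^ 9 = 1 := by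
  have h2 : (2 : F) = 0 := CharTwo.two_eq_zero
  obtain ⟨τ, hτdef⟩ : ∃ τ : F, τ = (g : Matrix (Fin 2) (Fin 2) F) 0 0 + (g : Matrix (Fin 2) (Fin 2) F) 1 1 :=
    ⟨_, rfl⟩
  rw [← hτdef] at hτ
  have hCH := cayley_hamilton g
  rw [← hτdef] at hCH
  have hτ7 : τ ^ 7 = 1 := by
    have := FiniteField.pow_card_sub_one_eq_one τ hτ
    rwa [hF] at this
  have hprod : (ab τ 6).1 * (ab τ 8).1 = 0 := by
    rw [a7, a9]
    linear_combination (τ ^ 7 - 1) * hτ7
      + (8 * τ ^ 2 + 40 * τ ^ 4 + 74 * τ ^ 6 + τ ^ 7 + 64 * τ ^ 8 + 28 * τ ^ 10 + 6 * τ ^ 12) * h2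
  rcases mul_eq_zero.mp hprod with h | h
  · left
    have hp := pow_ab (g : Matrix (Fin 2) (Fin 2) F) τ hCH 6
    rw [h, zero_smul, zero_add] at hp
    have hdet : ((g : Matrix (Fin 2) (Fin 2) F) ^ 7).det = 1 := by
      rw [Matrix.det_pow, g.det_coe, one_pow]
    rw [hp, Matrix.det_smul, Matrix.det_one, Fintype.card_fin, mul_one] at hdet
    have hb1 : (ab τ 6).2 = 1 := by
      have h3 : ((ab τ 6).2 - 1) ^ 2 = 0 := by
        linear_combination hdet - (ab τ 6).2 * h2 + h2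
      exact sub_eq_zero.mp (pow_eq_zero_iff two_ne_zero |>.mp h3)
    rw [hb1, one_smul] at hp
    apply Subtype.ext
    rw [Matrix.SpecialLinearGroup.coe_pow, Matrix.SpecialLinearGroup.coe_one]
    exact hp
  · right
    have hp := pow_ab (g : Matrix (Fin 2) (Fin 2) F) τ hCH 8
    rw [h, zero_smul, zero_add] at hp
    have hb1 : (ab τ 8).2 = 1 := by
      rw [b9]
      linear_combination hτ7 + (2 * τ + 5 * τ ^ 3 + 3 * τ ^ 5) * h2
    rw [hb1, one_smul] at hp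
    apply Subtype.ext
    rw [Matrix.SpecialLinearGroup.coe_pow, Matrix.SpecialLinearGroup.coe_one]
    exact hp

theorem no_pq [Fintype F] [CharP F 2] (hF : Fintype.card F = 8)
    (g : Matrix.SpecialLinearGroup (Fin 2) F) (p q : ℕ) (hp : p.Prime) (hq : q.Prime) (hpq : p ≠ q) :
    orderOf g ≠ p * q := by
  intro ho
  have key : ∀ r : ℕ, r.Prime → ∀ e : ℕ, g ^ (r ^ e) = 1 → False := by
    intro r hr e hg
    have hdvd : p * q ∣ r ^ e := by
      rw [← ho]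
      exact orderOf_dvd_of_pow_eq_one hg
    have h1 : p = r := (Nat.prime_dvd_prime_iff_eq hp hr).mp
      (hp.dvd_of_dvd_pow (dvd_trans (dvd_mul_right p q) hdvd))
    have h2 : q = r := (Nat.prime_dvd_prime_iff_eq hq hr).mp
      (hq.dvd_of_dvd_pow (dvd_trans (dvd_mul_left q p) hdvd))
    exact hpq (h1.trans h2.symm)
  by_cases hτ : (g : Matrix (Fin 2) (Fin 2) F) 0 0 + (g : Matrix (Fin 2) (Fin 2) F) 1 1 = 0
  · exact key 2 Nat.prime_two 1 (by rw [pow_one]; exact AffSL2.tr_zero_sq g hτ)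
  · rcases pow_seven_or_nine hF g hτ with h | h
    · exact key 7 (by norm_num) 1 (by rw [pow_one]; exact h)
    · exact key 3 Nat.prime_three 2 (by norm_num; exact h)

end Cfsg.Agent.Lib.Lead.SL2F8
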