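import Mathlib
import Cfsg.Agent.Lib.helper17.SLP.Defs
import Cfsg.Agent.Lib.helper17.SL3.Defs
import Cfsg.Agent.Lib.helper17.SL3.Defs2

/-! Project SL3 (designer helper17), row E6 `rank1_B2` (written by lead). -/

set_option autoImplicit false

namespace Cfsg.Agent.Lib.helper17.SL3

open Cfsg.Agent.Lib.helper17.SLP
open Polynomial

universe u v

section E

variable {G : Type u} [Group G]

variable (q : ℕ) (T X01 X02 X12 X10 X21 : Subgroup G) (n1 n2 : G)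

/-- E6 [M]  same for `n2`: `g = b * τ * a * z`, `n2 b n2⁻¹ ∈ X21` (`n2a`), `n2T n2b n2c n2sq`, `r2`. -/
theorem rank1_B2 (D : RD q T X01 X02 X12 X10 X21 n1 n2) (B : Subgroup G)
    (hT : T ≤ B) (h01 : X01 ≤ B) (h02 : X02 ≤ B) (h12 : X12 ≤ B)
    (hB : ∀ g, g ∈ B ↔ ∃ b ∈ X12, ∃ τ ∈ T, ∃ a ∈ X01, ∃ z ∈ X02, g = b * τ * a * z) :
    ∀ g ∈ B, n2 * g * n2 ∈ B ∨ ∃ b₁ ∈ B, ∃ b₂ ∈ B, n2 * g * n2 = b₁ * n2 * b₂ := by
  intro g hg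
  obtain ⟨b, hb, τ, hτ, a, ha, z, hz, rfl⟩ := (hB g).1 hg
  have hy := D.n2a b hb
  have h1 := hT (D.n2T τ hτ)
  have h2 := h02 (D.n2b a ha)
  have h3 := h01 (D.n2c z hz)
  have h4 := hT D.n2sq
  have key : n2 * (b * τ * a * z) * n2
      = (n2 * b * n2⁻¹) * ((n2 * τ * n2⁻¹) * (n2 * a * n2⁻¹) * (n2 * z * n2⁻¹) * n2 ^ 2) := by
    group
  have hβ : (n2 * τ * n2⁻¹) * (n2 * a * n2⁻¹) * (n2 * z * n2⁻¹) * n2 ^ 2 ∈ B :=
    B.mul_mem (B.mul_mem (B.mul_mem h1 h2) h3) h4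
  rcases D.r2 _ hy with h | ⟨b', hb', τ', hτ', b'', hb'', h⟩
  · left
    rw [key, h, one_mul]
    exact hβ
  · right
    refine ⟨b' * τ', B.mul_mem (h12 hb') (hT hτ'),
      b'' * ((n2 * τ * n2⁻¹) * (n2 * a * n2⁻¹) * (n2 * z * n2⁻¹) * n2 ^ 2),
      B.mul_mem (h12 hb'') hβ, ?_⟩
    rw [key, h]
    group

end E

end Cfsg.Agent.Lib.helper17.SL3
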