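import Mathlib
import Cfsg.Agent.Lib.helper17.SLP.Defs
import Cfsg.Agent.Lib.helper17.SL3.Defs
import Cfsg.Agent.Lib.helper17.SL3.Defs2

/-! Project SL3 (designer helper17), row E7 `cell_1` (written by lead). -/

set_option autoImplicit false

namespace Cfsg.Agent.Lib.helper17.SL3

open Cfsg.Agent.Lib.helper17.SLP
open Polynomial

universe u v

section E

variable {G : Type u} [Group G]

variable (q : ℕ) (T X01 X02 X12 X10 X21 : Subgroup G) (n1 n2 : G)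

/-- auxiliary: `n1 * g = β * y' * n1` with `β ∈ B`, `y' ∈ X10`. -/
theorem sl3e7_main (D : RD q T X01 X02 X12 X10 X21 n1 n2) (B : Subgroup G)
    (hT : T ≤ B) (h02 : X02 ≤ B) (h12 : X12 ≤ B)
    (hB : ∀ g, g ∈ B ↔ ∃ a ∈ X01, ∃ τ ∈ T, ∃ z ∈ X02, ∃ b ∈ X12, g = a * τ * z * b) :
    ∀ g ∈ B, ∃ β ∈ B, ∃ y' ∈ X10, n1 * g = β * y' * n1 := by
  intro g hg
  obtain ⟨a, ha, τ, hτ, z, hz, b, hb, rfl⟩ := (hB g).1 hg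
  have hy := D.n1a a ha
  have hτ' := D.n1T τ hτ
  have hz' := D.n1b z hz
  have hb' := D.n1c b hb
  have e1 : n1 * (a * τ * z * b)
      = (n1 * a * n1⁻¹) * (n1 * τ * n1⁻¹) * (n1 * z * n1⁻¹) * (n1 * b * n1⁻¹) * n1 := by group
  rw [e1]
  generalize n1 * a * n1⁻¹ = y at hy
  generalize n1 * τ * n1⁻¹ = τ' at hτ'
  generalize n1 * z * n1⁻¹ = z' at hz'
  generalize n1 * b * n1⁻¹ = b' at hb'
  have hy' : τ'⁻¹ * y * τ' ∈ X10 := by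
    have := D.t10 τ'⁻¹ (T.inv_mem hτ') y hy
    simpa using this
  have hc : (τ'⁻¹ * y * τ') * b' * (τ'⁻¹ * y * τ')⁻¹ * b'⁻¹ ∈ X12 := D.m2 _ hy' b' hb'
  have hcomm : Commute (τ'⁻¹ * y * τ') z' := D.m1 _ hy' z' hz'
  refine ⟨τ' * z' * ((τ'⁻¹ * y * τ') * b' * (τ'⁻¹ * y * τ')⁻¹ * b'⁻¹) * b', ?_,
    τ'⁻¹ * y * τ', hy', ?_⟩
  · exact B.mul_mem (B.mul_mem (B.mul_mem (hT hτ') (h12 hz')) (h12 hc)) (h02 hb')
  · calc y * τ' * z' * b' * n1 = τ' * ((τ'⁻¹ * y * τ') * z') * b' * n1 := by group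
      _ = τ' * (z' * (τ'⁻¹ * y * τ')) * b' * n1 := by rw [hcomm.eq]
      _ = τ' * z' * ((τ'⁻¹ * y * τ') * b' * (τ'⁻¹ * y * τ')⁻¹ * b'⁻¹) * b' * (τ'⁻¹ * y * τ') * n1 := by
          group

/-- E7 [M]  `g = a * τ * z * b`, `y := n1 a n1⁻¹ ∈ X10`: `n1 * g = y * τ' * z' * b' * n1` with `τ' ∈ T`, `z' ∈ X12`, `b' ∈ X02` (`n1T n1b n1c`).  Move `y` to the right: `y τ' = τ' y'` (`t10`), `y' z' = z' y'` (`m1`),
`y' b' = (y' b' y'⁻¹ b'⁻¹) b' y'` (`m2`): `n1 * g = β * y' * n1`, `β ∈ B`.  Then `y' * n1 * m = n1 * m * ((n1 m)⁻¹ y' (n1 m))` and the last factor is in `X02` for `m = n2` (`n1a'`, `n2b'`), in `X12` for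
`m = n2 * n1` (`n1a'`, `n2b'`, `n1c'`). -/
theorem cell_1 (D : RD q T X01 X02 X12 X10 X21 n1 n2) (B : Subgroup G)
    (hT : T ≤ B) (h01 : X01 ≤ B) (h02 : X02 ≤ B) (h12 : X12 ≤ B)
    (hB : ∀ g, g ∈ B ↔ ∃ a ∈ X01, ∃ τ ∈ T, ∃ z ∈ X02, ∃ b ∈ X12, g = a * τ * z * b) :
    (∀ g ∈ B, ∃ b₁ ∈ B, ∃ b₂ ∈ B, n1 * g * n2 = b₁ * (n1 * n2) * b₂) ∧
      ∀ g ∈ B, ∃ b₁ ∈ B, ∃ b₂ ∈ B, n1 * g * (n2 * n1) = b₁ * (n1 * n2 * n1) * b₂ := by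
  have main := sl3e7_main q T X01 X02 X12 X10 X21 n1 n2 D B hT h02 h12 hB
  constructor
  · intro g hg
    obtain ⟨β, hβ, y', hy', e⟩ := main g hg
    refine ⟨β, hβ, n2⁻¹ * (n1⁻¹ * y' * n1) * n2, h02 (D.n2b' _ (D.n1a' y' hy')), ?_⟩
    rw [e]
    group
  · intro g hg
    obtain ⟨β, hβ, y', hy', e⟩ := main g hg
    refine ⟨β, hβ, n1⁻¹ * (n2⁻¹ * (n1⁻¹ * y' * n1) * n2) * n1,
      h12 (D.n1c' _ (D.n2b' _ (D.n1a' y' hy'))), ?_⟩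
    have e2 : n1 * g * (n2 * n1) = (n1 * g) * (n2 * n1) := by group
    rw [e2, e]
    group

end E

end Cfsg.Agent.Lib.helper17.SL3
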