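import Mathlib

/-!
# SLM-F2, part a: `SL ι F`, `card ι ≥ 3`, on the non-zero vectors (any finite index type)

Generic-index copy of `helper14.SLnVec` / `SLnVec2` (there for `Fin n`): transitivity, the point
stabiliser is transitive outside the line, and it has exactly `q` orbits.
-/

set_option autoImplicit false
set_option linter.unusedSectionVars false

namespace Cfsg.Agent.Lib.Lead.SLMF2

open Matrix Module MulAction

section LinAlg

variable {F : Type*} [Field F] {ι : Type*} [Fintype ι] [DecidableEq ι]

local notation "V" => (ι → F)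
local notation "SLn" => Matrix.SpecialLinearGroup ι F

/-- the special linear matrix of a transvection -/
noncomputable def transvSL (f : Dual F V) (u : V) (h : f u = 0) : SLn :=
  ⟨LinearMap.toMatrix' (LinearMap.transvection f u), by
    rw [LinearMap.det_toMatrix', LinearMap.transvection.det, h, add_zero]⟩

theorem transvSL_mulVec (f : Dual F V) (u : V) (h : f u = 0) (x : V) :
    (transvSL f u h : Matrix ι ι F).mulVec x = x + f x • u := by
  show (LinearMap.toMatrix' (LinearMap.transvection f u)).mulVec x = _
  rw [LinearMap.toMatrix'_mulVec, LinearMap.transvection.apply]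

/-- one transvection step -/
theorem exists_sl_of_notMem (v w w' : V) (h : w ∉ Submodule.span F ({v, w' - w} : Set V)) :
    ∃ g : SLn, (g : Matrix ι ι F).mulVec v = v ∧
      (g : Matrix ι ι F).mulVec w = w' := by
  obtain ⟨f, hfw, hf⟩ := Submodule.exists_dual_map_eq_bot_of_notMem h inferInstance
  have hzero : ∀ x ∈ Submodule.span F ({v, w' - w} : Set V), f x = 0 := by
    intro x hx
    have : f x ∈ (Submodule.span F ({v, w' - w} : Set V)).map f := Submodule.mem_map_of_mem hx
    rw [hf] at this
    exact (Submodule.mem_bot F).mp this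
  have hfv : f v = 0 := hzero v (Submodule.subset_span (by simp))
  have hfu : f (w' - w) = 0 := hzero _ (Submodule.subset_span (by simp))
  have h0 : ((f w)⁻¹ • f) (w' - w) = 0 := by
    rw [LinearMap.smul_apply, hfu, smul_zero]
  refine ⟨transvSL ((f w)⁻¹ • f) (w' - w) h0, ?_, ?_⟩
  · rw [transvSL_mulVec, LinearMap.smul_apply, hfv, smul_zero, zero_smul, add_zero]
  · rw [transvSL_mulVec, LinearMap.smul_apply, smul_eq_mul, inv_mul_cancel₀ hfw, one_smul]
    abel

theorem exists_notMem_span_pair (hn : 3 ≤ Fintype.card ι) (a b : V) :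
    ∃ x : V, x ∉ Submodule.span F ({a, b} : Set V) := by
  classical
  by_contra hcon
  push Not at hcon
  have htop : Submodule.span F ({a, b} : Set V) = ⊤ := eq_top_iff.mpr (fun x _ => hcon x)
  have h1 : Module.finrank F (Submodule.span F ((({a, b} : Finset V)) : Set V)) ≤
      ({a, b} : Finset V).card := finrank_span_finset_le_card _
  have h2 : ((({a, b} : Finset V) : Set V)) = ({a, b} : Set V) := by simp
  rw [h2, htop, finrank_top, Module.finrank_fintype_fun_eq_card] at h1
  have h3 : ({a, b} : Finset V).card ≤ 2 := Finset.card_le_two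
  omega

/-- the stabiliser of `v` in `SL_n`, `n ≥ 3`, is transitive on the vectors outside `F v` -/
theorem exists_sl_fix (hn : 3 ≤ Fintype.card ι) (v w w' : V) (hw : w ∉ Submodule.span F ({v} : Set V))
    (hw' : w' ∉ Submodule.span F ({v} : Set V)) :
    ∃ g : SLn, (g : Matrix ι ι F).mulVec v = v ∧
      (g : Matrix ι ι F).mulVec w = w' := by
  by_cases h : w ∈ Submodule.span F ({v, w' - w} : Set V)
  · obtain ⟨x, hx⟩ := exists_notMem_span_pair hn v (w' - w)
    have hw'mem : w' ∈ Submodule.span F ({v, w' - w} : Set V) := by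
      have h3 := Submodule.add_mem _
        (Submodule.subset_span (show w' - w ∈ ({v, w' - w} : Set V) by simp)) h
      rwa [sub_add_cancel] at h3
    have hvmem : v ∈ Submodule.span F ({v, w' - w} : Set V) := Submodule.subset_span (by simp)
    have h1 : w ∉ Submodule.span F ({v, x - w} : Set V) := by
      intro hmem
      obtain ⟨a, b, hab⟩ := Submodule.mem_span_pair.mp hmem
      by_cases hb : b = 0
      · apply hw
        rw [Submodule.mem_span_singleton]
        refine ⟨a, ?_⟩
        rw [← hab, hb, zero_smul, add_zero]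
      · apply hx
        have : x = b⁻¹ • ((1 + b) • w - a • v) := by
          have h3 : b • x = (1 + b) • w - a • v := by
            have e : b • x = (a • v + b • (x - w)) + b • w - a • v := by module
            rw [e, hab]
            module
          rw [← h3, smul_smul, inv_mul_cancel₀ hb, one_smul]
        rw [this]
        exact Submodule.smul_mem _ _ (Submodule.sub_mem _ (Submodule.smul_mem _ _ h)
          (Submodule.smul_mem _ _ hvmem))
    have h2 : x ∉ Submodule.span F ({v, w' - x} : Set V) := by
      intro hmem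
      obtain ⟨a, b, hab⟩ := Submodule.mem_span_pair.mp hmem
      by_cases hb : 1 + b = 0
      · apply hw'
        rw [Submodule.mem_span_singleton]
        refine ⟨a, ?_⟩
        have hb' : b = -1 := by linear_combination hb
        rw [hb'] at hab
        have : a • v - w' = 0 := by
          have e : a • v - w' = (a • v + (-1 : F) • (w' - x)) - x := by module
          rw [e, hab, sub_self]
        exact sub_eq_zero.mp this
      · apply hx
        have : x = (1 + b)⁻¹ • (a • v + b • w') := by
          have h3 : (1 + b) • x = a • v + b • w' := by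
            have e : a • v + b • w' = (a • v + b • (w' - x)) + b • x := by module
            rw [e, hab]
            module
          rw [← h3, smul_smul, inv_mul_cancel₀ hb, one_smul]
        rw [this]
        exact Submodule.smul_mem _ _ (Submodule.add_mem _ (Submodule.smul_mem _ _ hvmem)
          (Submodule.smul_mem _ _ hw'mem))
    obtain ⟨g1, hg1v, hg1w⟩ := exists_sl_of_notMem v w x h1
    obtain ⟨g2, hg2v, hg2w⟩ := exists_sl_of_notMem v x w' h2
    refine ⟨g2 * g1, ?_, ?_⟩
    · rw [Matrix.SpecialLinearGroup.coe_mul, ← Matrix.mulVec_mulVec, hg1v, hg2v]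
    · rw [Matrix.SpecialLinearGroup.coe_mul, ← Matrix.mulVec_mulVec, hg1w, hg2w]
  · exact exists_sl_of_notMem v w w' h

/-- `SL_n`, `n ≥ 3`, is transitive on non-zero vectors -/
theorem exists_sl_map (hn : 3 ≤ Fintype.card ι) (v v' : V) (hv : v ≠ 0) (hv' : v' ≠ 0) :
    ∃ g : SLn, (g : Matrix ι ι F).mulVec v = v' := by
  obtain ⟨x, hx⟩ := exists_notMem_span_pair hn v v'
  have h1 : ∀ y : V, y ≠ 0 → y ∈ Submodule.span F ({v, v'} : Set V) →
      y ∉ Submodule.span F ({x} : Set V) := by
    intro y hy hymem hyx
    obtain ⟨c, hc⟩ := Submodule.mem_span_singleton.mp hyx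
    have hc0 : c ≠ 0 := by
      intro h
      rw [h, zero_smul] at hc
      exact hy hc.symm
    apply hx
    have : x = c⁻¹ • y := by rw [← hc, smul_smul, inv_mul_cancel₀ hc0, one_smul]
    rw [this]
    exact Submodule.smul_mem _ _ hymem
  obtain ⟨g, -, hg⟩ := exists_sl_fix hn x v v'
    (h1 v hv (Submodule.subset_span (by simp))) (h1 v' hv' (Submodule.subset_span (by simp)))
  exact ⟨g, hg⟩

end LinAlg




section Action

variable {F : Type*} [Field F] {ι : Type*} [Fintype ι] [DecidableEq ι]

local notation "V" => (ι → F)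
local notation "SLn" => Matrix.SpecialLinearGroup ι F

/-- the non-zero vectors -/
def NZ (ι : Type*) (F : Type*) [Field F] : Type _ := {v : ι → F // v ≠ 0}

theorem NZ.ext {x y : NZ ι F} (h : x.1 = y.1) : x = y := Subtype.ext h

theorem mulVec_ne_zero (g : SLn) (v : V) (hv : v ≠ 0) :
    (g : Matrix ι ι F).mulVec v ≠ 0 := by
  intro h
  apply hv
  have h1 : ((g⁻¹ * g : SLn) : Matrix ι ι F).mulVec v = v := by
    rw [inv_mul_cancel, Matrix.SpecialLinearGroup.coe_one, Matrix.one_mulVec]
  rw [Matrix.SpecialLinearGroup.coe_mul, ← Matrix.mulVec_mulVec, h, Matrix.mulVec_zero] at h1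
  exact h1.symm

instance : MulAction SLn (NZ ι F) where
  smul g v := ⟨(g : Matrix ι ι F).mulVec v.1, mulVec_ne_zero g v.1 v.2⟩
  one_smul v := by
    apply NZ.ext
    show ((1 : SLn) : Matrix ι ι F).mulVec v.1 = v.1
    rw [Matrix.SpecialLinearGroup.coe_one, Matrix.one_mulVec]
  mul_smul g h v := by
    apply NZ.ext
    show ((g * h : SLn) : Matrix ι ι F).mulVec v.1 =
      (g : Matrix ι ι F).mulVec ((h : Matrix ι ι F).mulVec v.1)
    rw [Matrix.SpecialLinearGroup.coe_mul, Matrix.mulVec_mulVec]

theorem smul_val (g : SLn) (v : NZ ι F) :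
    (g • v).1 = (g : Matrix ι ι F).mulVec v.1 := rfl

/-- scalar multiplication by units on non-zero vectors -/
def usmul (c : Fˣ) (v : NZ ι F) : NZ ι F :=
  ⟨(c : F) • v.1, by
    intro h
    rcases smul_eq_zero.mp h with h | h
    · exact c.ne_zero h
    · exact v.2 h⟩

theorem usmul_val (c : Fˣ) (v : NZ ι F) : (usmul c v).1 = (c : F) • v.1 := rfl

theorem smul_usmul (g : SLn) (c : Fˣ) (v : NZ ι F) : g • usmul c v = usmul c (g • v) := by
  apply NZ.ext
  rw [smul_val, usmul_val, usmul_val, smul_val, Matrix.mulVec_smul]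

theorem usmul_injective (v : NZ ι F) : Function.Injective (fun c : Fˣ => usmul c v) := by
  intro c d h
  have h1 : (c : F) • v.1 = (d : F) • v.1 := congrArg Subtype.val h
  have h2 : ((c : F) - (d : F)) • v.1 = 0 := by rw [sub_smul, h1, sub_self]
  rcases smul_eq_zero.mp h2 with h3 | h3
  · exact Units.ext (sub_eq_zero.mp h3)
  · exact absurd h3 v.2

theorem usmul_mul (c d : Fˣ) (v : NZ ι F) : usmul (c * d) v = usmul c (usmul d v) := by
  apply NZ.ext
  rw [usmul_val, usmul_val, usmul_val, Units.val_mul, mul_smul]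

theorem usmul_one (v : NZ ι F) : usmul 1 v = v := by
  apply NZ.ext
  rw [usmul_val, Units.val_one, one_smul]

theorem mem_span_iff (a x : NZ ι F) :
    x.1 ∈ Submodule.span F ({a.1} : Set V) ↔ ∃ c : Fˣ, x = usmul c a := by
  rw [Submodule.mem_span_singleton]
  constructor
  · rintro ⟨c, hc⟩
    have hc0 : c ≠ 0 := by
      intro h
      rw [h, zero_smul] at hc
      exact x.2 hc.symm
    exact ⟨Units.mk0 c hc0, NZ.ext hc.symm⟩
  · rintro ⟨c, rfl⟩
    exact ⟨c, rfl⟩

theorem pretransitive (hn : 3 ≤ Fintype.card ι) : IsPretransitive SLn (NZ ι F) := by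
  constructor
  intro x y
  obtain ⟨g, hg⟩ := exists_sl_map hn x.1 y.1 x.2 y.2
  exact ⟨g, NZ.ext hg⟩

theorem exists_outside (hn : 3 ≤ Fintype.card ι) (a : NZ ι F) :
    ∃ b : NZ ι F, b.1 ∉ Submodule.span F ({a.1} : Set V) := by
  obtain ⟨x, hx⟩ := exists_notMem_span_pair hn a.1 a.1
  have hx' : x ∉ Submodule.span F ({a.1} : Set V) := by
    intro h
    apply hx
    have : ({a.1, a.1} : Set V) = {a.1} := by simp
    rw [this]
    exact h
  refine ⟨⟨x, ?_⟩, hx'⟩
  intro h
  apply hx'
  rw [h]
  exact Submodule.zero_mem _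

theorem exists_stab (hn : 3 ≤ Fintype.card ι) (a x y : NZ ι F)
    (hx : x.1 ∉ Submodule.span F ({a.1} : Set V)) (hy : y.1 ∉ Submodule.span F ({a.1} : Set V)) :
    ∃ g : SLn, g • a = a ∧ g • x = y := by
  obtain ⟨g, h1, h2⟩ := exists_sl_fix hn a.1 x.1 y.1 hx hy
  exact ⟨g, NZ.ext h1, NZ.ext h2⟩

/-- the point stabiliser has exactly `q` orbits on the non-zero vectors -/
theorem card_suborbits [Fintype F] (hn : 3 ≤ Fintype.card ι) (a : NZ ι F) :
    Nat.card (orbitRel.Quotient (stabilizer SLn a) (NZ ι F)) = Fintype.card F := by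
  classical
  obtain ⟨b, hb⟩ := exists_outside hn a
  have hcard : Nat.card (Option Fˣ) = Fintype.card F := by
    rw [Nat.card_eq_fintype_card, Fintype.card_option, Fintype.card_units]
    have : 0 < Fintype.card F := Fintype.card_pos
    omega
  rw [← hcard]
  symm
  apply Nat.card_congr
  refine Equiv.ofBijective (fun o : Option Fˣ =>
    (Quotient.mk'' (match o with
      | some c => usmul c a
      | none => b) : orbitRel.Quotient (stabilizer SLn a) (NZ ι F))) ⟨?_, ?_⟩
  · intro o o' h
    have h' := Quotient.exact' h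
    change _ ∈ orbit (stabilizer SLn a) _ at h'
    obtain ⟨g, hg⟩ := h'
    have hga : (g : SLn) • a = a := g.2
    rcases o with _ | c <;> rcases o' with _ | d
    · rfl
    · exfalso
      apply hb
      have h1 : b = usmul d a := by
        have h2 : (g : SLn) • usmul d a = b := hg
        rw [smul_usmul, hga] at h2
        exact h2.symm
      exact (mem_span_iff a b).mpr ⟨d, h1⟩
    · exfalso
      apply hb
      have h2 : (g : SLn) • b = usmul c a := hg
      have h3 : b = (g : SLn)⁻¹ • usmul c a := by rw [← h2, inv_smul_smul]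
      have hga' : (g : SLn)⁻¹ • a = a := inv_smul_eq_iff.mpr hga.symm
      rw [smul_usmul, hga'] at h3
      exact (mem_span_iff a b).mpr ⟨c, h3⟩
    · have h2 : (g : SLn) • usmul d a = usmul c a := hg
      rw [smul_usmul, hga] at h2
      rw [usmul_injective a h2]
  · intro x
    induction x using Quotient.inductionOn' with | _ x => ?_
    by_cases hx : x.1 ∈ Submodule.span F ({a.1} : Set V)
    · obtain ⟨c, hc⟩ := (mem_span_iff a x).mp hx
      refine ⟨some c, ?_⟩
      show (Quotient.mk'' (usmul c a) : orbitRel.Quotient (stabilizer SLn a) (NZ ι F)) = _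
      rw [hc]
    · obtain ⟨g, hga, hgb⟩ := exists_stab hn a b x hb hx
      refine ⟨none, ?_⟩
      show (Quotient.mk'' b : orbitRel.Quotient (stabilizer SLn a) (NZ ι F)) = _
      apply Quotient.sound'
      change b ∈ orbit (stabilizer SLn a) x
      refine ⟨⟨g⁻¹, ?_⟩, ?_⟩
      · rw [mem_stabilizer_iff]
        exact inv_smul_eq_iff.mpr hga.symm
      · show (g⁻¹ : SLn) • x = b
        rw [← hgb, inv_smul_smul]

end Action

end Cfsg.Agent.Lib.Lead.SLMF2
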