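import Mathlib

set_option autoImplicit false
set_option linter.unusedVariables false

/-!
# SPU / LEMA, abstract part: a symmetric bilinear form whose quadratic form vanishes on the cone of a second one
(which has a hyperbolic pair with non-degenerate complement of dimension at least 2) is proportional to it.
-/

namespace Cfsg.Agent.Lib.Lead.SPU

section cone

variable {F V : Type*} [Field F] [AddCommGroup V] [Module F V]

theorem spulema_expand (B : LinearMap.BilinForm F V) (hB : ∀ x y, B x y = B y x) (e e' z : V) (a : F) :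
    B (e - a • e' + z) (e - a • e' + z) =
      B e e - 2 * a * B e e' + 2 * B e z + a * a * B e' e' - 2 * a * B e' z + B z z := by
  simp only [map_add, map_sub, map_smul, LinearMap.add_apply, LinearMap.sub_apply,
    LinearMap.smul_apply, smul_eq_mul]
  rw [hB e' e, hB z e, hB z e']
  ring

theorem spulema_key (h2 : (2 : F) ≠ 0) (B B1 : LinearMap.BilinForm F V)
    (hB : ∀ x y, B x y = B y x) (hB1 : ∀ x y, B1 x y = B1 y x)
    (H : ∀ x, B1 x x = 0 → B x x = 0)
    (e e' : V) (he : B1 e e = 0) (he' : B1 e' e' = 0) (hee : B1 e e' = 1)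
    (z : V) (hz : B1 e z = 0) (hz' : B1 e' z = 0) :
    B z z - B e e' * B1 z z + 2 * B e z - B1 z z * B e' z = 0 := by
  have hx1 : B1 (e - (B1 z z / 2) • e' + z) (e - (B1 z z / 2) • e' + z) = 0 := by
    rw [spulema_expand B1 hB1, he, he', hee, hz, hz']
    field_simp
    ring
  have hx := H _ hx1
  rw [spulema_expand B hB, H e he, H e' he'] at hx
  have e1 : 2 * (B1 z z / 2) = B1 z z := by field_simp
  linear_combination hx + (B e e' + B e' z) * e1

theorem spulema_two (h2 : (2 : F) ≠ 0) (B B1 : LinearMap.BilinForm F V)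
    (hB : ∀ x y, B x y = B y x) (hB1 : ∀ x y, B1 x y = B1 y x)
    (H : ∀ x, B1 x x = 0 → B x x = 0)
    (e e' : V) (he : B1 e e = 0) (he' : B1 e' e' = 0) (hee : B1 e e' = 1)
    (z : V) (hz : B1 e z = 0) (hz' : B1 e' z = 0) :
    B z z = B e e' * B1 z z ∧ 2 * B e z = B1 z z * B e' z := by
  have k1 := spulema_key h2 B B1 hB hB1 H e e' he he' hee z hz hz'
  have k2 := spulema_key h2 B B1 hB hB1 H e e' he he' hee (-z) (by rw [map_neg, hz, neg_zero])
    (by rw [map_neg, hz', neg_zero])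
  simp only [map_neg, LinearMap.neg_apply, neg_neg] at k2
  constructor
  · have : 2 * (B z z - B e e' * B1 z z) = 0 := by linear_combination k1 + k2
    have := (mul_eq_zero.mp this).resolve_left h2
    linear_combination this
  · have : 2 * (2 * B e z - B1 z z * B e' z) = 0 := by linear_combination k1 - k2
    have := (mul_eq_zero.mp this).resolve_left h2
    linear_combination this

/-- the polarised identity `Q1 z' · φ z = - 2 B1 (z, z') φ z'` on `U` -/
theorem spulema_polar (h2 : (2 : F) ≠ 0) (B B1 : LinearMap.BilinForm F V)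
    (hB : ∀ x y, B x y = B y x) (hB1 : ∀ x y, B1 x y = B1 y x)
    (H : ∀ x, B1 x x = 0 → B x x = 0)
    (e e' : V) (he : B1 e e = 0) (he' : B1 e' e' = 0) (hee : B1 e e' = 1)
    (z z' : V) (hz : B1 e z = 0 ∧ B1 e' z = 0) (hz' : B1 e z' = 0 ∧ B1 e' z' = 0) :
    B1 z' z' * B e' z = - (2 * B1 z z' * B e' z') := by
  have a1 := (spulema_two h2 B B1 hB hB1 H e e' he he' hee z hz.1 hz.2).2
  have a3 := (spulema_two h2 B B1 hB hB1 H e e' he he' hee (z + z')
    (by rw [map_add, hz.1, hz'.1, add_zero]) (by rw [map_add, hz.2, hz'.2, add_zero])).2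
  have a4 := (spulema_two h2 B B1 hB hB1 H e e' he he' hee (z - z')
    (by rw [map_sub, hz.1, hz'.1, sub_zero]) (by rw [map_sub, hz.2, hz'.2, sub_zero])).2
  simp only [map_add, map_sub, LinearMap.add_apply, LinearMap.sub_apply] at a3 a4
  rw [hB1 z' z] at a3 a4
  have : 2 * (B1 z' z' * B e' z + 2 * B1 z z' * B e' z') = 0 := by
    linear_combination (-1 : F) * a3 - a4 + 2 * a1
  have := (mul_eq_zero.mp this).resolve_left h2
  linear_combination this

/-- `φ = B (e', ·)` vanishes on `U` -/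
theorem spulema_phi (h2 : (2 : F) ≠ 0) (B B1 : LinearMap.BilinForm F V)
    (hB : ∀ x y, B x y = B y x) (hB1 : ∀ x y, B1 x y = B1 y x)
    (H : ∀ x, B1 x x = 0 → B x x = 0)
    (e e' : V) (he : B1 e e = 0) (he' : B1 e' e' = 0) (hee : B1 e e' = 1)
    (hnd : ∀ z, B1 e z = 0 → B1 e' z = 0 → z ≠ 0 → ∃ y, B1 e y = 0 ∧ B1 e' y = 0 ∧ B1 y z ≠ 0)
    (z1 z2 : V) (hz1 : B1 e z1 = 0 ∧ B1 e' z1 = 0) (hz2 : B1 e z2 = 0 ∧ B1 e' z2 = 0)
    (hli : ∀ a b : F, a • z1 + b • z2 = 0 → a = 0 ∧ b = 0) :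
    ∀ z, B1 e z = 0 → B1 e' z = 0 → B e' z = 0 := by
  by_contra hcon
  push Not at hcon
  obtain ⟨z0, hz0, hz0', hφ0⟩ := hcon
  -- the kernel of φ on U is trivial
  have hker : ∀ z, B1 e z = 0 → B1 e' z = 0 → B e' z = 0 → z = 0 := by
    intro z hz hz' hφ
    by_contra hne
    obtain ⟨y, hy, hy', hyz⟩ := hnd z hz hz' hne
    have hP : ∀ z', B1 e z' = 0 → B1 e' z' = 0 → B e' z' ≠ 0 → B1 z z' = 0 := by
      intro z' h1 h1' hφ'
      have := spulema_polar h2 B B1 hB hB1 H e e' he he' hee z z' ⟨hz, hz'⟩ ⟨h1, h1'⟩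
      rw [hφ, mul_zero] at this
      have h3 : 2 * B1 z z' * B e' z' = 0 := by linear_combination this
      have h4 := (mul_eq_zero.mp h3).resolve_right hφ'
      exact (mul_eq_zero.mp h4).resolve_left h2
    have hz0z : B1 z z0 = 0 := hP z0 hz0 hz0' hφ0
    apply hyz
    rw [hB1 y z]
    by_cases hφy : B e' y = 0
    · have := hP (y + z0) (by rw [map_add, hy, hz0, add_zero]) (by rw [map_add, hy', hz0', add_zero])
        (by rw [map_add, hφy, zero_add]; exact hφ0)
      rw [map_add, hz0z, add_zero] at this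
      exact this
    · exact hP y hy hy' hφy
  have hcomb := hker (B e' z1 • z2 - B e' z2 • z1)
    (by rw [map_sub, map_smul, map_smul, hz1.1, hz2.1, smul_zero, smul_zero, sub_zero])
    (by rw [map_sub, map_smul, map_smul, hz1.2, hz2.2, smul_zero, smul_zero, sub_zero])
    (by rw [map_sub, map_smul, map_smul, smul_eq_mul, smul_eq_mul]; ring)
  have h5 := hli (-(B e' z2)) (B e' z1) (by rw [← hcomb]; module)
  have hz1φ : B e' z1 = 0 := h5.2
  have hz10 := hker z1 hz1.1 hz1.2 hz1φ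
  have := hli 1 0 (by rw [hz10]; simp)
  exact one_ne_zero this.1

theorem spulema_cone (h2 : (2 : F) ≠ 0) (B B1 : LinearMap.BilinForm F V)
    (hB : ∀ x y, B x y = B y x) (hB1 : ∀ x y, B1 x y = B1 y x)
    (H : ∀ x, B1 x x = 0 → B x x = 0)
    (e e' : V) (he : B1 e e = 0) (he' : B1 e' e' = 0) (hee : B1 e e' = 1)
    (hnd : ∀ z, B1 e z = 0 → B1 e' z = 0 → z ≠ 0 → ∃ y, B1 e y = 0 ∧ B1 e' y = 0 ∧ B1 y z ≠ 0)
    (z1 z2 : V) (hz1 : B1 e z1 = 0 ∧ B1 e' z1 = 0) (hz2 : B1 e z2 = 0 ∧ B1 e' z2 = 0)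
    (hli : ∀ a b : F, a • z1 + b • z2 = 0 → a = 0 ∧ b = 0) :
    ∀ x y, B x y = B e e' * B1 x y := by
  have hφ := spulema_phi h2 B B1 hB hB1 H e e' he he' hee hnd z1 z2 hz1 hz2 hli
  have hψ : ∀ z, B1 e z = 0 → B1 e' z = 0 → B e z = 0 := by
    intro z hz hz'
    have := (spulema_two h2 B B1 hB hB1 H e e' he he' hee z hz hz').2
    rw [hφ z hz hz', mul_zero] at this
    exact (mul_eq_zero.mp this).resolve_left h2
  -- the quadratic forms are proportional
  have hQ : ∀ x, B x x = B e e' * B1 x x := by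
    intro x
    obtain ⟨α, hα⟩ : ∃ α, α = B1 e' x := ⟨_, rfl⟩
    obtain ⟨β, hβ⟩ : ∃ β, β = B1 e x := ⟨_, rfl⟩
    obtain ⟨z, hzdef⟩ : ∃ z, z = x - α • e - β • e' := ⟨_, rfl⟩
    have hzU : B1 e z = 0 := by
      rw [hzdef, map_sub, map_sub, map_smul, map_smul, he, hee, ← hβ]
      simp
    have hzU' : B1 e' z = 0 := by
      rw [hzdef, map_sub, map_sub, map_smul, map_smul, he', hB1 e' e, hee, ← hα]
      simp
    have hx : x = α • e + β • e' + z := by rw [hzdef]; abel
    have q2 := (spulema_two h2 B B1 hB hB1 H e e' he he' hee z hzU hzU').1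
    have b1 := hψ z hzU hzU'
    have b2 := hφ z hzU hzU'
    rw [hx]
    simp only [map_add, map_smul, LinearMap.add_apply, LinearMap.smul_apply, smul_eq_mul]
    rw [hB e' e, hB z e, hB z e', hB1 e' e, hB1 z e, hB1 z e', H e he, H e' he', he, he', hee,
      hzU, hzU', b1, b2, q2]
    ring
  intro x y
  have h1 := hQ (x + y)
  have h2' := hQ x
  have h3 := hQ y
  simp only [map_add, LinearMap.add_apply] at h1
  rw [hB y x, hB1 y x] at h1
  have : 2 * (B x y - B e e' * B1 x y) = 0 := by linear_combination h1 - h2' - h3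
  have := (mul_eq_zero.mp this).resolve_left h2
  linear_combination this

end cone

end Cfsg.Agent.Lib.Lead.SPU
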