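import Mathlib
import Cfsg.Prelude.Def_GeometricClasses
import Cfsg.Agent.Lib.Lead.SPU.Defs
import Cfsg.Agent.Lib.Lead.SPULEMAcone
import Cfsg.Agent.Lib.Helper18.QISOC

set_option autoImplicit false
set_option linter.unusedVariables false
set_option linter.unusedSectionVars false

/-!
# SPU / LEMA (lead) : `j1 ≠ ± j` ⇒ some `p` has `Qj j1 p = 0`, `Qj j p ≠ 0`.
-/

namespace Cfsg.Agent.Lib.Lead.SPU

open Matrix Cfsg.Agent.S5646 Cfsg.Agent.S5647 Cfsg.Agent.Lib.Helper28.SpPair Cfsg.Agent.Lib.helper6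
open Cfsg.Agent.Lib.Helper18.QIso

variable {m : ℕ} {F : Type*} [Field F] {j j1 : Matrix (Fin m ⊕ Fin m) (Fin m ⊕ Fin m) F} {c0 : F}

/-- `B_j (x, y) = f (x, j y)` as a bilinear form -/
noncomputable def spulema_B (j : Matrix (Fin m ⊕ Fin m) (Fin m ⊕ Fin m) F) :
    LinearMap.BilinForm F (Fin m ⊕ Fin m → F) :=
  Matrix.toBilin' (Matrix.J (Fin m) F * j)

theorem spulema_B_apply (j : Matrix (Fin m ⊕ Fin m) (Fin m ⊕ Fin m) F) (x y : Fin m ⊕ Fin m → F) :
    spulema_B j x y = Cfsg.sympForm m F x (j *ᵥ y) := by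
  unfold spulema_B Cfsg.sympForm
  rw [Matrix.toBilin'_apply', Matrix.mulVec_mulVec]

theorem spulema_B_symm (hJ : JS j c0) (x y : Fin m ⊕ Fin m → F) :
    spulema_B j x y = spulema_B j y x := by
  rw [spulema_B_apply, spulema_B_apply, sympForm_swap m y (j *ᵥ x), hJ.adj, neg_neg]

theorem spulema_jne (hJ : JS j c0) (w : Fin m ⊕ Fin m → F) (hw : w ≠ 0) : j *ᵥ w ≠ 0 := by
  intro h
  have h1 : j *ᵥ (j *ᵥ w) = c0 • w := by
    rw [Matrix.mulVec_mulVec, hJ.sq, Matrix.smul_mulVec, Matrix.one_mulVec]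
  rw [h, Matrix.mulVec_zero] at h1
  have hc : c0 ≠ 0 := by
    intro h0
    exact hJ.nsq 0 (by rw [h0, mul_zero])
  rcases smul_eq_zero.mp h1.symm with h | h
  · exact hc h
  · exact hw h

theorem spulema_vec_ext (u v : Fin m ⊕ Fin m → F)
    (h : ∀ x, Cfsg.sympForm m F x u = Cfsg.sympForm m F x v) : u = v := by
  by_contra hne
  have hne' : u - v ≠ 0 := sub_ne_zero.mpr hne
  obtain ⟨x, hx⟩ := sympForm_nondeg m (u - v) hne'
  apply hx
  rw [sympForm_swap, sympForm_sub_right, h x, sub_self, neg_zero]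

theorem lemA [Fintype F] (hm : 7 ≤ m) (hJ : JS j c0) (hJ1 : JS j1 c0) (hne : j1 ≠ j) (hne' : j1 ≠ -j) :
    ∃ p : Fin m ⊕ Fin m → F, Qj j1 p = 0 ∧ Qj j p ≠ 0 := by
  by_contra hcon
  push Not at hcon
  have h2 : (2 : F) ≠ 0 := hJ.two
  -- the quadratic form of `j1`
  obtain ⟨Q1, hQ1⟩ : ∃ Q1 : QuadraticForm F (Fin m ⊕ Fin m → F), Q1 = (spulema_B j1).toQuadraticMap :=
    ⟨_, rfl⟩
  have hQ1a : ∀ x, Q1 x = spulema_B j1 x x := by
    intro x; rw [hQ1, LinearMap.BilinMap.toQuadraticMap_apply]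
  have hpol : ∀ x y, QuadraticMap.polar Q1 x y = 2 * spulema_B j1 x y := by
    intro x y
    rw [hQ1, LinearMap.BilinMap.polar_toQuadraticMap, spulema_B_symm hJ1 y x]
    ring
  have hW : Nd Q1 (⊤ : Submodule F (Fin m ⊕ Fin m → F)) := by
    intro w _ hw
    obtain ⟨x, hx⟩ := sympForm_nondeg m (j1 *ᵥ w) (spulema_jne hJ1 w hw)
    refine ⟨x, Submodule.mem_top, ?_⟩
    rw [hpol, spulema_B_apply, sympForm_swap]
    exact mul_ne_zero h2 (neg_ne_zero.mpr hx)
  have hdim : Module.finrank F (⊤ : Submodule F (Fin m ⊕ Fin m → F)) = 2 * m := by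
    rw [finrank_top, Module.finrank_fintype_fun_eq_card, Fintype.card_sum, Fintype.card_fin]
    ring
  obtain ⟨e, heT, he0, heq⟩ := exists_singular Q1 hW (by rw [hdim]; omega)
  obtain ⟨w', hpair⟩ := exists_partner Q1 hW heT he0 heq
  have hndU := nd_perp2 Q1 hW hpair
  have hdimU := finrank_perp2 Q1 hpair
  rw [hdim] at hdimU
  -- bilinear data
  have hB := spulema_B_symm hJ
  have hB1 := spulema_B_symm hJ1
  have hee0 : 2 * spulema_B j1 e w' = 1 := by rw [← hpol]; exact hpair.pol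
  have he : spulema_B j1 e e = 0 := by rw [← hQ1a]; exact heq
  have hw'q : spulema_B j1 w' w' = 0 := by rw [← hQ1a]; exact hpair.q'
  have he' : spulema_B j1 ((2 : F) • w') ((2 : F) • w') = 0 := by
    simp only [map_smul, LinearMap.smul_apply, hw'q, smul_zero]
  have hee : spulema_B j1 e ((2 : F) • w') = 1 := by
    rw [map_smul, smul_eq_mul]; exact hee0
  have hmemU : ∀ z, z ∈ perp2 Q1 ⊤ e w' ↔
      (spulema_B j1 e z = 0 ∧ spulema_B j1 ((2 : F) • w') z = 0) := by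
    intro z
    rw [mem_perp2, hpol, hpol, map_smul, LinearMap.smul_apply, smul_eq_mul]
    constructor
    · rintro ⟨_, h1, h3⟩
      refine ⟨(mul_eq_zero.mp h1).resolve_left h2, h3⟩
    · rintro ⟨h1, h3⟩
      exact ⟨Submodule.mem_top, by rw [h1, mul_zero], h3⟩
  have hnd : ∀ z, spulema_B j1 e z = 0 → spulema_B j1 ((2 : F) • w') z = 0 → z ≠ 0 →
      ∃ y, spulema_B j1 e y = 0 ∧ spulema_B j1 ((2 : F) • w') y = 0 ∧ spulema_B j1 y z ≠ 0 := by
    intro z hz hz' hz0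
    obtain ⟨y, hyU, hy⟩ := hndU z ((hmemU z).mpr ⟨hz, hz'⟩) hz0
    have hy' := (hmemU y).mp hyU
    refine ⟨y, hy'.1, hy'.2, ?_⟩
    rw [hpol] at hy
    exact right_ne_zero_of_mul hy
  -- two independent vectors of `U`
  have hfr : 1 < Module.finrank F (perp2 Q1 ⊤ e w') := by omega
  obtain ⟨x0, hx0⟩ : ∃ x0 : perp2 Q1 ⊤ e w', x0 ≠ 0 :=
    Module.finrank_pos_iff_exists_ne_zero.mp (lt_trans Nat.zero_lt_one hfr)
  obtain ⟨y0, hy0⟩ := exists_linearIndependent_pair_of_one_lt_finrank hfr hx0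
  have hli0 : LinearIndependent F ![(x0 : Fin m ⊕ Fin m → F), (y0 : Fin m ⊕ Fin m → F)] := by
    have h := hy0.map' (perp2 Q1 ⊤ e w').subtype (Submodule.ker_subtype _)
    have e1 : (⇑(perp2 Q1 ⊤ e w').subtype ∘ ![x0, y0]) =
        ![(x0 : Fin m ⊕ Fin m → F), (y0 : Fin m ⊕ Fin m → F)] := by
      funext i
      fin_cases i <;> rfl
    rw [e1] at h
    exact h
  have hli := LinearIndependent.pair_iff.mp hli0
  -- the cone lemma
  have H : ∀ x, spulema_B j1 x x = 0 → spulema_B j x x = 0 := by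
    intro x hx
    rw [spulema_B_apply] at hx ⊢
    exact hcon x hx
  have hprop := spulema_cone h2 (spulema_B j) (spulema_B j1) hB hB1 H e ((2 : F) • w') he he' hee hnd
    (x0 : Fin m ⊕ Fin m → F) (y0 : Fin m ⊕ Fin m → F) ((hmemU _).mp x0.2) ((hmemU _).mp y0.2) hli
  obtain ⟨lam, hlam⟩ : ∃ lam : F, lam = spulema_B j e ((2 : F) • w') := ⟨_, rfl⟩
  rw [← hlam] at hprop
  -- `j = lam • j1`
  have hj : j = lam • j1 := by
    apply Matrix.ext_iff_mulVec.mpr
    intro y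
    apply spulema_vec_ext
    intro x
    have := hprop x y
    rw [spulema_B_apply, spulema_B_apply] at this
    rw [this, Matrix.smul_mulVec, sympForm_smul_right]
  have hsq : c0 • (1 : Matrix (Fin m ⊕ Fin m) (Fin m ⊕ Fin m) F) =
      (lam * lam * c0) • (1 : Matrix (Fin m ⊕ Fin m) (Fin m ⊕ Fin m) F) := by
    rw [← hJ.sq, hj, Matrix.smul_mul, Matrix.mul_smul, hJ1.sq, smul_smul, smul_smul]
  have hc0 : c0 = lam * lam * c0 := by
    have := congrFun (congrFun hsq (Sum.inl ⟨0, by omega⟩)) (Sum.inl ⟨0, by omega⟩)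
    simpa using this
  have hc : c0 ≠ 0 := by
    intro h0
    exact hJ.nsq 0 (by rw [h0, mul_zero])
  have hl : (lam - 1) * (lam + 1) = 0 := by
    have : (lam * lam - 1) * c0 = 0 := by linear_combination -hc0
    have := (mul_eq_zero.mp this).resolve_right hc
    linear_combination this
  rcases mul_eq_zero.mp hl with h | h
  · have : lam = 1 := by linear_combination h
    rw [this, one_smul] at hj
    exact hne hj.symm
  · have : lam = -1 := by linear_combination h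
    rw [this, neg_smul, one_smul] at hj
    apply hne'
    rw [hj, neg_neg]

end Cfsg.Agent.Lib.Lead.SPU
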