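import Mathlib
import Cfsg.Agent.Lib.helper6.SSCONJ.Defs
import Cfsg.Agent.Lib.Helper11.SSCONJCYCINV
import Cfsg.Agent.Lib.Helper11.SSCONJCYCCHAR

/-!
# SSCONJ row CYCISO (second write by lead): two cyclic subspaces for the same monic irreducible `f`
are isomorphic compatibly with the endomorphisms.
-/

set_option autoImplicit false

open Polynomial

namespace Cfsg.Agent.Lib.helper6.SSCONJ

universe u v

variable {F : Type*} [Field F]

/-- the generators of the cyclic subspace, as elements of it -/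
def ssconjcyciso_gen {V : Type*} [AddCommGroup V] [Module F V] (φ : Module.End F V) (v : V) (d : ℕ)
    (k : Fin d) : cyc φ v d :=
  ⟨(φ ^ (k : ℕ)) v, ssconjcycinv_gen_mem φ v d k k.2⟩

theorem ssconjcyciso_span {V : Type*} [AddCommGroup V] [Module F V] (φ : Module.End F V) (v : V) (d : ℕ) :
    ⊤ ≤ Submodule.span F (Set.range (ssconjcyciso_gen φ v d)) := by
  have h : Set.range (ssconjcyciso_gen φ v d) =
      ((↑) : cyc φ v d → V) ⁻¹' (Set.range fun k : Fin d => (φ ^ (k : ℕ)) v) := by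
    ext x
    constructor
    · rintro ⟨k, rfl⟩
      exact ⟨k, rfl⟩
    · rintro ⟨k, hk⟩
      exact ⟨k, Subtype.ext hk⟩
  rw [h]
  exact (Submodule.span_span_coe_preimage).ge

/-- the relation on the top generator, inside the cyclic subspace -/
theorem ssconjcyciso_top {V : Type*} [AddCommGroup V] [Module F V] (φ : Module.End F V) (v : V)
    (f : F[X]) (hm : f.Monic) (hv : aeval φ f v = 0)
    (hU : ∀ x ∈ cyc φ v f.natDegree, φ x ∈ cyc φ v f.natDegree) (k : Fin f.natDegree)
    (hk : (k : ℕ) + 1 = f.natDegree) :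
    φ.restrict hU (ssconjcyciso_gen φ v f.natDegree k) =
      - ∑ j : Fin f.natDegree, f.coeff j • ssconjcyciso_gen φ v f.natDegree j := by
  apply Subtype.ext
  rw [LinearMap.coe_restrict_apply]
  show φ ((φ ^ (k : ℕ)) v) = _
  rw [← Module.End.mul_apply, ← pow_succ', hk, ssconjcycinv_pow_natDegree φ v f hm hv,
    Finset.sum_range, Submodule.coe_neg, Submodule.coe_sum]
  rfl

theorem ssconjcyciso_step {V : Type*} [AddCommGroup V] [Module F V] (φ : Module.End F V) (v : V)
    (d : ℕ) (hU : ∀ x ∈ cyc φ v d, φ x ∈ cyc φ v d) (k : Fin d) (hk : (k : ℕ) + 1 < d) :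
    φ.restrict hU (ssconjcyciso_gen φ v d k) = ssconjcyciso_gen φ v d ⟨(k : ℕ) + 1, hk⟩ := by
  apply Subtype.ext
  rw [LinearMap.coe_restrict_apply]
  show φ ((φ ^ (k : ℕ)) v) = (φ ^ ((k : ℕ) + 1)) v
  rw [← Module.End.mul_apply, ← pow_succ']

/-- CYCISO, second write. Same statement as `cyc_iso` of `helper6/SSCONJ/Skel.lean.txt`. -/
theorem ssconjcyciso_lead {V : Type u} {W : Type v} [AddCommGroup V] [Module F V] [FiniteDimensional F V]
    [AddCommGroup W] [Module F W] [FiniteDimensional F W]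
    (φ : Module.End F V) (ψ : Module.End F W) (v : V) (w : W) (hv0 : v ≠ 0) (hw0 : w ≠ 0)
    (f : F[X]) (hm : f.Monic) (hf : Irreducible f) (hv : aeval φ f v = 0) (hw : aeval ψ f w = 0)
    (hU : ∀ x ∈ cyc φ v f.natDegree, φ x ∈ cyc φ v f.natDegree)
    (hU₂ : ∀ x ∈ cyc ψ w f.natDegree, ψ x ∈ cyc ψ w f.natDegree) :
    ∃ e : cyc φ v f.natDegree ≃ₗ[F] cyc ψ w f.natDegree,
      ∀ u, e (φ.restrict hU u) = ψ.restrict hU₂ (e u) := by
  classical
  have hfrV : Fintype.card (Fin f.natDegree) = Module.finrank F (cyc φ v f.natDegree) := by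
    rw [Fintype.card_fin, ssconjcycchar_finrank_eq φ v hv0 f hm hf hv hU]
  have hfrW : Fintype.card (Fin f.natDegree) = Module.finrank F (cyc ψ w f.natDegree) := by
    rw [Fintype.card_fin, ssconjcycchar_finrank_eq ψ w hw0 f hm hf hw hU₂]
  let bV := basisOfTopLeSpanOfCardEqFinrank (ssconjcyciso_gen φ v f.natDegree)
    (ssconjcyciso_span φ v f.natDegree) hfrV
  let bW := basisOfTopLeSpanOfCardEqFinrank (ssconjcyciso_gen ψ w f.natDegree)
    (ssconjcyciso_span ψ w f.natDegree) hfrW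
  have hbV : ∀ k, bV k = ssconjcyciso_gen φ v f.natDegree k := by
    intro k
    show (basisOfTopLeSpanOfCardEqFinrank _ _ _) k = _
    rw [coe_basisOfTopLeSpanOfCardEqFinrank]
  have hbW : ∀ k, bW k = ssconjcyciso_gen ψ w f.natDegree k := by
    intro k
    show (basisOfTopLeSpanOfCardEqFinrank _ _ _) k = _
    rw [coe_basisOfTopLeSpanOfCardEqFinrank]
  let e : cyc φ v f.natDegree ≃ₗ[F] cyc ψ w f.natDegree := bV.equiv bW (Equiv.refl _)
  have he : ∀ k, e (ssconjcyciso_gen φ v f.natDegree k) = ssconjcyciso_gen ψ w f.natDegree k := by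
    intro k
    rw [← hbV, ← hbW]
    show (bV.equiv bW (Equiv.refl _)) (bV k) = _
    rw [Module.Basis.equiv_apply]
    rfl
  have hL : e.toLinearMap ∘ₗ φ.restrict hU = ψ.restrict hU₂ ∘ₗ e.toLinearMap := by
    apply bV.ext
    intro k
    rw [hbV]
    show e (φ.restrict hU (ssconjcyciso_gen φ v f.natDegree k)) =
      ψ.restrict hU₂ (e (ssconjcyciso_gen φ v f.natDegree k))
    rw [he]
    by_cases hk : (k : ℕ) + 1 < f.natDegree
    · rw [ssconjcyciso_step φ v _ hU k hk, ssconjcyciso_step ψ w _ hU₂ k hk, he]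
    · have hk' : (k : ℕ) + 1 = f.natDegree := by have := k.2; omega
      rw [ssconjcyciso_top φ v f hm hv hU k hk', ssconjcyciso_top ψ w f hm hw hU₂ k hk', map_neg,
        map_sum]
      congr 1
      apply Finset.sum_congr rfl
      intro j _
      rw [map_smul, he]
  refine ⟨e, fun u => ?_⟩
  have := LinearMap.congr_fun hL u
  exact this

end Cfsg.Agent.Lib.helper6.SSCONJ
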