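import Mathlib
import Cfsg.Agent.Lib.Lead.STDF2core
import Cfsg.Agent.Lib.helper6.STDW14
import Cfsg.Agent.Lib.Helper16.STDH3

/-!
# Project STD (designer lead, S2295): rows F2 (`h_cj_mem_Yg NP_h NP_w`; `NP_mul` is in `STDF2core`), F11 (`ww_same`), F14 (`isMon_nn`), VERBATIM,
on the cores of `Lead.STDF2core` and `helper6.STDW14` (`hW_all`), `Helper16.STDH3` (`hH_all`).
-/

set_option autoImplicit false

namespace Cfsg.Agent.Lib.Lead.STD

open Cfsg.Agent.Lib.helper15.St2 Cfsg.Agent.Lib.helper7.St Cfsg.Agent.Lib.helper3.STC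

namespace SysD

variable {K : Type*} [Field K] {ι : Type*} {G : Type*} [Group G] (S : SysD K ι G)

section F
variable [DecidableEq ι] (o : ι ⊕ ι)

theorem h_cj_mem_Yg [Finite K] {b : ι ⊕ ι} (hb : b ≠ o) (hb' : b ≠ ng o) {t : K} (ht : t ≠ 0) :
    ∀ y ∈ S.Yg o, cj (S.h o b t) y ∈ S.Yg o :=
  S.stdf2_h_cj_mem_Yg o S.hH_all hb hb' ht

theorem NP_h [Finite K] {b : ι ⊕ ι} (hb : b ≠ o) (hb' : b ≠ ng o) {t : K} (ht : t ≠ 0) : S.NP o (S.h o b t) :=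
  S.stdf2_NP_h o S.hH_all hb hb' ht

/-- a Weyl element of the Levi factor: in `Lg o ≤ Phat o` (N1), monomial with `sws a b` fixing `o` (`sws_of_ne`, `sws_ng`), hence normalising `Yg o` (N3). -/
theorem NP_w {a b : ι ⊕ ι} (hab : a ≠ b) (hab' : a ≠ ng b) (ha : a ≠ o) (ha' : a ≠ ng o) (hb : b ≠ o) (hb' : b ≠ ng o) {u : K}
    (hu : u ≠ 0) : S.NP o (S.w a b u) :=
  S.stdf2_NP_w o S.hW_all hab hab' ha ha' hb hb' hu

/-- F11 [S-M]  `w o k 1 * w o k 1 = h o k (-1)` (`w_mul_w`), `NP_h`. -/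
theorem ww_same [Finite K] {k : ι ⊕ ι} (hk : k ≠ o) (hk' : k ≠ ng o) : S.NP o (S.w o k 1 * S.w o k 1) :=
  S.stdf11_core o S.hH_all hk hk'

/-- F14 [S]  the element `w o j 1 * w o (ng j) 1` is monomial (`IsMon.mul`): its permutation exchanges `o ↔ ng o`, `j ↔ ng j`. -/
theorem isMon_nn {j : ι ⊕ ι} (hj : j ≠ o) (hj' : j ≠ ng o) :
    ∃ d : ι ⊕ ι → K, S.IsMon (S.w o j 1 * S.w o (ng j) 1) (sws o j * sws o (ng j)) d :=
  S.stdf14_core o S.hW_all hj hj'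

end F

end SysD

end Cfsg.Agent.Lib.Lead.STD
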