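import Cfsg.Agent.Lib.Helper28.TOO.Defs
import Cfsg.Agent.Lib.helper6.TSSIEG
import Cfsg.Agent.Lib.Helper21.TOO.LG1
import Cfsg.Agent.Lib.Helper21.TSCALC1
import Cfsg.Agent.Lib.helper7.TOOWG1
import Cfsg.Agent.Lib.Helper28.TOOPERP
import Cfsg.Agent.Lib.helper3.C3OISO

/-!
# Project TOO (S5681), block WORLD 1, row WX2 (written by lead): `w1_xi_smul`
`1 + ξ ⊗ w w^* ∈ M`, `T1 ≤ M` ⟹ `1 + c ξ ⊗ w w^* ∈ M` for all `c`.
`β = S₁(λ) S₂(-λ⁻¹) S₁(λ) S₁(-1) S₂(1) S₁(-1) ∈ Ω(J2)` (`S₁(c) = ρ_{w, c z'}`, `S₂(c) = ρ_{z, c w'}`, `(w,w')`, `(z,z')` orthogonal hyperbolic pairs) has `β w = λ w`;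
conjugation by `1 ⊗ β ∈ T1` gives `λ² ξ`; `c = ((c+1)/2)² - ((c-1)/2)²`.
-/

set_option autoImplicit false
set_option linter.unusedVariables false
set_option linter.unusedSectionVars false

namespace Cfsg.Agent.Lib.Helper28.TOO

open Matrix
open scoped Kronecker
open Cfsg.Agent.Lib.helper7.TP Cfsg.Agent.Lib.Helper21.TS

variable {a b : ℕ} {F : Type*} [Field F]
variable {J1 : Matrix (Fin a) (Fin a) F} {J2 : Matrix (Fin b) (Fin b) F}

/-- conjugation of `1 + ξ ⊗ w w^*` by `1 ⊗ β`, `β` an isometry. -/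
theorem toowx2_conjB (ξ : Matrix (Fin a) (Fin a) F) (w : Fin b → F)
    (β : Matrix.GeneralLinearGroup (Fin b) F) (hβ : β ∈ Iso J2) :
    ((Cfsg.Agent.Lib.helper7.TO.kB a b F β : Matrix.GeneralLinearGroup (Fin a × Fin b) F) :
        Matrix (Fin a × Fin b) (Fin a × Fin b) F) * XBm J2 ξ w *
      (((Cfsg.Agent.Lib.helper7.TO.kB a b F β)⁻¹ : Matrix.GeneralLinearGroup (Fin a × Fin b) F) :
        Matrix (Fin a × Fin b) (Fin a × Fin b) F) =
      XBm J2 ξ ((β : Matrix (Fin b) (Fin b) F) *ᵥ w) := by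
  have hinv : (((Cfsg.Agent.Lib.helper7.TO.kB a b F β)⁻¹ : Matrix.GeneralLinearGroup (Fin a × Fin b) F) :
      Matrix (Fin a × Fin b) (Fin a × Fin b) F) =
      (1 : Matrix (Fin a) (Fin a) F) ⊗ₖ ((β⁻¹ : Matrix.GeneralLinearGroup (Fin b) F) : Matrix (Fin b) (Fin b) F) := by
    rw [← map_inv]
    rfl
  have hββ : (β : Matrix (Fin b) (Fin b) F) *
      ((β⁻¹ : Matrix.GeneralLinearGroup (Fin b) F) : Matrix (Fin b) (Fin b) F) = 1 := by
    rw [← Units.val_mul, mul_inv_cancel, Units.val_one]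
  rw [hinv, Cfsg.Agent.Lib.helper7.TO.kB_coe, XBm, XBm, Matrix.mul_add, Matrix.add_mul, Matrix.mul_one,
    ← Matrix.mul_kronecker_mul, ← Matrix.mul_kronecker_mul, ← Matrix.mul_kronecker_mul, Matrix.one_mul,
    Matrix.mul_one, Matrix.one_mul, hββ, Matrix.one_kronecker_one, opm_conj β hβ]

theorem toowx2_smul_w (ξ : Matrix (Fin a) (Fin a) F) (w : Fin b → F) (l : F) :
    XBm J2 ξ (l • w) = XBm J2 ((l * l) • ξ) w := by
  rw [XBm, XBm, opm_smul_left, opm_smul_right, smul_smul, Matrix.kronecker_smul, Matrix.smul_kronecker]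

/-- a second hyperbolic pair, orthogonal to the first (`b ≥ 5`, finite field). -/
theorem toowx2_pair [Fintype F] (hJ : J2ᵀ = J2) (two : (2 : F) ≠ 0) (hdet : J2.det ≠ 0) (hb : 5 ≤ b)
    (w w' : Fin b → F) (hw : bf J2 w w = 0) (hw' : bf J2 w' w' = 0) (hww' : bf J2 w w' = 1) :
    ∃ z z' : Fin b → F, bf J2 z z = 0 ∧ bf J2 z' z' = 0 ∧ bf J2 z z' = 1 ∧ bf J2 w z = 0 ∧
      bf J2 w' z = 0 ∧ bf J2 w z' = 0 ∧ bf J2 w' z' = 0 := by
  classical
  have hs : ∀ x y, bf J2 x y = bf J2 y x := bf_symm hJ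
  have hw'w : bf J2 w' w = 1 := by rw [hs, hww']
  obtain ⟨S, hS⟩ : ∃ S : Submodule F (Fin b → F), S = Submodule.span F {w, w'} := ⟨_, rfl⟩
  have hSle : Module.finrank F ↥S ≤ 2 := by
    have h1 : Module.finrank F ↥S ≤ ({w, w'} : Finset (Fin b → F)).card := by
      have := finrank_span_finset_le_card (R := F) ({w, w'} : Finset (Fin b → F))
      have e : ((({w, w'} : Finset (Fin b → F)) : Set (Fin b → F))) = {w, w'} := by simp
      rw [Set.finrank, e] at this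
      rw [hS]
      exact this
    exact h1.trans Finset.card_le_two
  have hperp := tooperp_finrank hJ hdet S
  rw [Fintype.card_fin] at hperp
  have h3 : 3 ≤ Module.finrank F ↥(perp J2 S) := by omega
  have hsB : ∀ x y : Fin b → F, Matrix.toBilin' J2 x y = Matrix.toBilin' J2 y x := by
    intro x y
    rw [Matrix.toBilin'_apply', Matrix.toBilin'_apply']
    exact bf_symm hJ x y
  obtain ⟨z, hzS, hz0, hzz⟩ := Cfsg.Agent.Lib.Helper10.C3O.iso_ex (K := F) (Matrix.toBilin' J2) hsB (perp J2 S) h3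
  rw [Matrix.toBilin'_apply'] at hzz
  replace hzz : bf J2 z z = 0 := hzz
  have hzw : bf J2 z w = 0 := hzS w (by rw [hS]; exact Submodule.subset_span (by simp))
  have hzw' : bf J2 z w' = 0 := hzS w' (by rw [hS]; exact Submodule.subset_span (by simp))
  obtain ⟨x, hx⟩ := bf_nondeg hdet hz0
  obtain ⟨y, hy⟩ : ∃ y : Fin b → F, y = x - bf J2 w' x • w - bf J2 w x • w' := ⟨_, rfl⟩
  have h1 : bf J2 w y = 0 := by
    rw [hy, bf_sub_right, bf_sub_right, bf_smul_right, bf_smul_right, hw, hww']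
    ring
  have h2 : bf J2 w' y = 0 := by
    rw [hy, bf_sub_right, bf_sub_right, bf_smul_right, bf_smul_right, hw', hw'w]
    ring
  have h4 : bf J2 z y = bf J2 z x := by
    rw [hy, bf_sub_right, bf_sub_right, bf_smul_right, bf_smul_right, hzw, hzw']
    ring
  have hzy : bf J2 z y ≠ 0 := by rw [h4]; exact hx
  refine ⟨z, (bf J2 z y)⁻¹ • (y - (bf J2 y y / (2 * bf J2 z y)) • z), hzz, ?_, ?_, by rw [hs, hzw],
    by rw [hs, hzw'], ?_, ?_⟩
  · simp only [bf_smul_left, bf_smul_right, bf_sub_left, bf_sub_right, hzz, hs y z]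
    field_simp
    ring
  · simp only [bf_smul_right, bf_sub_right, hzz]
    field_simp
    ring
  · simp only [bf_smul_right, bf_sub_right, h1, hs w z, hzw]
    ring
  · simp only [bf_smul_right, bf_sub_right, h2, hs w' z, hzw']
    ring

/-- the torus element: `β ∈ Ω(J2)` with `β w = l w`. -/
theorem toowx2_torus [Fintype F] (hJ : J2ᵀ = J2) (two : (2 : F) ≠ 0) (hdet : J2.det ≠ 0) (hb : 5 ≤ b)
    (w : Fin b → F) (hw0 : w ≠ 0) (hw : bf J2 w w = 0) (l : F) (hl : l ≠ 0) :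
    ∃ β ∈ Om J2, (β : Matrix (Fin b) (Fin b) F) *ᵥ w = l • w := by
  have hs : ∀ x y, bf J2 x y = bf J2 y x := bf_symm hJ
  obtain ⟨w', hw', hww'⟩ := w1_hyp_partner two hJ hdet w hw0 hw
  obtain ⟨z, z', hz, hz', hzz', hwz, hw'z, hwz', hw'z'⟩ := toowx2_pair hJ two hdet hb w w' hw hw' hww'
  have hw'w : bf J2 w' w = 1 := by rw [hs, hww']
  have hz'z : bf J2 z' z = 1 := by rw [hs, hzz']
  have hzw : bf J2 z w = 0 := by rw [hs, hwz]
  have hzw' : bf J2 z w' = 0 := by rw [hs, hw'z]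
  have hz'w : bf J2 z' w = 0 := by rw [hs, hwz']
  have hz'w' : bf J2 z' w' = 0 := by rw [hs, hw'z']
  have hS1 : ∀ (c : F) (x : Fin b → F), sieg J2 w (c • z') *ᵥ x =
      x + (c * bf J2 z' x) • w - (c * bf J2 w x) • z' := by
    intro c x
    rw [tscalc1_sieg_mulVec, bf_smul_left, bf_smul_left, bf_smul_right, hz', smul_smul]
    funext i
    simp only [Pi.add_apply, Pi.sub_apply, Pi.smul_apply, smul_eq_mul]
    ring
  have hS2 : ∀ (c : F) (x : Fin b → F), sieg J2 z (c • w') *ᵥ x =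
      x + (c * bf J2 w' x) • z - (c * bf J2 z x) • w' := by
    intro c x
    rw [tscalc1_sieg_mulVec, bf_smul_left, bf_smul_left, bf_smul_right, hw', smul_smul]
    funext i
    simp only [Pi.add_apply, Pi.sub_apply, Pi.smul_apply, smul_eq_mul]
    ring
  obtain ⟨b1, hb1, hb1e⟩ := sieg_mem_Om hJ two hdet (w := w) (z := l • z') hw (by rw [bf_smul_right, hwz', mul_zero])
  obtain ⟨b2, hb2, hb2e⟩ := sieg_mem_Om hJ two hdet (w := z) (z := (-l⁻¹) • w') hz (by rw [bf_smul_right, hzw', mul_zero])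
  obtain ⟨b3, hb3, hb3e⟩ := sieg_mem_Om hJ two hdet (w := w) (z := (-1 : F) • z') hw (by rw [bf_smul_right, hwz', mul_zero])
  obtain ⟨b4, hb4, hb4e⟩ := sieg_mem_Om hJ two hdet (w := z) (z := (1 : F) • w') hz (by rw [bf_smul_right, hzw', mul_zero])
  refine ⟨b1 * b2 * b1 * b3 * b4 * b3,
    (Om J2).mul_mem ((Om J2).mul_mem ((Om J2).mul_mem ((Om J2).mul_mem ((Om J2).mul_mem hb1 hb2) hb1) hb3) hb4) hb3, ?_⟩
  have s1 : (b3 : Matrix (Fin b) (Fin b) F) *ᵥ w = w := by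
    rw [hb3e, hS1, hz'w, hw]
    simp
  have s2 : (b4 : Matrix (Fin b) (Fin b) F) *ᵥ w = w + z := by
    rw [hb4e, hS2, hw'w, hzw]
    simp
  have s3 : (b3 : Matrix (Fin b) (Fin b) F) *ᵥ (w + z) = z := by
    rw [hb3e, hS1, bf_add_right, bf_add_right, hz'w, hz'z, hw, hwz]
    funext i
    simp only [Pi.add_apply, Pi.sub_apply, Pi.smul_apply, smul_eq_mul]
    ring
  have s4 : (b1 : Matrix (Fin b) (Fin b) F) *ᵥ z = z + l • w := by
    rw [hb1e, hS1, hz'z, hwz]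
    simp
  have s5 : (b2 : Matrix (Fin b) (Fin b) F) *ᵥ (z + l • w) = l • w := by
    rw [hb2e, hS2, bf_add_right, bf_add_right, bf_smul_right, bf_smul_right, hw'z, hw'w, hz, hzw]
    funext i
    simp only [Pi.add_apply, Pi.sub_apply, Pi.smul_apply, smul_eq_mul]
    field_simp
    ring
  have s6 : (b1 : Matrix (Fin b) (Fin b) F) *ᵥ (l • w) = l • w := by
    rw [hb1e, hS1, bf_smul_right, bf_smul_right, hz'w, hw]
    simp
  simp only [Units.val_mul, ← Matrix.mulVec_mulVec]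
  rw [s1, s2, s3, s4, s5, s6]

/-- WX2 XISMUL [M]. -/
theorem w1_xi_smul [Fintype F] (C : OCtx J1 J2) (hb : 5 ≤ b)
    (M : Subgroup (Matrix.GeneralLinearGroup (Fin a × Fin b) F)) (hT : T1 J1 J2 ≤ M)
    (ξ : Matrix (Fin a) (Fin a) F) (w : Fin b → F) (hw0 : w ≠ 0) (hw : bf J2 w w = 0)
    (h : InM M (XBm J2 ξ w)) (c : F) : InM M (XBm J2 (c • ξ) w) := by
  -- squares
  have hsq : ∀ l : F, InM M (XBm J2 ((l * l) • ξ) w) := by
    intro l
    by_cases hl : l = 0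
    · rw [hl, mul_zero, zero_smul, XBm_zero]
      exact InM_one M
    · obtain ⟨β, hβ, hβw⟩ := toowx2_torus C.sym2 C.two C.det2 hb w hw0 hw l hl
      have hβiso : β ∈ Iso J2 := by
        obtain ⟨g, _, rfl⟩ := Subgroup.mem_map.1 hβ
        exact g.2
      have hkM : Cfsg.Agent.Lib.helper7.TO.kB a b F β ∈ M :=
        hT (Subgroup.mem_sup_right (Subgroup.mem_map_of_mem _ hβ))
      have := h.conj hkM
      rw [toowx2_conjB ξ w β hβiso, hβw, toowx2_smul_w] at this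
      exact this
  -- negatives
  have hneg : ∀ ζ : Matrix (Fin a) (Fin a) F, InM M (XBm J2 ζ w) → InM M (XBm J2 (-ζ) w) := by
    intro ζ hζ
    apply hζ.of_mul_eq_one
    rw [XBm_mul J2 w hw, add_neg_cancel, XBm_zero]
  have h1 := hsq ((c + 1) / 2)
  have h2 := hneg _ (hsq ((c - 1) / 2))
  have h3 := h1.mul h2
  rw [XBm_mul J2 w hw] at h3
  have e : ((c + 1) / 2 * ((c + 1) / 2)) • ξ + -(((c - 1) / 2 * ((c - 1) / 2)) • ξ) = c • ξ := by
    rw [← neg_smul, ← add_smul]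
    congr 1
    have := C.two
    field_simp
    ring
  rw [e] at h3
  exact h3

end Cfsg.Agent.Lib.Helper28.TOO
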