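import Cfsg.Agent.Lib.Helper1.TSNTA
import Cfsg.Agent.Lib.Helper1.TS2STABA2
import Cfsg.Agent.Lib.Helper22.TSSTABA
import Cfsg.Agent.Lib.helper2.TSFINAL

/-!
# Project TS (S5666): the final glue (lead)

`tsntglue_core` : the hypothesis `hNT` of `helper2.TSFINAL.ts_final` (the NT world) from the STATEMENTS of
`nt_two` (project TS2, `a = 2`, `b ≥ 7`) and `nt_world4` (project TS4, `4 ≤ a`), with `lamF_of_NTp`, `ntsA_of_lamF`
(`Helper1.TSNTA`), `stabA_two` (`Helper1.TS2STABA2`), `stabA_of_ntsA` (`Helper22.TSSTABA`).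
`tsntglue_final` : the statement of S5666 from these two statements.
-/

set_option autoImplicit false
set_option linter.unusedSectionVars false
set_option linter.unusedVariables false

namespace Cfsg.Agent.Lib.Helper21.TS

open Matrix
open scoped Kronecker
open Cfsg.Agent.Lib.helper7.TP

variable {F : Type*} [Field F]

/-- an alternating matrix of size 3 is singular (`2 ≠ 0`). -/
theorem tsntglue_det_three {J : Matrix (Fin 3) (Fin 3) F} (two : (2 : F) ≠ 0) (alt : Jᵀ = -J) :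
    J.det = 0 := by
  have h1 : J.det = -J.det := by
    have h := congrArg Matrix.det alt
    rw [Matrix.det_transpose, Matrix.det_neg, Fintype.card_fin] at h
    linear_combination h
  have h2 : (2 : F) * J.det = 0 := by linear_combination h1
  rcases mul_eq_zero.mp h2 with h | h
  · exact absurd h two
  · exact h

/-- the NT world of `ts_final` from the statements of `nt_two` and `nt_world4`. -/
theorem tsntglue_core [Fintype F] {a b : ℕ} {J1 : Matrix (Fin a) (Fin a) F}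
    {J2 : Matrix (Fin b) (Fin b) F} (C : Ctx J1 J2) (hb : 3 ≤ b)
    (hex : 5 ≤ Fintype.card F ∨ 4 ≤ b) (h14 : 14 ≤ a * b)
    (h2 : ∀ (J1' : Matrix (Fin 2) (Fin 2) F)
      (M' : Subgroup (Matrix.GeneralLinearGroup (Fin 2 × Fin b) F)), Ctx J1' J2 → 7 ≤ b →
      T0 J1' J2 ≤ M' → M' ≤ SpV J1' J2 → LamF J1' M' → StabA M' → M' ≤ T0 J1' J2)
    (h4 : 4 ≤ a → ∀ M' : Subgroup (Matrix.GeneralLinearGroup (Fin a × Fin b) F),
      T0 J1 J2 ≤ M' → M' ≤ SpV J1 J2 → NtsA J1 M' → StabA M' → M' ≤ T0 J1 J2)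
    (M : Subgroup (Matrix.GeneralLinearGroup (Fin a × Fin b) F)) (hT0 : T0 J1 J2 ≤ M)
    (hMS : M ≤ SpV J1 J2) (hNT : NTp J1 J2 M) : M ≤ T0 J1 J2 := by
  have hL : LamF J1 M := lamF_of_NTp C hb hex hT0 hMS hNT
  have ha0 : a ≠ 0 := by rintro rfl; omega
  have ha2 : 2 ≤ a := tsfinal_two_le C.two C.alt C.det1 ha0
  obtain rfl | rfl | ha : a = 2 ∨ a = 3 ∨ 4 ≤ a := by omega
  · exact h2 J1 M C (by omega) hT0 hMS hL (stabA_two C hT0 hMS hL)
  · exact absurd (tsntglue_det_three C.two C.alt) C.det1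
  · have hN : NtsA J1 M := ntsA_of_lamF C hb M hT0 hMS hL
    exact h4 ha M hT0 hMS hN (stabA_of_ntsA C (by omega) hb hT0 hMS hL hN)

/-- the statement of S5666 from the statements of `nt_two` and `nt_world4`. -/
theorem tsntglue_final [Fintype F] (m : ℕ) (hm : 7 ≤ m) (hodd : Odd (Fintype.card F)) (n₁ n₂ : ℕ)
    (hn₂ : 3 ≤ n₂) (hex : ¬ (Fintype.card F = 3 ∧ n₂ = 3)) (e : (Fin m ⊕ Fin m) ≃ Fin n₁ × Fin n₂)
    (P : Matrix.GeneralLinearGroup (Fin m ⊕ Fin m) F)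
    (f₁ : (Fin n₁ → F) → (Fin n₁ → F) → F) (f₂ : (Fin n₂ → F) → (Fin n₂ → F) → F)
    (hf₁ : Cfsg.Geo.IsSymplecticForm f₁) (hf₂ : Cfsg.Geo.IsSymmetricForm f₂)
    (hT : Cfsg.Geo.IsTensorFormStructure id (Cfsg.sympForm m F) f₁ f₂ e P)
    (h2 : ∀ (J1' : Matrix (Fin 2) (Fin 2) F)
      (M' : Subgroup (Matrix.GeneralLinearGroup (Fin 2 × Fin n₂) F)),
      Ctx J1' (Cfsg.Geo.gramMatrix f₂) → 7 ≤ n₂ →
      T0 J1' (Cfsg.Geo.gramMatrix f₂) ≤ M' → M' ≤ SpV J1' (Cfsg.Geo.gramMatrix f₂) →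
      LamF J1' M' → StabA M' → M' ≤ T0 J1' (Cfsg.Geo.gramMatrix f₂))
    (h4 : 4 ≤ n₁ → ∀ M' : Subgroup (Matrix.GeneralLinearGroup (Fin n₁ × Fin n₂) F),
      T0 (Cfsg.Geo.gramMatrix f₁) (Cfsg.Geo.gramMatrix f₂) ≤ M' →
      M' ≤ SpV (Cfsg.Geo.gramMatrix f₁) (Cfsg.Geo.gramMatrix f₂) →
      NtsA (Cfsg.Geo.gramMatrix f₁) M' → StabA M' →
      M' ≤ T0 (Cfsg.Geo.gramMatrix f₁) (Cfsg.Geo.gramMatrix f₂)) :
    Cfsg.Geo.IsMaximalIn (Cfsg.spGL m F)
      (Cfsg.Geo.tensorProductSubgroup n₁ n₂ e P ⊓ Cfsg.spGL m F) := by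
  have C : Ctx (Cfsg.Geo.gramMatrix f₁) (Cfsg.Geo.gramMatrix f₂) := ts_ctx hodd f₁ f₂ hf₁ hf₂
  have hcard : m + m = n₁ * n₂ := by
    have := Fintype.card_congr e
    simpa [Fintype.card_sum, Fintype.card_prod, Fintype.card_fin] using this
  have hex' : 5 ≤ Fintype.card F ∨ 4 ≤ n₂ := by
    have h2 : 1 < Fintype.card F := Fintype.one_lt_card
    obtain ⟨k, hk⟩ := hodd
    by_cases h3 : Fintype.card F = 3
    · right
      have : n₂ ≠ 3 := fun h => hex ⟨h3, h⟩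
      omega
    · left
      omega
  exact ts_final m hm hodd n₁ n₂ hn₂ hex e P f₁ f₂ hf₁ hf₂ hT
    (fun M hT0 hMS hNT => tsntglue_core C hn₂ hex' (by omega) h2 h4 M hT0 hMS hNT)

end Cfsg.Agent.Lib.Helper21.TS
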