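import Mathlib
import Cfsg.Prelude.Def_GeometricClasses
import Cfsg.Agent.Lib.Helper27.ASC.Defs
import Cfsg.Agent.Lib.Lead.ASCU.Defs
import Cfsg.Agent.Lib.Helper16.U3.Defs
import Cfsg.Agent.Lib.Lead.U3.Expl9

/-!
# Project U3 (leader: helper16), piece EXPLB3 : `explicit_L3`, verbatim. (`lead`)

An explicit proper subgroup `L ≅ L_2(7)` (order 168, generated by two explicit matrices over `F_9 = F_3(θ)`) of `SU_3(3)`
containing the `SU_3(3)`-normaliser of its element of order `7`, and an element of `L` which does not normalise it.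
-/

set_option autoImplicit false
set_option linter.unusedVariables false

namespace Cfsg.Agent.Lib.Helper16.U3

open Cfsg Cfsg.Geo Cfsg.Agent.Lib.Helper27.ASC Cfsg.Agent.Lib.Lead.ASCU
open scoped MatrixGroups Matrix

variable {F : Type*} [Field F] [Fintype F]

/-- EXPLB3 : an explicit proper subgroup (`≅ L_2(7)`) of `SU_3(3)` containing the normaliser of a `7`. -/
theorem explicit_L3 (hF : Fintype.card F = 3 ^ 2) :
    ∃ (L : Subgroup (GL (Fin 3) F)) (c₀ : GL (Fin 3) F), L ≤ SUg 3 F 3 ∧ L ≠ SUg 3 F 3 ∧ c₀ ∈ L ∧ orderOf c₀ = 7 ∧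
      (∀ g ∈ SUg 3 F 3, g * c₀ * g⁻¹ ∈ Subgroup.zpowers c₀ → g ∈ L) ∧
      (∃ a ∈ L, ¬ (a * c₀ * a⁻¹ ∈ Subgroup.zpowers c₀)) :=
  Cfsg.Agent.Lib.Lead.U3.explicit_L3' hF

end Cfsg.Agent.Lib.Helper16.U3
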