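import Cfsg.Agent.Lib.Lead.UDK1Q2FLD
import Cfsg.Agent.Lib.Helper1.UDK1Q2BIG
import Cfsg.Agent.Lib.Helper19.UDK1Q2FOUR
import Cfsg.Agent.Lib.helper2.UDK1Q2UP

set_option autoImplicit false

namespace Cfsg.Agent.Lib.Lead.UDK1Q2

open Matrix Cfsg.Agent.Lib.Helper29.ExtrL Cfsg.Agent.Lib.Helper28.UMax

/-! ## MAIN (assembly, by lead) -/

theorem ud_k1_q2 {F : Type*} [Field F] [Fintype F] (hF : Fintype.card F = 4) {n : ℕ} (hn : 7 ≤ n)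
    (M : Subgroup (Matrix.GeneralLinearGroup (Fin n) F))
    (hMG : M ≤ Cfsg.GU n F 2 ⊓ Cfsg.Geo.specialLinear (Fin n) F)
    (hN : ∀ g ∈ Cfsg.GU n F 2 ⊓ Cfsg.Geo.specialLinear (Fin n) F,
      IsMono ((g : Matrix.GeneralLinearGroup (Fin n) F) : Matrix (Fin n) (Fin n) F) → g ∈ M)
    (g₀ : Matrix.GeneralLinearGroup (Fin n) F) (hg₀ : g₀ ∈ M)
    (hnm : ¬ IsMono (g₀ : Matrix (Fin n) (Fin n) F)) :
    Cfsg.GU n F 2 ⊓ Cfsg.Geo.specialLinear (Fin n) F ≤ M := by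
  classical
  have hF' : Fintype.card F = 2 ^ 2 := by rw [hF]; norm_num
  obtain ⟨σ, hσ, hf⟩ := Cfsg.Agent.Lib.Helper28.UHerm.herm_unitary hF' n
  let C : Ctx n F := ⟨hF, σ, hσ, hf, M, hMG, hN⟩
  obtain ⟨y, hy, he, h4⟩ := q2_big C (by omega) g₀ hg₀ hnm
  have hfour := q2_four C hn hy he h4
  have hall := q2_up C hn hfour
  refine XS_gen hf (Or.inr hn) M _ (fun g => by rw [Subgroup.mem_inf]; exact Iff.rfl) ?_
  intro z hz
  exact hall z ((q2_iso_iff hF z).1 hz)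

end Cfsg.Agent.Lib.Lead.UDK1Q2
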