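import Mathlib
import Cfsg.Prelude.Def_GeometricClasses
import Cfsg.Agent.Lib.Helper27.ASC.Defs
import Cfsg.Agent.Lib.Lead.ASCU.Defs
import Cfsg.Agent.Lib.helper2.UXDefs
import Cfsg.Agent.Lib.Lead.UXFR62.Std
import Cfsg.Agent.Lib.Lead.UXFR62.Trans

/-!
# Project UX (leader helper2), piece FR62 : `frame6_q2`, verbatim. (`lead`)

In `SU_6(2)` the stabiliser of an orthogonal frame (`3^5 : S_6`) is not maximal: it lies in the stabiliser of a set of
`126` isotropic points (`3.U_4(3).2`). Standard frame : `Lead.UXFR62.Std` (the set `𝓡` of vectors of weight `2`, or of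
weight `6` and product `1`; monomial matrices of determinant `1` preserve it, so does the transvection `1 + J`, which is
not monomial; the transvection with centre `(1,1,1,1,0,0)` does not). General frame : `Lead.UXFR62.Trans`.
-/

set_option autoImplicit false
set_option linter.unusedVariables false
set_option linter.unusedSectionVars false

namespace Cfsg.Agent.Lib.helper2.UX

open Cfsg Cfsg.Geo Cfsg.Agent.Lib.Helper27.ASC Cfsg.Agent.Lib.Lead.ASCU
open scoped MatrixGroups Matrix

variable {n : ℕ} {F : Type*} [Field F] [Fintype F]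

/-- FR62 : in `SU_6(2)` the stabiliser of an orthogonal frame (`3^5 : S_6`) is not maximal: it lies in `3.U_4(3).2`,
the stabiliser of a set of `126` isotropic points. -/
theorem frame6_q2 (hF : Fintype.card F = 4) (D : Fin 6 → Submodule F (Fin 6 → F))
    (hD : IsNondegenerateMDecomposition (hermForm 6 F 2) 1 D) :
    NotMax (SUg 6 F 2) (decompositionStabilizer D ⊓ SUg 6 F 2) :=
  Cfsg.Agent.Lib.Lead.UXFR62.frn_transport 2 (by rw [hF]; norm_num) D hD
    (Cfsg.Agent.Lib.Lead.UXFR62.notMax_std hF)

end Cfsg.Agent.Lib.helper2.UX
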